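import Mathlib
import Cfsg.Agent.S0495
import Cfsg.Agent.Lib.Helper24.OTLb
import Cfsg.Agent.Lib.Helper2.BurnsidePQ

/-!
Farm-out lemma FO-5 for helper26's S2553 (helper13): a simple group of order 168 is
isomorphic to `GL(3, 2)`.
-/

set_option autoImplicit false

namespace Cfsg.Agent.Lib.Helper13.A8FO

open Cfsg.Agent.Lib.Helper2 Cfsg.Agent.Lib.Helper24.OT

theorem factorization_seven_mul (m : ℕ) (hm : ¬ 7 ∣ m) (hm0 : m ≠ 0) :
    (7 * m).factorization 7 = 1 := by
  have h7 : Nat.Prime 7 := by norm_num
  rw [Nat.factorization_mul (by norm_num) hm0, Finsupp.add_apply, h7.factorization_self,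
    Nat.factorization_eq_zero_of_not_dvd hm, add_zero]

/-- groups of order `42` and `84` are solvable -/
theorem solvable_of_card_seven_mul {H : Type*} [Group H] [Finite H] (m : ℕ)
    (hm : m = 6 ∨ m = 12) (hH : Nat.card H = 7 * m) : Group.IsSolvable H := by
  haveI : Fact (Nat.Prime 7) := ⟨by norm_num⟩
  obtain ⟨P⟩ : Nonempty (Sylow 7 H) := inferInstance
  have hPcard : Nat.card (P : Subgroup H) = 7 := by
    rw [Sylow.card_eq_multiplicity, hH, factorization_seven_mul m
      (by rcases hm with rfl | rfl <;> norm_num) (by rcases hm with rfl | rfl <;> norm_num),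
      pow_one]
  have hidx : (P : Subgroup H).index = m := by
    have h := Subgroup.card_mul_index (P : Subgroup H)
    rw [hPcard, hH] at h
    exact Nat.eq_of_mul_eq_mul_left (by norm_num) h
  have hdvd : Nat.card (Sylow 7 H) ∣ m := hidx ▸ Sylow.card_dvd_index P
  have hmod : Nat.card (Sylow 7 H) % 7 = 1 := card_sylow_modEq_one 7 H
  have hn1 : Nat.card (Sylow 7 H) = 1 := by
    have hle : Nat.card (Sylow 7 H) ≤ 12 := by
      rcases hm with rfl | rfl
      · exact (Nat.le_of_dvd (by norm_num) hdvd).trans (by norm_num)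
      · exact Nat.le_of_dvd (by norm_num) hdvd
    generalize Nat.card (Sylow 7 H) = k at hdvd hmod hle ⊢
    rcases hm with rfl | rfl <;> interval_cases k <;> omega
  haveI hPn : (P : Subgroup H).Normal := by
    rw [← Subgroup.normalizer_eq_top_iff, ← Subgroup.index_eq_one]
    have hidxN := Sylow.card_eq_index_normalizer P
    rw [hn1] at hidxN
    exact hidxN.symm
  haveI : Group.IsSolvable ↥(P : Subgroup H) :=
    isSolvable_of_card_eq_prime_pow_mul_prime_pow 7 2 (by norm_num) (by norm_num) _ _ hPcard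
      ⟨1, 0, by norm_num⟩
  haveI : Group.IsSolvable (H ⧸ (P : Subgroup H)) := by
    have hq : Nat.card (H ⧸ (P : Subgroup H)) = m := by
      rw [← Subgroup.index_eq_card, hidx]
    rcases hm with rfl | rfl
    · exact isSolvable_of_card_eq_prime_pow_mul_prime_pow 2 3 (by norm_num) (by norm_num) _ _ hq
        ⟨1, 1, by norm_num⟩
    · exact isSolvable_of_card_eq_prime_pow_mul_prime_pow 2 3 (by norm_num) (by norm_num) _ _ hq
        ⟨2, 1, by norm_num⟩
  exact Group.isSolvable_of_ker_le_range (P : Subgroup H).subtype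
    (QuotientGroup.mk' (P : Subgroup H)) (by rw [QuotientGroup.ker_mk', Subgroup.range_subtype])

/-- groups whose order is a proper divisor of `168` are solvable -/
theorem solvable_of_card_dvd_168 {H : Type*} [Group H] [Finite H] (hd : Nat.card H ∣ 168)
    (hne : Nat.card H ≠ 168) : Group.IsSolvable H := by
  have hmem : Nat.card H ∈ Nat.divisors 168 := Nat.mem_divisors.mpr ⟨hd, by norm_num⟩
  have hdiv : Nat.divisors 168 = {1, 2, 3, 4, 6, 7, 8, 12, 14, 21, 24, 28, 42, 56, 84, 168} := by
    decide +kernel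
  rw [hdiv] at hmem
  simp only [Finset.mem_insert, Finset.mem_singleton] at hmem
  have h23 : ∀ a b : ℕ, Nat.card H = 2 ^ a * 3 ^ b → Group.IsSolvable H := fun a b h =>
    isSolvable_of_card_eq_prime_pow_mul_prime_pow 2 3 (by norm_num) (by norm_num) _ H h ⟨a, b, rfl⟩
  have h27 : ∀ a b : ℕ, Nat.card H = 2 ^ a * 7 ^ b → Group.IsSolvable H := fun a b h =>
    isSolvable_of_card_eq_prime_pow_mul_prime_pow 2 7 (by norm_num) (by norm_num) _ H h ⟨a, b, rfl⟩
  have h37 : ∀ a b : ℕ, Nat.card H = 3 ^ a * 7 ^ b → Group.IsSolvable H := fun a b h =>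
    isSolvable_of_card_eq_prime_pow_mul_prime_pow 3 7 (by norm_num) (by norm_num) _ H h ⟨a, b, rfl⟩
  rcases hmem with h | h | h | h | h | h | h | h | h | h | h | h | h | h | h | h
  · exact h23 0 0 (h.trans (by norm_num))
  · exact h23 1 0 (h.trans (by norm_num))
  · exact h23 0 1 (h.trans (by norm_num))
  · exact h23 2 0 (h.trans (by norm_num))
  · exact h23 1 1 (h.trans (by norm_num))
  · exact h27 0 1 (h.trans (by norm_num))
  · exact h23 3 0 (h.trans (by norm_num))
  · exact h23 2 1 (h.trans (by norm_num))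
  · exact h27 1 1 (h.trans (by norm_num))
  · exact h37 1 1 (h.trans (by norm_num))
  · exact h23 3 1 (h.trans (by norm_num))
  · exact h27 2 1 (h.trans (by norm_num))
  · exact solvable_of_card_seven_mul 6 (Or.inl rfl) (h.trans (by norm_num))
  · exact h27 3 1 (h.trans (by norm_num))
  · exact solvable_of_card_seven_mul 12 (Or.inr rfl) (h.trans (by norm_num))
  · exact absurd h hne

/-- a nonsolvable group of order `168` is simple -/
theorem isSimpleGroup_of_card_168 {L : Type*} [Group L] [Finite L] (hL : Nat.card L = 168)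
    (hns : ¬ Group.IsSolvable L) : IsSimpleGroup L := by
  haveI : Nontrivial L := by
    rw [← Finite.one_lt_card_iff_nontrivial, hL]
    norm_num
  refine ⟨fun N hN => ?_⟩
  by_contra hcon
  push Not at hcon
  obtain ⟨hbot, htop⟩ := hcon
  apply hns
  haveI := hN
  haveI : Group.IsSolvable ↥N := by
    apply solvable_of_card_dvd_168
    · rw [← hL]; exact Subgroup.card_subgroup_dvd_card N
    · intro h
      exact htop (Subgroup.eq_top_of_card_eq N (h.trans hL.symm))
  haveI : Group.IsSolvable (L ⧸ N) := by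
    apply solvable_of_card_dvd_168
    · rw [← Subgroup.index_eq_card, ← hL]; exact Subgroup.index_dvd_card N
    · intro h
      rw [← Subgroup.index_eq_card] at h
      have h2 := Subgroup.card_mul_index N
      rw [h, hL] at h2
      have h1 : Nat.card N = 1 := by omega
      exact hbot (Subgroup.card_eq_one.mp h1)
  exact Group.isSolvable_of_ker_le_range N.subtype (QuotientGroup.mk' N)
    (by rw [QuotientGroup.ker_mk', Subgroup.range_subtype])

instance L168_simple : IsSimpleGroup L168 :=
  isSimpleGroup_of_card_168 (Nat.card_eq_fintype_card.trans L168_card) L168_not_solvable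

/-- over the field with two elements the special and general linear groups coincide -/
theorem toGL_bijective : Function.Bijective
    (Matrix.SpecialLinearGroup.toGL : Matrix.SpecialLinearGroup (Fin 3) (ZMod 2) →*
      GL (Fin 3) (ZMod 2)) := by
  refine ⟨Matrix.SpecialLinearGroup.toGL_injective, ?_⟩
  intro g
  have hdet : (g : Matrix (Fin 3) (Fin 3) (ZMod 2)).det = 1 := by
    have hu : IsUnit (g : Matrix (Fin 3) (Fin 3) (ZMod 2)).det :=
      (Matrix.isUnit_iff_isUnit_det _).mp g.isUnit
    have h2 : ∀ x : ZMod 2, IsUnit x → x = 1 := by decide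
    exact h2 _ hu
  refine ⟨⟨(g : Matrix (Fin 3) (Fin 3) (ZMod 2)), hdet⟩, ?_⟩
  apply Units.ext
  rfl

/-- FO-5 -/
theorem simple168_gl3 {G : Type*} [Group G] [Finite G] [IsSimpleGroup G]
    (h : Nat.card G = 168) : Nonempty (G ≃* GL (Fin 3) (ZMod 2)) := by
  haveI : Fact (Nat.Prime 7) := ⟨by norm_num⟩
  have hF : Fintype.card (ZMod 7) = 7 := ZMod.card 7
  obtain ⟨e1⟩ := Cfsg.Agent.S0495.result h hF
  obtain ⟨e2⟩ := Cfsg.Agent.S0495.result (G := L168)
    (Nat.card_eq_fintype_card.trans L168_card) hF
  exact ⟨(e1.trans e2.symm).trans (MulEquiv.ofBijective _ toGL_bijective)⟩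

end Cfsg.Agent.Lib.Helper13.A8FO
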