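import Mathlib

set_option autoImplicit false

namespace Cfsg.Agent.Lib.Helper13

/-- Normalizers grow in `p`-groups: a proper subgroup `T` of a finite `p`-subgroup `S` is properly contained
in its normalizer in `S`. -/
theorem lt_inf_normalizer_of_lt {G : Type*} [Group G] [Finite G] {p : ℕ} [Fact p.Prime]
    (S T : Subgroup G) (hS : IsPGroup p S) (hTS : T < S) :
    T < S ⊓ Subgroup.normalizer (T : Set G) := by
  haveI : Group.IsNilpotent S := hS.isNilpotent
  have hnc : NormalizerCondition S := Group.normalizerCondition_of_isNilpotent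
  have hlt : T.subgroupOf S < ⊤ := by
    rw [lt_top_iff_ne_top]
    intro h
    rw [Subgroup.subgroupOf_eq_top] at h
    exact absurd (le_antisymm hTS.le h) hTS.ne
  have h1 := hnc (T.subgroupOf S) hlt
  rw [← Subgroup.subgroupOf_normalizer_eq hTS.le] at h1
  refine lt_of_le_of_ne (le_inf hTS.le Subgroup.le_normalizer) ?_
  intro heq
  apply h1.ne
  ext ⟨x, hx⟩
  simp only [Subgroup.mem_subgroupOf]
  constructor
  · intro hxT; exact Subgroup.le_normalizer hxT
  · intro hxN
    have : x ∈ S ⊓ Subgroup.normalizer (T : Set G) := Subgroup.mem_inf.mpr ⟨hx, hxN⟩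
    rw [← heq] at this; exact this

theorem card_lt_card_of_lt {G : Type*} [Group G] [Finite G] {H K : Subgroup G} (h : H < K) :
    Nat.card H < Nat.card K := by
  have hle : Nat.card H ≤ Nat.card K := Subgroup.card_le_of_le h.le
  refine lt_of_le_of_ne hle ?_
  intro heq
  exact h.ne (Subgroup.eq_of_le_of_card_ge h.le heq.ge)

end Cfsg.Agent.Lib.Helper13
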