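import Mathlib
import Cfsg.Prelude.Def_Solvable

set_option autoImplicit false

namespace Cfsg.Agent.Lib.Helper13

theorem pCore_normal (p : ℕ) (G : Type*) [Group G] : (Cfsg.pCore p G).Normal :=
  Subgroup.sSup_normal _ (fun _ hH => hH.1)

theorem pPrimeCore_normal (p : ℕ) (G : Type*) [Group G] : (Cfsg.pPrimeCore p G).Normal :=
  Subgroup.sSup_normal _ (fun _ hH => hH.1)

theorem pCore_le_sylow {G : Type*} [Group G] {p : ℕ} (S : Sylow p G) :
    Cfsg.pCore p G ≤ (S : Subgroup G) := by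
  unfold Cfsg.pCore
  apply sSup_le
  rintro N ⟨hN, hNp⟩
  haveI := hN
  exact hNp.le_sylow_of_normal S

theorem le_pCore {G : Type*} [Group G] {p : ℕ} (N : Subgroup G) (hN : N.Normal) (hp : IsPGroup p N) :
    N ≤ Cfsg.pCore p G := le_sSup ⟨hN, hp⟩

theorem le_pPrimeCore {G : Type*} [Group G] {p : ℕ} (N : Subgroup G) (hN : N.Normal)
    (hp : (Nat.card N).Coprime p) : N ≤ Cfsg.pPrimeCore p G := le_sSup ⟨hN, hp⟩

theorem pCore_isPGroup {G : Type*} [Group G] (p : ℕ) [Fact p.Prime] [Finite G] :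
    IsPGroup p (Cfsg.pCore p G) := by
  obtain ⟨S⟩ : Nonempty (Sylow p G) := inferInstance
  exact S.isPGroup'.to_le (pCore_le_sylow S)

end Cfsg.Agent.Lib.Helper13
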