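import Mathlib
import Cfsg.Agent.H5.SmallOrdBasic
import Cfsg.Agent.H5.SmallOrdC

/-!
Farm-out lemmas for helper26's S2553 (helper13): FO-4, no simple group of order 1344.
-/

set_option autoImplicit false
set_option maxRecDepth 100000

namespace Cfsg.Agent.Lib.Helper13.A8FO

open Cfsg.H5.SmallOrd

/-- a finite simple group whose order is divisible by the prime `p` but is not `p` is not
commutative -/
theorem not_comm_of_prime_dvd {G : Type*} [Group G] [Finite G] [IsSimpleGroup G] (p : ℕ)
    [Fact p.Prime] (hp : p ∣ Nat.card G) (hne : Nat.card G ≠ p) : ¬ IsMulCommutative G := by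
  intro h
  obtain ⟨x, hx⟩ := exists_prime_orderOf_dvd_card' (G := G) p hp
  haveI : (Subgroup.zpowers x).Normal :=
    ⟨fun n hn g => by rw [h.is_comm.comm g n, mul_inv_cancel_right]; exact hn⟩
  rcases (inferInstance : (Subgroup.zpowers x).Normal).eq_bot_or_eq_top with h0 | h1
  · have : Nat.card (Subgroup.zpowers x) = 1 := by rw [h0, Subgroup.card_bot]
    rw [Nat.card_zpowers, hx] at this
    exact (Fact.out : p.Prime).one_lt.ne' this
  · have : Nat.card (Subgroup.zpowers x) = Nat.card G := by rw [h1, Subgroup.card_top]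
    rw [Nat.card_zpowers, hx] at this
    exact hne this.symm

/-- FO-4 -/
theorem no_1344 {G : Type*} [Group G] [Finite G] [IsSimpleGroup G] (h : Nat.card G = 1344) :
    False := by
  haveI : Fact (Nat.Prime 7) := ⟨by norm_num⟩
  have hG : ¬ IsMulCommutative G :=
    not_comm_of_prime_dvd 7 (by rw [h]; norm_num) (by rw [h]; norm_num)
  exact kill_F3 hG 1344 2 7 3 6 1 (by norm_num) (by norm_num) (by norm_num) (by norm_num)
    (by norm_num) (by norm_num) (by norm_num) (by norm_num) (by decide +kernel) h

end Cfsg.Agent.Lib.Helper13.A8FO
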