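import Mathlib
import Cfsg.Agent.S0989
import Cfsg.Agent.S0990

/-!
Farm-out lemma FO-7 for helper26's S2553 (helper13): a solvable transitive group of even
permutations of `7` points has order dividing `21`.
-/

set_option autoImplicit false

namespace Cfsg.Agent.Lib.Helper13.A8FO7

open Equiv MulAction

theorem factorization_seven_mul (m : ℕ) (hm : ¬ 7 ∣ m) (hm0 : m ≠ 0) :
    (7 * m).factorization 7 = 1 := by
  have h7 : Nat.Prime 7 := by norm_num
  rw [Nat.factorization_mul (by norm_num) hm0, Finsupp.add_apply, h7.factorization_self,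
    Nat.factorization_eq_zero_of_not_dvd hm, add_zero]

/-- FO-7 -/
theorem solv7 {Y : Type*} [Fintype Y] [DecidableEq Y] (hY : Fintype.card Y = 7)
    (R : Subgroup (Perm Y)) (hR : R ≤ alternatingGroup Y) [IsPretransitive R Y]
    (hs : Group.IsSolvable R) : Nat.card R ∣ 21 := by
  haveI : Fact (Nat.Prime 7) := ⟨by norm_num⟩
  have hcY : Nat.card Y = 7 := by rw [Nat.card_eq_fintype_card, hY]
  -- R is nontrivial
  have hnt0 : derivedSeries R 0 ≠ ⊥ := by
    rw [derivedSeries_zero]
    intro htop
    have h1 : 1 < Fintype.card Y := by omega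
    obtain ⟨y1, y2, hne⟩ := Fintype.exists_pair_of_one_lt_card h1
    obtain ⟨r, hr⟩ := MulAction.exists_smul_eq R y1 y2
    have hr1 : r = 1 := by
      have : r ∈ (⊤ : Subgroup R) := Subgroup.mem_top r
      rw [htop, Subgroup.mem_bot] at this
      exact this
    rw [hr1, one_smul] at hr
    exact hne hr
  obtain ⟨n, hn⟩ := (Group.isSolvable_def R).mp hs
  have hex : ∀ n, derivedSeries R n = ⊥ →
      ∃ k, derivedSeries R k ≠ ⊥ ∧ derivedSeries R (k + 1) = ⊥ := by
    intro n
    induction n with
    | zero => intro h; exact absurd h hnt0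
    | succ m ih =>
      intro h
      by_cases hm : derivedSeries R m = ⊥
      · exact ih hm
      · exact ⟨m, hm, h⟩
  obtain ⟨k, hk1, hk2⟩ := hex n hn
  obtain ⟨D', hD'⟩ : ∃ D' : Subgroup R, D' = derivedSeries R k := ⟨_, rfl⟩
  haveI hD'n : D'.Normal := by rw [hD']; exact derivedSeries_normal R k
  have hD'ne : D' ≠ ⊥ := by rw [hD']; exact hk1
  have hD'comm : ∀ a ∈ D', ∀ b ∈ D', a * b = b * a := by
    intro a ha b hb
    rw [derivedSeries_succ, ← hD', Subgroup.commutator_eq_bot_iff_le_centralizer] at hk2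
    have := hk2 ha
    rw [Subgroup.mem_centralizer_iff] at this
    exact (this b hb).symm
  -- the abelian normal subgroup is transitive
  haveI hprim : IsPreprimitive R Y := IsPreprimitive.of_prime_card (by rw [hcY]; norm_num)
  haveI hqp : IsQuasiPreprimitive R Y := IsPreprimitive.isQuasiPreprimitive
  have hfix : fixedPoints D' Y ≠ Set.univ := by
    intro hall
    apply hD'ne
    rw [eq_bot_iff]
    intro d hd
    rw [Subgroup.mem_bot]
    apply Subtype.ext
    apply Equiv.Perm.ext
    intro y
    have hy : y ∈ fixedPoints D' Y := by rw [hall]; trivial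
    exact hy ⟨d, hd⟩
  haveI hDtrans : IsPretransitive D' Y := IsQuasiPreprimitive.isPretransitive_of_normal hfix
  obtain ⟨y0⟩ : Nonempty Y := by
    rw [← Fintype.card_pos_iff]; omega
  have hstab : stabilizer D' y0 = ⊥ := by
    rw [eq_bot_iff]
    intro d hd
    rw [Subgroup.mem_bot]
    have hd0 : d • y0 = y0 := hd
    have hall : ∀ y : Y, d • y = y := by
      intro y
      obtain ⟨g, hg⟩ := MulAction.exists_smul_eq D' y0 y
      have hcomm : d * g = g * d := by
        apply Subtype.ext
        exact hD'comm d d.2 g g.2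
      rw [← hg, ← mul_smul, hcomm, mul_smul, hd0]
    apply Subtype.ext
    apply Subtype.ext
    apply Equiv.Perm.ext
    intro y
    exact hall y
  have hD'card : Nat.card D' = 7 := by
    have h := MulAction.index_stabilizer_of_transitive D' y0
    rw [hstab, Subgroup.index_bot, hcY] at h
    exact h
  -- pass to the symmetric group
  obtain ⟨D, hD⟩ : ∃ D : Subgroup (Perm Y), D = D'.map R.subtype := ⟨_, rfl⟩
  have hDcard : Nat.card D = 7 := by
    rw [hD, Subgroup.card_map_of_injective (Subgroup.subtype_injective R), hD'card]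
  have hcardPerm : Nat.card (Perm Y) = 7 * 720 := by
    rw [Nat.card_eq_fintype_card, Fintype.card_perm, hY]
    rfl
  have hfac : (Nat.card (Perm Y)).factorization 7 = 1 := by
    rw [hcardPerm]
    exact factorization_seven_mul 720 (by norm_num) (by norm_num)
  obtain ⟨P, hPD⟩ : ∃ P : Sylow 7 (Perm Y), (P : Subgroup (Perm Y)) = D :=
    ⟨Sylow.ofCard D (by rw [hDcard, hfac, pow_one]), rfl⟩
  have h42 := Cfsg.Agent.S0989.result (α := Y) 7 (Or.inl hY) P
  obtain ⟨_, h21⟩ := Cfsg.Agent.S0990.result (α := Y) (by omega) 7 (by norm_num) P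
  rw [h42, hPD] at h21
  have hconj : ∀ r ∈ R, ∀ x ∈ D, r * x * r⁻¹ ∈ D := by
    intro r hr x hx
    rw [hD] at hx ⊢
    obtain ⟨d, hd, hdx⟩ := Subgroup.mem_map.mp hx
    rw [← hdx]
    exact Subgroup.mem_map.mpr ⟨⟨r, hr⟩ * d * ⟨r, hr⟩⁻¹, hD'n.conj_mem d hd ⟨r, hr⟩, rfl⟩
  have hle : R.subgroupOf (alternatingGroup Y) ≤
      Subgroup.normalizer ((D.subgroupOf (alternatingGroup Y) :
        Subgroup (alternatingGroup Y)) : Set (alternatingGroup Y)) := by
    intro r hr
    rw [Subgroup.mem_subgroupOf] at hr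
    rw [Subgroup.mem_normalizer_iff]
    intro h
    rw [Subgroup.mem_subgroupOf, Subgroup.mem_subgroupOf]
    constructor
    · intro hh
      exact hconj _ hr _ hh
    · intro hh
      have hh' : (r : Perm Y) * (h : Perm Y) * (r : Perm Y)⁻¹ ∈ D := hh
      have h1 := hconj _ (R.inv_mem hr) _ hh'
      have e : (r : Perm Y)⁻¹ * ((r : Perm Y) * (h : Perm Y) * (r : Perm Y)⁻¹) *
          ((r : Perm Y)⁻¹)⁻¹ = (h : Perm Y) := by group
      rw [e] at h1
      exact h1
  have hdvd := Subgroup.card_dvd_of_le hle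
  have hRcard : Nat.card (R.subgroupOf (alternatingGroup Y)) = Nat.card R :=
    Nat.card_congr (Subgroup.subgroupOfEquivOfLe hR).toEquiv
  rw [hRcard] at hdvd
  have h21' : Nat.card (Subgroup.normalizer ((D.subgroupOf (alternatingGroup Y) :
      Subgroup (alternatingGroup Y)) : Set (alternatingGroup Y))) = 21 := by
    omega
  rw [h21'] at hdvd
  exact hdvd

end Cfsg.Agent.Lib.Helper13.A8FO7
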