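import Mathlib

set_option autoImplicit false

namespace Cfsg.Agent.Lib.Helper13

variable {G : Type*} [Group G]

theorem mem_map_conj_iff (H : Subgroup G) (g x : G) :
    x ∈ H.map (MulAut.conj g).toMonoidHom ↔ g⁻¹ * x * g ∈ H := by
  constructor
  · rintro ⟨y, hy, rfl⟩
    simpa [MulAut.conj_apply, mul_assoc] using hy
  · intro h
    exact ⟨g⁻¹ * x * g, h, by simp [MulAut.conj_apply, mul_assoc]⟩

theorem conj_mem_map_conj (H : Subgroup G) (g : G) {y : G} (hy : y ∈ H) :
    g * y * g⁻¹ ∈ H.map (MulAut.conj g).toMonoidHom :=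
  ⟨y, hy, by simp [MulAut.conj_apply]⟩

theorem map_conj_le_iff (H K : Subgroup G) (g : G) :
    H.map (MulAut.conj g).toMonoidHom ≤ K ↔ ∀ y ∈ H, g * y * g⁻¹ ∈ K := by
  constructor
  · intro h y hy
    exact h (conj_mem_map_conj H g hy)
  · rintro h _ ⟨y, hy, rfl⟩
    simpa [MulAut.conj_apply] using h y hy

theorem map_conj_mul (H : Subgroup G) (g h : G) :
    H.map (MulAut.conj (g * h)).toMonoidHom =
      (H.map (MulAut.conj h).toMonoidHom).map (MulAut.conj g).toMonoidHom := by
  ext x
  simp only [mem_map_conj_iff]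
  have : h⁻¹ * (g⁻¹ * x * g) * h = (g * h)⁻¹ * x * (g * h) := by group
  rw [this]

theorem map_conj_one (H : Subgroup G) :
    H.map (MulAut.conj (1 : G)).toMonoidHom = H := by
  ext x
  simp [mem_map_conj_iff]

theorem map_conj_inv_map_conj (H : Subgroup G) (g : G) :
    (H.map (MulAut.conj g).toMonoidHom).map (MulAut.conj g⁻¹).toMonoidHom = H := by
  rw [← map_conj_mul, inv_mul_cancel, map_conj_one]

theorem map_conj_map_conj_inv (H : Subgroup G) (g : G) :
    (H.map (MulAut.conj g⁻¹).toMonoidHom).map (MulAut.conj g).toMonoidHom = H := by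
  rw [← map_conj_mul, mul_inv_cancel, map_conj_one]

theorem map_conj_eq_self_iff_mem_normalizer (H : Subgroup G) (g : G) :
    H.map (MulAut.conj g).toMonoidHom = H ↔ g ∈ Subgroup.normalizer (H : Set G) := by
  rw [Subgroup.mem_normalizer_iff]
  constructor
  · intro h x
    constructor
    · intro hx
      rw [← h]
      exact conj_mem_map_conj H g hx
    · intro hx
      rw [← h, mem_map_conj_iff] at hx
      simpa [mul_assoc] using hx
  · intro h
    ext x
    rw [mem_map_conj_iff]
    rw [h (g⁻¹ * x * g)]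
    simp [mul_assoc]

theorem card_map_conj [Finite G] (H : Subgroup G) (g : G) :
    Nat.card (H.map (MulAut.conj g).toMonoidHom) = Nat.card H := by
  exact Nat.card_congr (H.equivMapOfInjective _ (MulAut.conj g).injective).symm.toEquiv

theorem isPGroup_map_conj {p : ℕ} (H : Subgroup G) (hH : IsPGroup p H) (g : G) :
    IsPGroup p (H.map (MulAut.conj g).toMonoidHom) :=
  hH.map _

end Cfsg.Agent.Lib.Helper13
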