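import Mathlib

set_option autoImplicit false

namespace Cfsg.Agent.Lib.Helper13

/-- Membership in a conjugate Sylow subgroup. -/
theorem mem_smul_sylow_iff {G : Type*} [Group G] {p : ℕ} (S : Sylow p G) (g y : G) :
    y ∈ ((g • S : Sylow p G) : Subgroup G) ↔ g⁻¹ * y * g ∈ (S : Subgroup G) := by
  rw [Sylow.coe_subgroup_smul, Subgroup.mem_pointwise_smul_iff_inv_smul_mem]
  simp [MulAut.smul_def, MulAut.conj_apply]

/-- A `p`-element is conjugate into any given Sylow `p`-subgroup. -/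
theorem exists_conj_mem_sylow {G : Type*} [Group G] [Finite G] {p : ℕ} [Fact p.Prime]
    (Q : Sylow p G) (a : G) (ha : ∃ k : ℕ, a ^ p ^ k = 1) :
    ∃ c : G, c * a * c⁻¹ ∈ (Q : Subgroup G) := by
  obtain ⟨k, hk⟩ := ha
  have hA : IsPGroup p (Subgroup.zpowers a) := by
    rintro ⟨y, hy⟩
    obtain ⟨i, rfl⟩ := Subgroup.mem_zpowers_iff.mp hy
    refine ⟨k, ?_⟩
    apply Subtype.ext
    simp only [SubgroupClass.coe_pow, Subgroup.coe_one]
    rw [← zpow_natCast, ← zpow_mul, mul_comm, zpow_mul, zpow_natCast, hk, one_zpow]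
  obtain ⟨R, hR⟩ := hA.exists_le_sylow
  obtain ⟨c, hc⟩ := MulAction.exists_smul_eq G R Q
  refine ⟨c, ?_⟩
  rw [← hc, mem_smul_sylow_iff]
  have : a ∈ (R : Subgroup G) := hR (Subgroup.mem_zpowers a)
  simpa [mul_assoc] using this

end Cfsg.Agent.Lib.Helper13

namespace Cfsg.Agent.Lib.Helper13

/-- Sylow's theorem relative to a subgroup `H`: if `P ≤ H` is a `p`-subgroup of index prime to `p` in `H`,
then every `p`-subgroup `Q ≤ H` is conjugate under `H` into `P`. -/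
theorem exists_conj_le_of_relIndex {G : Type*} [Group G] [Finite G] {p : ℕ} [Fact p.Prime]
    (H P Q : Subgroup G) (hP : IsPGroup p P) (hPi : ¬ p ∣ P.relIndex H)
    (hQH : Q ≤ H) (hQ : IsPGroup p Q) :
    ∃ h ∈ H, ∀ q ∈ Q, h * q * h⁻¹ ∈ P := by
  have hP' : IsPGroup p (P.subgroupOf H) := hP.comap_subtype
  let PS : Sylow p H := hP'.toSylow hPi
  have hQ' : IsPGroup p (Q.subgroupOf H) := hQ.comap_subtype
  obtain ⟨R, hR⟩ := hQ'.exists_le_sylow
  obtain ⟨h, hh⟩ := MulAction.exists_smul_eq H R PS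
  refine ⟨h, h.2, ?_⟩
  intro q hq
  have h1 : (⟨q, hQH hq⟩ : H) ∈ (R : Subgroup H) := hR (Subgroup.mem_subgroupOf.mpr hq)
  have h2 : h * ⟨q, hQH hq⟩ * h⁻¹ ∈ ((h • R : Sylow p H) : Subgroup H) := by
    rw [mem_smul_sylow_iff]
    have : h⁻¹ * (h * ⟨q, hQH hq⟩ * h⁻¹) * h = ⟨q, hQH hq⟩ := by group
    rw [this]; exact h1
  rw [hh] at h2
  have h3 : h * ⟨q, hQH hq⟩ * h⁻¹ ∈ P.subgroupOf H := h2
  rw [Subgroup.mem_subgroupOf] at h3
  simpa using h3

end Cfsg.Agent.Lib.Helper13
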