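import Mathlib
import Cfsg.Agent.Lib.Helper15.SLNormal
import Cfsg.Prelude.Def_GeometricClasses

/-!
# Subspace stabilisers are maximal in `SL_n`

If `M` contains the stabiliser of `W` in `SL_n` properly, the set of vectors `a` all of whose
transvections `x ↦ x + φ(x) a` lie in `M` is closed under `M`, under scalars and under addition,
contains `W` and a vector outside `W`, hence (using the transvections of the stabiliser whose
functional vanishes on `W`) it is everything; and transvections generate `SL_n`.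
-/

set_option autoImplicit false

namespace Cfsg.Agent.Lib.Helper13

open Matrix

section tvsec
variable {n : ℕ} {F : Type*} [Field F]

/-- the transvection `x ↦ x + φ(x) a` -/
def tv (a φ : Fin n → F) : Matrix (Fin n) (Fin n) F := 1 + vecMulVec a φ

theorem tv_mulVec (a φ x : Fin n → F) : tv a φ *ᵥ x = x + (φ ⬝ᵥ x) • a := by
  rw [tv, add_mulVec, one_mulVec, vecMulVec_mulVec]
  congr 1
  ext i
  simp [mul_comm]

theorem tv_det (a φ : Fin n → F) (h : φ ⬝ᵥ a = 0) : (tv a φ).det = 1 := by
  rw [tv, Matrix.vecMulVec_eq Unit, Matrix.det_one_add_replicateCol_mul_replicateRow, h, add_zero]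

theorem exists_tvGL (a φ : Fin n → F) (h : φ ⬝ᵥ a = 0) :
    ∃ g : GL (Fin n) F, (g : Matrix (Fin n) (Fin n) F) = tv a φ ∧
      g ∈ Cfsg.Geo.specialLinear (Fin n) F := by
  have hunit : IsUnit (tv a φ).det := by rw [tv_det a φ h]; exact isUnit_one
  refine ⟨Matrix.GeneralLinearGroup.mk'' (tv a φ) hunit, rfl, ?_⟩
  change Matrix.GeneralLinearGroup.det (Matrix.GeneralLinearGroup.mk'' (tv a φ) hunit) = 1
  apply Units.ext
  simp [tv_det a φ h]

theorem mem_SL_of_eq_tv (g : GL (Fin n) F) (a φ : Fin n → F) (h : φ ⬝ᵥ a = 0)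
    (hg : (g : Matrix (Fin n) (Fin n) F) = tv a φ) : g ∈ Cfsg.Geo.specialLinear (Fin n) F := by
  change Matrix.GeneralLinearGroup.det g = 1
  apply Units.ext
  rw [Matrix.GeneralLinearGroup.val_det_apply, hg, tv_det a φ h]
  rfl

theorem tv_mem_stab_of_mem (W : Submodule F (Fin n → F)) (g : GL (Fin n) F) (a φ : Fin n → F)
    (ha : a ∈ W) (hg : (g : Matrix (Fin n) (Fin n) F) = tv a φ) :
    g ∈ Cfsg.Geo.subspaceStabilizer W := by
  intro x
  change x ∈ W ↔ (g : Matrix (Fin n) (Fin n) F) *ᵥ x ∈ W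
  rw [hg, tv_mulVec]
  constructor
  · intro hx
    exact W.add_mem hx (W.smul_mem _ ha)
  · intro hx
    have := W.sub_mem hx (W.smul_mem (φ ⬝ᵥ x) ha)
    rwa [add_sub_cancel_right] at this

theorem tv_mem_stab_of_vanish (W : Submodule F (Fin n → F)) (g : GL (Fin n) F)
    (b φ : Fin n → F) (hφ : ∀ w ∈ W, φ ⬝ᵥ w = 0) (hb : φ ⬝ᵥ b = 0)
    (hg : (g : Matrix (Fin n) (Fin n) F) = tv b φ) :
    g ∈ Cfsg.Geo.subspaceStabilizer W := by
  intro x
  change x ∈ W ↔ (g : Matrix (Fin n) (Fin n) F) *ᵥ x ∈ W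
  rw [hg, tv_mulVec]
  constructor
  · intro hx
    rw [hφ x hx, zero_smul, add_zero]
    exact hx
  · intro hx
    have h1 := hφ _ hx
    rw [dotProduct_add, dotProduct_smul, hb, smul_zero, add_zero] at h1
    rw [h1, zero_smul, add_zero] at hx
    exact hx

theorem conj_tv (k : GL (Fin n) F) (a φ : Fin n → F) :
    (k : Matrix (Fin n) (Fin n) F) * tv a (φ ᵥ* (k : Matrix (Fin n) (Fin n) F)) *
      ((k⁻¹ : GL (Fin n) F) : Matrix (Fin n) (Fin n) F) =
      tv ((k : Matrix (Fin n) (Fin n) F) *ᵥ a) φ := by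
  rw [tv, tv, mul_add, add_mul, mul_one, mul_vecMulVec, vecMulVec_mul, vecMul_vecMul,
    ← Units.val_mul, mul_inv_cancel, Units.val_one, vecMul_one]

theorem exists_dual_vec (P : Submodule F (Fin n → F)) (a : Fin n → F) (ha : a ∉ P) :
    ∃ φ : Fin n → F, φ ⬝ᵥ a = 1 ∧ ∀ x ∈ P, φ ⬝ᵥ x = 0 := by
  obtain ⟨f0, hf0a, hf0P⟩ := Submodule.exists_le_ker_of_notMem ha
  have hdot : ∀ x : Fin n → F,
      (fun i => (f0 a)⁻¹ * f0 (Pi.single i 1)) ⬝ᵥ x = (f0 a)⁻¹ * f0 x := by
    intro x
    rw [LinearMap.pi_apply_eq_sum_univ f0 x, Finset.mul_sum]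
    simp only [dotProduct, smul_eq_mul]
    apply Finset.sum_congr rfl
    intro i _
    have e : (fun j => if i = j then (1 : F) else 0) = Pi.single i 1 := by
      ext j
      by_cases h : i = j
      · subst h; simp
      · simp [h, Ne.symm h]
    rw [e]
    ring
  refine ⟨fun i => (f0 a)⁻¹ * f0 (Pi.single i 1), ?_, ?_⟩
  · rw [hdot, inv_mul_cancel₀ hf0a]
  · intro x hx
    rw [hdot, LinearMap.mem_ker.mp (hf0P hx), mul_zero]

/-- all transvections in the direction `a` belong to `M` -/
def TvIn (M : Subgroup (GL (Fin n) F)) (a : Fin n → F) : Prop :=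
  ∀ φ : Fin n → F, φ ⬝ᵥ a = 0 → ∀ g : GL (Fin n) F,
    (g : Matrix (Fin n) (Fin n) F) = tv a φ → g ∈ M

variable {M : Subgroup (GL (Fin n) F)}

theorem TvIn.map {a : Fin n → F} (ha : TvIn M a) {k : GL (Fin n) F} (hk : k ∈ M) :
    TvIn M ((k : Matrix (Fin n) (Fin n) F) *ᵥ a) := by
  intro φ hφ g hg
  have hφ' : (φ ᵥ* (k : Matrix (Fin n) (Fin n) F)) ⬝ᵥ a = 0 := by
    rw [← dotProduct_mulVec]; exact hφ
  obtain ⟨g', hg', -⟩ := exists_tvGL a _ hφ'
  have : g = k * g' * k⁻¹ :=
    Units.ext (by rw [Units.val_mul, Units.val_mul, hg', conj_tv, hg])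
  rw [this]
  exact M.mul_mem (M.mul_mem hk (ha _ hφ' g' hg')) (M.inv_mem hk)

theorem TvIn.smul {a : Fin n → F} (ha : TvIn M a) (c : F) : TvIn M (c • a) := by
  intro φ hφ g hg
  apply ha (c • φ) _ g
  · rw [hg, tv, tv, smul_vecMulVec, vecMulVec_smul]
  · rw [smul_dotProduct, ← dotProduct_smul]; exact hφ

theorem TvIn.add {a b : Fin n → F} (ha : TvIn M a) (hb : TvIn M b) : TvIn M (a + b) := by
  by_cases hab : a ∈ Submodule.span F {b}
  · obtain ⟨c, rfl⟩ := Submodule.mem_span_singleton.mp hab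
    have : c • b + b = (c + 1) • b := by rw [add_smul, one_smul]
    rw [this]
    exact hb.smul _
  · obtain ⟨ψ, hψa, hψb⟩ := exists_dual_vec (Submodule.span F {b}) a hab
    have hψb' : ψ ⬝ᵥ b = 0 := hψb b (Submodule.mem_span_singleton_self b)
    obtain ⟨k, hk, -⟩ := exists_tvGL b ψ hψb'
    have hkM : k ∈ M := hb ψ hψb' k hk
    have := ha.map hkM
    rwa [hk, tv_mulVec, hψa, one_smul] at this

/-- **The stabiliser of a proper nonzero subspace is a maximal subgroup of `SL_n`.** -/
theorem subspace_stabilizer_maximal (hn : 2 ≤ n) (W : Submodule F (Fin n → F)) (hW0 : W ≠ ⊥)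
    (hW1 : W ≠ ⊤) :
    Cfsg.Geo.IsMaximalIn (Cfsg.Geo.specialLinear (Fin n) F)
      (Cfsg.Geo.subspaceStabilizer W ⊓ Cfsg.Geo.specialLinear (Fin n) F) := by
  constructor
  · rw [SetLike.lt_iff_le_and_exists]
    refine ⟨inf_le_right, ?_⟩
    obtain ⟨w, hwW, hw0⟩ := (Submodule.ne_bot_iff W).mp hW0
    obtain ⟨a, haW⟩ : ∃ a, a ∉ W := by
      by_contra h
      push Not at h
      exact hW1 (eq_top_iff.mpr fun x _ => h x)
    have hwa : w ∉ Submodule.span F {a} := by
      intro h
      obtain ⟨c, hc⟩ := Submodule.mem_span_singleton.mp h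
      have hc0 : c ≠ 0 := by
        rintro rfl
        rw [zero_smul] at hc
        exact hw0 hc.symm
      apply haW
      have : a = c⁻¹ • w := by rw [← hc, smul_smul, inv_mul_cancel₀ hc0, one_smul]
      rw [this]
      exact W.smul_mem _ hwW
    obtain ⟨ψ, hψw, hψa⟩ := exists_dual_vec _ w hwa
    have hψa' : ψ ⬝ᵥ a = 0 := hψa a (Submodule.mem_span_singleton_self a)
    obtain ⟨s, hs, hsSL⟩ := exists_tvGL a ψ hψa'
    refine ⟨s, hsSL, ?_⟩
    rintro ⟨hsW, -⟩
    have := (hsW w).mp hwW
    change (s : Matrix (Fin n) (Fin n) F) *ᵥ w ∈ W at this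
    rw [hs, tv_mulVec, hψw, one_smul] at this
    apply haW
    have h2 := W.sub_mem this hwW
    rwa [add_sub_cancel_left] at h2
  · intro M hHM hMS
    by_cases hMH : M ≤ Cfsg.Geo.subspaceStabilizer W ⊓ Cfsg.Geo.specialLinear (Fin n) F
    · left
      exact le_antisymm hMH hHM
    · right
      apply le_antisymm hMS
      obtain ⟨g, hgM, hgH⟩ := SetLike.not_le_iff_exists.mp hMH
      have hgW : g ∉ Cfsg.Geo.subspaceStabilizer W := fun h => hgH ⟨h, hMS hgM⟩
      have hWX : ∀ w ∈ W, TvIn M w := fun w hw φ hφ k hk =>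
        hHM ⟨tv_mem_stab_of_mem W k w φ hw hk, mem_SL_of_eq_tv k w φ hφ hk⟩
      obtain ⟨a, haX, haW⟩ : ∃ a, TvIn M a ∧ a ∉ W := by
        by_contra hcon
        push Not at hcon
        apply hgW
        intro x
        change x ∈ W ↔ (g : Matrix (Fin n) (Fin n) F) *ᵥ x ∈ W
        constructor
        · intro hx
          exact hcon _ ((hWX x hx).map hgM)
        · intro hx
          have := (hWX _ hx).map (M.inv_mem hgM)
          rw [mulVec_mulVec, ← Units.val_mul, inv_mul_cancel, Units.val_one, one_mulVec] at this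
          exact hcon _ this
      obtain ⟨φ, hφa, hφW⟩ := exists_dual_vec W a haW
      have hker : ∀ b, φ ⬝ᵥ b = 0 → TvIn M b := by
        intro b hb
        obtain ⟨k, hk, hkSL⟩ := exists_tvGL b φ hb
        have hkM : k ∈ M := hHM ⟨tv_mem_stab_of_vanish W k b φ hφW hb hk, hkSL⟩
        have h1 := haX.map hkM
        rw [hk, tv_mulVec, hφa, one_smul] at h1
        have h2 := h1.add (haX.smul (-1))
        have e : a + b + (-1 : F) • a = b := by rw [neg_one_smul]; abel
        rwa [e] at h2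
      have hall : ∀ x, TvIn M x := by
        intro x
        have h1 : TvIn M (x - (φ ⬝ᵥ x) • a) := hker _ (by
          rw [dotProduct_sub, dotProduct_smul, hφa, smul_eq_mul, mul_one, sub_self])
        have h2 := h1.add (haX.smul (φ ⬝ᵥ x))
        rwa [sub_add_cancel] at h2
      have : Nontrivial (Fin n) := Fin.nontrivial_iff_two_le.mpr hn
      intro s hs
      have hdet : (s : Matrix (Fin n) (Fin n) F).det = 1 := by
        have h1 : Matrix.GeneralLinearGroup.det s = 1 := hs
        have h2 := congrArg Units.val h1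
        rwa [Matrix.GeneralLinearGroup.val_det_apply, Units.val_one] at h2
      have key : ∀ A : Matrix.SpecialLinearGroup (Fin n) F, ∀ g : GL (Fin n) F,
          (g : Matrix (Fin n) (Fin n) F) = (A : Matrix (Fin n) (Fin n) F) → g ∈ M := by
        intro A
        refine Cfsg.Agent.Lib.Helper15.SLn_transvection_induction
          (fun A : Matrix.SpecialLinearGroup (Fin n) F => ∀ g : GL (Fin n) F,
            (g : Matrix (Fin n) (Fin n) F) = (A : Matrix (Fin n) (Fin n) F) → g ∈ M) ?_ ?_ A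
        · intro i j hij c g hg
          apply hall (Pi.single i c) (Pi.single j 1) _ g
          · rw [hg, Matrix.SpecialLinearGroup.transvection_coe, tv]
            congr 1
            ext x y
            simp only [Matrix.single_apply, vecMulVec_apply, Pi.single_apply]
            by_cases hx : i = x
            · subst hx
              by_cases hy : j = y
              · subst hy; simp
              · simp [hy, Ne.symm hy]
            · simp [hx, Ne.symm hx]
          · rw [single_dotProduct, one_mul, Pi.single_apply, if_neg (Ne.symm hij)]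
        · intro A B hA hB g hg
          have : g = Matrix.SpecialLinearGroup.toGL A * Matrix.SpecialLinearGroup.toGL B :=
            Units.ext (by rw [Units.val_mul, hg, Matrix.SpecialLinearGroup.coe_mul]; rfl)
          rw [this]
          exact M.mul_mem (hA _ rfl) (hB _ rfl)
      exact key ⟨(s : Matrix (Fin n) (Fin n) F), hdet⟩ s rfl

end tvsec

end Cfsg.Agent.Lib.Helper13
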