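import Mathlib
import Cfsg.Agent.Lib.Helper10.OmegaCentralize

/-!
A `p'`-group `A` acting on a `p`-group `P` and centralizing all elements `x` of `P` with `x ^ e = 1`,
where `p ∣ e` and `p ∣ e (e-1)/2` (so `e = p` for odd `p`, `e = 4` for `p = 2`), centralizes `P`.
-/

set_option autoImplicit false

namespace Cfsg.Agent.Lib.Helper13

open Cfsg.Agent.Lib.Helper1 Cfsg.Agent.Lib.Helper10
open scoped commutatorElement

section

variable {G : Type*} [Group G] [Finite G]

theorem le_centralizer_of_centralizes_pow_aux (p e : ℕ) [Fact p.Prime] (hpe : p ∣ e)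
    (hpe2 : p ∣ e * (e - 1) / 2)
    (A : Subgroup G) (hcop : (Nat.card A).Coprime p) :
    ∀ (n : ℕ) (P : Subgroup G), Nat.card P = n → IsPGroup p P →
      A ≤ Subgroup.normalizer (P : Set G) →
      (∀ x ∈ P, x ^ e = 1 → ∀ a ∈ A, a * x = x * a) →
      A ≤ Subgroup.centralizer (P : Set G) := by
  have hp : p.Prime := Fact.out
  intro n
  induction n using Nat.strong_induction_on with
  | _ n ih =>
  intro P hn hP hAP hfix
  by_cases hPbot : P = ⊥
  · subst hPbot
    intro a _
    rw [Subgroup.mem_centralizer_iff]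
    intro x hx
    rw [SetLike.mem_coe, Subgroup.mem_bot] at hx
    rw [hx, one_mul, mul_one]
  have hact : CoprimeAct A P :=
    { norm := hAP
      cop := by
        obtain ⟨k, hk⟩ := IsPGroup.iff_card.mp hP
        rw [hk]; exact Nat.Coprime.pow_right k hcop
      solv := Or.inr (by
        have := hP.isNilpotent
        infer_instance) }
  suffices hsuff : ⁅P, A⁆ = ⊥ by
    rw [Subgroup.le_centralizer_iff]
    exact Subgroup.commutator_eq_bot_iff_le_centralizer.mp hsuff
  have hPA_le : ⁅P, A⁆ ≤ P := commutator_le_of_le_normalizer hAP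
  have IH : ∀ P₁ : Subgroup G, P₁ < P → A ≤ Subgroup.normalizer (P₁ : Set G) →
      A ≤ Subgroup.centralizer (P₁ : Set G) := by
    intro P₁ hlt hAP₁
    have hcard : Nat.card P₁ < n := by
      rw [← hn]
      exact Cfsg.Agent.Lib.Helper1.card_lt_of_lt hlt
    exact ih _ hcard P₁ rfl (hP.to_le hlt.le) hAP₁
      (fun x hx hox a ha => hfix x (hlt.le hx) hox a ha)
  by_cases hPA : ⁅P, A⁆ = P
  · have hM_lt := phiGen_lt p P hP hPbot
    have hM_le := phiGen_le p P
    have hAM : A ≤ Subgroup.normalizer ((phiGen p P : Subgroup G) : Set G) :=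
      le_normalizer_of_forall_conj_mem fun a ha n hn' => conj_mem_phiGen p P (hAP ha) hn'
    have hPM : P ≤ Subgroup.normalizer ((phiGen p P : Subgroup G) : Set G) :=
      le_normalizer_of_forall_conj_mem fun a ha n hn' =>
        conj_mem_phiGen p P (Subgroup.le_normalizer ha) hn'
    have hAcM := IH _ hM_lt hAM
    have h1 : ⁅⁅A, phiGen p P⁆, P⁆ = ⊥ := by
      have : ⁅A, phiGen p P⁆ = ⊥ := Subgroup.commutator_eq_bot_iff_le_centralizer.mpr hAcM
      rw [this, Subgroup.commutator_bot_left]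
    have h2 : ⁅⁅phiGen p P, P⁆, A⁆ = ⊥ := by
      rw [eq_bot_iff]
      calc ⁅⁅phiGen p P, P⁆, A⁆ ≤ ⁅phiGen p P, A⁆ :=
            Subgroup.commutator_mono (commutator_le_of_le_normalizer hPM) le_rfl
        _ = ⊥ := by
            rw [Subgroup.commutator_comm]
            exact Subgroup.commutator_eq_bot_iff_le_centralizer.mpr hAcM
    have h3 := Subgroup.commutator_commutator_eq_bot_of_rotate h1 h2
    rw [hPA] at h3
    have hPcM : P ≤ Subgroup.centralizer ((phiGen p P : Subgroup G) : Set G) :=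
      Subgroup.commutator_eq_bot_iff_le_centralizer.mp h3
    have hcomm : ∀ m ∈ phiGen p P, ∀ x ∈ P, m * x = x * m := fun m hm x hx =>
      (Subgroup.mem_centralizer_iff.mp (hPcM hx)) m hm
    -- `e`-th powers lie in `phiGen`
    have hpowe : ∀ x ∈ P, x ^ e ∈ phiGen p P := by
      intro x hx
      obtain ⟨t, rfl⟩ := hpe
      rw [pow_mul]
      exact Subgroup.pow_mem _ (pow_mem_phiGen p P hx) t
    -- the `e`-power map is multiplicative on `P`
    have hpow : ∀ x ∈ P, ∀ y ∈ P, (x * y) ^ e = x ^ e * y ^ e := by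
      intro x hx y hy
      have hc := commutator_mem_phiGen p P hy hx
      have hcx := hcomm _ hc x hx
      have hcy := hcomm _ hc y hy
      have hcp : ⁅y, x⁆ ^ p = 1 := by
        rw [← commutatorElement_pow_right hcx, commutatorElement_eq_one_iff_mul_comm]
        exact ((hcomm _ (pow_mem_phiGen p P hx) y hy)).symm
      rw [mul_pow_of_commutator_central hcx hcy]
      obtain ⟨t, ht⟩ := hpe2
      rw [ht, pow_mul, hcp, one_pow, mul_one]
    let Ω : Subgroup G :=
      { carrier := {x | x ∈ P ∧ x ^ e = 1}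
        mul_mem' := by
          rintro x y ⟨hx, hx1⟩ ⟨hy, hy1⟩
          exact ⟨P.mul_mem hx hy, by rw [hpow x hx y hy, hx1, hy1, one_mul]⟩
        one_mem' := ⟨P.one_mem, one_pow e⟩
        inv_mem' := by
          rintro x ⟨hx, hx1⟩
          exact ⟨P.inv_mem hx, by rw [inv_pow, hx1, inv_one]⟩ }
    have hΩA : Ω ≤ Subgroup.centralizer (A : Set G) := by
      rintro x ⟨hx, hx1⟩
      rw [Subgroup.mem_centralizer_iff]
      intro a ha
      exact hfix x hx hx1 a ha
    have hPAΩ : ⁅P, A⁆ ≤ Ω := by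
      rw [Subgroup.commutator_le]
      intro x hx a ha
      have hax : a * x⁻¹ * a⁻¹ ∈ P := (Subgroup.mem_normalizer_iff.mp (hAP ha) x⁻¹).mp (P.inv_mem hx)
      have e' : ⁅x, a⁆ = x * (a * x⁻¹ * a⁻¹) := by simp only [commutatorElement_def]; group
      refine ⟨by rw [e']; exact P.mul_mem hx hax, ?_⟩
      rw [e', hpow x hx _ hax, conj_pow, inv_pow]
      have h5 : a * (x ^ e)⁻¹ = (x ^ e)⁻¹ * a :=
        (Subgroup.mem_centralizer_iff.mp (hAcM ha)) _ (Subgroup.inv_mem _ (hpowe x hx)) |>.symm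
      rw [h5]; group
    have h6 : ⁅⁅P, A⁆, A⁆ = ⊥ := by
      rw [eq_bot_iff]
      calc ⁅⁅P, A⁆, A⁆ ≤ ⁅Ω, A⁆ := Subgroup.commutator_mono hPAΩ le_rfl
        _ = ⊥ := Subgroup.commutator_eq_bot_iff_le_centralizer.mpr hΩA
    rw [hact.commutator_commutator_eq] at h6
    exact h6
  · have hlt : ⁅P, A⁆ < P := lt_of_le_of_ne hPA_le hPA
    have h1 := IH _ hlt le_normalizer_commutator_right
    have h6 : ⁅⁅P, A⁆, A⁆ = ⊥ := by
      rw [Subgroup.commutator_comm]
      exact Subgroup.commutator_eq_bot_iff_le_centralizer.mpr h1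
    rw [hact.commutator_commutator_eq] at h6
    exact h6

/-- the "small" elements of a `p`-group: order dividing `p`, or dividing `4` when `p = 2` -/
def IsSmall (p : ℕ) (x : G) : Prop := x ^ p = 1 ∨ (p = 2 ∧ x ^ 4 = 1)

/-- A `p'`-subgroup `A` normalizing a `p`-subgroup `P` and centralizing every element of `P` of
order dividing `p` (or `4` if `p = 2`) centralizes `P`. -/
theorem le_centralizer_of_centralizes_small (p : ℕ) [Fact p.Prime]
    (A P : Subgroup G) (hcop : (Nat.card A).Coprime p) (hP : IsPGroup p P)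
    (hAP : A ≤ Subgroup.normalizer (P : Set G))
    (hfix : ∀ x ∈ P, (x ^ p = 1 ∨ (p = 2 ∧ x ^ 4 = 1)) → ∀ a ∈ A, a * x = x * a) :
    A ≤ Subgroup.centralizer (P : Set G) := by
  have hp : p.Prime := Fact.out
  by_cases hp2 : p = 2
  · subst hp2
    exact le_centralizer_of_centralizes_pow_aux 2 4 (by norm_num) (by norm_num) A hcop _ P rfl hP hAP
      (fun x hx hx4 a ha => hfix x hx (Or.inr ⟨rfl, hx4⟩) a ha)
  · obtain ⟨t, ht⟩ := hp.eq_two_or_odd'.resolve_left hp2
    have hdiv : p * (p - 1) / 2 = p * t := by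
      rw [ht, Nat.add_sub_cancel, mul_comm (2 * t + 1) (2 * t), mul_assoc,
        Nat.mul_div_cancel_left _ (by norm_num : 0 < 2), mul_comm]
    exact le_centralizer_of_centralizes_pow_aux p p dvd_rfl ⟨t, hdiv⟩ A hcop _ P rfl hP hAP
      (fun x hx hxp a ha => hfix x hx (Or.inl hxp) a ha)

/-- element form, for the cyclic group generated by a `p'`-element -/
theorem mem_centralizer_of_centralizes_small (p : ℕ) [Fact p.Prime]
    (P : Subgroup G) (hP : IsPGroup p P) (g : G) (hg : g ∈ Subgroup.normalizer (P : Set G))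
    (hcop : (orderOf g).Coprime p)
    (hfix : ∀ x ∈ P, (x ^ p = 1 ∨ (p = 2 ∧ x ^ 4 = 1)) → g * x = x * g) :
    g ∈ Subgroup.centralizer (P : Set G) := by
  have h := le_centralizer_of_centralizes_small p (Subgroup.zpowers g) P
    (by rwa [Nat.card_zpowers]) hP (Subgroup.zpowers_le.mpr hg) ?_
  · exact h (Subgroup.mem_zpowers g)
  · intro x hx hs a ha
    obtain ⟨k, rfl⟩ := Subgroup.mem_zpowers_iff.mp ha
    exact ((Commute.zpow_left (hfix x hx hs) k)).eq

end

end Cfsg.Agent.Lib.Helper13
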