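import Mathlib
import Cfsg.Agent.Lib.Helper13.Conj
import Cfsg.Agent.Lib.Helper13.Sylow

set_option autoImplicit false

namespace Cfsg.Agent.Lib.Helper13

variable {G : Type*} [Group G]

/-- normalizer of a conjugate -/
theorem normalizer_map_conj (V : Subgroup G) (n : G) :
    Subgroup.normalizer ((V.map (MulAut.conj n).toMonoidHom : Subgroup G) : Set G) =
      (Subgroup.normalizer (V : Set G)).map (MulAut.conj n).toMonoidHom :=
  (Subgroup.map_equiv_normalizer_eq V (MulAut.conj n)).symm

theorem relIndex_map_conj (A B : Subgroup G) (n : G) :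
    (A.map (MulAut.conj n).toMonoidHom).relIndex (B.map (MulAut.conj n).toMonoidHom) = A.relIndex B :=
  Subgroup.relIndex_map_map_of_injective A B (MulAut.conj n).injective

variable [Finite G] {p : ℕ} [Fact p.Prime]

/-- A `p`-subgroup lying between a "relative Sylow" subgroup `Q` of `H` and `H` equals `Q`. -/
theorem eq_of_le_of_not_dvd_relIndex (H Q Q' : Subgroup G) (hQQ' : Q ≤ Q') (hQ'H : Q' ≤ H)
    (hQ' : IsPGroup p Q') (hQ : ¬ p ∣ Q.relIndex H) : Q' = Q := by
  have h1 := Subgroup.relIndex_mul_relIndex Q Q' H hQQ' hQ'H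
  have h2 : ¬ p ∣ Q.relIndex Q' := fun h => hQ (h1 ▸ Dvd.dvd.mul_right h _)
  obtain ⟨n, hn⟩ := hQ'.exists_card_eq
  have h3 : Q.relIndex Q' ∣ p ^ n := hn ▸ Subgroup.relIndex_dvd_card Q Q'
  obtain ⟨m, -, hm⟩ := (Nat.dvd_prime_pow (Fact.out : p.Prime)).mp h3
  have hm0 : m = 0 := by
    by_contra hne
    apply h2
    rw [hm]
    exact dvd_pow_self p hne
  rw [hm0, pow_zero] at hm
  exact le_antisymm (Subgroup.relIndex_eq_one.mp hm) hQQ'

/-- For any subgroup `V`, some conjugation carries `N_S(V)` into `S` and makes `N_S` of the conjugate of `V`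
a Sylow `p`-subgroup of its normalizer. -/
theorem exists_conj_normalizer_sylow (S : Sylow p G) (V : Subgroup G) :
    ∃ n : G, ((S : Subgroup G) ⊓ Subgroup.normalizer (V : Set G)).map (MulAut.conj n).toMonoidHom ≤ (S : Subgroup G) ∧
      ¬ p ∣ ((S : Subgroup G) ⊓ Subgroup.normalizer ((V.map (MulAut.conj n).toMonoidHom : Subgroup G) : Set G)).relIndex
        (Subgroup.normalizer ((V.map (MulAut.conj n).toMonoidHom : Subgroup G) : Set G)) := by
  set H : Subgroup G := Subgroup.normalizer (V : Set G) with hH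
  set Q : Subgroup G := (S : Subgroup G) ⊓ H with hQ
  have hQp : IsPGroup p (Q.subgroupOf H) := (S.isPGroup'.to_le inf_le_left).comap_subtype
  obtain ⟨R', hR'⟩ := hQp.exists_le_sylow
  set R : Subgroup G := (R' : Subgroup H).map H.subtype with hR
  have hRH : R ≤ H := Subgroup.map_subtype_le _
  have hRp : IsPGroup p R := R'.isPGroup'.map _
  have hQR : Q ≤ R := by
    intro x hx
    have hxH : x ∈ H := (Subgroup.mem_inf.mp hx).2
    exact ⟨⟨x, hxH⟩, hR' (Subgroup.mem_subgroupOf.mpr hx), rfl⟩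
  have hRidx : R.relIndex H = (R' : Subgroup H).index := by
    rw [Subgroup.relIndex, hR]
    congr 1
    ext x
    rw [Subgroup.mem_subgroupOf]
    constructor
    · rintro ⟨y, hy, hyx⟩
      have : y = x := Subtype.ext hyx
      rw [← this]; exact hy
    · intro hx
      exact ⟨x, hx, rfl⟩
  obtain ⟨P, hP⟩ := hRp.exists_le_sylow
  obtain ⟨n, hn⟩ := MulAction.exists_smul_eq G P S
  have hRn : R.map (MulAut.conj n).toMonoidHom ≤ (S : Subgroup G) := by
    rw [map_conj_le_iff]
    intro y hy
    rw [← hn, mem_smul_sylow_iff]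
    have : n⁻¹ * (n * y * n⁻¹) * n = y := by group
    rw [this]; exact hP hy
  refine ⟨n, (Subgroup.map_mono hQR).trans hRn, ?_⟩
  set N' := Subgroup.normalizer ((V.map (MulAut.conj n).toMonoidHom : Subgroup G) : Set G) with hN'
  have hN'eq : N' = H.map (MulAut.conj n).toMonoidHom := normalizer_map_conj V n
  have hRN' : R.map (MulAut.conj n).toMonoidHom ≤ N' := by
    rw [hN'eq]; exact Subgroup.map_mono hRH
  have h1 : (R.map (MulAut.conj n).toMonoidHom).relIndex N' = (R' : Subgroup H).index := by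
    rw [hN'eq, relIndex_map_conj, hRidx]
  have h2 := Subgroup.relIndex_mul_relIndex (R.map (MulAut.conj n).toMonoidHom) ((S : Subgroup G) ⊓ N') N'
    (le_inf hRn hRN') inf_le_right
  intro hdvd
  apply R'.not_dvd_index
  rw [← h1, ← h2]
  exact Dvd.dvd.mul_left hdvd _

end Cfsg.Agent.Lib.Helper13
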