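import Mathlib
import Cfsg.Prelude.Def_ConjugacyFunctors
import Cfsg.Agent.Lib.Helper13.Conj
import Cfsg.Agent.Lib.Helper13.SylowRel

/-!
# Isomorphism-invariant `p`-group functors and the conjugacy functors they induce
-/

set_option autoImplicit false

namespace Cfsg.Agent.Lib.Helper13

open Cfsg

universe u

variable {p : ℕ} {W : ∀ (Q : Type u) [Group Q], Subgroup Q}

/-- the induced functor commutes with isomorphisms -/
theorem inducedFunctor_map_equiv (hW : IsCharPFunctor.{u} p W) {X Y : Type u} [Group X] [Group Y]
    (e : X ≃* Y) (T : Subgroup X) [Finite ↥T] (hT : IsPGroup p ↥T) :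
    inducedFunctor W (T.map e.toMonoidHom) = (inducedFunctor W T).map e.toMonoidHom := by
  unfold inducedFunctor
  have h1 := hW.2 ↥T ↥(T.map e.toMonoidHom) hT (e.subgroupMap T)
  rw [← h1, Subgroup.map_map, Subgroup.map_map]
  congr 1

theorem inducedFunctor_le {X : Type u} [Group X] (T : Subgroup X) : inducedFunctor W T ≤ T :=
  Subgroup.map_subtype_le _

theorem inducedFunctor_ne_bot (hW : IsCharPFunctor.{u} p W) {X : Type u} [Group X]
    (T : Subgroup X) [Finite ↥T] (hT : IsPGroup p ↥T) (hne : T ≠ ⊥) : inducedFunctor W T ≠ ⊥ := by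
  unfold inducedFunctor
  intro h
  rw [Subgroup.map_eq_bot_iff_of_injective _ T.subtype_injective] at h
  exact hW.1 ↥T hT ((Subgroup.nontrivial_iff_ne_bot T).mpr hne) h

/-- an isomorphism-invariant functor induces a conjugacy functor on every finite group -/
theorem isConjugacyFunctor_inducedFunctor (hW : IsCharPFunctor.{u} p W) (X : Type u) [Group X] [Finite X] :
    IsConjugacyFunctor p (inducedFunctor (G := X) W) := by
  intro P hP
  refine ⟨inducedFunctor_le P, inducedFunctor_ne_bot hW P hP, ?_⟩
  intro g
  exact inducedFunctor_map_equiv hW (MulAut.conj g) P hP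

/-- normalizers commute with isomorphisms -/
theorem normalizer_map_equiv {X Y : Type*} [Group X] [Group Y] (e : X ≃* Y) (V : Subgroup X) :
    Subgroup.normalizer ((V.map e.toMonoidHom : Subgroup Y) : Set Y) =
      (Subgroup.normalizer (V : Set X)).map e.toMonoidHom :=
  (Subgroup.map_equiv_normalizer_eq V e).symm

/-- control of transfer in the whole group is invariant under isomorphisms -/
theorem controlsTransferIn_top_of_equiv (hW : IsCharPFunctor.{u} p W) {X Y : Type u} [Group X] [Group Y]
    [Finite X] (e : X ≃* Y) (h : ControlsTransferIn p (inducedFunctor (G := X) W) ⊤) :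
    ControlsTransferIn p (inducedFunctor (G := Y) W) ⊤ := by
  obtain ⟨T, -, hTp, hTi, hT⟩ := h
  have hinj : Function.Injective e.toMonoidHom := e.injective
  refine ⟨T.map e.toMonoidHom, le_top, ?_, ?_, ?_⟩
  · exact hTp.map _
  · rw [Subgroup.relIndex_top_right] at hTi ⊢
    have : (T.map e.toMonoidHom).index = T.index := Subgroup.index_map_equiv T e
    rw [this]
    exact hTi
  · have hmaptop : (⊤ : Subgroup X).map e.toMonoidHom = ⊤ :=
      Subgroup.map_top_of_surjective _ e.surjective
    have h1 := congrArg (Subgroup.map e.toMonoidHom) hT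
    rw [Subgroup.map_inf _ _ _ hinj, Subgroup.map_inf _ _ _ hinj, Subgroup.map_commutator,
      Subgroup.map_commutator, Subgroup.map_inf _ _ _ hinj, hmaptop, ← normalizer_map_equiv,
      ← inducedFunctor_map_equiv hW e T hTp] at h1
    exact h1

end Cfsg.Agent.Lib.Helper13
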