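import Mathlib
import Cfsg.Agent.Lib.Helper13.SylowRel

set_option autoImplicit false

namespace Cfsg.Agent.Lib.Helper13

variable {G : Type*} [Group G] [Finite G] {p : ℕ} [Fact p.Prime]

/-- Every `p`-subgroup `R` of a subgroup `H` lies in a "relative Sylow" `p`-subgroup `T` of `H`
(`T ≤ H` a `p`-group with `[H : T]` prime to `p`). -/
theorem exists_relSylow_ge (H R : Subgroup G) (hR : IsPGroup p R) (hRH : R ≤ H) :
    ∃ T : Subgroup G, R ≤ T ∧ T ≤ H ∧ IsPGroup p T ∧ ¬ p ∣ T.relIndex H := by
  have hQp : IsPGroup p (R.subgroupOf H) := hR.comap_subtype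
  obtain ⟨R', hR'⟩ := hQp.exists_le_sylow
  refine ⟨(R' : Subgroup H).map H.subtype, ?_, Subgroup.map_subtype_le _, R'.isPGroup'.map _, ?_⟩
  · intro x hx
    exact ⟨⟨x, hRH hx⟩, hR' (Subgroup.mem_subgroupOf.mpr hx), rfl⟩
  · have hidx : ((R' : Subgroup H).map H.subtype).relIndex H = (R' : Subgroup H).index := by
      rw [Subgroup.relIndex]
      congr 1
      ext x
      rw [Subgroup.mem_subgroupOf]
      constructor
      · rintro ⟨y, hy, hyx⟩
        have : y = x := Subtype.ext hyx
        rw [← this]; exact hy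
      · intro hx
        exact ⟨x, hx, rfl⟩
    rw [hidx]
    exact R'.not_dvd_index

omit [Finite G] [Fact p.Prime] in
/-- a `p`-subgroup of `H` containing a relative Sylow subgroup of `H` is itself relative Sylow -/
theorem not_dvd_relIndex_of_le (H T T' : Subgroup G) (hTT' : T ≤ T')
    (hT : ¬ p ∣ T.relIndex H) : ¬ p ∣ T'.relIndex H :=
  fun h => hT (dvd_trans h (Subgroup.relIndex_dvd_of_le_left H hTT'))

omit [Finite G] [Fact p.Prime] in
/-- relative Sylow in `H`, contained in `K ≤ H`, is relative Sylow in `K` -/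
theorem not_dvd_relIndex_of_le_right (H K T : Subgroup G) (hTK : T ≤ K) (hKH : K ≤ H)
    (hT : ¬ p ∣ T.relIndex H) : ¬ p ∣ T.relIndex K := by
  intro h
  apply hT
  rw [← Subgroup.relIndex_mul_relIndex T K H hTK hKH]
  exact Dvd.dvd.mul_right h _

/-- a Sylow subgroup of `G` is relative Sylow in any subgroup containing it -/
theorem sylow_not_dvd_relIndex (P : Sylow p G) (H : Subgroup G) (hPH : (P : Subgroup G) ≤ H) :
    ¬ p ∣ (P : Subgroup G).relIndex H :=
  fun h => P.not_dvd_index (dvd_trans h (Subgroup.relIndex_dvd_index_of_le hPH))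

end Cfsg.Agent.Lib.Helper13
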