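import Mathlib
import Cfsg.Prelude.Def_Transfer

set_option autoImplicit false

namespace Cfsg.Agent.Lib.Helper13

variable {H : Type*} [Group H]

theorem pResidual_normal (p : ℕ) : (Cfsg.pResidual p H).Normal := by
  unfold Cfsg.pResidual
  constructor
  intro n hn g
  induction hn using Subgroup.closure_induction with
  | mem y hy =>
    apply Subgroup.subset_closure
    show Nat.Coprime (orderOf (g * y * g⁻¹)) p
    have : orderOf (g * y * g⁻¹) = orderOf y := by
      have := orderOf_injective (MulAut.conj g).toMonoidHom (MulAut.conj g).injective y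
      simpa [MulAut.conj_apply] using this
    rw [this]; exact hy
  | one => simp
  | mul a b _ _ iha ihb =>
    have : g * (a * b) * g⁻¹ = (g * a * g⁻¹) * (g * b * g⁻¹) := by group
    rw [this]; exact Subgroup.mul_mem _ iha ihb
  | inv a _ iha =>
    have : g * a⁻¹ * g⁻¹ = (g * a * g⁻¹)⁻¹ := by group
    rw [this]; exact Subgroup.inv_mem _ iha

/-- every element has a `p`-power power lying in `O^p(H)` -/
theorem exists_pow_mem_pResidual [Finite H] (p : ℕ) [Fact p.Prime] (x : H) :
    ∃ k : ℕ, x ^ p ^ k ∈ Cfsg.pResidual p H := by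
  have hp : p.Prime := Fact.out
  have hx0 : orderOf x ≠ 0 := (orderOf_pos x).ne'
  obtain ⟨e, m', hm', hn⟩ := Nat.exists_eq_pow_mul_and_not_dvd hx0 p hp.ne_one
  refine ⟨e, Subgroup.subset_closure ?_⟩
  show Nat.Coprime (orderOf (x ^ p ^ e)) p
  have hpe : p ^ e ≠ 0 := pow_ne_zero _ hp.pos.ne'
  rw [orderOf_pow' x hpe, hn]
  have hg : Nat.gcd (p ^ e * m') (p ^ e) = p ^ e := Nat.gcd_eq_right (Dvd.intro _ rfl)
  rw [hg, Nat.mul_div_cancel_left _ (Nat.pos_of_ne_zero hpe)]
  exact ((Nat.Prime.coprime_iff_not_dvd hp).2 hm').symm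

theorem quotient_pResidual_isPGroup [Finite H] (p : ℕ) [Fact p.Prime] :
    haveI := pResidual_normal (H := H) p
    IsPGroup p (H ⧸ Cfsg.pResidual p H) := by
  haveI := pResidual_normal (H := H) p
  intro y
  induction y using QuotientGroup.induction_on with
  | H x =>
    obtain ⟨k, hk⟩ := exists_pow_mem_pResidual p x
    refine ⟨k, ?_⟩
    rw [← QuotientGroup.mk_pow]
    exact (QuotientGroup.eq_one_iff _).mpr hk

/-- A Sylow `p`-subgroup together with `O^p(H)` gives everything. -/
theorem exists_mul_of_sylow_pResidual [Finite H] (p : ℕ) [Fact p.Prime] (P : Subgroup H)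
    (hPi : ¬ p ∣ P.index) (n : H) : ∃ m ∈ P, ∃ u ∈ Cfsg.pResidual p H, n = m * u := by
  haveI := pResidual_normal (H := H) p
  have hp : p.Prime := Fact.out
  set K := Cfsg.pResidual p H with hK
  have hq : IsPGroup p (H ⧸ K) := quotient_pResidual_isPGroup p
  obtain ⟨k, hk⟩ := hq.exists_card_eq
  have hKi : K.index = p ^ k := by rw [Subgroup.index, hk]
  have h1 : (P ⊔ K).index ∣ P.index := Subgroup.index_dvd_of_le le_sup_left
  have h2 : (P ⊔ K).index ∣ p ^ k := hKi ▸ Subgroup.index_dvd_of_le le_sup_right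
  obtain ⟨j, -, hj⟩ := (Nat.dvd_prime_pow hp).mp h2
  have hj0 : j = 0 := by
    by_contra hne
    apply hPi
    exact dvd_trans (hj ▸ dvd_pow_self p hne) h1
  rw [hj0, pow_zero, Subgroup.index_eq_one] at hj
  have hn : n ∈ P ⊔ K := by rw [hj]; trivial
  obtain ⟨y, hy, z, hz, hyz⟩ := Subgroup.mem_sup_of_normal_right.mp hn
  exact ⟨y, hy, z, hz, hyz.symm⟩

end Cfsg.Agent.Lib.Helper13
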