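import Mathlib
import Cfsg.Prelude.Def_Transfer
import Cfsg.Agent.Lib.Helper13.Residual
import Cfsg.Agent.Lib.Helper13.RelSylow
import Cfsg.Agent.S1965
import Cfsg.Agent.S0086

set_option autoImplicit false

/-!
# Frobenius' normal `p`-complement theorem

`LocalCentral p G`: every `p'`-element normalizing a `p`-subgroup `Q` of `G` centralizes `Q`.
Main result `exists_normal_complement_of_localCentral`: this forces a normal `p`-complement.
-/

namespace Cfsg.Agent.Lib.Helper13

open scoped commutatorElement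

universe u

/-- every `p'`-element normalizing a `p`-subgroup centralizes it -/
def LocalCentral (p : ℕ) (G : Type*) [Group G] : Prop :=
  ∀ Q : Subgroup G, IsPGroup p Q → ∀ g ∈ Subgroup.normalizer (Q : Set G),
    Nat.Coprime (orderOf g) p → g ∈ Subgroup.centralizer (Q : Set G)

theorem LocalCentral.subgroup {p : ℕ} {G : Type*} [Group G] (h : LocalCentral p G) (M : Subgroup G) :
    LocalCentral p ↥M := by
  intro Q hQ g hg hcop
  have h1 : (g : G) ∈ Subgroup.normalizer ((Q.map M.subtype : Subgroup G) : Set G) := by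
    rw [Subgroup.mem_normalizer_iff]
    intro y
    constructor
    · rintro ⟨q, hq, rfl⟩
      exact ⟨g * q * g⁻¹, (Subgroup.mem_normalizer_iff.mp hg q).mp hq, by simp⟩
    · rintro ⟨q, hq, hqy⟩
      have hyM : y ∈ M := by
        have : y = (g : G)⁻¹ * (q : G) * (g : G) := by
          have := hqy
          simp only [Subgroup.coe_subtype] at this
          rw [this]; group
        rw [this]
        exact M.mul_mem (M.mul_mem (M.inv_mem g.2) q.2) g.2
      refine ⟨⟨y, hyM⟩, ?_, rfl⟩
      have h2 : g * ⟨y, hyM⟩ * g⁻¹ = q := by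
        apply Subtype.ext
        simpa using hqy.symm
      rw [Subgroup.mem_normalizer_iff] at hg
      exact (hg ⟨y, hyM⟩).mpr (h2 ▸ hq)
  have h2 := h (Q.map M.subtype) (hQ.map _) (g : G) h1 (by rwa [Subgroup.orderOf_coe])
  rw [Subgroup.mem_centralizer_iff] at h2 ⊢
  intro q hq
  apply Subtype.ext
  exact h2 (q : G) ⟨q, hq, rfl⟩

section Fusion

variable {p : ℕ} [Fact p.Prime] {G : Type*} [Group G] [Finite G]

/-- local step: an element of `N_G(U)` acts on `U` like an element of `N_P(U)` when `N_P(U)` is Sylow there -/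
theorem LocalCentral.local_conj (h : LocalCentral p G) (P : Sylow p G) (U : Subgroup G)
    (hUP : U ≤ (P : Subgroup G))
    (hU : ¬ p ∣ ((P : Subgroup G) ⊓ Subgroup.normalizer (U : Set G)).relIndex (Subgroup.normalizer (U : Set G)))
    (c : G) (hc : c ∈ Subgroup.normalizer (U : Set G)) :
    ∃ s ∈ (P : Subgroup G) ⊓ Subgroup.normalizer (U : Set G), ∀ y ∈ U, c * y * c⁻¹ = s * y * s⁻¹ := by
  set N : Subgroup G := Subgroup.normalizer (U : Set G) with hN
  obtain ⟨m, hm, u, hu, hcmu⟩ := exists_mul_of_sylow_pResidual p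
    (((P : Subgroup G) ⊓ N).subgroupOf N) hU ⟨c, hc⟩
  have hUp : IsPGroup p U := P.isPGroup'.to_le hUP
  have hres : Cfsg.pResidual p ↥N ≤ (Subgroup.centralizer (U : Set G)).subgroupOf N := by
    unfold Cfsg.pResidual
    rw [Subgroup.closure_le]
    intro g hg
    show g ∈ (Subgroup.centralizer (U : Set G)).subgroupOf N
    rw [Subgroup.mem_subgroupOf]
    have hg' : Nat.Coprime (orderOf g) p := hg
    exact h U hUp (g : G) g.2 (by rwa [Subgroup.orderOf_coe])
  have huC : (u : G) ∈ Subgroup.centralizer (U : Set G) := Subgroup.mem_subgroupOf.mp (hres hu)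
  refine ⟨(m : G), Subgroup.mem_subgroupOf.mp hm, ?_⟩
  intro y hy
  have hc' : c = (m : G) * (u : G) := by
    have := congrArg Subtype.val hcmu
    simpa using this
  have huy : (u : G) * y = y * (u : G) := (Subgroup.mem_centralizer_iff.mp huC y hy).symm
  rw [hc']
  calc (m : G) * (u : G) * y * ((m : G) * (u : G))⁻¹ = (m : G) * ((u : G) * y) * (u : G)⁻¹ * (m : G)⁻¹ := by group
    _ = (m : G) * (y * (u : G)) * (u : G)⁻¹ * (m : G)⁻¹ := by rw [huy]
    _ = (m : G) * y * (m : G)⁻¹ := by group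

open Cfsg.Agent.S1965 in
/-- under `LocalCentral`, a Sylow `p`-subgroup controls fusion of its elements -/
theorem LocalCentral.sylow_controls_fusion (h : LocalCentral p G) (P : Sylow p G) (x : G)
    (hx : x ∈ (P : Subgroup G)) (g : G) (hg : g⁻¹ * x * g ∈ (P : Subgroup G)) :
    ∃ s ∈ (P : Subgroup G), g⁻¹ * x * g = s⁻¹ * x * s := by
  set 𝓣 : Set (Subgroup G) := {U | U ≤ (P : Subgroup G) ∧
    ¬ p ∣ ((P : Subgroup G) ⊓ Subgroup.normalizer ((U : Subgroup G) : Set G)).relIndex (Subgroup.normalizer ((U : Subgroup G) : Set G))} with h𝓣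
  have h𝓣S : ∀ U ∈ 𝓣, U ≤ (P : Subgroup G) := fun U hU => hU.1
  have hfam : ∀ T : Subgroup G, T ≤ (P : Subgroup G) → ∃ U ∈ 𝓣,
      (∃ g : G, T.map (MulAut.conj g).toMonoidHom = U) ∧
      ¬ p ∣ ((P : Subgroup G) ⊓ Subgroup.normalizer ((U : Subgroup G) : Set G)).relIndex (Subgroup.normalizer ((U : Subgroup G) : Set G)) := by
    intro T hT
    obtain ⟨n, hn1, hn2⟩ := exists_conj_normalizer_sylow P T
    have hTn : T.map (MulAut.conj n).toMonoidHom ≤ (P : Subgroup G) :=
      (Subgroup.map_mono (le_inf hT Subgroup.le_normalizer)).trans hn1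
    exact ⟨_, ⟨hTn, hn2⟩, ⟨n, rfl⟩, hn2⟩
  have key : ∀ (L : List (Subgroup G × G)) (x : G), Valid 𝓣 {x} L → x ∈ (P : Subgroup G) →
      ∃ s ∈ (P : Subgroup G), ((L.map Prod.snd).prod)⁻¹ * x * (L.map Prod.snd).prod = s⁻¹ * x * s := by
    intro L
    induction L with
    | nil => intro x _ _; exact ⟨1, Subgroup.one_mem _, by simp⟩
    | cons Uc L ih =>
      obtain ⟨U, c⟩ := Uc
      rintro x ⟨hU, hc, hxU, hrest⟩ hxP
      rw [Set.image_singleton] at hrest
      obtain ⟨s₁, hs₁, hs₁x⟩ := h.local_conj P U hU.1 hU.2 c⁻¹ (Subgroup.inv_mem _ hc)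
      have hx' : c⁻¹ * x * c = s₁ * x * s₁⁻¹ := by
        have := hs₁x x (hxU (Set.mem_singleton x))
        simpa using this
      have hs₁P : s₁ ∈ (P : Subgroup G) := (Subgroup.mem_inf.mp hs₁).1
      have hx'P : c⁻¹ * x * c ∈ (P : Subgroup G) := by
        rw [hx']; exact Subgroup.mul_mem _ (Subgroup.mul_mem _ hs₁P hxP) (Subgroup.inv_mem _ hs₁P)
      obtain ⟨s₂, hs₂, hs₂x⟩ := ih _ hrest hx'P
      refine ⟨s₁⁻¹ * s₂, Subgroup.mul_mem _ (Subgroup.inv_mem _ hs₁P) hs₂, ?_⟩
      simp only [List.map_cons, List.prod_cons]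
      calc (c * (L.map Prod.snd).prod)⁻¹ * x * (c * (L.map Prod.snd).prod)
          = ((L.map Prod.snd).prod)⁻¹ * (c⁻¹ * x * c) * (L.map Prod.snd).prod := by group
        _ = s₂⁻¹ * (c⁻¹ * x * c) * s₂ := hs₂x
        _ = s₂⁻¹ * (s₁ * x * s₁⁻¹) * s₂ := by rw [hx']
        _ = (s₁⁻¹ * s₂)⁻¹ * x * (s₁⁻¹ * s₂) := by group
  have hreach : Reach 𝓣 ({x} : Set G) g := by
    apply reach_mono 𝓣 (A := ((Subgroup.zpowers x : Subgroup G) : Set G))
    · intro a ha
      rw [Set.mem_singleton_iff.mp ha]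
      exact Subgroup.mem_zpowers x
    · apply Cfsg.Agent.S1965.main P 𝓣 h𝓣S hfam _ (Subgroup.zpowers x) g
        (Subgroup.zpowers_le.mpr hx) _ rfl
      intro t ht
      obtain ⟨k, rfl⟩ := Subgroup.mem_zpowers_iff.mp ht
      have : g⁻¹ * x ^ k * g = (g⁻¹ * x * g) ^ k := by
        have h1 : g⁻¹ * x ^ k * g = g⁻¹ * x ^ k * g⁻¹⁻¹ := by rw [inv_inv]
        have h2 : g⁻¹ * x * g = g⁻¹ * x * g⁻¹⁻¹ := by rw [inv_inv]
        rw [h1, h2, conj_zpow]
      rw [this]
      exact Subgroup.zpow_mem _ hg k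
  obtain ⟨L, hL, hLg⟩ := hreach
  obtain ⟨s, hs, hsx⟩ := key L x hL hx
  rw [hLg] at hsx
  exact ⟨s, hs, hsx⟩

end Fusion

section Main

/-- a `p'`-element lies in every normal subgroup of `p`-power index -/
theorem mem_of_coprime_of_index_pow {p : ℕ} {G : Type*} [Group G] [Finite G] (K : Subgroup G) [K.Normal] {k : ℕ}
    (hK : K.index = p ^ k) (g : G) (hg : (orderOf g).Coprime p) : g ∈ K := by
  rw [← QuotientGroup.eq_one_iff]
  have h1 : orderOf (g : G ⧸ K) ∣ orderOf g := orderOf_map_dvd (QuotientGroup.mk' K) g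
  have h2 : orderOf (g : G ⧸ K) ∣ p ^ k := by
    rw [← hK, Subgroup.index_eq_card]
    exact orderOf_dvd_natCard _
  have h3 : (orderOf (g : G ⧸ K)).Coprime (p ^ k) :=
    Nat.Coprime.coprime_dvd_left h1 (Nat.Coprime.pow_right k hg)
  exact orderOf_eq_one_iff.mp (Nat.Coprime.eq_one_of_dvd h3 h2)

variable {p : ℕ} [Fact p.Prime]

/-- under `LocalCentral`, the focal subgroup of a Sylow `p`-subgroup is its derived subgroup -/
theorem LocalCentral.focalSubgroup_le {G : Type*} [Group G] [Finite G] (h : LocalCentral p G)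
    (P : Sylow p G) : (P : Subgroup G).focalSubgroup ≤ ⁅(P : Subgroup G), (P : Subgroup G)⁆ := by
  rw [Subgroup.focalSubgroup_def, Subgroup.closure_le]
  rintro g ⟨hgP, x, hxP, u, rfl⟩
  -- `⁅x,u⁆ = x * (u x⁻¹ u⁻¹)`, and `u x⁻¹ u⁻¹ ∈ P`
  have h1 : (u⁻¹)⁻¹ * x⁻¹ * u⁻¹ ∈ (P : Subgroup G) := by
    have : (u⁻¹)⁻¹ * x⁻¹ * u⁻¹ = x⁻¹ * ⁅x, u⁆ := by
      rw [commutatorElement_def]; group
    rw [this]
    exact Subgroup.mul_mem _ (Subgroup.inv_mem _ hxP) hgP
  obtain ⟨s, hs, hsx⟩ := h.sylow_controls_fusion P x⁻¹ (Subgroup.inv_mem _ hxP) u⁻¹ h1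
  have h2 : ⁅x, u⁆ = ⁅x, s⁻¹⁆ := by
    rw [commutatorElement_def, commutatorElement_def]
    have : u * x⁻¹ * u⁻¹ = s⁻¹ * x⁻¹ * s := by simpa using hsx
    calc x * u * x⁻¹ * u⁻¹ = x * (u * x⁻¹ * u⁻¹) := by group
      _ = x * (s⁻¹ * x⁻¹ * s) := by rw [this]
      _ = x * s⁻¹ * x⁻¹ * s⁻¹⁻¹ := by group
  show ⁅x, u⁆ ∈ ⁅(P : Subgroup G), (P : Subgroup G)⁆
  rw [h2]
  exact Subgroup.commutator_mem_commutator hxP (Subgroup.inv_mem _ hs)

theorem exists_normal_pPrime_of_localCentral_aux (n : ℕ) :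
    ∀ (G : Type u) [Group G] [Finite G], Nat.card G = n → LocalCentral p G →
      ∃ K : Subgroup G, K.Normal ∧ (Nat.card K).Coprime p ∧ ∃ k : ℕ, K.index = p ^ k := by
  induction n using Nat.strong_induction_on with
  | _ n ih =>
  intro G _ _ hn h
  have hp : p.Prime := Fact.out
  obtain ⟨P⟩ : Nonempty (Sylow p G) := inferInstance
  by_cases hP : (P : Subgroup G) = ⊥
  · refine ⟨⊤, inferInstance, ?_, 0, by simp⟩
    have h1 : ¬ p ∣ (P : Subgroup G).index := P.not_dvd_index
    rw [hP, Subgroup.index_bot] at h1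
    rw [Subgroup.card_top]
    exact ((Nat.Prime.coprime_iff_not_dvd hp).mpr h1).symm
  · -- the kernel of the transfer into `P / P*`
    set M : Subgroup G := (P : Subgroup G).transferFocal.ker with hM
    have hMn : M.Normal := MonoidHom.normal_ker _
    have hsurj := Subgroup.transferFocal_surjective P
    have hMidx : ∃ k : ℕ, M.index = p ^ k := by
      rw [hM, Subgroup.index_ker, MonoidHom.range_eq_top.mpr hsurj, Subgroup.card_top]
      exact (P.isPGroup'.to_quotient _).exists_card_eq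
    have hMP : M ⊓ (P : Subgroup G) = (P : Subgroup G).focalSubgroup :=
      Subgroup.ker_transferFocal_inf_eq_focalSubgroup P
    have hMtop : M ≠ ⊤ := by
      intro htop
      rw [htop, top_inf_eq] at hMP
      have hlt : ⁅(P : Subgroup G), (P : Subgroup G)⁆ < (P : Subgroup G) := by
        have _inst1 : Group.IsNilpotent (P : Subgroup G) := P.isPGroup'.isNilpotent
        have _inst2 : Nontrivial (P : Subgroup G) := (Subgroup.nontrivial_iff_ne_bot _).mpr hP
        have h5 := Group.IsSolvable.commutator_lt_top_of_nontrivial (P : Subgroup G)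
        have h6 := Subgroup.map_subtype_commutator (P : Subgroup G)
        rw [← h6]
        conv_rhs => rw [← Subgroup.range_subtype (P : Subgroup G), MonoidHom.range_eq_map]
        exact (Subgroup.map_subtype_lt_map_subtype).mpr h5
      have hle := h.focalSubgroup_le P
      rw [← hMP] at hle
      exact absurd hle (not_le_of_gt hlt)
    have hMcard : Nat.card M < n := by
      rw [← hn, ← Subgroup.card_mul_index M]
      have h1 : M.index ≠ 1 := fun h1 => hMtop (Subgroup.index_eq_one.mp h1)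
      have h2 : M.index ≠ 0 := Subgroup.index_ne_zero_of_finite
      have h3 : 0 < Nat.card M := Nat.card_pos
      have h4 : 2 ≤ M.index := by omega
      nlinarith
    obtain ⟨K', hK'n, hK'cop, k', hK'idx⟩ := ih (Nat.card M) hMcard (↥M) rfl (h.subgroup M)
    obtain ⟨k, hk⟩ := hMidx
    refine ⟨K'.map M.subtype, ?_, ?_, k' + k, ?_⟩
    · constructor
      rintro y ⟨x, hx, rfl⟩ g
      have hgM : g * (x : G) * g⁻¹ ∈ M := hMn.conj_mem _ x.2 g
      refine ⟨⟨_, hgM⟩, ?_, rfl⟩
      apply mem_of_coprime_of_index_pow K' hK'idx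
      have h1 : orderOf (⟨g * (x : G) * g⁻¹, hgM⟩ : M) = orderOf x := by
        rw [← Subgroup.orderOf_coe, ← Subgroup.orderOf_coe x]
        exact (MulAut.conj g).orderOf_eq (x : G)
      rw [h1]
      have h2 : orderOf x ∣ Nat.card K' := by
        have := orderOf_dvd_natCard (⟨x, hx⟩ : K')
        rwa [Subgroup.orderOf_mk] at this
      exact Nat.Coprime.coprime_dvd_left h2 hK'cop
    · rw [Subgroup.card_map_of_injective M.subtype_injective]
      exact hK'cop
    · rw [Subgroup.index_map_subtype, hK'idx, hk, pow_add]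

/-- **Frobenius**: if every `p'`-element normalizing a `p`-subgroup centralizes it,
then every Sylow `p`-subgroup has a normal complement. -/
theorem exists_normal_complement_of_localCentral {G : Type u} [Group G] [Finite G]
    (h : LocalCentral p G) (P : Sylow p G) :
    ∃ K : Subgroup G, K.Normal ∧ K.IsComplement' (P : Subgroup G) := by
  have hp : p.Prime := Fact.out
  obtain ⟨K, hKn, hKcop, k, hk⟩ := exists_normal_pPrime_of_localCentral_aux (p := p) _ G rfl h
  refine ⟨K, hKn, ?_⟩
  have hG : Nat.card G = Nat.card K * p ^ k := by rw [← hk, Subgroup.card_mul_index]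
  have hK0 : Nat.card K ≠ 0 := Nat.card_pos.ne'
  have hPcard : Nat.card (P : Subgroup G) = p ^ k := by
    rw [P.card_eq_multiplicity, hG, Nat.factorization_mul hK0 (pow_ne_zero _ hp.ne_zero)]
    have h1 : (Nat.card K).factorization p = 0 :=
      Nat.factorization_eq_zero_of_not_dvd ((Nat.Prime.coprime_iff_not_dvd hp).mp hKcop.symm)
    simp [h1, hp.factorization_pow]
  apply Subgroup.isComplement'_of_coprime
  · rw [hPcard, hG]
  · rw [hPcard]; exact Nat.Coprime.pow_right k hKcop

end Main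

section Criteria

variable {p : ℕ} [Fact p.Prime]

/-- it suffices to check `LocalCentral` on the subgroups of one Sylow `p`-subgroup -/
theorem localCentral_of_sylow {G : Type*} [Group G] [Finite G] (P : Sylow p G)
    (h : ∀ Q : Subgroup G, Q ≤ (P : Subgroup G) → ∀ g ∈ Subgroup.normalizer (Q : Set G),
      Nat.Coprime (orderOf g) p → g ∈ Subgroup.centralizer (Q : Set G)) :
    LocalCentral p G := by
  intro Q' hQ' g hg hcop
  obtain ⟨P', hP'⟩ := hQ'.exists_le_sylow
  obtain ⟨n, hn⟩ := MulAction.exists_smul_eq G P' P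
  have hQP : Q'.map (MulAut.conj n).toMonoidHom ≤ (P : Subgroup G) := by
    rw [map_conj_le_iff]
    intro y hy
    rw [← hn, mem_smul_sylow_iff]
    have : n⁻¹ * (n * y * n⁻¹) * n = y := by group
    rw [this]
    exact hP' hy
  have hgN : n * g * n⁻¹ ∈ Subgroup.normalizer ((Q'.map (MulAut.conj n).toMonoidHom : Subgroup G) : Set G) := by
    rw [normalizer_map_conj]
    exact conj_mem_map_conj _ n hg
  have hord : orderOf (n * g * n⁻¹) = orderOf g := (MulAut.conj n).orderOf_eq g
  have hc := h _ hQP _ hgN (by rwa [hord])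
  rw [Subgroup.mem_centralizer_iff] at hc ⊢
  intro q hq
  have h1 := hc (n * q * n⁻¹) (conj_mem_map_conj _ n hq)
  have h2 : n * (q * g) * n⁻¹ = n * (g * q) * n⁻¹ := by
    calc n * (q * g) * n⁻¹ = n * q * n⁻¹ * (n * g * n⁻¹) := by group
      _ = n * g * n⁻¹ * (n * q * n⁻¹) := h1
      _ = n * (g * q) * n⁻¹ := by group
  exact mul_left_cancel (mul_right_cancel h2)

/-- a normal subgroup of order prime to `p` and `p`-power index complements every Sylow `p`-subgroup -/
theorem isComplement'_sylow_of_coprime_of_index_pow {G : Type*} [Group G] [Finite G] (K : Subgroup G)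
    (hKcop : (Nat.card K).Coprime p) {k : ℕ} (hk : K.index = p ^ k) (P : Sylow p G) :
    K.IsComplement' (P : Subgroup G) := by
  have hp : p.Prime := Fact.out
  have hG : Nat.card G = Nat.card K * p ^ k := by rw [← hk, Subgroup.card_mul_index]
  have hK0 : Nat.card K ≠ 0 := Nat.card_pos.ne'
  have hPcard : Nat.card (P : Subgroup G) = p ^ k := by
    rw [P.card_eq_multiplicity, hG, Nat.factorization_mul hK0 (pow_ne_zero _ hp.ne_zero)]
    have h1 : (Nat.card K).factorization p = 0 :=
      Nat.factorization_eq_zero_of_not_dvd ((Nat.Prime.coprime_iff_not_dvd hp).mp hKcop.symm)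
    simp [h1, hp.factorization_pow]
  apply Subgroup.isComplement'_of_coprime
  · rw [hPcard, hG]
  · rw [hPcard]; exact Nat.Coprime.pow_right k hKcop

/-- a complement of a Sylow `p`-subgroup has order prime to `p` and `p`-power index -/
theorem coprime_and_index_of_isComplement' {G : Type*} [Group G] [Finite G] (K : Subgroup G)
    (P : Sylow p G) (hK : K.IsComplement' (P : Subgroup G)) :
    (Nat.card K).Coprime p ∧ ∃ k : ℕ, K.index = p ^ k := by
  have hp : p.Prime := Fact.out
  have h1 : Nat.card K * Nat.card (P : Subgroup G) = Nat.card G := hK.card_mul_card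
  have h2 : Nat.card K * K.index = Nat.card G := Subgroup.card_mul_index K
  have hK0 : 0 < Nat.card K := Nat.card_pos
  have h3 : K.index = Nat.card (P : Subgroup G) := by
    have : Nat.card K * K.index = Nat.card K * Nat.card (P : Subgroup G) := by rw [h1, h2]
    exact Nat.eq_of_mul_eq_mul_left hK0 this
  have h4 : (P : Subgroup G).index = Nat.card K := by
    have h5 := Subgroup.card_mul_index (P : Subgroup G)
    have hP0 : 0 < Nat.card (P : Subgroup G) := Nat.card_pos
    have : Nat.card (P : Subgroup G) * (P : Subgroup G).index = Nat.card (P : Subgroup G) * Nat.card K := by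
      rw [h5, mul_comm, h1]
    exact Nat.eq_of_mul_eq_mul_left hP0 this
  refine ⟨?_, ?_⟩
  · rw [← h4]
    exact ((Nat.Prime.coprime_iff_not_dvd hp).mpr P.not_dvd_index).symm
  · obtain ⟨k, hk⟩ := P.isPGroup'.exists_card_eq
    exact ⟨k, by rw [h3, hk]⟩

/-- a normal `p`-complement yields `LocalCentral` -/
theorem localCentral_of_normal_complement {G : Type*} [Group G] [Finite G] (P : Sylow p G)
    (K : Subgroup G) [K.Normal] (hK : K.IsComplement' (P : Subgroup G)) : LocalCentral p G := by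
  intro Q hQ g hg hcop
  have hgK : g ∈ K := (Cfsg.Agent.S0086.result P K hK g).mpr hcop
  rw [Subgroup.mem_centralizer_iff]
  intro q hq
  -- the commutator lies in `Q ⊓ K`
  have h1 : g * q * g⁻¹ * q⁻¹ ∈ Q :=
    Q.mul_mem ((Subgroup.mem_normalizer_iff.mp hg q).mp hq) (Q.inv_mem hq)
  have h2 : g * q * g⁻¹ * q⁻¹ ∈ K := by
    have : g * q * g⁻¹ * q⁻¹ = g * (q * g⁻¹ * q⁻¹) := by group
    rw [this]
    exact K.mul_mem hgK (Subgroup.Normal.conj_mem inferInstance _ (K.inv_mem hgK) q)
  have hKcop := (coprime_and_index_of_isComplement' K P hK).1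
  have h3 : orderOf (g * q * g⁻¹ * q⁻¹) = 1 := by
    obtain ⟨j, hj⟩ := (IsPGroup.iff_orderOf.mp hQ) ⟨_, h1⟩
    rw [Subgroup.orderOf_mk] at hj
    have h4 : orderOf (g * q * g⁻¹ * q⁻¹) ∣ Nat.card K := by
      have := orderOf_dvd_natCard (⟨_, h2⟩ : K)
      rwa [Subgroup.orderOf_mk] at this
    have h5 : (orderOf (g * q * g⁻¹ * q⁻¹)).Coprime (Nat.card K) := by
      rw [hj]; exact (Nat.Coprime.pow_right j hKcop).symm
    exact Nat.Coprime.eq_one_of_dvd h5 h4
  have h6 : g * q * g⁻¹ * q⁻¹ = 1 := orderOf_eq_one_iff.mp h3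
  calc q * g = (g * q * g⁻¹ * q⁻¹) * (q * g) := by rw [h6, one_mul]
    _ = g * q := by group

end Criteria

section Has

variable {p : ℕ} [Fact p.Prime]

/-- subgroups inherit normal `p`-complements -/
theorem hasNormalPComplement_subgroup {G : Type u} [Group G] [Finite G]
    (h : Cfsg.HasNormalPComplement p G) (H : Subgroup G) : Cfsg.HasNormalPComplement p ↥H := by
  obtain ⟨P, K, hKn, hK⟩ := h
  obtain ⟨hcop, k, hk⟩ := coprime_and_index_of_isComplement' K P hK
  have hp : p.Prime := Fact.out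
  obtain ⟨PH⟩ : Nonempty (Sylow p ↥H) := inferInstance
  have hn : (K.subgroupOf H).Normal := inferInstance
  have h1 : (Nat.card (K.subgroupOf H)).Coprime p := by
    have : Nat.card (K.subgroupOf H) ∣ Nat.card K :=
      Subgroup.card_comap_dvd_of_injective K H.subtype H.subtype_injective
    exact Nat.Coprime.coprime_dvd_left this hcop
  have h2 : ∃ j : ℕ, (K.subgroupOf H).index = p ^ j := by
    have : (K.subgroupOf H).index ∣ p ^ k := by
      rw [← hk]
      exact Subgroup.relIndex_dvd_index_of_normal K H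
    obtain ⟨j, _, hj⟩ := (Nat.dvd_prime_pow hp).mp this
    exact ⟨j, hj⟩
  obtain ⟨j, hj⟩ := h2
  exact ⟨PH, K.subgroupOf H, hn, isComplement'_sylow_of_coprime_of_index_pow _ h1 hj PH⟩

/-- `LocalCentral` from normal `p`-complements in all `p`-local subgroups -/
theorem localCentral_of_local_complements {G : Type u} [Group G] [Finite G]
    (h : ∀ Q : Subgroup G, IsPGroup p Q → Q ≠ ⊥ →
      Cfsg.HasNormalPComplement p (Subgroup.normalizer (Q : Set G))) :
    LocalCentral p G := by
  intro Q hQ g hg hcop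
  by_cases hQb : Q = ⊥
  · rw [Subgroup.mem_centralizer_iff]
    intro q hq
    rw [hQb] at hq
    have : q = 1 := Subgroup.mem_bot.mp hq
    rw [this]; simp
  · obtain ⟨PN, KN, hKNn, hKN⟩ := h Q hQ hQb
    have hLC : LocalCentral p ↥(Subgroup.normalizer (Q : Set G)) :=
      localCentral_of_normal_complement PN KN hKN
    have hQN : IsPGroup p (Q.subgroupOf (Subgroup.normalizer (Q : Set G))) := hQ.comap_subtype
    have hnorm : (Q.subgroupOf (Subgroup.normalizer (Q : Set G))).Normal := Subgroup.normal_in_normalizer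
    have hgN : (⟨g, hg⟩ : Subgroup.normalizer (Q : Set G)) ∈
        Subgroup.normalizer ((Q.subgroupOf (Subgroup.normalizer (Q : Set G)) : Subgroup _) : Set _) := by
      rw [Subgroup.normalizer_eq_top_iff.mpr hnorm]
      exact Subgroup.mem_top _
    have hc := hLC _ hQN ⟨g, hg⟩ hgN (by rwa [Subgroup.orderOf_mk])
    rw [Subgroup.mem_centralizer_iff] at hc ⊢
    intro q hq
    have := hc ⟨q, Subgroup.le_normalizer hq⟩ (by rw [SetLike.mem_coe, Subgroup.mem_subgroupOf]; exact hq)
    exact congrArg Subtype.val this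

/-- **Frobenius**, local form -/
theorem hasNormalPComplement_iff_local {G : Type u} [Group G] [Finite G] :
    Cfsg.HasNormalPComplement p G ↔ ∀ Q : Subgroup G, IsPGroup p Q → Q ≠ ⊥ →
      Cfsg.HasNormalPComplement p (Subgroup.normalizer (Q : Set G)) := by
  constructor
  · intro h Q _ _
    exact hasNormalPComplement_subgroup h _
  · intro h
    obtain ⟨P⟩ : Nonempty (Sylow p G) := inferInstance
    obtain ⟨K, hKn, hK⟩ := exists_normal_complement_of_localCentral (localCentral_of_local_complements h) P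
    exact ⟨P, K, hKn, hK⟩

end Has

end Cfsg.Agent.Lib.Helper13
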