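import Mathlib
import Cfsg.Prelude.Def_Transfer
import Cfsg.Prelude.Def_Local
import Cfsg.Agent.Lib.Helper13.Frobenius

/-!
# Groups with a normal `p`-complement

Basic closure properties of `Cfsg.HasNormalPComplement` for finite groups: a usable characterisation,
images, preimages under injective maps, extensions by normal `p'`-subgroups.
-/

set_option autoImplicit false

namespace Cfsg.Agent.Lib.Helper13

open Cfsg

universe u v

variable {p : ℕ} [Fact p.Prime]

/-- a finite group has a normal `p`-complement iff it has a normal subgroup of order prime to `p` and index a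
power of `p` -/
theorem hasNormalPComplement_iff_exists {G : Type u} [Group G] [Finite G] :
    HasNormalPComplement p G ↔
      ∃ K : Subgroup G, K.Normal ∧ (Nat.card K).Coprime p ∧ ∃ k : ℕ, K.index = p ^ k := by
  constructor
  · rintro ⟨P, K, hKn, hK⟩
    exact ⟨K, hKn, coprime_and_index_of_isComplement' K P hK⟩
  · rintro ⟨K, hKn, hcop, k, hk⟩
    obtain ⟨P⟩ : Nonempty (Sylow p G) := inferInstance
    exact ⟨P, K, hKn, isComplement'_sylow_of_coprime_of_index_pow K hcop hk P⟩

/-- images of groups with a normal `p`-complement have one -/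
theorem hasNormalPComplement_of_surjective {G : Type u} {H : Type v} [Group G] [Group H] [Finite G]
    (f : G →* H) (hf : Function.Surjective f) (h : HasNormalPComplement p G) :
    HasNormalPComplement p H := by
  have hp : p.Prime := Fact.out
  have : Finite H := Finite.of_surjective f hf
  obtain ⟨K, hKn, hcop, k, hk⟩ := hasNormalPComplement_iff_exists.mp h
  rw [hasNormalPComplement_iff_exists]
  refine ⟨K.map f, hKn.map f hf, ?_, ?_⟩
  · exact Nat.Coprime.coprime_dvd_left (Subgroup.card_map_dvd K f) hcop
  · have h1 : (K.map f).index ∣ p ^ k := by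
      rw [← hk]; exact Subgroup.index_map_dvd K hf
    obtain ⟨j, _, hj⟩ := (Nat.dvd_prime_pow hp).mp h1
    exact ⟨j, hj⟩

/-- groups embedding into a group with a normal `p`-complement have one -/
theorem hasNormalPComplement_of_injective {G : Type u} {H : Type v} [Group G] [Group H] [Finite H]
    (f : G →* H) (hf : Function.Injective f) (h : HasNormalPComplement p H) :
    HasNormalPComplement p G := by
  have hp : p.Prime := Fact.out
  have : Finite G := Finite.of_injective f hf
  obtain ⟨K, hKn, hcop, k, hk⟩ := hasNormalPComplement_iff_exists.mp h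
  rw [hasNormalPComplement_iff_exists]
  refine ⟨K.comap f, hKn.comap f, ?_, ?_⟩
  · exact Nat.Coprime.coprime_dvd_left (Subgroup.card_comap_dvd_of_injective K f hf) hcop
  · have h1 : (K.comap f).index ∣ p ^ k := by
      rw [← hk, Subgroup.index_comap]
      exact Subgroup.relIndex_dvd_index_of_normal K f.range
    obtain ⟨j, _, hj⟩ := (Nat.dvd_prime_pow hp).mp h1
    exact ⟨j, hj⟩

theorem hasNormalPComplement_of_equiv {G : Type u} {H : Type v} [Group G] [Group H] [Finite G]
    (e : G ≃* H) (h : HasNormalPComplement p G) : HasNormalPComplement p H :=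
  hasNormalPComplement_of_surjective e.toMonoidHom e.surjective h

/-- an extension of a group with a normal `p`-complement by a normal `p'`-subgroup has one -/
theorem hasNormalPComplement_of_quotient {G : Type u} [Group G] [Finite G] (N : Subgroup G) [N.Normal]
    (hN : (Nat.card N).Coprime p) (h : HasNormalPComplement p (G ⧸ N)) : HasNormalPComplement p G := by
  obtain ⟨K, hKn, hcop, k, hk⟩ := hasNormalPComplement_iff_exists.mp h
  rw [hasNormalPComplement_iff_exists]
  have hs : Function.Surjective (QuotientGroup.mk' N) := QuotientGroup.mk'_surjective N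
  have hidx : (K.comap (QuotientGroup.mk' N)).index = p ^ k := by
    rw [Subgroup.index_comap_of_surjective K hs]; exact hk
  refine ⟨K.comap (QuotientGroup.mk' N), hKn.comap _, ?_, k, hidx⟩
  have h1 : Nat.card (K.comap (QuotientGroup.mk' N)) * (K.comap (QuotientGroup.mk' N)).index = Nat.card G :=
    Subgroup.card_mul_index _
  have h2 : Nat.card K * K.index = Nat.card (G ⧸ N) := Subgroup.card_mul_index _
  have h3 : Nat.card N * Nat.card (G ⧸ N) = Nat.card G := by
    rw [← Subgroup.index_eq_card]; exact Subgroup.card_mul_index N
  have h4 : Nat.card (K.comap (QuotientGroup.mk' N)) = Nat.card N * Nat.card K := by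
    have hpos : 0 < p ^ k := pow_pos (Fact.out : p.Prime).pos k
    have : Nat.card (K.comap (QuotientGroup.mk' N)) * p ^ k = (Nat.card N * Nat.card K) * p ^ k := by
      rw [← hidx, h1, ← h3, ← h2, hidx, hk, mul_assoc]
    exact Nat.eq_of_mul_eq_mul_right hpos this
  rw [h4]
  exact Nat.Coprime.mul_left hN hcop

/-- a group of order prime to `p` has a normal `p`-complement -/
theorem hasNormalPComplement_of_coprime {G : Type u} [Group G] [Finite G] (h : (Nat.card G).Coprime p) :
    HasNormalPComplement p G := by
  rw [hasNormalPComplement_iff_exists]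
  refine ⟨⊤, inferInstance, ?_, 0, ?_⟩
  · rw [Subgroup.card_top]; exact h
  · rw [Subgroup.index_top, pow_zero]

/-- a `p`-group has a normal `p`-complement -/
theorem hasNormalPComplement_of_isPGroup {G : Type u} [Group G] [Finite G] (h : IsPGroup p G) :
    HasNormalPComplement p G := by
  rw [hasNormalPComplement_iff_exists]
  obtain ⟨k, hk⟩ := h.exists_card_eq
  refine ⟨⊥, inferInstance, ?_, k, ?_⟩
  · rw [Subgroup.card_bot]; exact Nat.coprime_one_left p
  · rw [Subgroup.index_bot]; exact hk

/-- a three step normal series with factors a `p`-group, a `p'`-group and a `p`-group -/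
theorem isPSolvable_of_series {G : Type u} [Group G] [Finite G] (P L : Subgroup G) (hPn : P.Normal)
    (hLn : L.Normal) (hPL : P ≤ L) (hP : IsPGroup p ↥P) (hL : (P.relIndex L).Coprime p)
    (hG : ∃ k : ℕ, L.index = p ^ k) : IsPSolvable p G := by
  refine ⟨3, ![⊥, P, L, ⊤], rfl, rfl, ?_, ?_, ?_⟩
  · apply Fin.monotone_iff_le_succ.mpr
    intro i
    fin_cases i
    · exact bot_le
    · exact hPL
    · exact le_top
  · intro i
    fin_cases i
    · exact (inferInstance : (⊥ : Subgroup G).Normal)
    · exact hPn
    · exact hLn
    · exact (inferInstance : (⊤ : Subgroup G).Normal)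
  · intro i
    fin_cases i
    · left
      obtain ⟨m, hm⟩ := hP.exists_card_eq
      refine ⟨m, ?_⟩
      show (⊥ : Subgroup G).relIndex P = p ^ m
      rw [Subgroup.relIndex_bot_left]; exact hm
    · right
      exact hL
    · left
      obtain ⟨k, hk⟩ := hG
      refine ⟨k, ?_⟩
      show L.relIndex ⊤ = p ^ k
      rw [Subgroup.relIndex_top_right]; exact hk

end Cfsg.Agent.Lib.Helper13
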