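import Mathlib
import Cfsg.Prelude.Def_ConjugacyFunctors
import Cfsg.Agent.Lib.Helper13.CharFunctor
import Cfsg.Agent.Lib.Helper13.PNilpotent

/-!
# More on isomorphism-invariant `p`-group functors

The induced functor commutes with homomorphisms that are injective on the subgroup in question; normalizers of
`W T`; normal `p`-complements in `N(W S)` for the various Sylow subgroups `S`.
-/

set_option autoImplicit false

namespace Cfsg.Agent.Lib.Helper13

open Cfsg

universe u

variable {p : ℕ} {W : ∀ (Q : Type u) [Group Q], Subgroup Q}

/-- the induced functor commutes with homomorphisms injective on the subgroup -/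
theorem inducedFunctor_map_of_injOn (hW : IsCharPFunctor.{u} p W) {X Y : Type u} [Group X] [Group Y]
    (f : X →* Y) (T : Subgroup X) [Finite ↥T] (hT : IsPGroup p ↥T) (hinj : ∀ t ∈ T, f t = 1 → t = 1) :
    inducedFunctor W (T.map f) = (inducedFunctor W T).map f := by
  unfold inducedFunctor
  have hg : Function.Bijective (f.subgroupMap T) := by
    refine ⟨?_, f.subgroupMap_surjective T⟩
    rw [injective_iff_map_eq_one]
    intro t ht
    apply Subtype.ext
    apply hinj _ t.2
    have := congrArg Subtype.val ht
    simpa using this
  have h1 := hW.2 ↥T ↥(T.map f) hT (MulEquiv.ofBijective (f.subgroupMap T) hg)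
  rw [← h1, Subgroup.map_map, Subgroup.map_map]
  congr 1

/-- the induced functor commutes with injective homomorphisms -/
theorem inducedFunctor_map_of_injective (hW : IsCharPFunctor.{u} p W) {X Y : Type u} [Group X] [Group Y]
    (f : X →* Y) (hf : Function.Injective f) (T : Subgroup X) [Finite ↥T] (hT : IsPGroup p ↥T) :
    inducedFunctor W (T.map f) = (inducedFunctor W T).map f :=
  inducedFunctor_map_of_injOn hW f T hT (fun _ _ ht => hf (ht.trans (map_one f).symm))

/-- `N(T) ≤ N(W T)` -/
theorem normalizer_le_normalizer_inducedFunctor (hW : IsCharPFunctor.{u} p W) {X : Type u} [Group X]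
    (T : Subgroup X) [Finite ↥T] (hT : IsPGroup p ↥T) :
    Subgroup.normalizer (T : Set X) ≤ Subgroup.normalizer ((inducedFunctor W T : Subgroup X) : Set X) := by
  intro y hy
  rw [← map_conj_eq_self_iff_mem_normalizer] at hy ⊢
  rw [← inducedFunctor_map_equiv hW (MulAut.conj y) T hT, hy]

/-- `W T` is normal when `T` is -/
theorem inducedFunctor_normal (hW : IsCharPFunctor.{u} p W) {X : Type u} [Group X]
    (T : Subgroup X) [Finite ↥T] (hT : IsPGroup p ↥T) (hn : T.Normal) : (inducedFunctor W T).Normal := by
  rw [← Subgroup.normalizer_eq_top_iff, eq_top_iff, ← Subgroup.normalizer_eq_top_iff.mpr hn]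
  exact normalizer_le_normalizer_inducedFunctor hW T hT

variable [Fact p.Prime]

/-- a normal `p`-complement in `N(W T)` is inherited by `N(W (conjugate of T))` -/
theorem hasNormalPComplement_normalizer_inducedFunctor_equiv (hW : IsCharPFunctor.{u} p W) {X Y : Type u}
    [Group X] [Group Y] [Finite X] (e : X ≃* Y) (T : Subgroup X) (hT : IsPGroup p ↥T)
    (h : HasNormalPComplement p ↥(Subgroup.normalizer ((inducedFunctor W T : Subgroup X) : Set X))) :
    HasNormalPComplement p
      ↥(Subgroup.normalizer ((inducedFunctor W (T.map e.toMonoidHom) : Subgroup Y) : Set Y)) := by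
  rw [inducedFunctor_map_equiv hW e T hT, normalizer_map_equiv]
  exact hasNormalPComplement_of_equiv
    (e.subgroupMap (Subgroup.normalizer ((inducedFunctor W T : Subgroup X) : Set X))) h

/-- a normal `p`-complement in `N(W S)` for one Sylow subgroup gives one for all -/
theorem hasNormalPComplement_normalizer_inducedFunctor_sylow (hW : IsCharPFunctor.{u} p W) {X : Type u}
    [Group X] [Finite X] (S S' : Sylow p X)
    (h : HasNormalPComplement p ↥(Subgroup.normalizer ((inducedFunctor W (S : Subgroup X) : Subgroup X) : Set X))) :
    HasNormalPComplement p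
      ↥(Subgroup.normalizer ((inducedFunctor W (S' : Subgroup X) : Subgroup X) : Set X)) := by
  obtain ⟨g, hg⟩ := MulAction.exists_smul_eq X S S'
  have h1 : (S' : Subgroup X) = (S : Subgroup X).map (MulAut.conj g).toMonoidHom := by
    rw [← hg, Sylow.coe_subgroup_smul]
    rfl
  rw [h1]
  exact hasNormalPComplement_normalizer_inducedFunctor_equiv hW (MulAut.conj g) _ S.isPGroup' h

/-- a normal `p`-complement of `N_X(W T')`, `T'` the image of `T ≤ M`, gives one for `N_M(W T)` -/
theorem hasNormalPComplement_normalizer_inducedFunctor_subgroup (hW : IsCharPFunctor.{u} p W) {X : Type u}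
    [Group X] [Finite X] (M : Subgroup X) (T : Subgroup ↥M) (hT : IsPGroup p ↥T)
    (h : HasNormalPComplement p
      ↥(Subgroup.normalizer ((inducedFunctor W (T.map M.subtype) : Subgroup X) : Set X))) :
    HasNormalPComplement p ↥(Subgroup.normalizer ((inducedFunctor W T : Subgroup ↥M) : Set ↥M)) := by
  rw [inducedFunctor_map_of_injective hW M.subtype M.subtype_injective T hT] at h
  have hle : ∀ x : ↥(Subgroup.normalizer ((inducedFunctor W T : Subgroup ↥M) : Set ↥M)),
      ((x : ↥M) : X) ∈ Subgroup.normalizer (((inducedFunctor W T).map M.subtype : Subgroup X) : Set X) := by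
    intro x
    have := Subgroup.le_normalizer_map (H := inducedFunctor W T) M.subtype
    exact this ⟨x, x.2, rfl⟩
  let f : ↥(Subgroup.normalizer ((inducedFunctor W T : Subgroup ↥M) : Set ↥M)) →*
      ↥(Subgroup.normalizer (((inducedFunctor W T).map M.subtype : Subgroup X) : Set X)) :=
    { toFun := fun x => ⟨((x : ↥M) : X), hle x⟩
      map_one' := rfl
      map_mul' := fun _ _ => rfl }
  have hf : Function.Injective f := by
    intro x y hxy
    apply Subtype.ext
    apply Subtype.ext
    have h1 : ((f x : ↥(Subgroup.normalizer (((inducedFunctor W T).map M.subtype : Subgroup X) : Set X))) : X) =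
        (f y : ↥(Subgroup.normalizer (((inducedFunctor W T).map M.subtype : Subgroup X) : Set X))) := by
      rw [hxy]
    exact h1
  exact hasNormalPComplement_of_injective f hf h

end Cfsg.Agent.Lib.Helper13
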