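import Mathlib
import Cfsg.Agent.Lib.Helper1.Coprime
import Cfsg.Agent.Lib.Helper1.CoprimeSylow
import Cfsg.Agent.Lib.Helper13.PGroup

/-!
# Groups with a normal `p`-complement in which a Sylow `p`-subgroup is a maximal subgroup

The Sylow subgroup acts irreducibly on the normal `p`-complement, which is therefore abelian.
-/

set_option autoImplicit false

namespace Cfsg.Agent.Lib.Helper13

open Cfsg.Agent.Lib.Helper1
open scoped commutatorElement

section
variable {H : Type*} [Group H] [Finite H] {p : ℕ} [Fact p.Prime]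

/-- a Sylow `p`-subgroup and a normal subgroup of `p`-power index generate the group -/
theorem sylow_sup_eq_top_of_index_pow (K : Subgroup H) {k : ℕ} (hKi : K.index = p ^ k) (T : Sylow p H) :
    (T : Subgroup H) ⊔ K = ⊤ := by
  have hp : p.Prime := Fact.out
  rw [← Subgroup.index_eq_one]
  have h1 : ((T : Subgroup H) ⊔ K).index ∣ (T : Subgroup H).index := Subgroup.index_dvd_of_le le_sup_left
  have h2 : ((T : Subgroup H) ⊔ K).index ∣ p ^ k := hKi ▸ Subgroup.index_dvd_of_le le_sup_right
  obtain ⟨j, _, hj⟩ := (Nat.dvd_prime_pow hp).mp h2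
  rcases j with _ | j
  · rw [hj, pow_zero]
  · exfalso
    apply T.not_dvd_index
    apply dvd_trans _ h1
    rw [hj, pow_succ]
    exact dvd_mul_left p _

/-- if a Sylow `p`-subgroup `T` is maximal, then it acts irreducibly on a normal `p`-complement -/
theorem eq_bot_or_eq_of_le_normalizer (K : Subgroup H) (hKcop : (Nat.card K).Coprime p)
    (T : Sylow p H) (hT : IsCoatom (T : Subgroup H)) (N : Subgroup H) (hNK : N ≤ K)
    (hTN : (T : Subgroup H) ≤ Subgroup.normalizer (N : Set H)) : N = ⊥ ∨ N = K := by
  have hp : p.Prime := Fact.out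
  have hcopTK : (Nat.card (T : Subgroup H)).Coprime (Nat.card K) := by
    obtain ⟨j, hj⟩ := T.isPGroup'.exists_card_eq
    rw [hj]
    exact (Nat.Coprime.pow_right j hKcop).symm
  rcases eq_or_lt_of_le (le_sup_left : (T : Subgroup H) ≤ (T : Subgroup H) ⊔ N) with h | h
  · left
    have hNT : N ≤ (T : Subgroup H) := by rw [h]; exact le_sup_right
    have hbot : (T : Subgroup H) ⊓ K = ⊥ := disjoint_iff.mp (Subgroup.disjoint_of_coprime_natCard hcopTK)
    rw [eq_bot_iff, ← hbot]
    exact le_inf hNT hNK
  · right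
    have htop : (T : Subgroup H) ⊔ N = ⊤ := hT.2 _ h
    have hNn : N.Normal := by
      rw [← Subgroup.normalizer_eq_top_iff, eq_top_iff, ← htop]
      exact sup_le hTN Subgroup.le_normalizer
    -- the index of `N` is a power of `p`
    have h1 : N.index = N.relIndex (T : Subgroup H) := by
      rw [← Subgroup.relIndex_top_right, ← htop, Subgroup.relIndex_sup_right]
    have h2 : N.index ∣ Nat.card (T : Subgroup H) := by
      rw [h1]; exact Subgroup.relIndex_dvd_card N (T : Subgroup H)
    have h3 : N.relIndex K ∣ N.index := Subgroup.relIndex_dvd_index_of_normal N K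
    have h4 : N.relIndex K ∣ Nat.card K := Subgroup.relIndex_dvd_card N K
    have h5 : N.relIndex K = 1 :=
      Nat.eq_one_of_dvd_coprimes hcopTK (dvd_trans h3 h2) h4
    exact le_antisymm hNK (Subgroup.relIndex_eq_one.mp h5)

/-- if a Sylow `p`-subgroup is maximal, a normal `p`-complement is abelian -/
theorem commute_of_isCoatom_sylow (K : Subgroup H) [hKn : K.Normal] (hKcop : (Nat.card K).Coprime p)
    (T : Sylow p H) (hT : IsCoatom (T : Subgroup H)) : ∀ a ∈ K, ∀ b ∈ K, a * b = b * a := by
  have hp : p.Prime := Fact.out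
  have hirr := eq_bot_or_eq_of_le_normalizer K hKcop T hT
  have hTtop : ∀ N : Subgroup H, N.Normal → (T : Subgroup H) ≤ Subgroup.normalizer (N : Set H) := by
    intro N hN
    rw [Subgroup.normalizer_eq_top_iff.mpr hN]; exact le_top
  by_cases hKbot : K = ⊥
  · intro a ha b hb
    rw [hKbot, Subgroup.mem_bot] at ha hb
    rw [ha, hb]
  -- a prime dividing the order of `K`
  have hcard : Nat.card K ≠ 1 := fun h => hKbot (Subgroup.card_eq_one.mp h)
  set q := (Nat.card K).minFac with hq
  have hqp : q.Prime := Nat.minFac_prime hcard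
  have : Fact q.Prime := ⟨hqp⟩
  have hqdvd : q ∣ Nat.card K := Nat.minFac_dvd _
  have hact : CoprimeAct (T : Subgroup H) K := by
    refine ⟨hTtop K hKn, ?_, Or.inl ?_⟩
    · obtain ⟨j, hj⟩ := T.isPGroup'.exists_card_eq
      rw [hj]
      exact (Nat.Coprime.pow_right j hKcop).symm
    · have : Group.IsNilpotent ↥(T : Subgroup H) := T.isPGroup'.isNilpotent
      infer_instance
  obtain ⟨Q, hQ⟩ := hact.exists_invariant_sylow q
  have hQne : (Q : Subgroup ↥K) ≠ ⊥ := Q.ne_bot_of_dvd_card hqdvd
  have hQK : (Q : Subgroup ↥K).map K.subtype = K := by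
    rcases hirr _ (Subgroup.map_subtype_le _) hQ with h | h
    · exfalso
      exact hQne ((Subgroup.map_eq_bot_iff_of_injective _ K.subtype_injective).mp h)
    · exact h
  have hKq : IsPGroup q ↥K := by
    have h1 : (Q : Subgroup ↥K) = ⊤ := by
      apply Subgroup.map_injective K.subtype_injective
      rw [hQK, ← MonoidHom.range_eq_map, Subgroup.range_subtype]
    have h2 : IsPGroup q ↥(⊤ : Subgroup ↥K) := h1 ▸ Q.isPGroup'
    exact h2.of_equiv Subgroup.topEquiv
  -- the derived subgroup is proper
  have hnt : Nontrivial ↥K := (Subgroup.nontrivial_iff_ne_bot K).mpr hKbot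
  have : Group.IsNilpotent ↥K := hKq.isNilpotent
  have hder : commutator ↥K < ⊤ := Group.IsSolvable.commutator_lt_top_of_nontrivial _
  have hDK : ⁅K, K⁆ ≠ K := by
    intro h
    apply hder.ne
    apply Subgroup.map_injective K.subtype_injective
    rw [commutator_def, Subgroup.map_commutator, ← MonoidHom.range_eq_map, Subgroup.range_subtype, h]
  have hDn : (⁅K, K⁆ : Subgroup H).Normal := Subgroup.commutator_normal K K
  have hDle : ⁅K, K⁆ ≤ K := Subgroup.commutator_le_left K K
  have hD : ⁅K, K⁆ = ⊥ := by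
    rcases hirr _ hDle (hTtop _ hDn) with h | h
    · exact h
    · exact absurd h hDK
  intro a ha b hb
  have h1 : ⁅a, b⁆ ∈ ⁅K, K⁆ := Subgroup.commutator_mem_commutator ha hb
  rw [hD, Subgroup.mem_bot, commutatorElement_def] at h1
  calc a * b = (a * b * a⁻¹ * b⁻¹) * (b * a) := by group
    _ = b * a := by rw [h1, one_mul]

end

end Cfsg.Agent.Lib.Helper13
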