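import Mathlib
import Cfsg.Prelude.Def_Transfer
import Cfsg.Agent.Lib.Helper13.Residual

set_option autoImplicit false

namespace Cfsg.Agent.Lib.Helper13

variable {H : Type*} [Group H] [Finite H] {p : ℕ} [Fact p.Prime]

/-- A normal `p'`-subgroup containing all `p'`-elements is a complement to every Sylow `p`-subgroup. -/
theorem isComplement'_of_contains_pPrime_elements (P : Sylow p H) (K : Subgroup H) [K.Normal]
    (hKcard : ¬ p ∣ Nat.card K) (hK : ∀ x : H, (orderOf x).Coprime p → x ∈ K) :
    K.IsComplement' (P : Subgroup H) := by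
  have hp : p.Prime := Fact.out
  -- disjointness
  obtain ⟨n, hn⟩ := P.isPGroup'.exists_card_eq
  have hcop : Nat.Coprime (Nat.card K) (Nat.card (P : Subgroup H)) := by
    rw [hn]
    exact Nat.Coprime.pow_right n ((Nat.Prime.coprime_iff_not_dvd hp).2 hKcard).symm
  have hdisj : Disjoint K (P : Subgroup H) := Subgroup.disjoint_of_coprime_natCard hcop
  -- H / K is a p-group
  have hres : Cfsg.pResidual p H ≤ K := by
    unfold Cfsg.pResidual
    rw [Subgroup.closure_le]
    intro x hx
    exact hK x hx
  have hq : IsPGroup p (H ⧸ K) := by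
    intro y
    induction y using QuotientGroup.induction_on with
    | H x =>
      obtain ⟨k, hk⟩ := exists_pow_mem_pResidual p x
      refine ⟨k, ?_⟩
      rw [← QuotientGroup.mk_pow]
      exact (QuotientGroup.eq_one_iff _).mpr (hres hk)
  obtain ⟨k, hk⟩ := hq.exists_card_eq
  have hKi : K.index = p ^ k := by rw [Subgroup.index, hk]
  have h1 : (K ⊔ (P : Subgroup H)).index ∣ (P : Subgroup H).index := Subgroup.index_dvd_of_le le_sup_right
  have h2 : (K ⊔ (P : Subgroup H)).index ∣ p ^ k := hKi ▸ Subgroup.index_dvd_of_le le_sup_left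
  obtain ⟨j, -, hj⟩ := (Nat.dvd_prime_pow hp).mp h2
  have hj0 : j = 0 := by
    by_contra hne
    apply P.not_dvd_index
    exact dvd_trans (hj ▸ dvd_pow_self p hne) h1
  rw [hj0, pow_zero, Subgroup.index_eq_one] at hj
  apply Subgroup.isComplement'_of_disjoint_and_mul_eq_univ hdisj
  rw [← Subgroup.normal_mul, hj, Subgroup.coe_top]


/-- Burnside: a central Sylow `p`-subgroup has a normal complement consisting of all `p'`-elements. -/
theorem exists_normal_pPrime_of_central_sylow (D : Sylow p H) (hD : (D : Subgroup H) ≤ Subgroup.center H) :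
    ∃ K : Subgroup H, K.Normal ∧ ¬ p ∣ Nat.card K ∧ ∀ x : H, (orderOf x).Coprime p → x ∈ K := by
  have hp : p.Prime := Fact.out
  have hcent : Subgroup.centralizer ((D : Subgroup H) : Set H) = ⊤ :=
    Subgroup.centralizer_eq_top_iff_subset.mpr hD
  have hP : Subgroup.normalizer ((D : Subgroup H) : Set H) ≤ Subgroup.centralizer ((D : Subgroup H) : Set H) := by
    rw [hcent]; exact le_top
  refine ⟨(MonoidHom.transferSylow D hP).ker, inferInstance, MonoidHom.not_dvd_card_ker_transferSylow D hP, ?_⟩
  intro x hx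
  rw [MonoidHom.mem_ker]
  have h1 : orderOf (MonoidHom.transferSylow D hP x) ∣ orderOf x := orderOf_map_dvd _ x
  obtain ⟨k, hk⟩ := (IsPGroup.iff_orderOf.mp (D.isPGroup')) (MonoidHom.transferSylow D hP x)
  have hk0 : k = 0 := by
    by_contra hne
    have h2 : p ∣ orderOf x := dvd_trans (hk ▸ dvd_pow_self p hne) h1
    exact (Nat.Prime.coprime_iff_not_dvd hp).1 hx.symm h2
  rw [hk0, pow_zero, orderOf_eq_one_iff] at hk
  exact hk

end Cfsg.Agent.Lib.Helper13
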