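import Mathlib
import Cfsg.Prelude.Def_GeometricClasses

set_option autoImplicit false

namespace Cfsg.Agent.Lib.Helper13.TNM

open scoped Matrix Kronecker
open Cfsg Cfsg.Geo

section transport
variable {ι κ : Type} [Fintype ι] [DecidableEq ι] [Fintype κ] [DecidableEq κ] {F : Type*} [Field F]

/-- coordinates attached to `e` and `P` -/
def TT (e : ι ≃ κ) (P : GL ι F) (x : κ → F) : ι → F := (P : Matrix ι ι F) *ᵥ (x ∘ e)

/-- transport of invertible matrices -/
def psi (e : ι ≃ κ) (P : GL ι F) : GL κ F →* GL ι F :=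
  (MulAut.conj P).toMonoidHom.comp (glReindex e.symm).toMonoidHom

theorem psi_injective (e : ι ≃ κ) (P : GL ι F) : Function.Injective (psi (F := F) e P) := by
  intro a b h
  have h1 : (MulAut.conj P) (glReindex e.symm a) = (MulAut.conj P) (glReindex e.symm b) := h
  exact (glReindex e.symm).injective ((MulAut.conj P).injective h1)

theorem glReindex_val (e : ι ≃ κ) (M : GL κ F) :
    ((glReindex e.symm M : GL ι F) : Matrix ι ι F) = (M : Matrix κ κ F).submatrix e e := by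
  unfold glReindex
  simp [Matrix.reindex_apply]

theorem psi_val (e : ι ≃ κ) (P : GL ι F) (M : GL κ F) :
    ((psi e P M : GL ι F) : Matrix ι ι F) =
      (P : Matrix ι ι F) * (M : Matrix κ κ F).submatrix e e * ((P⁻¹ : GL ι F) : Matrix ι ι F) := by
  show ((P * glReindex e.symm M * P⁻¹ : GL ι F) : Matrix ι ι F) = _
  rw [Units.val_mul, Units.val_mul, glReindex_val]

theorem submatrix_mulVec_comp (e : ι ≃ κ) (A : Matrix κ κ F) (x : κ → F) :
    A.submatrix e e *ᵥ (x ∘ e) = (A *ᵥ x) ∘ e := by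
  rw [Matrix.submatrix_mulVec_equiv]
  have : (x ∘ e) ∘ e.symm = x := by funext k; simp
  rw [this]

theorem psi_mulVec (e : ι ≃ κ) (P : GL ι F) (M : GL κ F) (x : κ → F) :
    ((psi e P M : GL ι F) : Matrix ι ι F) *ᵥ TT e P x = TT e P ((M : Matrix κ κ F) *ᵥ x) := by
  unfold TT
  rw [psi_val, Matrix.mulVec_mulVec]
  have h1 : (P : Matrix ι ι F) * (M : Matrix κ κ F).submatrix e e * ((P⁻¹ : GL ι F) : Matrix ι ι F)
      * (P : Matrix ι ι F) = (P : Matrix ι ι F) * (M : Matrix κ κ F).submatrix e e := by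
    rw [mul_assoc, ← Units.val_mul, inv_mul_cancel, Units.val_one, mul_one]
  rw [h1, ← Matrix.mulVec_mulVec, submatrix_mulVec_comp]

theorem TT_surj (e : ι ≃ κ) (P : GL ι F) (v : ι → F) : ∃ x, TT e P x = v := by
  refine ⟨(((P⁻¹ : GL ι F) : Matrix ι ι F) *ᵥ v) ∘ e.symm, ?_⟩
  unfold TT
  have : ((((P⁻¹ : GL ι F) : Matrix ι ι F) *ᵥ v) ∘ e.symm) ∘ e = ((P⁻¹ : GL ι F) : Matrix ι ι F) *ᵥ v := by
    funext i; simp
  rw [this, Matrix.mulVec_mulVec, ← Units.val_mul, mul_inv_cancel, Units.val_one, Matrix.one_mulVec]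

theorem TT_add (e : ι ≃ κ) (P : GL ι F) (x y : κ → F) : TT e P (x + y) = TT e P x + TT e P y := by
  unfold TT
  have : (x + y) ∘ e = x ∘ e + y ∘ e := rfl
  rw [this, Matrix.mulVec_add]

theorem TT_smul (e : ι ≃ κ) (P : GL ι F) (c : F) (x : κ → F) : TT e P (c • x) = c • TT e P x := by
  unfold TT
  have : (c • x) ∘ e = c • (x ∘ e) := rfl
  rw [this, Matrix.mulVec_smul]

theorem TT_injective (e : ι ≃ κ) (P : GL ι F) : Function.Injective (TT (F := F) e P) := by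
  intro x y h
  unfold TT at h
  have h1 : ((P⁻¹ : GL ι F) : Matrix ι ι F) *ᵥ ((P : Matrix ι ι F) *ᵥ (x ∘ e)) =
      ((P⁻¹ : GL ι F) : Matrix ι ι F) *ᵥ ((P : Matrix ι ι F) *ᵥ (y ∘ e)) := by rw [h]
  rw [Matrix.mulVec_mulVec, Matrix.mulVec_mulVec, ← Units.val_mul, inv_mul_cancel, Units.val_one,
    Matrix.one_mulVec, Matrix.one_mulVec] at h1
  funext k
  have := congrFun h1 (e.symm k)
  simpa using this

/-- membership of a transported matrix in the group preserving a form -/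
theorem psi_mem_preserving_iff (e : ι ≃ κ) (P : GL ι F) {f : (ι → F) → (ι → F) → F}
    {φ : (κ → F) → (κ → F) → F} {c : F} (hc : c ≠ 0)
    (hf : ∀ x y, f (TT e P x) (TT e P y) = c * φ x y) (M : GL κ F) :
    psi e P M ∈ Cfsg.preserving (Units.coeHom (Matrix ι ι F)) f ↔
      ∀ x y, φ ((M : Matrix κ κ F) *ᵥ x) ((M : Matrix κ κ F) *ᵥ y) = φ x y := by
  constructor
  · intro h x y
    have h1 : f ((Units.coeHom (Matrix ι ι F)) (psi e P M) *ᵥ TT e P x)
        ((Units.coeHom (Matrix ι ι F)) (psi e P M) *ᵥ TT e P y) = f (TT e P x) (TT e P y) := h _ _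
    rw [Units.coeHom_apply, psi_mulVec, psi_mulVec, hf, hf] at h1
    exact mul_left_cancel₀ hc h1
  · intro h u v
    obtain ⟨x, rfl⟩ := TT_surj e P u
    obtain ⟨y, rfl⟩ := TT_surj e P v
    rw [Units.coeHom_apply, psi_mulVec, psi_mulVec, hf, hf, h]

theorem psi_change (e : ι ≃ κ) (P : GL ι F) (C M : GL κ F) :
    psi e (P * glReindex e.symm C) M = psi e P (C * M * C⁻¹) := by
  show (P * glReindex e.symm C) * glReindex e.symm M * (P * glReindex e.symm C)⁻¹
      = P * glReindex e.symm (C * M * C⁻¹) * P⁻¹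
  rw [map_mul, map_mul, map_inv]
  group

theorem TT_change (e : ι ≃ κ) (P : GL ι F) (C : GL κ F) (x : κ → F) :
    TT e (P * glReindex e.symm C) x = TT e P ((C : Matrix κ κ F) *ᵥ x) := by
  unfold TT
  rw [Units.val_mul, glReindex_val, ← Matrix.mulVec_mulVec, submatrix_mulVec_comp]

end transport

section gram
variable {κ : Type} [Fintype κ] [DecidableEq κ] {F : Type*} [Field F]

theorem formOfGram_eq (σ : F → F) (G : Matrix κ κ F) (x y : κ → F) :
    formOfGram σ G x y = x ⬝ᵥ (G *ᵥ (σ ∘ y)) := by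
  unfold formOfGram
  simp only [dotProduct, Matrix.mulVec, Function.comp_apply, Finset.mul_sum, mul_assoc]

theorem map_mulVec (σ : F → F) (h0 : σ 0 = 0) (hadd : ∀ a b, σ (a + b) = σ a + σ b)
    (hmul : ∀ a b, σ (a * b) = σ a * σ b) (A : Matrix κ κ F) (y : κ → F) :
    σ ∘ (A *ᵥ y) = (A.map σ) *ᵥ (σ ∘ y) := by
  funext i
  simp only [Function.comp_apply, Matrix.mulVec, dotProduct, Matrix.map_apply]
  have hsum : ∀ (s : Finset κ) (g : κ → F), σ (∑ j ∈ s, g j) = ∑ j ∈ s, σ (g j) := by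
    intro s g
    induction s using Finset.induction_on with
    | empty => simp [h0]
    | insert a s ha ih => rw [Finset.sum_insert ha, Finset.sum_insert ha, hadd, ih]
  rw [hsum]
  apply Finset.sum_congr rfl
  intro j _
  rw [hmul]

theorem formOfGram_mulVec (σ : F → F) (h0 : σ 0 = 0) (hadd : ∀ a b, σ (a + b) = σ a + σ b)
    (hmul : ∀ a b, σ (a * b) = σ a * σ b) (G A : Matrix κ κ F) (x y : κ → F) :
    formOfGram σ G (A *ᵥ x) (A *ᵥ y) = formOfGram σ (Aᵀ * G * A.map σ) x y := by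
  rw [formOfGram_eq, formOfGram_eq, map_mulVec σ h0 hadd hmul]
  rw [← Matrix.mulVec_mulVec, ← Matrix.mulVec_mulVec, Matrix.dotProduct_mulVec x Aᵀ, Matrix.vecMul_transpose]

theorem formOfGram_single (σ : F → F) (h0 : σ 0 = 0) (h1 : σ 1 = 1) (G : Matrix κ κ F) (a b : κ) :
    formOfGram σ G (Pi.single a 1) (Pi.single b 1) = G a b := by
  unfold formOfGram
  rw [Finset.sum_eq_single a]
  · rw [Finset.sum_eq_single b]
    · simp [h1]
    · intro b' _ hb'
      simp [Pi.single_apply, hb', h0]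
    · intro h; exact absurd (Finset.mem_univ b) h
  · intro a' _ ha'
    simp [Pi.single_apply, ha']
  · intro h; exact absurd (Finset.mem_univ a) h

theorem gram_ext (σ : F → F) (h0 : σ 0 = 0) (h1 : σ 1 = 1) {G G' : Matrix κ κ F}
    (h : ∀ x y, formOfGram σ G x y = formOfGram σ G' x y) : G = G' := by
  ext a b
  rw [← formOfGram_single σ h0 h1 G a b, ← formOfGram_single σ h0 h1 G' a b, h]

/-- a matrix preserves the form with Gram matrix `G` iff `Mᵀ G M^σ = G` -/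
theorem preserves_iff (σ : F → F) (h0 : σ 0 = 0) (h1 : σ 1 = 1) (hadd : ∀ a b, σ (a + b) = σ a + σ b)
    (hmul : ∀ a b, σ (a * b) = σ a * σ b) (G M : Matrix κ κ F) :
    (∀ x y, formOfGram σ G (M *ᵥ x) (M *ᵥ y) = formOfGram σ G x y) ↔ Mᵀ * G * M.map σ = G := by
  constructor
  · intro h
    apply gram_ext σ h0 h1
    intro x y
    rw [← formOfGram_mulVec σ h0 hadd hmul, h]
  · intro h x y
    rw [formOfGram_mulVec σ h0 hadd hmul, h]

end gram

section kron
variable {ι : Type} [Fintype ι] [DecidableEq ι] {F : Type*} [Field F]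

theorem tps_eq (n₁ n₂ : ℕ) (e : ι ≃ Fin n₁ × Fin n₂) (P : GL ι F) :
    tensorProductSubgroup n₁ n₂ e P = (kroneckerSubgroup n₁ n₂ F).map (psi e P) := by
  unfold tensorProductSubgroup psi
  rw [Subgroup.map_map]

theorem tps_change (n₁ n₂ : ℕ) (e : ι ≃ Fin n₁ × Fin n₂) (P : GL ι F) (C : GL (Fin n₁ × Fin n₂) F)
    (hC : C ∈ kroneckerSubgroup n₁ n₂ F) :
    tensorProductSubgroup n₁ n₂ e (P * glReindex e.symm C) = tensorProductSubgroup n₁ n₂ e P := by
  rw [tps_eq, tps_eq]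
  ext g
  simp only [Subgroup.mem_map]
  constructor
  · rintro ⟨M, hM, rfl⟩
    refine ⟨C * M * C⁻¹, ?_, (psi_change e P C M).symm⟩
    exact Subgroup.mul_mem _ (Subgroup.mul_mem _ hC hM) (Subgroup.inv_mem _ hC)
  · rintro ⟨M, hM, rfl⟩
    refine ⟨C⁻¹ * M * C, ?_, ?_⟩
    · exact Subgroup.mul_mem _ (Subgroup.mul_mem _ (Subgroup.inv_mem _ hC) hM) hC
    · rw [psi_change]
      congr 1
      group

/-- Kronecker product of invertible matrices -/
def kronGL {n₁ n₂ : ℕ} (a : GL (Fin n₁) F) (b : GL (Fin n₂) F) : GL (Fin n₁ × Fin n₂) F :=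
  ⟨(a : Matrix (Fin n₁) (Fin n₁) F) ⊗ₖ (b : Matrix (Fin n₂) (Fin n₂) F),
    ((a⁻¹ : GL (Fin n₁) F) : Matrix (Fin n₁) (Fin n₁) F) ⊗ₖ ((b⁻¹ : GL (Fin n₂) F) : Matrix (Fin n₂) (Fin n₂) F),
    by rw [← Matrix.mul_kronecker_mul, ← Units.val_mul, ← Units.val_mul, mul_inv_cancel, mul_inv_cancel,
      Units.val_one, Units.val_one, Matrix.one_kronecker_one],
    by rw [← Matrix.mul_kronecker_mul, ← Units.val_mul, ← Units.val_mul, inv_mul_cancel, inv_mul_cancel,
      Units.val_one, Units.val_one, Matrix.one_kronecker_one]⟩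

theorem kronGL_val {n₁ n₂ : ℕ} (a : GL (Fin n₁) F) (b : GL (Fin n₂) F) :
    ((kronGL a b : GL (Fin n₁ × Fin n₂) F) : Matrix (Fin n₁ × Fin n₂) (Fin n₁ × Fin n₂) F) =
      (a : Matrix (Fin n₁) (Fin n₁) F) ⊗ₖ (b : Matrix (Fin n₂) (Fin n₂) F) := rfl

theorem kronGL_inv_val {n₁ n₂ : ℕ} (a : GL (Fin n₁) F) (b : GL (Fin n₂) F) :
    (((kronGL a b)⁻¹ : GL (Fin n₁ × Fin n₂) F) : Matrix (Fin n₁ × Fin n₂) (Fin n₁ × Fin n₂) F) =
      ((a⁻¹ : GL (Fin n₁) F) : Matrix (Fin n₁) (Fin n₁) F) ⊗ₖ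
        ((b⁻¹ : GL (Fin n₂) F) : Matrix (Fin n₂) (Fin n₂) F) := rfl

theorem kronGL_mem {n₁ n₂ : ℕ} (a : GL (Fin n₁) F) (b : GL (Fin n₂) F) :
    kronGL a b ∈ kroneckerSubgroup n₁ n₂ F := ⟨a, b, rfl⟩

theorem eq_kronGL_of_mem {n₁ n₂ : ℕ} {g : GL (Fin n₁ × Fin n₂) F} (hg : g ∈ kroneckerSubgroup n₁ n₂ F) :
    ∃ a b, g = kronGL a b := by
  obtain ⟨a, b, hab⟩ := hg
  exact ⟨a, b, Units.ext hab⟩

end kron

section blocks
variable {κ : Type} [Fintype κ] [DecidableEq κ] {F : Type*} [Field F]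

/-- block subspaces attached to a colouring of the index set -/
def blk {t : ℕ} (col : κ → Fin t) (k : Fin t) : Submodule F (κ → F) where
  carrier := {x | ∀ a, col a ≠ k → x a = 0}
  add_mem' := by
    intro x y hx hy a ha
    rw [Pi.add_apply, hx a ha, hy a ha, add_zero]
  zero_mem' := by
    intro a _
    rfl
  smul_mem' := by
    intro c x hx a ha
    rw [Pi.smul_apply, hx a ha, smul_zero]

theorem mem_blk {t : ℕ} (col : κ → Fin t) (k : Fin t) (x : κ → F) :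
    x ∈ blk (F := F) col k ↔ ∀ a, col a ≠ k → x a = 0 := Iff.rfl

theorem mem_decStab_of_blockMonomial {t : ℕ} (col : κ → Fin t) (M : GL κ F) (π : Equiv.Perm (Fin t))
    (h1 : ∀ a a', col a ≠ π (col a') → (M : Matrix κ κ F) a a' = 0)
    (h2 : ∀ a a', col a ≠ π.symm (col a') → ((M⁻¹ : GL κ F) : Matrix κ κ F) a a' = 0) :
    M ∈ decompositionStabilizer (blk (F := F) col) := by
  refine ⟨π, fun k => ?_⟩
  apply le_antisymm
  · rintro _ ⟨x, hx, rfl⟩
    rw [mem_blk]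
    intro a ha
    rw [Matrix.toLin'_apply]
    simp only [Matrix.mulVec, dotProduct]
    apply Finset.sum_eq_zero
    intro a' _
    by_cases hc : col a' = k
    · rw [h1 a a' (by rw [hc]; exact ha), zero_mul]
    · rw [(mem_blk col k x).mp hx a' hc, mul_zero]
  · intro y hy
    refine ⟨((M⁻¹ : GL κ F) : Matrix κ κ F) *ᵥ y, ?_, ?_⟩
    · show _ ∈ blk (F := F) col k
      rw [mem_blk]
      intro a ha
      simp only [Matrix.mulVec, dotProduct]
      apply Finset.sum_eq_zero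
      intro a' _
      by_cases hc : col a' = π k
      · rw [h2 a a' (by rw [hc, Equiv.symm_apply_apply]; exact ha), zero_mul]
      · rw [(mem_blk col (π k) y).mp hy a' hc, mul_zero]
    · rw [Matrix.toLin'_apply, Matrix.mulVec_mulVec, ← Units.val_mul, mul_inv_cancel, Units.val_one,
        Matrix.one_mulVec]

theorem exists_col_of_mem_decStab {t : ℕ} (col : κ → Fin t) (M : GL κ F)
    (hM : M ∈ decompositionStabilizer (blk (F := F) col)) (a' : κ) :
    ∃ k, ∀ a, col a ≠ k → (M : Matrix κ κ F) a a' = 0 := by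
  obtain ⟨π, hπ⟩ := hM
  refine ⟨π (col a'), fun a ha => ?_⟩
  have hmem : (Pi.single a' 1 : κ → F) ∈ blk (F := F) col (col a') := by
    rw [mem_blk]
    intro b hb
    rw [Pi.single_apply, if_neg]
    rintro rfl; exact hb rfl
  have h2 : Matrix.toLin' (M : Matrix κ κ F) (Pi.single a' 1) ∈ blk (F := F) col (π (col a')) := by
    rw [← hπ]; exact Submodule.mem_map_of_mem hmem
  have h3 := (mem_blk col _ _).mp h2 a ha
  rw [Matrix.toLin'_apply, Matrix.mulVec_single_one] at h3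
  exact h3

theorem kronGL_mem_decStab_snd {n₁ n₂ : ℕ} (a : GL (Fin n₁) F) (b : GL (Fin n₂) F) (π : Equiv.Perm (Fin n₂))
    (h1 : ∀ j j', j ≠ π j' → (b : Matrix (Fin n₂) (Fin n₂) F) j j' = 0)
    (h2 : ∀ j j', j ≠ π.symm j' → ((b⁻¹ : GL (Fin n₂) F) : Matrix (Fin n₂) (Fin n₂) F) j j' = 0) :
    kronGL a b ∈ decompositionStabilizer (blk (F := F) (Prod.snd : Fin n₁ × Fin n₂ → Fin n₂)) := by
  apply mem_decStab_of_blockMonomial _ _ π
  · rintro ⟨i, j⟩ ⟨i', j'⟩ h
    rw [kronGL_val, Matrix.kroneckerMap_apply, h1 j j' h, mul_zero]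
  · rintro ⟨i, j⟩ ⟨i', j'⟩ h
    rw [kronGL_inv_val, Matrix.kroneckerMap_apply, h2 j j' h, mul_zero]

theorem kronGL_mem_decStab_fst {n₁ n₂ : ℕ} (a : GL (Fin n₁) F) (b : GL (Fin n₂) F) (π : Equiv.Perm (Fin n₁))
    (h1 : ∀ j j', j ≠ π j' → (a : Matrix (Fin n₁) (Fin n₁) F) j j' = 0)
    (h2 : ∀ j j', j ≠ π.symm j' → ((a⁻¹ : GL (Fin n₁) F) : Matrix (Fin n₁) (Fin n₁) F) j j' = 0) :
    kronGL a b ∈ decompositionStabilizer (blk (F := F) (Prod.fst : Fin n₁ × Fin n₂ → Fin n₁)) := by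
  apply mem_decStab_of_blockMonomial _ _ π
  · rintro ⟨i, j⟩ ⟨i', j'⟩ h
    rw [kronGL_val, Matrix.kroneckerMap_apply, h1 i i' h, zero_mul]
  · rintro ⟨i, j⟩ ⟨i', j'⟩ h
    rw [kronGL_inv_val, Matrix.kroneckerMap_apply, h2 i i' h, zero_mul]

end blocks

end Cfsg.Agent.Lib.Helper13.TNM
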