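import Mathlib

/-!
# Hypotheses on all sections of a group

Many statements carry a hypothesis of the form "every section `K / R` of `G` satisfies `Φ`", written
`∀ (K R : Subgroup G) [(R.subgroupOf K).Normal], Φ (↥K ⧸ R.subgroupOf K)`. For an isomorphism
invariant `Φ` this hypothesis passes to `G` itself, to subgroups and to quotients.
-/

set_option autoImplicit false

namespace Cfsg.Agent.Lib.Helper13

universe u

/-- `Φ` is invariant under group isomorphisms -/
def IsoInv (Φ : ∀ (X : Type u) [Group X], Prop) : Prop :=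
  ∀ (X Y : Type u) [Group X] [Group Y], (X ≃* Y) → Φ X → Φ Y

/-- every section of `G` satisfies `Φ` -/
def SecAll (Φ : ∀ (X : Type u) [Group X], Prop) (G : Type u) [Group G] : Prop :=
  ∀ (K R : Subgroup G) [(R.subgroupOf K).Normal], Φ (↥K ⧸ R.subgroupOf K)

variable {Φ : ∀ (X : Type u) [Group X], Prop} {G : Type u} [Group G]

/-- `G` is a section of itself -/
noncomputable def sectionTopBot (G : Type u) [Group G] [hn : ((⊥ : Subgroup G).subgroupOf ⊤).Normal] :
    (↥(⊤ : Subgroup G) ⧸ (⊥ : Subgroup G).subgroupOf ⊤) ≃* G :=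
  ((QuotientGroup.quotientMulEquivOfEq (Subgroup.bot_subgroupOf (⊤ : Subgroup G))).trans
    (QuotientGroup.quotientBot)).trans Subgroup.topEquiv

theorem secAll_self (hΦ : IsoInv Φ) (h : SecAll Φ G) : Φ G := by
  have hn : ((⊥ : Subgroup G).subgroupOf ⊤).Normal := by
    rw [Subgroup.bot_subgroupOf]; infer_instance
  exact hΦ _ _ (sectionTopBot G) (h ⊤ ⊥)

/-- the image of `R.subgroupOf K` under the isomorphism of `K` onto its image -/
theorem map_subgroupOf_equivMap (M : Subgroup G) (K R : Subgroup ↥M) :
    (R.subgroupOf K).map (K.equivMapOfInjective M.subtype M.subtype_injective).toMonoidHom =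
      (R.map M.subtype).subgroupOf (K.map M.subtype) := by
  ext ⟨y, hy⟩
  rw [Subgroup.mem_subgroupOf]
  constructor
  · rintro ⟨x, hx, hxy⟩
    have hx : (x : ↥M) ∈ R := Subgroup.mem_subgroupOf.mp hx
    have : (M.subtype (x : ↥M)) = y := by
      have := congrArg Subtype.val hxy
      simpa using this
    exact ⟨x, hx, this⟩
  · rintro ⟨r, hr, hry⟩
    obtain ⟨k, hk, hky⟩ := hy
    have hrk : r = k := M.subtype_injective (hry.trans hky.symm)
    subst hrk
    refine ⟨⟨r, hk⟩, Subgroup.mem_subgroupOf.mpr hr, ?_⟩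
    apply Subtype.ext
    simpa using hry

theorem secAll_subgroup (hΦ : IsoInv Φ) (h : SecAll Φ G) (M : Subgroup G) : SecAll Φ ↥M := by
  intro K R hR
  set e := K.equivMapOfInjective M.subtype M.subtype_injective with he
  have hmap := map_subgroupOf_equivMap M K R
  have hn : ((R.map M.subtype).subgroupOf (K.map M.subtype)).Normal := by
    rw [← hmap]
    exact hR.map e.toMonoidHom e.surjective
  have iso : (↥K ⧸ R.subgroupOf K) ≃* (↥(K.map M.subtype) ⧸ (R.map M.subtype).subgroupOf (K.map M.subtype)) :=
    QuotientGroup.congr (R.subgroupOf K) ((R.map M.subtype).subgroupOf (K.map M.subtype)) e hmap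
  exact hΦ _ _ iso.symm (h (K.map M.subtype) (R.map M.subtype))

theorem secAll_quotient (hΦ : IsoInv Φ) (h : SecAll Φ G) (N : Subgroup G) [N.Normal] : SecAll Φ (G ⧸ N) := by
  intro K R hR
  set π := QuotientGroup.mk' N with hπ
  set f : ↥(K.comap π) →* ↥K := π.subgroupComap K with hf
  have hfs : Function.Surjective f :=
    MonoidHom.subgroupComap_surjective_of_surjective π K (QuotientGroup.mk'_surjective N)
  set g : ↥(K.comap π) →* ↥K ⧸ R.subgroupOf K := (QuotientGroup.mk' (R.subgroupOf K)).comp f with hg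
  have hgs : Function.Surjective g := (QuotientGroup.mk'_surjective _).comp hfs
  have hker : (R.comap π).subgroupOf (K.comap π) = g.ker := by
    ext x
    rw [MonoidHom.mem_ker, hg, MonoidHom.comp_apply, QuotientGroup.mk'_apply, QuotientGroup.eq_one_iff,
      Subgroup.mem_subgroupOf, Subgroup.mem_subgroupOf, Subgroup.mem_comap]
    rfl
  have hn : ((R.comap π).subgroupOf (K.comap π)).Normal := by
    rw [hker]; infer_instance
  have iso : (↥(K.comap π) ⧸ (R.comap π).subgroupOf (K.comap π)) ≃* (↥K ⧸ R.subgroupOf K) :=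
    (QuotientGroup.quotientMulEquivOfEq hker).trans (QuotientGroup.quotientKerEquivOfSurjective g hgs)
  exact hΦ _ _ iso (h (K.comap π) (R.comap π))

end Cfsg.Agent.Lib.Helper13
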