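import Mathlib

/-!
# An elementary case of the Hall–Higman theorem

In a ring of characteristic `p`, a unit `γ` with `(γ - 1) ^ (p - 1) = 0` centralizes every finite abelian
`p'`-group of units that it normalizes (`units_commute_of_sub_one_pow`).  The proof is an averaging argument;
no representation theory is used.
-/

set_option autoImplicit false

namespace Cfsg.Agent.Lib.Helper13

open Polynomial in
/-- in characteristic `p` the geometric sum `1 + x + ⋯ + x ^ (p - 1)` is `(x - 1) ^ (p - 1)` -/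
theorem geom_sum_eq_sub_one_pow {R : Type*} [Ring R] {p : ℕ} (hp : p.Prime) (hR : (p : R) = 0) (x : R) :
    ∑ i ∈ Finset.range p, x ^ i = (x - 1) ^ (p - 1) := by
  have key : (∑ i ∈ Finset.range p, (X : ℤ[X]) ^ i) =
      ∑ k ∈ Finset.range p, ((p.choose (k + 1) : ℕ) : ℤ[X]) * (X - 1) ^ k := by
    have hne : (X - 1 : ℤ[X]) ≠ 0 := by
      have := X_sub_C_ne_zero (1 : ℤ)
      simpa using this
    apply mul_right_cancel₀ hne
    rw [geom_sum_mul, Finset.sum_mul]
    have h1 : ((X - 1 : ℤ[X]) + 1) ^ p =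
        ∑ m ∈ Finset.range (p + 1), (X - 1 : ℤ[X]) ^ m * 1 ^ (p - m) * (p.choose m : ℤ[X]) :=
      add_pow _ _ _
    rw [Finset.sum_range_succ', sub_add_cancel] at h1
    rw [h1]
    simp only [one_pow, mul_one, pow_zero, Nat.choose_zero_right, Nat.cast_one, add_sub_cancel_right]
    apply Finset.sum_congr rfl
    intro k _
    rw [pow_succ]
    ring
  have h2 := congrArg (aeval x) key
  simp only [map_sum, map_pow, aeval_X, map_mul, map_natCast, map_sub, map_one] at h2
  rw [h2]
  rw [Finset.sum_eq_single (p - 1)]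
  · have : p - 1 + 1 = p := Nat.sub_add_cancel hp.one_le
    rw [this, Nat.choose_self, Nat.cast_one, one_mul]
  · intro k hk hne
    have hk' : k + 1 < p := by
      have := Finset.mem_range.mp hk
      omega
    have hdvd : p ∣ p.choose (k + 1) := hp.dvd_choose_self (Nat.succ_ne_zero k) hk'
    obtain ⟨c, hc⟩ := hdvd
    rw [hc, Nat.cast_mul, hR, zero_mul, zero_mul]
  · intro h
    exfalso
    apply h
    rw [Finset.mem_range]
    have := hp.one_le
    omega

section Abstract

variable {B : Type*} [CommGroup B]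

/-- the partial norms `a ↦ a * σ a * ⋯ * σ^(i-1) a` -/
def partialNorm (σ : B →* B) : ℕ → (B →* B)
  | 0 => 1
  | i + 1 => MonoidHom.id B * σ.comp (partialNorm σ i)

theorem partialNorm_zero (σ : B →* B) (a : B) : partialNorm σ 0 a = 1 := rfl

theorem partialNorm_succ (σ : B →* B) (i : ℕ) (a : B) :
    partialNorm σ (i + 1) a = a * σ (partialNorm σ i a) := rfl

theorem partialNorm_comm (σ : B →* B) (i : ℕ) (a : B) :
    σ (partialNorm σ i a) = partialNorm σ i (σ a) := by
  induction i with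
  | zero => simp [partialNorm_zero]
  | succ i ih => rw [partialNorm_succ, partialNorm_succ, map_mul, ih]

theorem partialNorm_div (σ : B →* B) (i : ℕ) (a : B) :
    partialNorm σ i (a / σ a) = a / σ^[i] a := by
  induction i with
  | zero => simp [partialNorm_zero]
  | succ i ih =>
    rw [partialNorm_succ, ih, Function.iterate_succ_apply', map_div]
    rw [div_mul_div_cancel]

theorem partialNorm_of_fixed (σ : B →* B) (i : ℕ) (a : B) (ha : σ a = a) :
    partialNorm σ i a = a ^ i := by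
  induction i with
  | zero => simp [partialNorm_zero]
  | succ i ih => rw [partialNorm_succ, ih, map_pow, ha, pow_succ']

/-- the partial norms are injective on the commutator subgroup `[B, σ]` -/
theorem eq_one_of_partialNorm_eq_one [Finite B] {p : ℕ} (hp : p.Prime) (σ : B →* B)
    (hσ : ∀ a, σ^[p] a = a) (hcop : (Nat.card B).Coprime p) (i : ℕ) (hi : 0 < i) (hip : i < p) (b : B)
    (h : partialNorm σ i (b / σ b) = 1) : b / σ b = 1 := by
  set a := b / σ b with ha
  have h1 : partialNorm σ i (a / σ a) = 1 := by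
    rw [map_div, ← partialNorm_comm, h, map_one, div_one]
  rw [partialNorm_div] at h1
  have h2 : σ^[i] a = a := (div_eq_one.mp h1).symm
  have h3 : Function.IsPeriodicPt σ i a := h2
  have h4 : Function.IsPeriodicPt σ p a := hσ a
  have h5 : Function.IsPeriodicPt σ (i.gcd p) a := h3.gcd h4
  have hgcd : i.gcd p = 1 := by
    have : Nat.Coprime p i := (Nat.Prime.coprime_iff_not_dvd hp).mpr (Nat.not_dvd_of_pos_of_lt hi hip)
    exact this.symm
  rw [hgcd] at h5
  have h6 : σ a = a := h5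
  have h7 : a ^ p = 1 := by
    rw [← partialNorm_of_fixed σ p a h6, ha, partialNorm_div, hσ b, div_self']
  have h8 : orderOf a ∣ p := orderOf_dvd_of_pow_eq_one h7
  have h9 : orderOf a ∣ Nat.card B := orderOf_dvd_natCard a
  have h10 : orderOf a = 1 := Nat.eq_one_of_dvd_coprimes hcop h9 h8
  exact orderOf_eq_one_iff.mp h10

variable {R : Type*} [Ring R]

theorem mul_pow_eq_partialNorm (σ : B →* B) (ι : B →* R) (γ : R) (hγ : ∀ b, γ * ι b = ι (σ b) * γ)
    (a : B) (i : ℕ) : (ι a * γ) ^ i = ι (partialNorm σ i a) * γ ^ i := by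
  induction i with
  | zero => simp [partialNorm_zero]
  | succ i ih =>
    rw [pow_succ', ih, partialNorm_succ, map_mul, pow_succ']
    calc ι a * γ * (ι (partialNorm σ i a) * γ ^ i) = ι a * (γ * ι (partialNorm σ i a)) * γ ^ i := by
          simp only [mul_assoc]
      _ = ι a * (ι (σ (partialNorm σ i a)) * γ) * γ ^ i := by rw [hγ]
      _ = ι a * ι (σ (partialNorm σ i a)) * (γ * γ ^ i) := by simp only [mul_assoc]

/-- the averaging argument -/
theorem map_div_eq_one_of_geom_sum [Finite B] {p : ℕ} (hp : p.Prime) (hR : (p : R) = 0) (σ : B →* B)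
    (hσ : ∀ a, σ^[p] a = a) (hcop : (Nat.card B).Coprime p) (ι : B →* R) (γ : R)
    (hγ : ∀ b, γ * ι b = ι (σ b) * γ) (hgeom : ∑ i ∈ Finset.range p, γ ^ i = 0)
    (hgeom' : ∀ b : B, ∑ i ∈ Finset.range p, (ι (b / σ b) * γ) ^ i = 0) :
    ∀ b : B, ι (b / σ b) = 1 := by
  classical
  set κ : B →* B := MonoidHom.id B / σ with hκ
  have hκ_apply : ∀ b, κ b = b / σ b := fun b => rfl
  set B₁ : Subgroup B := κ.range with hB₁
  have : Fintype ↥B₁ := Fintype.ofFinite _
  have hmem : ∀ a : ↥B₁, ∃ b : B, (a : B) = b / σ b := by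
    rintro ⟨a, b, rfl⟩
    exact ⟨b, rfl⟩
  -- the partial norms preserve `B₁`
  have hN_mem : ∀ (i : ℕ) (a : ↥B₁), partialNorm σ i (a : B) ∈ B₁ := by
    intro i a
    obtain ⟨b, hb⟩ := hmem a
    refine ⟨partialNorm σ i b, ?_⟩
    rw [hκ_apply, hb, map_div, partialNorm_comm]
  -- and are bijective there
  have hN_bij : ∀ i : ℕ, 0 < i → i < p →
      Function.Bijective (fun a : ↥B₁ => (⟨partialNorm σ i (a : B), hN_mem i a⟩ : ↥B₁)) := by
    intro i hi hip
    rw [← Finite.injective_iff_bijective]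
    intro a a' haa'
    have h1 : partialNorm σ i (a : B) = partialNorm σ i (a' : B) := congrArg Subtype.val haa'
    obtain ⟨b, hb⟩ := hmem (a / a')
    have h2 : partialNorm σ i (b / σ b) = 1 := by
      rw [← hb, Subgroup.coe_div, map_div, h1, div_self']
    have h3 := eq_one_of_partialNorm_eq_one hp σ hσ hcop i hi hip b h2
    rw [← hb, Subgroup.coe_div, div_eq_one] at h3
    exact Subtype.ext h3
  set e' : R := ∑ a : ↥B₁, ι (a : B) with he'
  have hsum_i : ∀ i : ℕ, 0 < i → i < p → ∑ a : ↥B₁, ι (partialNorm σ i (a : B)) = e' := by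
    intro i hi hip
    exact Function.Bijective.sum_comp (hN_bij i hi hip) (fun a : ↥B₁ => ι (a : B))
  -- the double sum
  have hdouble : ∑ a : ↥B₁, ∑ i ∈ Finset.range p, (ι (a : B) * γ) ^ i = 0 := by
    apply Finset.sum_eq_zero
    intro a _
    obtain ⟨b, hb⟩ := hmem a
    rw [hb]
    exact hgeom' b
  rw [Finset.sum_comm] at hdouble
  have hp1 : p = (p - 1) + 1 := (Nat.sub_add_cancel hp.one_le).symm
  have hterm : ∀ i : ℕ, i < p - 1 → ∑ a : ↥B₁, (ι (a : B) * γ) ^ (i + 1) = e' * γ ^ (i + 1) := by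
    intro i hi
    rw [← hsum_i (i + 1) (Nat.succ_pos i) (by omega), Finset.sum_mul]
    apply Finset.sum_congr rfl
    intro a _
    exact mul_pow_eq_partialNorm σ ι γ hγ _ _
  have hgeom2 : ∑ i ∈ Finset.range (p - 1), γ ^ (i + 1) = -1 := by
    rw [hp1, Finset.sum_range_succ', pow_zero] at hgeom
    exact eq_neg_of_add_eq_zero_left hgeom
  have he'card : e' = (Fintype.card ↥B₁ : R) := by
    rw [hp1, Finset.sum_range_succ'] at hdouble
    have h1 : ∑ i ∈ Finset.range (p - 1), ∑ a : ↥B₁, (ι (a : B) * γ) ^ (i + 1) = -e' := by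
      rw [Finset.sum_congr rfl (fun i hi => hterm i (Finset.mem_range.mp hi)), ← Finset.mul_sum, hgeom2,
        mul_neg, mul_one]
    rw [h1] at hdouble
    simp only [pow_zero, Finset.sum_const, Finset.card_univ, nsmul_eq_mul, mul_one] at hdouble
    have := eq_neg_of_add_eq_zero_right hdouble
    rw [this, neg_neg]
  -- conclusion
  have hcard_dvd : Fintype.card ↥B₁ ∣ Nat.card B := by
    rw [← Nat.card_eq_fintype_card]
    exact Subgroup.card_subgroup_dvd_card B₁
  have hcop₁ : (Fintype.card ↥B₁).Coprime p := Nat.Coprime.coprime_dvd_left hcard_dvd hcop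
  obtain ⟨m, -, hm⟩ := Nat.exists_mul_mod_eq_one_of_coprime hcop₁ hp.one_lt
  have hinv : ((Fintype.card ↥B₁ : ℕ) : R) * (m : R) = 1 := by
    have h1 : Fintype.card ↥B₁ * m = p * (Fintype.card ↥B₁ * m / p) + 1 := by
      have := Nat.div_add_mod (Fintype.card ↥B₁ * m) p
      omega
    rw [← Nat.cast_mul, h1, Nat.cast_add, Nat.cast_mul, hR, zero_mul, zero_add, Nat.cast_one]
  intro b
  have hb₁ : b / σ b ∈ B₁ := ⟨b, rfl⟩
  have h1 : ι (b / σ b) * e' = e' := by
    rw [he', Finset.mul_sum]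
    have := Equiv.sum_comp (Equiv.mulLeft (⟨b / σ b, hb₁⟩ : ↥B₁)) (fun a : ↥B₁ => ι (a : B))
    rw [← this]
    apply Finset.sum_congr rfl
    intro a _
    rw [← map_mul]
    rfl
  rw [he'card] at h1
  calc ι (b / σ b) = ι (b / σ b) * (((Fintype.card ↥B₁ : ℕ) : R) * (m : R)) := by rw [hinv, mul_one]
    _ = (ι (b / σ b) * ((Fintype.card ↥B₁ : ℕ) : R)) * (m : R) := by rw [mul_assoc]
    _ = 1 := by rw [h1, hinv]

end Abstract

/-- **Hall–Higman, abelian case**: in a ring of characteristic `p`, a unit `γ` with `(γ - 1) ^ (p - 1) = 0`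
centralizes every finite abelian group of units of order prime to `p` which it normalizes -/
theorem units_commute_of_sub_one_pow {R : Type*} [Ring R] {p : ℕ} (hp : p.Prime) (hR : (p : R) = 0) (γ : Rˣ)
    (hγ : ((γ : R) - 1) ^ (p - 1) = 0) (A : Subgroup Rˣ) [Finite A]
    (hA : ∀ a ∈ A, ∀ b ∈ A, a * b = b * a) (hcop : (Nat.card A).Coprime p)
    (hnorm : ∀ a ∈ A, γ * a * γ⁻¹ ∈ A) : ∀ a ∈ A, γ * a = a * γ := by
  letI : CommGroup ↥A :=
    { (inferInstance : Group ↥A) with mul_comm := fun a b => Subtype.ext (hA a a.2 b b.2) }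
  let σ : ↥A →* ↥A :=
    { toFun := fun a => ⟨γ * a * γ⁻¹, hnorm a a.2⟩
      map_one' := by apply Subtype.ext; simp
      map_mul' := by
        intro a b
        apply Subtype.ext
        simp [mul_assoc] }
  have hσ_apply : ∀ a : ↥A, ((σ a : ↥A) : Rˣ) = γ * a * γ⁻¹ := fun a => rfl
  let ι : ↥A →* R := (Units.coeHom R).comp A.subtype
  have hι_apply : ∀ a : ↥A, ι a = ((a : Rˣ) : R) := fun a => rfl
  have hgeom : ∑ i ∈ Finset.range p, (γ : R) ^ i = 0 := by
    rw [geom_sum_eq_sub_one_pow hp hR, hγ]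
  have hγp : γ ^ p = 1 := by
    apply Units.ext
    have := geom_sum_mul (γ : R) p
    rw [hgeom, zero_mul] at this
    rw [Units.val_pow_eq_pow_val, Units.val_one]
    exact (sub_eq_zero.mp this.symm)
  have hiter : ∀ (i : ℕ) (a : ↥A), ((σ^[i] a : ↥A) : Rˣ) = γ ^ i * a * (γ ^ i)⁻¹ := by
    intro i a
    induction i with
    | zero => simp
    | succ i ih =>
      rw [Function.iterate_succ_apply', hσ_apply, ih, pow_succ']
      group
  have hσp : ∀ a : ↥A, σ^[p] a = a := by
    intro a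
    apply Subtype.ext
    rw [hiter, hγp]
    simp
  have hγι : ∀ b : ↥A, (γ : R) * ι b = ι (σ b) * γ := by
    intro b
    rw [hι_apply, hι_apply, hσ_apply, ← Units.val_mul, ← Units.val_mul]
    congr 1
    group
  have hgeom' : ∀ b : ↥A, ∑ i ∈ Finset.range p, (ι (b / σ b) * γ) ^ i = 0 := by
    intro b
    have h1 : ι (b / σ b) * (γ : R) = (b : Rˣ) * (γ : R) * ((b : Rˣ)⁻¹ : Rˣ) := by
      rw [hι_apply, ← Units.val_mul, ← Units.val_mul, ← Units.val_mul]
      congr 1
      rw [Subgroup.coe_div, hσ_apply, div_eq_mul_inv]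
      group
    rw [h1, geom_sum_eq_sub_one_pow hp hR]
    have h2 : ((b : Rˣ) : R) * (γ : R) * ((b : Rˣ)⁻¹ : Rˣ) - 1 =
        ((b : Rˣ) : R) * ((γ : R) - 1) * ((b : Rˣ)⁻¹ : Rˣ) := by
      rw [mul_sub, sub_mul, mul_one, Units.mul_inv]
    rw [h2, Units.conj_pow, hγ, mul_zero, zero_mul]
  have hmain := map_div_eq_one_of_geom_sum hp hR σ hσp hcop ι (γ : R) hγι hgeom hgeom'
  intro a ha
  have h1 := hmain ⟨a, ha⟩
  rw [hι_apply] at h1
  have h2 : (((⟨a, ha⟩ : ↥A) / σ ⟨a, ha⟩ : ↥A) : Rˣ) = 1 := Units.ext h1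
  rw [Subgroup.coe_div, hσ_apply, div_eq_one] at h2
  calc γ * a = (γ * a * γ⁻¹) * γ := by group
    _ = a * γ := by rw [← h2]

/-- the endomorphism of `Additive M` attached to an automorphism of `M` -/
def mulAutToEnd (M : Type*) [CommGroup M] : MulAut M →* AddMonoid.End (Additive M) where
  toFun e := MonoidHom.toAdditive e.toMonoidHom
  map_one' := rfl
  map_mul' _ _ := rfl

theorem mulAutToEnd_apply {M : Type*} [CommGroup M] (e : MulAut M) (x : Additive M) :
    mulAutToEnd M e x = Additive.ofMul (e x.toMul) := rfl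

/-- **Hall–Higman, abelian case, for a group acting on an elementary abelian group** -/
theorem mulAut_commutator_eq_one {M : Type*} [CommGroup M] {p : ℕ} (hp : p.Prime) (hM : ∀ m : M, m ^ p = 1)
    {Γ : Type*} [Group Γ] (φ : Γ →* MulAut M) (A : Subgroup Γ) [Finite A]
    (hA : ∀ a ∈ A, ∀ b ∈ A, a * b = b * a) (hcop : (Nat.card A).Coprime p) (g : Γ)
    (hnorm : ∀ a ∈ A, g * a * g⁻¹ ∈ A)
    (hD : ∀ m : M, (fun m => φ g m / m)^[p - 1] m = 1) :
    ∀ a ∈ A, φ (g * a * g⁻¹ * a⁻¹) = 1 := by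
  set Ψ : Γ →* (AddMonoid.End (Additive M))ˣ := ((mulAutToEnd M).comp φ).toHomUnits with hΨ
  have hΨ_apply : ∀ (x : Γ) (m : Additive M),
      ((Ψ x : (AddMonoid.End (Additive M))ˣ) : AddMonoid.End (Additive M)) m =
        Additive.ofMul (φ x m.toMul) := fun x m => rfl
  have hR : ((p : ℕ) : AddMonoid.End (Additive M)) = 0 := by
    apply AddMonoid.End.ext
    intro m
    rw [AddMonoid.End.natCast_apply]
    show Additive.ofMul (m.toMul ^ p) = 0
    rw [hM]; rfl
  have hiter : ∀ (k : ℕ) (m : Additive M),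
      ((((Ψ g : (AddMonoid.End (Additive M))ˣ) : AddMonoid.End (Additive M)) - 1) ^ k) m =
        Additive.ofMul ((fun m => φ g m / m)^[k] m.toMul) := by
    intro k
    induction k with
    | zero => intro m; simp
    | succ k ih =>
      intro m
      rw [pow_succ', AddMonoid.End.coe_mul, Function.comp_apply, ih, Function.iterate_succ_apply']
      rfl
  have hγ : (((Ψ g : (AddMonoid.End (Additive M))ˣ) : AddMonoid.End (Additive M)) - 1) ^ (p - 1) = 0 := by
    apply AddMonoid.End.ext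
    intro m
    rw [hiter, hD]; rfl
  have hfin : Finite ↥(A.map Ψ) := Finite.of_surjective (Ψ.subgroupMap A) (Ψ.subgroupMap_surjective A)
  have hA' : ∀ a ∈ A.map Ψ, ∀ b ∈ A.map Ψ, a * b = b * a := by
    rintro _ ⟨a, ha, rfl⟩ _ ⟨b, hb, rfl⟩
    rw [← map_mul, ← map_mul, hA a ha b hb]
  have hcop' : (Nat.card ↥(A.map Ψ)).Coprime p :=
    Nat.Coprime.coprime_dvd_left (Subgroup.card_map_dvd A Ψ) hcop
  have hnorm' : ∀ a ∈ A.map Ψ, Ψ g * a * (Ψ g)⁻¹ ∈ A.map Ψ := by
    rintro _ ⟨a, ha, rfl⟩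
    exact ⟨g * a * g⁻¹, hnorm a ha, by simp⟩
  have hmain := units_commute_of_sub_one_pow hp hR (Ψ g) hγ (A.map Ψ) hA' hcop' hnorm'
  intro a ha
  have h1 := hmain (Ψ a) ⟨a, ha, rfl⟩
  have h2 : Ψ (g * a * g⁻¹ * a⁻¹) = 1 := by
    rw [map_mul, map_mul, map_mul, map_inv, map_inv, h1]
    group
  apply MulEquiv.ext
  intro m
  have h3 := hΨ_apply (g * a * g⁻¹ * a⁻¹) (Additive.ofMul m)
  rw [h2] at h3
  have h4 : Additive.ofMul m = Additive.ofMul (φ (g * a * g⁻¹ * a⁻¹) m) := h3
  exact (Additive.ofMul.injective h4).symm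

end Cfsg.Agent.Lib.Helper13
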