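import Cfsg.Prelude.Def_KGroupFacts
import Mathlib
import Cfsg.Agent.S2117
import Cfsg.Agent.Lib.Helper21.StemExt

/-!
Upper bounds for the kernel of a finite stem extension, obtained Sylow subgroup by Sylow
subgroup (helper13).  Main generic results: `upper_six` and `upper_three`.
-/

set_option autoImplicit false

open Cfsg

namespace Cfsg.Agent.Lib.Helper13.SchurUpper

open Cfsg.Agent.Lib.Helper21

universe u v w

/-- the kernel of a stem extension of `Q = C⟨s⟩`, `C` cyclic normal, is no larger than `C_C(s)` -/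
theorem card_ker_le {Γ : Type u} {Q : Type v} [Group Γ] [Finite Γ] [Group Q]
    (τ : Γ →* Q) (hτ : IsStemExtension τ) (C : Subgroup Q) [C.Normal] (hC : IsCyclic C)
    (s : Q) (hgen : C ⊔ Subgroup.zpowers s = ⊤) :
    Nat.card τ.ker ≤ Nat.card ↥(C ⊓ Subgroup.centralizer ({s} : Set Q)) := by
  obtain ⟨t, ht⟩ := hτ.1 s
  rw [← stem_card_centralizer τ hτ C hC s hgen t ht]
  exact Subgroup.card_le_of_le (ker_le_comap_inf_centralizer τ hτ C t)

/-- a subgroup of prime index together with an outside element generates everything -/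
theorem sup_zpowers_eq_top {Q : Type v} [Group Q] (C : Subgroup Q) (p : ℕ) (hp : p.Prime)
    (hidx : C.index = p) (s : Q) (hs : s ∉ C) : C ⊔ Subgroup.zpowers s = ⊤ := by
  have hle : C ≤ C ⊔ Subgroup.zpowers s := le_sup_left
  have h1 := Subgroup.relIndex_mul_index hle
  rw [hidx] at h1
  have hdvd : (C ⊔ Subgroup.zpowers s).index ∣ p := Dvd.intro_left _ h1
  rcases (Nat.dvd_prime hp).mp hdvd with h | h
  · exact Subgroup.index_eq_one.mp h
  · exfalso
    rw [h] at h1
    have h2 : C.relIndex (C ⊔ Subgroup.zpowers s) = 1 :=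
      Nat.eq_of_mul_eq_mul_right hp.pos (by rw [h1, one_mul])
    rw [Subgroup.relIndex_eq_one] at h2
    exact hs (h2 ((le_sup_right : Subgroup.zpowers s ≤ C ⊔ Subgroup.zpowers s)
      (Subgroup.mem_zpowers s)))

theorem exists_not_mem_of_index_ne_one {Q : Type v} [Group Q] (C : Subgroup Q)
    (hidx : C.index ≠ 1) : ∃ s, s ∉ C := by
  by_contra hall
  push Not at hall
  apply hidx
  rw [Subgroup.index_eq_one, eq_top_iff]
  intro x _
  exact hall x

/-- groups of order `p^2` have multiplier of order at most `p` -/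
theorem card_ker_le_of_card_sq {Γ : Type u} {Q : Type v} [Group Γ] [Finite Γ] [Group Q]
    (p : ℕ) [hp : Fact p.Prime] (hQ : Nat.card Q = p ^ 2)
    (τ : Γ →* Q) (hτ : IsStemExtension τ) : Nat.card τ.ker ≤ p := by
  classical
  haveI : Finite Q := Finite.of_surjective τ hτ.1
  have hp1 : 1 < p := hp.out.one_lt
  by_cases hcyc : IsCyclic Q
  · have := Cfsg.Agent.S2117.ker_eq_bot_of_cyclic τ hτ
    rw [this, Subgroup.card_bot]
    exact hp1.le
  · have hcommI : IsMulCommutative Q := IsPGroup.isMulCommutative_of_card_eq_prime_sq hQ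
    have hcomm : ∀ a b : Q, a * b = b * a := fun a b => hcommI.is_comm.comm a b
    have hnt : Nontrivial Q := by
      rw [← Finite.one_lt_card_iff_nontrivial, hQ]
      nlinarith
    obtain ⟨c, hc⟩ := exists_ne (1 : Q)
    have hco : orderOf c = p := by
      have hdvd : orderOf c ∣ p ^ 2 := by
        have := orderOf_dvd_natCard c
        rwa [hQ] at this
      obtain ⟨i, hi, hpi⟩ := (Nat.dvd_prime_pow hp.out).mp hdvd
      have hi3 : i = 0 ∨ i = 1 ∨ i = 2 := by omega
      rcases hi3 with rfl | rfl | rfl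
      · rw [pow_zero, orderOf_eq_one_iff] at hpi
        exact absurd hpi hc
      · rw [hpi, pow_one]
      · exfalso
        apply hcyc
        exact isCyclic_of_orderOf_eq_card c (by rw [hpi, hQ])
    have hidx : (Subgroup.zpowers c).index = p := by
      have h := Subgroup.card_mul_index (Subgroup.zpowers c)
      rw [Nat.card_zpowers, hco, hQ, pow_two] at h
      exact Nat.eq_of_mul_eq_mul_left hp.out.pos h
    obtain ⟨s, hs⟩ := exists_not_mem_of_index_ne_one (Subgroup.zpowers c)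
      (by rw [hidx]; exact hp1.ne')
    haveI hCn : (Subgroup.zpowers c).Normal :=
      ⟨fun n hn g => by rw [hcomm g n, mul_inv_cancel_right]; exact hn⟩
    have hgen := sup_zpowers_eq_top (Subgroup.zpowers c) p hp.out hidx s hs
    have h1 := card_ker_le τ hτ (Subgroup.zpowers c) inferInstance s hgen
    have h2 : Nat.card ↥(Subgroup.zpowers c ⊓ Subgroup.centralizer ({s} : Set Q)) ≤
        Nat.card (Subgroup.zpowers c) := Subgroup.card_le_of_le inf_le_left
    rw [Nat.card_zpowers, hco] at h2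
    exact h1.trans h2

theorem le_two_of_dvd_four {n : ℕ} (h : n ∣ 4) (h4 : n ≠ 4) : n ≤ 2 := by
  have hle : n ≤ 4 := Nat.le_of_dvd (by norm_num) h
  have h3 : n ≠ 3 := by
    rintro rfl
    norm_num at h
  omega

/-- nonabelian groups of order `8` have multiplier of order at most `2` -/
theorem card_ker_le_two_of_card_eight {Γ : Type u} {Q : Type v} [Group Γ] [Finite Γ] [Group Q]
    (hQ : Nat.card Q = 8) (hna : ∃ a b : Q, a * b ≠ b * a)
    (τ : Γ →* Q) (hτ : IsStemExtension τ) : Nat.card τ.ker ≤ 2 := by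
  classical
  haveI : Finite Q := Finite.of_surjective τ hτ.1
  obtain ⟨a, b, hab⟩ := hna
  have hex : ∃ c : Q, c * c ≠ 1 := by
    by_contra hall
    push Not at hall
    apply hab
    have h1 := hall a
    have h2 := hall b
    have h3 := hall (a * b)
    have : b * a = a * b := by
      calc b * a = (a * a) * (b * a) * (b * b) := by rw [h1, h2, one_mul, mul_one]
        _ = a * ((a * b) * (a * b)) * b := by simp only [mul_assoc]
        _ = a * b := by rw [h3, mul_one]
    exact this.symm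
  obtain ⟨c, hc⟩ := hex
  have hco : orderOf c = 4 := by
    have hdvd : orderOf c ∣ 2 ^ 3 := by
      have := orderOf_dvd_natCard c
      rw [hQ] at this
      exact this.trans (by norm_num)
    obtain ⟨i, hi, hpi⟩ := (Nat.dvd_prime_pow Nat.prime_two).mp hdvd
    have hi4 : i = 0 ∨ i = 1 ∨ i = 2 ∨ i = 3 := by omega
    rcases hi4 with rfl | rfl | rfl | rfl
    · exfalso
      rw [pow_zero, orderOf_eq_one_iff] at hpi
      rw [hpi, one_mul] at hc
      exact hc rfl
    · exfalso
      have h := pow_orderOf_eq_one c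
      rw [hpi, pow_one, pow_two] at h
      exact hc h
    · rw [hpi]; norm_num
    · exfalso
      have hcyc : IsCyclic Q := isCyclic_of_orderOf_eq_card c (by rw [hpi, hQ]; norm_num)
      exact hab ((@IsCyclic.isMulCommutative Q _ hcyc).is_comm.comm a b)
  have hidx : (Subgroup.zpowers c).index = 2 := by
    have h := Subgroup.card_mul_index (Subgroup.zpowers c)
    rw [Nat.card_zpowers, hco, hQ] at h
    omega
  haveI hCn : (Subgroup.zpowers c).Normal := Subgroup.normal_of_index_eq_two hidx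
  obtain ⟨s, hs⟩ := exists_not_mem_of_index_ne_one (Subgroup.zpowers c)
    (by rw [hidx]; norm_num)
  have hgen := sup_zpowers_eq_top (Subgroup.zpowers c) 2 Nat.prime_two hidx s hs
  have h1 := card_ker_le τ hτ (Subgroup.zpowers c) inferInstance s hgen
  refine h1.trans ?_
  have hDle : Subgroup.zpowers c ⊓ Subgroup.centralizer ({s} : Set Q) ≤ Subgroup.zpowers c :=
    inf_le_left
  have hdvd := Subgroup.card_dvd_of_le hDle
  rw [Nat.card_zpowers, hco] at hdvd
  apply le_two_of_dvd_four hdvd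
  intro h4
  have heq : Subgroup.zpowers c ⊓ Subgroup.centralizer ({s} : Set Q) = Subgroup.zpowers c :=
    Subgroup.eq_of_le_of_card_ge hDle (by rw [h4, Nat.card_zpowers, hco])
  have hCle : Subgroup.zpowers c ≤ Subgroup.centralizer ({s} : Set Q) := by
    rw [← heq]; exact inf_le_right
  have hcs : s * c = c * s := by
    have := hCle (Subgroup.mem_zpowers c)
    rw [Subgroup.mem_centralizer_iff] at this
    exact this s (Set.mem_singleton s)
  have hc_cen : c ∈ Subgroup.center Q := by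
    have hle : Subgroup.zpowers c ⊔ Subgroup.zpowers s ≤ Subgroup.centralizer ({c} : Set Q) := by
      apply sup_le
      · rw [Subgroup.zpowers_le, Subgroup.mem_centralizer_iff]
        intro y hy
        rw [Set.mem_singleton_iff] at hy
        rw [hy]
      · rw [Subgroup.zpowers_le, Subgroup.mem_centralizer_iff]
        intro y hy
        rw [Set.mem_singleton_iff] at hy
        rw [hy]
        exact hcs.symm
    rw [hgen] at hle
    rw [Subgroup.mem_center_iff]
    intro g
    have := hle (Subgroup.mem_top g)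
    rw [Subgroup.mem_centralizer_iff] at this
    exact (this c (Set.mem_singleton c)).symm
  have hs_cen : s ∈ Subgroup.center Q := by
    have hle : Subgroup.zpowers c ⊔ Subgroup.zpowers s ≤ Subgroup.centralizer ({s} : Set Q) := by
      apply sup_le hCle
      rw [Subgroup.zpowers_le, Subgroup.mem_centralizer_iff]
      intro y hy
      rw [Set.mem_singleton_iff] at hy
      rw [hy]
    rw [hgen] at hle
    rw [Subgroup.mem_center_iff]
    intro g
    have := hle (Subgroup.mem_top g)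
    rw [Subgroup.mem_centralizer_iff] at this
    exact (this s (Set.mem_singleton s)).symm
  have htop : Subgroup.zpowers c ⊔ Subgroup.zpowers s ≤ Subgroup.center Q :=
    sup_le (Subgroup.zpowers_le.mpr hc_cen) (Subgroup.zpowers_le.mpr hs_cen)
  rw [hgen] at htop
  have ha : a ∈ Subgroup.center Q := htop (Subgroup.mem_top a)
  exact hab ((Subgroup.mem_center_iff.mp ha b).symm)

/-- stem extensions of groups of order `1` or `p` are trivial -/
theorem ker_eq_bot_of_card_pow_le_one {Γ : Type u} {Q : Type v} [Group Γ] [Group Q]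
    (p : ℕ) [Fact p.Prime] (j : ℕ) (hj : j ≤ 1) (hQ : Nat.card Q = p ^ j)
    (τ : Γ →* Q) (hτ : IsStemExtension τ) : τ.ker = ⊥ := by
  have hcyc : IsCyclic Q := by
    rcases Nat.le_one_iff_eq_zero_or_eq_one.mp hj with rfl | rfl
    · rw [pow_zero] at hQ
      haveI : Subsingleton Q := (Nat.card_eq_one_iff_unique.mp hQ).1
      exact isCyclic_of_subsingleton
    · rw [pow_one] at hQ
      exact isCyclic_of_prime_card hQ
  exact Cfsg.Agent.S2117.ker_eq_bot_of_cyclic τ hτ

/-- a `p`-subgroup of the kernel lies in a Sylow `p`-subgroup of the whole group -/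
theorem exists_sylow_pow_le {Γ : Type u} {G : Type v} [Group Γ] [Finite Γ] [Group G]
    (σ : Γ →* G) (p : ℕ) [Fact p.Prime] (k : ℕ) (hdvd : p ^ k ∣ Nat.card σ.ker) :
    ∃ R : Sylow p Γ, p ^ k ≤ Nat.card (σ.ker.subgroupOf (R : Subgroup Γ)) := by
  obtain ⟨K, hK⟩ := Sylow.exists_subgroup_card_pow_prime p hdvd
  have hK' : Nat.card (K.map σ.ker.subtype) = p ^ k := by
    rw [Subgroup.card_map_of_injective (Subgroup.subtype_injective _), hK]
  have hP : IsPGroup p (K.map σ.ker.subtype) := IsPGroup.of_card hK'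
  obtain ⟨R, hR⟩ := hP.exists_le_sylow
  refine ⟨R, ?_⟩
  rw [← hK', ← Subgroup.card_map_of_injective (Subgroup.subtype_injective (R : Subgroup Γ))
    (K := σ.ker.subgroupOf (R : Subgroup Γ))]
  apply Subgroup.card_le_of_le
  intro x hx
  have hxR : x ∈ (R : Subgroup Γ) := hR hx
  have hxk : x ∈ σ.ker := by
    obtain ⟨y, _, hy⟩ := Subgroup.mem_map.mp hx
    rw [← hy]
    exact y.2
  exact Subgroup.mem_map.mpr ⟨⟨x, hxR⟩, Subgroup.mem_subgroupOf.mpr hxk, rfl⟩

/-- if every stem extension of a Sylow `p`-subgroup of `G` has kernel of order `< p^k`,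
then `p^k` does not divide the order of the kernel of a stem extension of `G` -/
theorem not_pow_dvd_card_ker {Γ : Type u} {G : Type v} [Group Γ] [Finite Γ] [Group G]
    (σ : Γ →* G) (hσ : IsStemExtension σ) (p : ℕ) [Fact p.Prime] (k : ℕ)
    (h : ∀ (T : Sylow p G) (R : Sylow p Γ) (τ : (R : Subgroup Γ) →* (T : Subgroup G)),
      IsStemExtension τ → Nat.card τ.ker < p ^ k) :
    ¬ p ^ k ∣ Nat.card σ.ker := by
  intro hdvd
  obtain ⟨R, hR⟩ := exists_sylow_pow_le σ p k hdvd
  have hT := Sylow.coe_mapSurjective hσ.1 R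
  obtain ⟨τ, hτ, hτker⟩ :=
    Cfsg.Agent.S2117.sylow_stem σ hσ p R (MulEquiv.subgroupCongr hT.symm)
  have hker : τ.ker = σ.ker.subgroupOf (R : Subgroup Γ) := by
    ext a
    rw [hτker a, Subgroup.mem_subgroupOf]
  have hlt := h _ R τ hτ
  rw [hker] at hlt
  exact absurd hR (not_le.mpr hlt)

theorem factorization_pow_mul (p k m : ℕ) (hp : p.Prime) (hm : ¬ p ∣ m) (hm0 : m ≠ 0) :
    (p ^ k * m).factorization p = k := by
  rw [Nat.factorization_mul (pow_ne_zero k hp.ne_zero) hm0, Finsupp.add_apply,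
    hp.factorization_pow, Finsupp.single_eq_same, Nat.factorization_eq_zero_of_not_dvd hm,
    add_zero]

theorem card_sylow_eq {G : Type v} [Group G] [Finite G] (p : ℕ) [hp : Fact p.Prime]
    (T : Sylow p G) (k m : ℕ) (hG : Nat.card G = p ^ k * m) (hm : ¬ p ∣ m) :
    Nat.card (T : Subgroup G) = p ^ k := by
  have hm0 : m ≠ 0 := by
    rintro rfl
    rw [mul_zero] at hG
    exact (Nat.card_pos (α := G)).ne' hG
  rw [Sylow.card_eq_multiplicity, hG, factorization_pow_mul p k m hp.out hm hm0]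

theorem card_sylow_pow_le_one {G : Type v} [Group G] [Finite G] (p : ℕ) [hp : Fact p.Prime]
    (T : Sylow p G) (h : ¬ p ^ 2 ∣ Nat.card G) :
    ∃ j, j ≤ 1 ∧ Nat.card (T : Subgroup G) = p ^ j := by
  obtain ⟨j, hj⟩ := (IsPGroup.iff_card).mp T.isPGroup'
  refine ⟨j, ?_, hj⟩
  by_contra hcon
  push Not at hcon
  apply h
  have h1 : p ^ 2 ∣ p ^ j := pow_dvd_pow p (by omega : 2 ≤ j)
  have h2 := Subgroup.card_subgroup_dvd_card (T : Subgroup G)
  rw [hj] at h2
  exact h1.trans h2

theorem stem_comp_equiv {Γ : Type u} {Q : Type v} {Q' : Type w} [Group Γ] [Group Q] [Group Q']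
    (τ : Γ →* Q) (hτ : IsStemExtension τ) (e : Q ≃* Q') :
    IsStemExtension (e.toMonoidHom.comp τ) ∧ (e.toMonoidHom.comp τ).ker = τ.ker := by
  have hker : (e.toMonoidHom.comp τ).ker = τ.ker := by
    ext a
    rw [MonoidHom.mem_ker, MonoidHom.mem_ker]
    show e (τ a) = 1 ↔ _
    rw [EmbeddingLike.map_eq_one_iff]
  refine ⟨⟨e.surjective.comp hτ.1, ?_, ?_⟩, hker⟩
  · rw [hker]; exact hτ.2.1
  · rw [hker]; exact hτ.2.2

/-! ### arithmetic -/

theorem dvd_six_of (K : ℕ) (h4 : ¬ 2 ^ 2 ∣ K) (h9 : ¬ 3 ^ 2 ∣ K)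
    (hp : ∀ p : ℕ, p.Prime → p ≠ 2 → p ≠ 3 → ¬ p ^ 1 ∣ K) : K ∣ 6 := by
  rw [Nat.dvd_iff_prime_pow_dvd_dvd]
  intro p k hpp hd
  rcases Nat.eq_zero_or_pos k with rfl | hk
  · simp
  have hpK : p ^ 1 ∣ K := (pow_dvd_pow p (Nat.succ_le_of_lt hk)).trans hd
  by_cases h2 : p = 2
  · subst h2
    have hk1 : k = 1 := by
      by_contra hne
      exact h4 ((pow_dvd_pow 2 (by omega : 2 ≤ k)).trans hd)
    subst hk1
    norm_num
  by_cases h3 : p = 3
  · subst h3
    have hk1 : k = 1 := by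
      by_contra hne
      exact h9 ((pow_dvd_pow 3 (by omega : 2 ≤ k)).trans hd)
    subst hk1
    norm_num
  exact absurd hpK (hp p hpp h2 h3)

theorem dvd_three_of (K : ℕ) (h9 : ¬ 3 ^ 2 ∣ K)
    (hp : ∀ p : ℕ, p.Prime → p ≠ 3 → ¬ p ^ 1 ∣ K) : K ∣ 3 := by
  rw [Nat.dvd_iff_prime_pow_dvd_dvd]
  intro p k hpp hd
  rcases Nat.eq_zero_or_pos k with rfl | hk
  · simp
  have hpK : p ^ 1 ∣ K := (pow_dvd_pow p (Nat.succ_le_of_lt hk)).trans hd
  by_cases h3 : p = 3
  · subst h3
    have hk1 : k = 1 := by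
      by_contra hne
      exact h9 ((pow_dvd_pow 3 (by omega : 2 ≤ k)).trans hd)
    subst hk1
    norm_num
  exact absurd hpK (hp p hpp h3)

theorem not_sq_dvd (n : ℕ) (hn : n = 360 ∨ n = 2520 ∨ n = 720) (p : ℕ) (hp : p.Prime)
    (h2 : p ≠ 2) (h3 : p ≠ 3) : ¬ p ^ 2 ∣ n := by
  intro hd
  have hn0 : 0 < n := by rcases hn with rfl | rfl | rfl <;> norm_num
  have hle : p ^ 2 ≤ n := Nat.le_of_dvd hn0 hd
  have hp51 : p < 51 := by
    by_contra hcon
    push Not at hcon
    have h51 : 51 * 51 ≤ p ^ 2 := by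
      rw [pow_two]
      exact Nat.mul_le_mul hcon hcon
    rcases hn with rfl | rfl | rfl <;> omega
  rcases hn with rfl | rfl | rfl <;>
    interval_cases p <;>
      first
        | exact absurd rfl h2
        | exact absurd rfl h3
        | (exfalso; revert hp; norm_num; done)
        | (exfalso; revert hd; norm_num; done)

theorem dvd_six_cases (m : ℕ) (h : m ∣ 6) : m = 1 ∨ m = 2 ∨ m = 3 ∨ m = 6 := by
  have hle := Nat.le_of_dvd (by norm_num) h
  rcases Nat.eq_zero_or_pos m with rfl | hpos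
  · simp at h
  interval_cases m <;> first | omega | (exfalso; revert h; norm_num; done)

/-! ### cyclic groups -/

theorem isCyclic_of_comm_card_dvd_six {Z : Type*} [Group Z] [Finite Z]
    (hcomm : ∀ a b : Z, a * b = b * a) (h : Nat.card Z ∣ 6) : IsCyclic Z := by
  rcases dvd_six_cases _ h with h1 | h2 | h3 | h6
  · haveI : Subsingleton Z := (Nat.card_eq_one_iff_unique.mp h1).1
    exact isCyclic_of_subsingleton
  · haveI : Fact (Nat.Prime 2) := ⟨Nat.prime_two⟩
    exact isCyclic_of_prime_card h2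
  · haveI : Fact (Nat.Prime 3) := ⟨Nat.prime_three⟩
    exact isCyclic_of_prime_card h3
  · haveI : Fact (Nat.Prime 2) := ⟨Nat.prime_two⟩
    haveI : Fact (Nat.Prime 3) := ⟨Nat.prime_three⟩
    obtain ⟨a, ha⟩ := exists_prime_orderOf_dvd_card' (G := Z) 2 (by rw [h6]; norm_num)
    obtain ⟨b, hb⟩ := exists_prime_orderOf_dvd_card' (G := Z) 3 (by rw [h6]; norm_num)
    have hab : orderOf (a * b) = 6 := by
      rw [Commute.orderOf_mul_eq_mul_orderOf_of_coprime (show Commute a b from hcomm a b)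
        (by rw [ha, hb]; norm_num), ha, hb]
    exact isCyclic_of_orderOf_eq_card (a * b) (by rw [hab, h6])

theorem isCyclic_of_card_dvd_three {Z : Type*} [Group Z] [Finite Z]
    (h : Nat.card Z ∣ 3) : IsCyclic Z := by
  rcases (Nat.dvd_prime Nat.prime_three).mp h with h1 | h3
  · haveI : Subsingleton Z := (Nat.card_eq_one_iff_unique.mp h1).1
    exact isCyclic_of_subsingleton
  · haveI : Fact (Nat.Prime 3) := ⟨Nat.prime_three⟩
    exact isCyclic_of_prime_card h3

/-- a finite cyclic group whose order divides `N` is a quotient of `ZMod N` -/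
theorem exists_surj_of_cyclic {Z : Type*} [Group Z] [Finite Z] [IsCyclic Z] (N : ℕ) [NeZero N]
    (h : Nat.card Z ∣ N) : ∃ π : Multiplicative (ZMod N) →* Z, Function.Surjective π := by
  obtain ⟨g, hg⟩ := IsCyclic.exists_generator (α := Z)
  have hgN : g ^ N = 1 := by
    obtain ⟨m, hm⟩ := h
    rw [hm, pow_mul, pow_card_eq_one', one_pow]
  let π : Multiplicative (ZMod N) →* Z :=
    { toFun := fun x => g ^ (Multiplicative.toAdd x).val
      map_one' := by
        show g ^ (0 : ZMod N).val = 1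
        rw [ZMod.val_zero, pow_zero]
      map_mul' := by
        intro x y
        show g ^ (Multiplicative.toAdd x + Multiplicative.toAdd y).val =
          g ^ (Multiplicative.toAdd x).val * g ^ (Multiplicative.toAdd y).val
        rw [ZMod.val_add, ← pow_eq_pow_mod _ hgN, pow_add] }
  refine ⟨π, ?_⟩
  intro z
  have hz : z ∈ Submonoid.powers g := mem_powers_iff_mem_zpowers.mpr (hg z)
  obtain ⟨m, hm⟩ := (Submonoid.mem_powers_iff z g).mp hz
  refine ⟨Multiplicative.ofAdd (m : ZMod N), ?_⟩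
  show g ^ ((m : ZMod N)).val = z
  rw [ZMod.val_natCast, ← pow_eq_pow_mod _ hgN, hm]

theorem ker_comm {Γ : Type u} {G : Type v} [Group Γ] [Group G] (σ : Γ →* G)
    (hσ : IsStemExtension σ) : ∀ a b : σ.ker, a * b = b * a := by
  intro a b
  apply Subtype.ext
  have := Subgroup.mem_center_iff.mp (hσ.2.1 a.2) (b : Γ)
  simp only [Subgroup.coe_mul]
  exact this.symm

/-! ### the two generic upper bounds -/

/-- order `2^3 m₂ = 3^2 m₃`, no other square prime factor, nonabelian Sylow `2`-subgroups: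
the kernel of every finite stem extension is a quotient of `ZMod 6` -/
theorem upper_six {G : Type v} [Group G] [Finite G] (m2 m3 : ℕ)
    (hcard2 : Nat.card G = 2 ^ 3 * m2) (hm2 : ¬ 2 ∣ m2)
    (hcard3 : Nat.card G = 3 ^ 2 * m3) (hm3 : ¬ 3 ∣ m3)
    (hsq : ∀ p : ℕ, p.Prime → p ≠ 2 → p ≠ 3 → ¬ p ^ 2 ∣ Nat.card G)
    (hD : ∃ (P : Subgroup G) (x y : G), IsPGroup 2 P ∧ x ∈ P ∧ y ∈ P ∧ x * y ≠ y * x)
    {Γ : Type u} [Group Γ] [Finite Γ] (σ : Γ →* G) (hσ : IsStemExtension σ) :
    ∃ π : Multiplicative (ZMod 6) →* σ.ker, Function.Surjective π := by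
  classical
  haveI : Fact (Nat.Prime 2) := ⟨Nat.prime_two⟩
  haveI : Fact (Nat.Prime 3) := ⟨Nat.prime_three⟩
  have h4 : ¬ 2 ^ 2 ∣ Nat.card σ.ker := by
    apply not_pow_dvd_card_ker σ hσ 2 2
    intro T R τ hτ
    have hT : Nat.card (T : Subgroup G) = 2 ^ 3 := card_sylow_eq 2 T 3 m2 hcard2 hm2
    have hna : ∃ a b : (T : Subgroup G), a * b ≠ b * a := by
      obtain ⟨P, x, y, hP, hx, hy, hxy⟩ := hD
      obtain ⟨T0, hT0⟩ := hP.exists_le_sylow
      let e := Sylow.equiv T0 T
      refine ⟨e ⟨x, hT0 hx⟩, e ⟨y, hT0 hy⟩, ?_⟩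
      intro h
      rw [← map_mul, ← map_mul] at h
      have h' := e.injective h
      exact hxy (congrArg Subtype.val h')
    have hle := card_ker_le_two_of_card_eight (hT.trans (by norm_num)) hna τ hτ
    calc Nat.card τ.ker ≤ 2 := hle
      _ < 2 ^ 2 := by norm_num
  have h9 : ¬ 3 ^ 2 ∣ Nat.card σ.ker := by
    apply not_pow_dvd_card_ker σ hσ 3 2
    intro T R τ hτ
    have hT : Nat.card (T : Subgroup G) = 3 ^ 2 := card_sylow_eq 3 T 2 m3 hcard3 hm3
    have hle := card_ker_le_of_card_sq 3 hT τ hτ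
    calc Nat.card τ.ker ≤ 3 := hle
      _ < 3 ^ 2 := by norm_num
  have hp : ∀ p : ℕ, p.Prime → p ≠ 2 → p ≠ 3 → ¬ p ^ 1 ∣ Nat.card σ.ker := by
    intro p hpp h2 h3
    haveI : Fact p.Prime := ⟨hpp⟩
    apply not_pow_dvd_card_ker σ hσ p 1
    intro T R τ hτ
    obtain ⟨j, hj1, hj⟩ := card_sylow_pow_le_one p T (hsq p hpp h2 h3)
    have hbot := ker_eq_bot_of_card_pow_le_one p j hj1 hj τ hτ
    rw [hbot, Subgroup.card_bot, pow_one]
    exact hpp.one_lt
  have hdvd : Nat.card σ.ker ∣ 6 := dvd_six_of _ h4 h9 hp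
  haveI : IsCyclic σ.ker := isCyclic_of_comm_card_dvd_six (ker_comm σ hσ) hdvd
  exact exists_surj_of_cyclic 6 hdvd

/-- order `3^2 m₃`, no square prime factor besides `2, 3`, quaternion Sylow `2`-subgroups:
the kernel of every finite stem extension is a quotient of `ZMod 3` -/
theorem upper_three {G : Type v} [Group G] [Finite G] (m3 : ℕ)
    (hcard3 : Nat.card G = 3 ^ 2 * m3) (hm3 : ¬ 3 ∣ m3)
    (hsq : ∀ p : ℕ, p.Prime → p ≠ 2 → p ≠ 3 → ¬ p ^ 2 ∣ Nat.card G)
    (hQ : ∀ T : Sylow 2 G, ∃ k : ℕ, Nonempty ((T : Subgroup G) ≃* QuaternionGroup (2 ^ k)))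
    {Γ : Type u} [Group Γ] [Finite Γ] (σ : Γ →* G) (hσ : IsStemExtension σ) :
    ∃ π : Multiplicative (ZMod 3) →* σ.ker, Function.Surjective π := by
  classical
  haveI : Fact (Nat.Prime 2) := ⟨Nat.prime_two⟩
  haveI : Fact (Nat.Prime 3) := ⟨Nat.prime_three⟩
  have h2 : ¬ 2 ^ 1 ∣ Nat.card σ.ker := by
    apply not_pow_dvd_card_ker σ hσ 2 1
    intro T R τ hτ
    obtain ⟨k, ⟨e⟩⟩ := hQ T
    obtain ⟨hτ', hker⟩ := stem_comp_equiv τ hτ e
    have hbot := Cfsg.Agent.S2117.ker_eq_bot_of_quaternion (2 ^ k) _ hτ'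
    rw [hker] at hbot
    rw [hbot, Subgroup.card_bot]
    norm_num
  have h9 : ¬ 3 ^ 2 ∣ Nat.card σ.ker := by
    apply not_pow_dvd_card_ker σ hσ 3 2
    intro T R τ hτ
    have hT : Nat.card (T : Subgroup G) = 3 ^ 2 := card_sylow_eq 3 T 2 m3 hcard3 hm3
    have hle := card_ker_le_of_card_sq 3 hT τ hτ
    calc Nat.card τ.ker ≤ 3 := hle
      _ < 3 ^ 2 := by norm_num
  have hp : ∀ p : ℕ, p.Prime → p ≠ 3 → ¬ p ^ 1 ∣ Nat.card σ.ker := by
    intro p hpp h3
    by_cases hp2 : p = 2
    · subst hp2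
      exact h2
    haveI : Fact p.Prime := ⟨hpp⟩
    apply not_pow_dvd_card_ker σ hσ p 1
    intro T R τ hτ
    obtain ⟨j, hj1, hj⟩ := card_sylow_pow_le_one p T (hsq p hpp hp2 h3)
    have hbot := ker_eq_bot_of_card_pow_le_one p j hj1 hj τ hτ
    rw [hbot, Subgroup.card_bot, pow_one]
    exact hpp.one_lt
  have hdvd : Nat.card σ.ker ∣ 3 := dvd_three_of _ h9 hp
  haveI : IsCyclic σ.ker := isCyclic_of_card_dvd_three hdvd
  exact exists_surj_of_cyclic 3 hdvd

end Cfsg.Agent.Lib.Helper13.SchurUpper
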