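import Mathlib
import Cfsg.Prelude.Def_Classical
import Cfsg.Agent.Lib.Helper6.Symp
import Cfsg.Agent.Lib.Helper15.OddSp

/-!
# The Dickson invariant of the orthogonal group of plus type in characteristic two

For a matrix `[[A, B], [C, D]]` preserving the quadratic form `Σ x_i y_i` over a field of
characteristic two, `tr (B Cᵀ)` is additive.
-/

set_option autoImplicit false

namespace Cfsg.Agent.Lib.Helper13

open Matrix

section alg
variable {F : Type*} [Field F] [CharP F 2] {n : Type*} [Fintype n] [DecidableEq n]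

/-- alternating matrices: symmetric with zero diagonal -/
def IsAltMat (X : Matrix n n F) : Prop := (∀ i, X i i = 0) ∧ Xᵀ = X

theorem trace_mul_alt (X Y : Matrix n n F) (hX : IsAltMat X) (hY : IsAltMat Y) :
    (X * Y).trace = 0 := by
  have hXs : ∀ i j, X j i = X i j := fun i j => by
    have := congrFun (congrFun hX.2 i) j
    simpa using this
  have hYs : ∀ i j, Y j i = Y i j := fun i j => by
    have := congrFun (congrFun hY.2 i) j
    simpa using this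
  have h1 : (X * Y).trace = ∑ p ∈ (Finset.univ : Finset n) ×ˢ (Finset.univ : Finset n),
      X p.1 p.2 * Y p.2 p.1 := by
    rw [Finset.sum_product]
    simp only [Matrix.trace, Matrix.diag, Matrix.mul_apply]
  rw [h1]
  apply Finset.sum_ninvolution (fun p => (p.2, p.1))
  · intro p
    change X p.1 p.2 * Y p.2 p.1 + X p.2 p.1 * Y p.1 p.2 = 0
    rw [hXs p.1 p.2, hYs p.2 p.1, CharTwo.add_self_eq_zero]
  · intro p hp hpp
    apply hp
    have : p.2 = p.1 := congrArg Prod.fst hpp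
    rw [this, hX.1, zero_mul]
  · intro p
    simp
  · intro p
    rfl

theorem neg_eq_self_mat (X : Matrix n n F) : -X = X := by
  ext i j
  simp [CharTwo.neg_eq]

theorem dk_aux (A B C D A' B' C' D' : Matrix n n F)
    (h1 : IsAltMat (Cᵀ * A)) (h2 : IsAltMat (Dᵀ * B)) (h3 : Aᵀ * D + Cᵀ * B = 1)
    (h1' : IsAltMat (B' * A'ᵀ)) (h2' : IsAltMat (D' * C'ᵀ)) (h3' : A' * D'ᵀ + B' * C'ᵀ = 1) :
    ((A * B' + B * D') * (C * A' + D * C')ᵀ).trace = (B * Cᵀ).trace + (B' * C'ᵀ).trace := by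
  have hXX : ∀ X : Matrix n n F, X + X = 0 := fun X => by
    rw [← two_smul F, CharTwo.two_eq_zero, zero_smul]
  have hCB : Cᵀ * B = 1 + Aᵀ * D := by
    rw [← h3, add_comm, ← add_assoc, hXX, zero_add]
  have hDA : D' * A'ᵀ = 1 + C' * B'ᵀ := by
    have := congrArg Matrix.transpose h3'
    rw [Matrix.transpose_add, Matrix.transpose_mul, Matrix.transpose_mul, Matrix.transpose_transpose,
      Matrix.transpose_transpose, Matrix.transpose_one] at this
    rw [← this, add_assoc, hXX, add_zero]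
  have e0 : (A * B' + B * D') * (C * A' + D * C')ᵀ =
      A * (B' * A'ᵀ) * Cᵀ + A * (B' * C'ᵀ) * Dᵀ + B * (D' * A'ᵀ) * Cᵀ + B * (D' * C'ᵀ) * Dᵀ := by
    rw [Matrix.transpose_add, Matrix.transpose_mul, Matrix.transpose_mul]
    simp only [Matrix.add_mul, Matrix.mul_add, Matrix.mul_assoc]
    abel
  have t1 : (A * (B' * A'ᵀ) * Cᵀ).trace = 0 := by
    rw [Matrix.trace_mul_comm, ← Matrix.mul_assoc]
    exact trace_mul_alt _ _ h1 h1'
  have t4 : (B * (D' * C'ᵀ) * Dᵀ).trace = 0 := by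
    rw [Matrix.trace_mul_comm, ← Matrix.mul_assoc]
    exact trace_mul_alt _ _ h2 h2'
  have t3 : (B * (D' * A'ᵀ) * Cᵀ).trace =
      (B * Cᵀ).trace + (B' * C'ᵀ).trace + (Aᵀ * D * (C' * B'ᵀ)).trace := by
    rw [Matrix.trace_mul_comm, ← Matrix.mul_assoc, hDA, Matrix.mul_add, Matrix.mul_one,
      Matrix.trace_add, Matrix.trace_mul_comm Cᵀ B]
    rw [add_assoc]
    congr 1
    rw [hCB, Matrix.add_mul, Matrix.one_mul, Matrix.trace_add]
    congr 1
    rw [← Matrix.trace_transpose, Matrix.transpose_mul, Matrix.transpose_transpose]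
  have t2 : (A * (B' * C'ᵀ) * Dᵀ).trace = (Aᵀ * D * (C' * B'ᵀ)).trace := by
    rw [← Matrix.trace_transpose, Matrix.transpose_mul, Matrix.transpose_mul, Matrix.transpose_mul,
      Matrix.transpose_transpose, Matrix.transpose_transpose, Matrix.trace_mul_comm,
      Matrix.mul_assoc]
    rw [Matrix.trace_mul_comm, Matrix.mul_assoc]
  rw [e0, Matrix.trace_add, Matrix.trace_add, Matrix.trace_add, t1, t4, t2, t3, zero_add, add_zero]
  have : ∀ x y : F, x + (y + x) = y := by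
    intro x y
    rw [add_comm y x, ← add_assoc, CharTwo.add_self_eq_zero, zero_add]
  exact this _ _

end alg

section plus
variable {F : Type*} [Field F] [CharP F 2] {m : ℕ}

local notation "MM" => Matrix (Fin m ⊕ Fin m) (Fin m ⊕ Fin m) F
local notation "Qp" => Cfsg.quadFormPlus m F

/-- the Dickson invariant of a matrix `[[A, B], [C, D]]` -/
def dk (M : MM) : F := (M.toBlocks₁₂ * (M.toBlocks₂₁)ᵀ).trace

theorem pres_symp (M : MM) (hP : ∀ v, Qp (M *ᵥ v) = Qp v) :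
    M ∈ Matrix.symplecticGroup (Fin m) F := by
  rw [Cfsg.Agent.Lib.Helper6.mem_symplecticGroup_iff_preserves]
  intro u v
  rw [← Cfsg.Agent.Lib.Helper15.polar_quadFormPlus, ← Cfsg.Agent.Lib.Helper15.polar_quadFormPlus,
    ← Matrix.mulVec_add, hP, hP, hP]

theorem quadFormPlus_col_inl (M : MM) (i : Fin m) :
    Qp (M *ᵥ Pi.single (Sum.inl i) 1) = (M.toBlocks₂₁ᵀ * M.toBlocks₁₁) i i := by
  unfold Cfsg.quadFormPlus
  rw [Matrix.mul_apply]
  refine Finset.sum_congr rfl fun k _ => ?_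
  rw [Matrix.mulVec_single_one]
  simp [Matrix.toBlocks₂₁, Matrix.toBlocks₁₁, mul_comm]

theorem quadFormPlus_col_inr (M : MM) (i : Fin m) :
    Qp (M *ᵥ Pi.single (Sum.inr i) 1) = (M.toBlocks₂₂ᵀ * M.toBlocks₁₂) i i := by
  unfold Cfsg.quadFormPlus
  rw [Matrix.mul_apply]
  refine Finset.sum_congr rfl fun k _ => ?_
  rw [Matrix.mulVec_single_one]
  simp [Matrix.toBlocks₂₂, Matrix.toBlocks₁₂, mul_comm]

theorem quadFormPlus_single_inl (i : Fin m) : Qp (Pi.single (Sum.inl i) 1) = 0 := by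
  unfold Cfsg.quadFormPlus
  simp

theorem quadFormPlus_single_inr (i : Fin m) : Qp (Pi.single (Sum.inr i) 1) = 0 := by
  unfold Cfsg.quadFormPlus
  simp

theorem col_relations (M : MM) (hP : ∀ v, Qp (M *ᵥ v) = Qp v) :
    IsAltMat (M.toBlocks₂₁ᵀ * M.toBlocks₁₁) ∧ IsAltMat (M.toBlocks₂₂ᵀ * M.toBlocks₁₂) ∧
      M.toBlocks₁₁ᵀ * M.toBlocks₂₂ + M.toBlocks₂₁ᵀ * M.toBlocks₁₂ = 1 := by
  have hS := pres_symp M hP
  have d1 : ∀ i, (M.toBlocks₂₁ᵀ * M.toBlocks₁₁) i i = 0 := fun i => by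
    rw [← quadFormPlus_col_inl, hP, quadFormPlus_single_inl]
  have d2 : ∀ i, (M.toBlocks₂₂ᵀ * M.toBlocks₁₂) i i = 0 := fun i => by
    rw [← quadFormPlus_col_inr, hP, quadFormPlus_single_inr]
  revert d1 d2
  obtain ⟨A, B, C, D, rfl⟩ : ∃ A B C D, M = fromBlocks A B C D :=
    ⟨_, _, _, _, (fromBlocks_toBlocks M).symm⟩
  simp only [toBlocks_fromBlocks₁₁, toBlocks_fromBlocks₁₂, toBlocks_fromBlocks₂₁,
    toBlocks_fromBlocks₂₂]
  intro d1 d2
  obtain ⟨e1, e2, e3⟩ := SymplecticGroup.fromBlocks_mem_iff.mp hS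
  refine ⟨⟨d1, ?_⟩, ⟨d2, ?_⟩, ?_⟩
  · rw [Matrix.transpose_mul, Matrix.transpose_transpose]
    exact e1
  · rw [Matrix.transpose_mul, Matrix.transpose_transpose]
    exact e2
  · rw [sub_eq_add_neg, neg_eq_self_mat] at e3
    exact e3

theorem pres_J (v : Fin m ⊕ Fin m → F) : Qp (Matrix.J (Fin m) F *ᵥ v) = Qp v := by
  unfold Cfsg.quadFormPlus
  refine Finset.sum_congr rfl fun i _ => ?_
  simp [Matrix.J, Matrix.fromBlocks_mulVec, Matrix.neg_mulVec, CharTwo.neg_eq, mul_comm]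

theorem pres_transpose (M Minv : MM) (hinv : Minv * M = 1) (hP : ∀ v, Qp (M *ᵥ v) = Qp v)
    (hPinv : ∀ v, Qp (Minv *ᵥ v) = Qp v) : ∀ v, Qp (Mᵀ *ᵥ v) = Qp v := by
  have hS := SymplecticGroup.mem_iff.mp (pres_symp M hP)
  have h1 : Matrix.J (Fin m) F * Mᵀ = Minv * Matrix.J (Fin m) F := by
    rw [← hS, ← Matrix.mul_assoc, ← Matrix.mul_assoc, hinv, Matrix.one_mul, hS]
  have h2 : Mᵀ = Matrix.J (Fin m) F * Minv * Matrix.J (Fin m) F := by
    rw [Matrix.mul_assoc, ← h1, ← Matrix.mul_assoc, Matrix.J_squared, Matrix.neg_mul,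
      Matrix.one_mul, neg_eq_self_mat]
  intro v
  rw [h2, ← Matrix.mulVec_mulVec, ← Matrix.mulVec_mulVec, pres_J, hPinv, pres_J]

omit [CharP F 2] in
theorem toBlocks₁₂_mul (M M' : MM) : (M * M').toBlocks₁₂ =
    M.toBlocks₁₁ * M'.toBlocks₁₂ + M.toBlocks₁₂ * M'.toBlocks₂₂ := by
  conv_lhs => rw [← fromBlocks_toBlocks M, ← fromBlocks_toBlocks M', fromBlocks_multiply,
    toBlocks_fromBlocks₁₂]

omit [CharP F 2] in
theorem toBlocks₂₁_mul (M M' : MM) : (M * M').toBlocks₂₁ =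
    M.toBlocks₂₁ * M'.toBlocks₁₁ + M.toBlocks₂₂ * M'.toBlocks₂₁ := by
  conv_lhs => rw [← fromBlocks_toBlocks M, ← fromBlocks_toBlocks M', fromBlocks_multiply,
    toBlocks_fromBlocks₂₁]

theorem dk_mul (M M' : MM) (hP : ∀ v, Qp (M *ᵥ v) = Qp v) (hP' : ∀ v, Qp (M'ᵀ *ᵥ v) = Qp v) :
    dk (M * M') = dk M + dk M' := by
  obtain ⟨h1, h2, h3⟩ := col_relations M hP
  obtain ⟨h1', h2', h3'⟩ := col_relations M'ᵀ hP'
  have b11 : (M'ᵀ).toBlocks₁₁ = (M'.toBlocks₁₁)ᵀ := rfl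
  have b12 : (M'ᵀ).toBlocks₁₂ = (M'.toBlocks₂₁)ᵀ := rfl
  have b21 : (M'ᵀ).toBlocks₂₁ = (M'.toBlocks₁₂)ᵀ := rfl
  have b22 : (M'ᵀ).toBlocks₂₂ = (M'.toBlocks₂₂)ᵀ := rfl
  rw [b11, b21, Matrix.transpose_transpose] at h1'
  rw [b12, b22, Matrix.transpose_transpose] at h2'
  rw [b11, b12, b21, b22, Matrix.transpose_transpose, Matrix.transpose_transpose] at h3'
  unfold dk
  rw [toBlocks₁₂_mul, toBlocks₂₁_mul]
  exact dk_aux _ _ _ _ _ _ _ _ h1 h2 h3 h1' h2' h3'

/-- the Dickson invariant as a homomorphism -/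
noncomputable def dicksonHom : Cfsg.isometryGroup F Qp →* Multiplicative F where
  toFun g := Multiplicative.ofAdd (dk ((g : GL (Fin m ⊕ Fin m) F) : MM))
  map_one' := by
    have : dk (1 : MM) = 0 := by
      unfold dk
      have : (1 : MM).toBlocks₁₂ = 0 := by
        ext i j
        simp [Matrix.toBlocks₁₂, Matrix.one_apply]
      rw [this, Matrix.zero_mul, Matrix.trace_zero]
    simp [this]
  map_mul' g h := by
    rw [← ofAdd_add]
    congr 1
    have hg : ∀ v, Qp (((g : GL (Fin m ⊕ Fin m) F) : MM) *ᵥ v) = Qp v := fun v => g.2 v v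
    have hh : ∀ v, Qp (((h : GL (Fin m ⊕ Fin m) F) : MM) *ᵥ v) = Qp v := fun v => h.2 v v
    have hhi : ∀ v, Qp (((h⁻¹ : Cfsg.isometryGroup F Qp) : GL (Fin m ⊕ Fin m) F).1 *ᵥ v) = Qp v :=
      fun v => (h⁻¹).2 v v
    have hinv : ((h⁻¹ : Cfsg.isometryGroup F Qp) : GL (Fin m ⊕ Fin m) F).1 *
        ((h : GL (Fin m ⊕ Fin m) F) : MM) = 1 := by
      have := congrArg (fun x : Cfsg.isometryGroup F Qp => ((x : GL (Fin m ⊕ Fin m) F) : MM))
        (inv_mul_cancel h)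
      simpa using this
    have := dk_mul _ _ hg (pres_transpose _ _ hinv hh hhi)
    simpa using this

theorem dicksonHom_apply (g : Cfsg.isometryGroup F Qp) :
    dicksonHom g = Multiplicative.ofAdd (dk ((g : GL (Fin m ⊕ Fin m) F) : MM)) := rfl

end plus

end Cfsg.Agent.Lib.Helper13
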