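import Mathlib
import Cfsg.Agent.Lib.Helper15.SympCount

set_option autoImplicit false

namespace Cfsg.Agent.Lib.Helper13

open Module

universe u

/-- An alternating bilinear form on a finite-dimensional space has even rank:
`dim V - dim rad` is even, where `rad = {x | ∀ y, B y x = 0}`. -/
theorem even_finrank_sub_radical_aux {F : Type*} [Field F] :
    ∀ (n : ℕ) (V : Type u) [AddCommGroup V] [Module F V] [FiniteDimensional F V]
      (B : V →ₗ[F] V →ₗ[F] F) (_ : ∀ x, B x x = 0) (K : Submodule F V)
      (_ : ∀ x, x ∈ K ↔ ∀ y, B y x = 0), finrank F V = n →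
      Even (finrank F V - finrank F K) := by
  intro n
  induction n using Nat.strong_induction_on with
  | _ n ih =>
    intro V _ _ _ B halt K hK hn
    by_cases hB : ∀ x y, B x y = 0
    · have hKtop : K = ⊤ := eq_top_iff.mpr (fun x _ => (hK x).mpr (fun y => hB y x))
      rw [hKtop, finrank_top, Nat.sub_self]
      exact Even.zero
    · push Not at hB
      obtain ⟨x, y, hxy⟩ := hB
      set c := B x y with hc
      let e : Fin 1 → V := fun _ => x
      let f : Fin 1 → V := fun _ => c⁻¹ • y
      have hfam : Cfsg.Agent.Lib.Helper15.IsSympFam B e f := by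
        refine ⟨fun _ _ => halt x, fun _ _ => halt _, fun i j => ?_⟩
        rw [if_pos (Subsingleton.elim i j)]
        show B x (c⁻¹ • y) = 1
        rw [map_smul, smul_eq_mul, ← hc, inv_mul_cancel₀ hxy]
      set W := Cfsg.Agent.Lib.Helper15.sympPerp B e f with hWdef
      have hW : finrank F W + 2 * 1 = finrank F V :=
        Cfsg.Agent.Lib.Helper15.finrank_sympPerp B halt hfam
      let BW : W →ₗ[F] W →ₗ[F] F := B.compl₁₂ W.subtype W.subtype
      have haltW : ∀ w : W, BW w w = 0 := fun w => halt (w : V)
      let KW : Submodule F W := K.comap W.subtype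
      have hKle : K ≤ W := by
        intro k hk
        rw [hWdef, Cfsg.Agent.Lib.Helper15.mem_sympPerp]
        intro i
        have h0 := (hK k).mp hk
        constructor
        · rw [Cfsg.Agent.Lib.Helper15.alt_swap B halt, h0, neg_zero]
        · rw [Cfsg.Agent.Lib.Helper15.alt_swap B halt, h0, neg_zero]
      have hKW : ∀ w : W, w ∈ KW ↔ ∀ y : W, BW y w = 0 := by
        intro w
        constructor
        · intro hw y
          exact (hK (w : V)).mp hw (y : V)
        · intro hw
          show (w : V) ∈ K
          rw [hK]
          intro z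
          have hd := Cfsg.Agent.Lib.Helper15.sub_sympComb_mem B halt hfam z
          have h1 : B (z - Cfsg.Agent.Lib.Helper15.sympComb e f (fun i => B z (f i))
              (fun i => B z (e i))) (w : V) = 0 := hw ⟨_, hd⟩
          rw [map_sub, LinearMap.sub_apply, sub_eq_zero] at h1
          rw [h1]
          have hwW := (Cfsg.Agent.Lib.Helper15.mem_sympPerp B e f (w : V)).mp w.2
          have he : ∀ i, B (e i) (w : V) = 0 := fun i => by
            rw [Cfsg.Agent.Lib.Helper15.alt_swap B halt, (hwW i).1, neg_zero]
          have hf : ∀ i, B (f i) (w : V) = 0 := fun i => by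
            rw [Cfsg.Agent.Lib.Helper15.alt_swap B halt, (hwW i).2, neg_zero]
          unfold Cfsg.Agent.Lib.Helper15.sympComb
          simp only [map_sub, map_sum, map_smul, LinearMap.sub_apply, LinearMap.sum_apply,
            LinearMap.smul_apply, he, hf, smul_zero, Finset.sum_const_zero, sub_zero]
      have hKWrank : finrank F KW = finrank F K :=
        (Submodule.comapSubtypeEquivOfLe hKle).finrank_eq
      have hle : finrank F KW ≤ finrank F W := Submodule.finrank_le KW
      have hIH := ih (finrank F W) (by omega) W BW haltW KW hKW rfl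
      have heq : finrank F V - finrank F K = (finrank F W - finrank F KW) + 2 := by omega
      rw [heq]
      exact hIH.add even_two

theorem even_finrank_sub_radical {F : Type*} [Field F] {V : Type*} [AddCommGroup V] [Module F V]
    [FiniteDimensional F V] (B : V →ₗ[F] V →ₗ[F] F) (halt : ∀ x, B x x = 0) (K : Submodule F V)
    (hK : ∀ x, x ∈ K ↔ ∀ y, B y x = 0) : Even (finrank F V - finrank F K) :=
  even_finrank_sub_radical_aux _ V B halt K hK rfl

/-- A matrix `M` with `v ⬝ M v = 0` for all `v` (an alternating matrix) has even rank. -/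
theorem even_rank_of_alternating {n : Type*} [Fintype n] [DecidableEq n] {F : Type*} [Field F]
    (M : Matrix n n F) (h : ∀ v : n → F, v ⬝ᵥ (M.mulVec v) = 0) : Even M.rank := by
  let B : (n → F) →ₗ[F] (n → F) →ₗ[F] F := Matrix.toLinearMap₂' F M
  have hB : ∀ u v, B u v = u ⬝ᵥ (M.mulVec v) := fun u v => Matrix.toLinearMap₂'_apply' M u v
  have halt : ∀ x, B x x = 0 := fun x => by rw [hB]; exact h x
  have hK : ∀ x, x ∈ LinearMap.ker M.mulVecLin ↔ ∀ y, B y x = 0 := by
    intro x
    rw [LinearMap.mem_ker, Matrix.mulVecLin_apply]
    constructor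
    · intro hx y
      rw [hB, hx, dotProduct_zero]
    · intro hx
      funext i
      have := hx (Pi.single i 1)
      rw [hB, single_one_dotProduct] at this
      exact this
  have hev := even_finrank_sub_radical B halt _ hK
  have hrn := LinearMap.finrank_range_add_finrank_ker M.mulVecLin
  have hrank : M.rank = finrank F (n → F) - finrank F (LinearMap.ker M.mulVecLin) := by
    unfold Matrix.rank
    omega
  rw [hrank]
  exact hev

end Cfsg.Agent.Lib.Helper13
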