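import Mathlib

set_option autoImplicit false

namespace Cfsg.Agent.Lib.Helper13

open Module

section
universe u
variable {K : Type*} [Field K] [CharP K 2]

/-- A nondegenerate symmetric bilinear form which is not alternating, over a field of
characteristic two in which every element is a square, has an orthonormal family of size the
dimension. -/
theorem exists_orthonormal_of_symm_charTwo (hsq : ∀ x : K, ∃ y : K, y * y = x) :
    ∀ (n : ℕ) (V : Type u) [AddCommGroup V] [Module K V] [FiniteDimensional K V]
      (β : V →ₗ[K] V →ₗ[K] K), finrank K V = n → (∀ x y, β x y = β y x) →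
      (∀ x, (∀ y, β x y = 0) → x = 0) → (∃ v, β v v ≠ 0) →
      ∃ b : Fin n → V, ∀ i j, β (b i) (b j) = if i = j then 1 else 0 := by
  intro n
  induction n with
  | zero =>
    intro V _ _ _ β hn hsym hnd hna
    exfalso
    obtain ⟨v, hv⟩ := hna
    have : Subsingleton V := Module.finrank_zero_iff.mp hn
    have : v = 0 := Subsingleton.elim v 0
    rw [this] at hv
    simp at hv
  | succ n ih =>
    intro V _ _ _ β hn hsym hnd hna
    have h11 : (1 : K) + 1 = 0 := CharTwo.add_self_eq_zero 1
    -- a vector of norm one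
    have h1 : ∃ v1, β v1 v1 = 1 := by
      obtain ⟨v, hv⟩ := hna
      obtain ⟨c, hc⟩ := hsq (β v v)⁻¹
      refine ⟨c • v, ?_⟩
      simp only [map_smul, LinearMap.smul_apply, smul_eq_mul]
      rw [← mul_assoc, hc, inv_mul_cancel₀ hv]
    have hkerdim : ∀ v, β v v = 1 → finrank K (LinearMap.ker (β v)) = n := by
      intro v hv
      have hne : β v ≠ 0 := by
        intro h0
        rw [h0] at hv
        simp at hv
      have := Module.Dual.finrank_ker_add_one_of_ne_zero (f := β v) hne
      omega
    -- a vector of norm one whose orthogonal is not alternating (or is zero)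
    have h2 : ∃ v2, β v2 v2 = 1 ∧ (n = 0 ∨ ∃ w, β v2 w = 0 ∧ β w w ≠ 0) := by
      obtain ⟨v1, hv1⟩ := h1
      by_cases hn0 : n = 0
      · exact ⟨v1, hv1, Or.inl hn0⟩
      by_cases hw : ∃ w, β v1 w = 0 ∧ β w w ≠ 0
      · exact ⟨v1, hv1, Or.inr hw⟩
      push Not at hw
      have hdim := hkerdim v1 hv1
      have hpos : 0 < finrank K (LinearMap.ker (β v1)) := by omega
      have : Nontrivial (LinearMap.ker (β v1)) := Module.finrank_pos_iff.mp hpos
      obtain ⟨e, he⟩ := exists_ne (0 : LinearMap.ker (β v1))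
      have he1 : β v1 e.1 = 0 := LinearMap.mem_ker.mp e.2
      have hene : e.1 ≠ 0 := fun h => he (Subtype.ext h)
      obtain ⟨y, hy⟩ : ∃ y, β e.1 y ≠ 0 := by
        by_contra hcon
        push Not at hcon
        exact hene (hnd e.1 hcon)
      set f' : V := y - β v1 y • v1 with hf'
      have hf'1 : β v1 f' = 0 := by
        rw [hf', map_sub, map_smul, hv1, smul_eq_mul, mul_one, sub_self]
      have hef' : β e.1 f' = β e.1 y := by
        rw [hf', map_sub, map_smul, hsym e.1 v1, he1, smul_zero, sub_zero]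
      set f : V := (β e.1 y)⁻¹ • f' with hf
      have hf1 : β v1 f = 0 := by rw [hf, map_smul, hf'1, smul_zero]
      have hef : β e.1 f = 1 := by
        rw [hf, map_smul, hef', smul_eq_mul, inv_mul_cancel₀ hy]
      have hee : β e.1 e.1 = 0 := hw e.1 he1
      have hff : β f f = 0 := hw f hf1
      have hev1 : β e.1 v1 = 0 := by rw [hsym]; exact he1
      have hfv1 : β f v1 = 0 := by rw [hsym]; exact hf1
      refine ⟨v1 + e.1, ?_, Or.inr ⟨v1 + f, ?_, ?_⟩⟩
      · simp only [map_add, LinearMap.add_apply, hv1, he1, hev1, hee, add_zero]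
      · simp only [map_add, LinearMap.add_apply, hv1, hf1, hev1, hef, add_zero, zero_add, h11]
      · simp only [map_add, LinearMap.add_apply, hv1, hf1, hfv1, hff, add_zero]
        exact one_ne_zero
    obtain ⟨v2, hv2, hcase⟩ := h2
    rcases hcase with hn0 | ⟨w, hw1, hw2⟩
    · subst hn0
      refine ⟨fun _ => v2, ?_⟩
      intro i j
      rw [if_pos (Fin.ext (by omega)), hv2]
    · -- restrict to the orthogonal of v2
      set W : Submodule K V := LinearMap.ker (β v2) with hW
      have hdimW : finrank K W = n := hkerdim v2 hv2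
      let β₂ : W →ₗ[K] W →ₗ[K] K := β.domRestrict₁₂ W W
      have hβ₂ : ∀ x y : W, β₂ x y = β x.1 y.1 := fun x y => rfl
      have hsym₂ : ∀ x y : W, β₂ x y = β₂ y x := fun x y => by rw [hβ₂, hβ₂, hsym]
      have hnd₂ : ∀ x : W, (∀ y : W, β₂ x y = 0) → x = 0 := by
        intro x hx
        apply Subtype.ext
        apply hnd x.1
        intro y
        have hy' : y - β v2 y • v2 ∈ W := by
          rw [hW, LinearMap.mem_ker, map_sub, map_smul, hv2, smul_eq_mul, mul_one, sub_self]
        have h3 := hx ⟨_, hy'⟩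
        rw [hβ₂] at h3
        change β x.1 (y - β v2 y • v2) = 0 at h3
        rw [map_sub, map_smul, hsym x.1 v2, LinearMap.mem_ker.mp x.2, smul_zero, sub_zero] at h3
        exact h3
      have hna₂ : ∃ v : W, β₂ v v ≠ 0 := ⟨⟨w, LinearMap.mem_ker.mpr hw1⟩, hw2⟩
      obtain ⟨b', hb'⟩ := ih W β₂ hdimW hsym₂ hnd₂ hna₂
      refine ⟨Fin.cons v2 (fun i => (b' i).1), ?_⟩
      intro i j
      refine Fin.cases ?_ (fun i' => ?_) i
      · refine Fin.cases ?_ (fun j' => ?_) j
        · rw [Fin.cons_zero, hv2, if_pos rfl]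
        · rw [Fin.cons_zero, Fin.cons_succ, LinearMap.mem_ker.mp (b' j').2,
            if_neg (Fin.succ_ne_zero j').symm]
      · refine Fin.cases ?_ (fun j' => ?_) j
        · rw [Fin.cons_zero, Fin.cons_succ, hsym, LinearMap.mem_ker.mp (b' i').2,
            if_neg (Fin.succ_ne_zero i')]
        · rw [Fin.cons_succ, Fin.cons_succ, ← hβ₂, hb' i' j']
          simp only [Fin.succ_inj]

end

end Cfsg.Agent.Lib.Helper13
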