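import Mathlib
import Cfsg.Agent.S0749

set_option autoImplicit false

namespace Cfsg.Agent.Lib.Helper13

open Module

section
universe u
variable {F V : Type u} [Field F] [CharP F 2] [AddCommGroup V] [Module F V]

/-- In characteristic two, an alternating form is symmetric. -/
theorem alt_symm_charTwo (B : V →ₗ[F] V →ₗ[F] F) (halt : ∀ x, B x x = 0) (x y : V) :
    B x y = B y x := by
  have h := halt (x + y)
  simp only [map_add, LinearMap.add_apply, halt, zero_add, add_zero] at h
  have h2 : B x y = - B y x := by
    rw [eq_neg_iff_add_eq_zero, add_comm]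
    exact h
  rw [h2, CharTwo.neg_eq]

/-- Adjusting a family by elements of the image of `N` so that it becomes totally isotropic. -/
theorem exists_adjust (B : V →ₗ[F] V →ₗ[F] F) (halt : ∀ x, B x x = 0)
    (N : V →ₗ[F] V) (hN : ∀ x, N (N x) = 0) (hBN : ∀ x y, B (N x) y = B x (N y))
    {ι : Type} [Fintype ι] [DecidableEq ι] (u : ι → V)
    (M Minv : Matrix ι ι F) (hM : M * Minv = 1) (hu : ∀ i j, B (u i) (N (u j)) = M i j) :
    ∃ v : ι → V, (∀ i, N (v i) = N (u i)) ∧ (∀ i, v i - u i ∈ LinearMap.range N) ∧
      (∀ i j, B (v i) (v j) = 0) ∧ ∀ i j, B (v i) (N (v j)) = M i j := by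
  classical
  have hsym := alt_symm_charTwo B halt
  have hM' : Minv * M = 1 := mul_eq_one_comm.mp hM
  have hMsym : ∀ i k, M i k = M k i := by
    intro i k
    rw [← hu i k, ← hu k i, ← hBN, hsym]
  have hNN : ∀ x y, B (N x) (N y) = 0 := by
    intro x y
    rw [hBN, hN, map_zero]
  let e := Fintype.equivFin ι
  let D : Matrix ι ι F := Matrix.of fun i j => if (e i : ℕ) < (e j : ℕ) then B (u i) (u j) else 0
  have hD : ∀ i j, D i j = if (e i : ℕ) < (e j : ℕ) then B (u i) (u j) else 0 := fun i j => rfl
  let c : Matrix ι ι F := D * Minv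
  have hcM : c * M = D := by
    change D * Minv * M = D
    rw [Matrix.mul_assoc, hM', Matrix.mul_one]
  let y : ι → V := fun i => ∑ k, c i k • u k
  have hBy : ∀ i j, B (u i) (N (y j)) = D j i := by
    intro i j
    change B (u i) (N (∑ k, c j k • u k)) = D j i
    rw [← hcM, Matrix.mul_apply]
    simp only [map_sum, map_smul, smul_eq_mul]
    apply Finset.sum_congr rfl
    intro k _
    rw [hu, hMsym]
  refine ⟨fun i => u i + N (y i), ?_, ?_, ?_, ?_⟩
  · intro i
    change N (u i + N (y i)) = N (u i)
    rw [map_add, hN, add_zero]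
  · intro i
    change u i + N (y i) - u i ∈ LinearMap.range N
    rw [add_sub_cancel_left]
    exact LinearMap.mem_range_self N (y i)
  · intro i j
    change B (u i + N (y i)) (u j + N (y j)) = 0
    simp only [map_add, LinearMap.add_apply]
    rw [hNN, hBy i j, hsym (N (y i)) (u j), hBy j i, add_zero, hD, hD]
    rcases lt_trichotomy (e i : ℕ) (e j : ℕ) with h | h | h
    · rw [if_pos h, if_neg (by omega), add_zero]
      exact CharTwo.add_self_eq_zero _
    · have hij : i = j := e.injective (Fin.ext h)
      subst hij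
      rw [if_neg (by omega), halt]
      simp
    · rw [if_neg (by omega), if_pos h, hsym (u j) (u i), add_zero]
      exact CharTwo.add_self_eq_zero _
  · intro i j
    change B (u i + N (y i)) (N (u j + N (y j))) = M i j
    rw [map_add N, hN, add_zero, map_add, LinearMap.add_apply, hNN, add_zero, hu]

variable [FiniteDimensional F V]

/-- Two square-zero self-adjoint maps with the same normal-form data are intertwined by an
isometry. -/
theorem exists_isometry_intertwining (B : V →ₗ[F] V →ₗ[F] F) (halt : ∀ x, B x x = 0)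
    (hnd : ∀ x, (∀ y, B x y = 0) → x = 0)
    (N N' : V →ₗ[F] V) (hN : ∀ x, N (N x) = 0) (hN' : ∀ x, N' (N' x) = 0)
    (hBN : ∀ x y, B (N x) y = B x (N y)) (hBN' : ∀ x y, B (N' x) y = B x (N' y))
    {ι : Type} [Fintype ι] [DecidableEq ι] (u u' : ι → V)
    (M Minv : Matrix ι ι F) (hM : M * Minv = 1)
    (hu : ∀ i j, B (u i) (N (u j)) = M i j) (hu' : ∀ i j, B (u' i) (N' (u' j)) = M i j)
    (hspan : Submodule.span F (Set.range u) ⊔ LinearMap.ker N = ⊤)
    (hspan' : Submodule.span F (Set.range u') ⊔ LinearMap.ker N' = ⊤) :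
    ∃ g : V ≃ₗ[F] V, (∀ x y, B (g x) (g y) = B x y) ∧ ∀ x, g (N x) = N' (g x) := by
  classical
  have hsym := alt_symm_charTwo B halt
  have hM' : Minv * M = 1 := mul_eq_one_comm.mp hM
  obtain ⟨v, hv1, hv2, hv3, hv4⟩ := exists_adjust B halt N hN hBN u M Minv hM hu
  obtain ⟨v', hv1', hv2', hv3', hv4'⟩ := exists_adjust B halt N' hN' hBN' u' M Minv hM hu'
  have hNN : ∀ x y, B (N x) (N y) = 0 := by
    intro x y
    rw [hBN, hN, map_zero]
  have hNN' : ∀ x y, B (N' x) (N' y) = 0 := by
    intro x y
    rw [hBN', hN', map_zero]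
  -- spans
  have hrk : LinearMap.range N ≤ LinearMap.ker N := by
    rintro _ ⟨x, rfl⟩
    exact LinearMap.mem_ker.mpr (hN x)
  have hrk' : LinearMap.range N' ≤ LinearMap.ker N' := by
    rintro _ ⟨x, rfl⟩
    exact LinearMap.mem_ker.mpr (hN' x)
  have hspanv : Submodule.span F (Set.range v) ⊔ LinearMap.ker N = ⊤ := by
    rw [eq_top_iff, ← hspan]
    apply sup_le _ le_sup_right
    rw [Submodule.span_le]
    rintro _ ⟨i, rfl⟩
    have h1 : u i = v i - (v i - u i) := by abel
    rw [h1]
    apply Submodule.sub_mem
    · exact Submodule.mem_sup_left (Submodule.subset_span ⟨i, rfl⟩)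
    · exact Submodule.mem_sup_right (hrk (hv2 i))
  have hspanv' : Submodule.span F (Set.range v') ⊔ LinearMap.ker N' = ⊤ := by
    rw [eq_top_iff, ← hspan']
    apply sup_le _ le_sup_right
    rw [Submodule.span_le]
    rintro _ ⟨i, rfl⟩
    have h1 : u' i = v' i - (v' i - u' i) := by abel
    rw [h1]
    apply Submodule.sub_mem
    · exact Submodule.mem_sup_left (Submodule.subset_span ⟨i, rfl⟩)
    · exact Submodule.mem_sup_right (hrk' (hv2' i))
  -- the two embeddings
  let p : ι ⊕ ι → V := Sum.elim v (fun i => N (v i))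
  let p' : ι ⊕ ι → V := Sum.elim v' (fun i => N' (v' i))
  have hG : ∀ a b, B (p a) (p b) = B (p' a) (p' b) := by
    intro a b
    rcases a with i | i <;> rcases b with j | j
    · change B (v i) (v j) = B (v' i) (v' j)
      rw [hv3, hv3']
    · change B (v i) (N (v j)) = B (v' i) (N' (v' j))
      rw [hv4, hv4']
    · change B (N (v i)) (v j) = B (N' (v' i)) (v' j)
      rw [hBN, hBN', hv4, hv4']
    · change B (N (v i)) (N (v j)) = B (N' (v' i)) (N' (v' j))
      rw [hNN, hNN']
  let f : (ι ⊕ ι → F) →ₗ[F] V := Fintype.linearCombination F p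
  let f' : (ι ⊕ ι → F) →ₗ[F] V := Fintype.linearCombination F p'
  have hiso : ∀ a b, B (f a) (f b) = B (f' a) (f' b) := by
    intro a b
    change B (Fintype.linearCombination F p a) (Fintype.linearCombination F p b) =
      B (Fintype.linearCombination F p' a) (Fintype.linearCombination F p' b)
    simp only [Fintype.linearCombination_apply, map_sum, map_smul, LinearMap.sum_apply,
      LinearMap.smul_apply, smul_eq_mul, hG]
  -- injectivity from the Gram matrix
  have hinj_aux : ∀ (w : ι → V) (L : V →ₗ[F] V), (∀ i j, B (w i) (w j) = 0) →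
      (∀ i j, B (w i) (L (w j)) = M i j) → (∀ x y, B (L x) (L y) = 0) →
      (∀ x y, B (L x) y = B x (L y)) →
      Function.Injective (Fintype.linearCombination F (Sum.elim w (fun i => L (w i)))) := by
    intro w L h3 h4 hLL hBL
    rw [← LinearMap.ker_eq_bot, Submodule.eq_bot_iff]
    intro x hx
    rw [LinearMap.mem_ker, Fintype.linearCombination_apply, Fintype.sum_sum_type] at hx
    simp only [Sum.elim_inl, Sum.elim_inr] at hx
    -- first half
    have hl : (fun i => x (Sum.inl i)) = 0 := by
      have h5 : Matrix.vecMul (fun i => x (Sum.inl i)) M = 0 := by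
        funext j
        have h6 := congrArg (fun z => B z (L (w j))) hx
        simp only [map_add, map_sum, map_smul, LinearMap.add_apply, LinearMap.sum_apply,
          LinearMap.smul_apply, smul_eq_mul, h4, hLL, mul_zero, Finset.sum_const_zero, add_zero,
          map_zero, LinearMap.zero_apply] at h6
        rw [Matrix.vecMul, dotProduct, Pi.zero_apply]
        exact h6
      have h7 := congrArg (fun z => Matrix.vecMul z Minv) h5
      simp only [Matrix.vecMul_vecMul, hM, Matrix.vecMul_one, Matrix.zero_vecMul] at h7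
      exact h7
    have hr : (fun i => x (Sum.inr i)) = 0 := by
      have h5 : Matrix.mulVec M (fun i => x (Sum.inr i)) = 0 := by
        funext j
        have h6 := congrArg (fun z => B (w j) z) hx
        simp only [map_add, map_sum, map_smul, smul_eq_mul, h3, h4, mul_zero,
          Finset.sum_const_zero, zero_add, map_zero] at h6
        rw [Matrix.mulVec, dotProduct, Pi.zero_apply]
        rw [← h6]
        apply Finset.sum_congr rfl
        intro i _
        rw [mul_comm]
      have h7 := congrArg (fun z => Matrix.mulVec Minv z) h5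
      simp only [Matrix.mulVec_mulVec, hM', Matrix.one_mulVec, Matrix.mulVec_zero] at h7
      exact h7
    funext a
    rcases a with i | i
    · exact congrFun hl i
    · exact congrFun hr i
  have hf : Function.Injective f := hinj_aux v N hv3 hv4 hNN hBN
  have hf' : Function.Injective f' := hinj_aux v' N' hv3' hv4' hNN' hBN'
  have hle : finrank F (ι ⊕ ι → F) ≤ finrank F V := LinearMap.finrank_le_finrank_of_injective hf
  have hBnd : LinearMap.BilinForm.Nondegenerate (B : LinearMap.BilinForm F V) := by
    refine ⟨hnd, ?_⟩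
    intro y hy
    apply hnd y
    intro x
    rw [hsym]
    exact hy x
  obtain ⟨g, hg1, hg2⟩ := Cfsg.Agent.S0749.witt_alt (B : LinearMap.BilinForm F V) hBnd halt
    (finrank F V - finrank F (ι ⊕ ι → F)) (ι ⊕ ι → F) f f' hf hf' hiso (by omega)
  have hgp : ∀ a, g (p a) = p' a := by
    intro a
    have h := hg2 (Pi.single a 1)
    change g (Fintype.linearCombination F p (Pi.single a 1)) =
      Fintype.linearCombination F p' (Pi.single a 1) at h
    rw [Fintype.linearCombination_apply_single, Fintype.linearCombination_apply_single, one_smul,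
      one_smul] at h
    exact h
  have hgv : ∀ i, g (v i) = v' i := fun i => hgp (Sum.inl i)
  have hgNv : ∀ i, g (N (v i)) = N' (v' i) := fun i => hgp (Sum.inr i)
  refine ⟨g, hg1, ?_⟩
  -- intertwining on the span
  have hA : ∀ s ∈ Submodule.span F (Set.range v), g (N s) = N' (g s) := by
    intro s hs
    induction hs using Submodule.span_induction with
    | mem s hs =>
      obtain ⟨i, rfl⟩ := hs
      rw [hgNv, hgv]
    | zero => simp
    | add a b _ _ ha hb => rw [map_add, map_add, ha, hb, map_add, map_add]
    | smul c a _ ha => rw [map_smul, map_smul, ha, map_smul, map_smul]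
  have hB2 : ∀ k ∈ LinearMap.ker N, N' (g k) = 0 := by
    intro k hk
    rw [LinearMap.mem_ker] at hk
    have hC : ∀ s' ∈ Submodule.span F (Set.range v'), B (g k) (N' s') = 0 := by
      intro s' hs'
      induction hs' using Submodule.span_induction with
      | mem s hs =>
        obtain ⟨i, rfl⟩ := hs
        rw [← hgNv, hg1, ← hBN, hk, map_zero, LinearMap.zero_apply]
      | zero => simp
      | add a b _ _ ha hb => rw [map_add, map_add, ha, hb, add_zero]
      | smul c a _ ha => rw [map_smul, map_smul, ha, smul_zero]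
    apply hnd
    intro z
    rw [hBN']
    have hz : z ∈ Submodule.span F (Set.range v') ⊔ LinearMap.ker N' := by
      rw [hspanv']; exact Submodule.mem_top
    obtain ⟨s', hs', k', hk', rfl⟩ := Submodule.mem_sup.mp hz
    rw [LinearMap.mem_ker] at hk'
    rw [map_add, hk', add_zero]
    exact hC s' hs'
  intro x
  have hx : x ∈ Submodule.span F (Set.range v) ⊔ LinearMap.ker N := by
    rw [hspanv]; exact Submodule.mem_top
  obtain ⟨s, hs, k, hk, rfl⟩ := Submodule.mem_sup.mp hx
  rw [map_add, map_add, map_add, map_add, hA s hs, hB2 k hk, LinearMap.mem_ker.mp hk, map_zero]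

end

end Cfsg.Agent.Lib.Helper13
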