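import Mathlib
import Cfsg.Agent.Lib.Helper13.SymmCharTwo
import Cfsg.Agent.Lib.Helper13.AltRank
import Cfsg.Agent.Lib.Helper13.SympInvolConj
import Cfsg.Agent.Lib.Helper16.SympEmbed

set_option autoImplicit false

namespace Cfsg.Agent.Lib.Helper13

open Module

section
universe u
variable {F V : Type u} [Field F] [Finite F] [CharP F 2] [AddCommGroup V] [Module F V]
  [FiniteDimensional F V]

theorem exists_sq_of_finite_charTwo (x : F) : ∃ y : F, y * y = x := by
  have : Fact (Nat.Prime 2) := ⟨Nat.prime_two⟩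
  refine ⟨(frobeniusEquiv F 2).symm x, ?_⟩
  have h := frobeniusEquiv_def F 2 ((frobeniusEquiv F 2).symm x)
  rw [RingEquiv.apply_symm_apply] at h
  rw [← pow_two]
  exact h.symm

omit [Finite F] in
/-- A complement of the kernel of `N`, on which `(x, y) ↦ B x (N y)` is a nondegenerate
symmetric form. -/
theorem exists_compl_data (B : V →ₗ[F] V →ₗ[F] F) (halt : ∀ x, B x x = 0)
    (hnd : ∀ x, (∀ y, B x y = 0) → x = 0)
    (N : V →ₗ[F] V) (hBN : ∀ x y, B (N x) y = B x (N y)) :
    ∃ C : Submodule F V, IsCompl (LinearMap.ker N) C ∧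
      finrank F C = finrank F (LinearMap.range N) ∧
      (∀ x y : V, B x (N y) = B y (N x)) ∧
      (∀ x : C, (∀ y : C, B x.1 (N y.1) = 0) → x = 0) ∧
      (∀ x : V, ∃ k ∈ LinearMap.ker N, ∃ c ∈ C, k + c = x) := by
  have hsym := alt_symm_charTwo B halt
  obtain ⟨C, hC⟩ := Submodule.exists_isCompl (LinearMap.ker N)
  have hdec : ∀ x : V, ∃ k ∈ LinearMap.ker N, ∃ c ∈ C, k + c = x := by
    intro x
    have hx : x ∈ LinearMap.ker N ⊔ C := by rw [hC.sup_eq_top]; exact Submodule.mem_top
    exact Submodule.mem_sup.mp hx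
  refine ⟨C, hC, ?_, ?_, ?_, hdec⟩
  · have h1 := Submodule.finrank_add_eq_of_isCompl hC
    have h2 := LinearMap.finrank_range_add_finrank_ker N
    omega
  · intro x y
    rw [← hBN, hsym]
  · intro x hx
    have hxk : x.1 ∈ LinearMap.ker N := by
      rw [LinearMap.mem_ker]
      apply hnd
      intro z
      rw [hBN]
      obtain ⟨k, hk, c, hc, rfl⟩ := hdec z
      rw [map_add, LinearMap.mem_ker.mp hk, zero_add]
      exact hx ⟨c, hc⟩
    have h0 : x.1 ∈ LinearMap.ker N ⊓ C := ⟨hxk, x.2⟩
    rw [hC.inf_eq_bot, Submodule.mem_bot] at h0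
    exact Subtype.ext h0

/-- Normal family in the non-alternating case: an orthonormal family for `(x, y) ↦ B x (N y)`. -/
theorem exists_normal_family_nonalt (B : V →ₗ[F] V →ₗ[F] F) (halt : ∀ x, B x x = 0)
    (hnd : ∀ x, (∀ y, B x y = 0) → x = 0)
    (N : V →ₗ[F] V) (hBN : ∀ x y, B (N x) y = B x (N y))
    (hna : ∃ v, B v (N v) ≠ 0) :
    ∃ u : Fin (finrank F (LinearMap.range N)) → V,
      (∀ i j, B (u i) (N (u j)) = (1 : Matrix (Fin (finrank F (LinearMap.range N)))
        (Fin (finrank F (LinearMap.range N))) F) i j) ∧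
      Submodule.span F (Set.range u) ⊔ LinearMap.ker N = ⊤ := by
  classical
  obtain ⟨C, hC, hdim, hsymβ, hndβ, hdec⟩ := exists_compl_data B halt hnd N hBN
  let β : C →ₗ[F] C →ₗ[F] F := (B.compl₂ N).domRestrict₁₂ C C
  have hβ : ∀ x y : C, β x y = B x.1 (N y.1) := fun x y => rfl
  have hnaC : ∃ v : C, β v v ≠ 0 := by
    obtain ⟨v, hv⟩ := hna
    obtain ⟨k, hk, c, hc, rfl⟩ := hdec v
    refine ⟨⟨c, hc⟩, ?_⟩
    rw [hβ]
    intro h0
    apply hv
    rw [map_add N, LinearMap.mem_ker.mp hk, zero_add, map_add, LinearMap.add_apply, h0, add_zero,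
      ← hBN, LinearMap.mem_ker.mp hk, map_zero, LinearMap.zero_apply]
  obtain ⟨b, hb⟩ := exists_orthonormal_of_symm_charTwo (K := F) exists_sq_of_finite_charTwo
    (finrank F (LinearMap.range N)) C β hdim (fun x y => by rw [hβ, hβ, hsymβ])
    (fun x hx => hndβ x (fun y => by rw [← hβ]; exact hx y)) hnaC
  have hli : LinearIndependent F b := by
    rw [Fintype.linearIndependent_iff]
    intro g hg j
    have h1 := congrArg (fun z => β (b j) z) hg
    simp only [map_sum, map_smul, smul_eq_mul, hb, mul_ite, mul_one, mul_zero, map_zero,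
      Finset.sum_ite_eq, Finset.mem_univ, if_true] at h1
    exact h1
  have htop : Submodule.span F (Set.range b) = ⊤ :=
    hli.span_eq_top_of_card_eq_finrank' (by rw [Fintype.card_fin, hdim])
  refine ⟨fun i => (b i).1, ?_, ?_⟩
  · intro i j
    rw [← hβ, hb, Matrix.one_apply]
  · rw [eq_top_iff]
    intro x _
    obtain ⟨k, hk, c, hc, rfl⟩ := hdec x
    apply Submodule.add_mem
    · exact Submodule.mem_sup_right hk
    · apply Submodule.mem_sup_left
      have h1 : (⟨c, hc⟩ : C) ∈ Submodule.span F (Set.range b) := by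
        rw [htop]; exact Submodule.mem_top
      have h2 := Submodule.apply_mem_span_image_of_mem_span C.subtype h1
      rw [← Set.range_comp] at h2
      exact h2

/-- Normal family in the alternating case: a symplectic family for `(x, y) ↦ B x (N y)`. -/
theorem exists_normal_family_alt (B : V →ₗ[F] V →ₗ[F] F) (halt : ∀ x, B x x = 0)
    (hnd : ∀ x, (∀ y, B x y = 0) → x = 0)
    (N : V →ₗ[F] V) (hBN : ∀ x y, B (N x) y = B x (N y))
    (ha : ∀ v, B v (N v) = 0) :
    ∃ k : ℕ, finrank F (LinearMap.range N) = 2 * k ∧ ∃ u : Fin k ⊕ Fin k → V,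
      (∀ c c', B (u c) (N (u c')) = Matrix.J (Fin k) F c c') ∧
      Submodule.span F (Set.range u) ⊔ LinearMap.ker N = ⊤ := by
  classical
  obtain ⟨C, hC, hdim, hsymβ, hndβ, hdec⟩ := exists_compl_data B halt hnd N hBN
  let β : C →ₗ[F] C →ₗ[F] F := (B.compl₂ N).domRestrict₁₂ C C
  have hβ : ∀ x y : C, β x y = B x.1 (N y.1) := fun x y => rfl
  have haltβ : ∀ x : C, β x x = 0 := fun x => ha x.1
  have hndβ' : ∀ x : C, (∀ y : C, β x y = 0) → x = 0 :=
    fun x hx => hndβ x (fun y => by rw [← hβ]; exact hx y)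
  have heven : Even (finrank F C) := by
    have h := even_finrank_sub_radical β haltβ ⊥ (by
      intro x
      rw [Submodule.mem_bot]
      constructor
      · rintro rfl y
        simp
      · intro h
        apply hndβ' x
        intro y
        rw [hβ, hsymβ, ← hβ]
        exact h y)
    rw [finrank_bot, Nat.sub_zero] at h
    exact h
  obtain ⟨k, hk⟩ := heven
  have hk2 : finrank F C = 2 * k := by omega
  obtain ⟨Ψ, hΨ⟩ := Cfsg.Agent.Lib.Helper16.exists_symp_equiv β haltβ hndβ' k hk2
  refine ⟨k, by rw [← hdim, hk2], fun c => (Ψ (Pi.single c 1)).1, ?_, ?_⟩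
  · intro c c'
    rw [← hβ, hΨ]
    unfold Cfsg.sympForm
    rw [Matrix.mulVec_single_one, single_dotProduct, one_mul]
    rfl
  · rw [eq_top_iff]
    intro x _
    obtain ⟨k', hk', c, hc, rfl⟩ := hdec x
    apply Submodule.add_mem
    · exact Submodule.mem_sup_right hk'
    · apply Submodule.mem_sup_left
      have h0 : Submodule.span F (Set.range fun c : Fin k ⊕ Fin k => Ψ (Pi.single c 1)) = ⊤ := by
        have h1 := (Pi.basisFun F (Fin k ⊕ Fin k)).span_eq
        have h2 := Submodule.map_span Ψ.toLinearMap (Set.range (Pi.basisFun F (Fin k ⊕ Fin k)))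
        rw [h1, Submodule.map_top, LinearMap.range_eq_top.mpr Ψ.surjective, ← Set.range_comp] at h2
        rw [h2]
        congr 2
        funext c
        simp [Pi.basisFun_apply]
      have h1 : (⟨c, hc⟩ : C) ∈
          Submodule.span F (Set.range fun c : Fin k ⊕ Fin k => Ψ (Pi.single c 1)) := by
        rw [h0]; exact Submodule.mem_top
      have h2 := Submodule.apply_mem_span_image_of_mem_span C.subtype h1
      rw [← Set.range_comp] at h2
      exact h2

end

end Cfsg.Agent.Lib.Helper13
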