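import Mathlib
import Cfsg.Agent.S0750
import Cfsg.Agent.Lib.Helper13.SympInvolNormal

/-!
# Orthogonal groups in characteristic two: reflections and involutions

The isometry group of a quadratic form as a subgroup of the linear automorphisms, its reflections
(orthogonal transvections), and the decomposition of involutions as products of reflections.
-/

set_option autoImplicit false

namespace Cfsg.Agent.Lib.Helper13

open Module QuadraticMap
open scoped commutatorElement

section defs
variable {F V : Type*} [Field F] [AddCommGroup V] [Module F V] (Q : QuadraticForm F V)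

/-- the isometry group of a quadratic form as a subgroup of the linear automorphisms -/
def isoGroup : Subgroup (V ≃ₗ[F] V) where
  carrier := {g | ∀ v, Q (g v) = Q v}
  mul_mem' := fun {a b} ha hb v => by rw [LinearEquiv.mul_apply, ha, hb]
  one_mem' := fun _ => rfl
  inv_mem' := fun {a} ha v => by
    have h := ha (a⁻¹ v)
    rw [← LinearEquiv.mul_apply, mul_inv_cancel] at h
    exact h.symm

theorem mem_isoGroup (g : V ≃ₗ[F] V) : g ∈ isoGroup Q ↔ ∀ v, Q (g v) = Q v := Iff.rfl

theorem isoGroup_map (g : isoGroup Q) (x : V) : Q (g.1 x) = Q x := g.2 x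

theorem isoGroup_polar (g : isoGroup Q) (x y : V) : polar Q (g.1 x) (g.1 y) = polar Q x y := by
  unfold polar
  rw [← map_add, g.2, g.2, g.2]

theorem isoGroup_inv_apply (g : isoGroup Q) (x : V) : g.1 ((g⁻¹).1 x) = x := by
  have : (g * g⁻¹).1 x = x := by rw [mul_inv_cancel]; rfl
  exact this

theorem isoGroup_inv_apply' (g : isoGroup Q) (x : V) : (g⁻¹).1 (g.1 x) = x := by
  have : (g⁻¹ * g).1 x = x := by rw [inv_mul_cancel]; rfl
  exact this

variable [CharP F 2]

/-- the linear map `x ↦ x + f(a,x) a` -/
noncomputable def reflMap (a : V) : V →ₗ[F] V := LinearMap.id + (polarBilin Q a).smulRight a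

theorem reflMap_apply (a x : V) : reflMap Q a x = x + polar Q a x • a := by
  simp [reflMap]

theorem polar_self_charTwo (a : V) : polar Q a a = 0 := by
  rw [polar_self, two_nsmul, CharTwo.add_self_eq_zero]

omit Q in
theorem smul_add_self_charTwo (c : F) (a : V) : c • a + c • a = 0 := by
  rw [← add_smul, CharTwo.add_self_eq_zero, zero_smul]

omit Q in
theorem add_self_charTwo (F : Type*) {V : Type*} [Field F] [CharP F 2] [AddCommGroup V]
    [Module F V] (a : V) : a + a = 0 := by
  have := smul_add_self_charTwo (1 : F) a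
  rwa [one_smul] at this

omit Q in
theorem neg_eq_charTwo (F : Type*) {V : Type*} [Field F] [CharP F 2] [AddCommGroup V]
    [Module F V] (a : V) : -a = a := by
  rw [neg_eq_iff_add_eq_zero]; exact add_self_charTwo F a

theorem reflMap_involutive (a : V) (ha : Q a = 1) : Function.Involutive (reflMap Q a) := by
  intro x
  rw [reflMap_apply, reflMap_apply, polar_add_right, polar_smul_right, polar_self_charTwo,
    smul_zero, add_zero, add_assoc, smul_add_self_charTwo, add_zero]

open Classical in
/-- the reflection in a vector `a` with `Q a = 1` (the identity for other vectors) -/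
noncomputable def reflEquiv (a : V) : V ≃ₗ[F] V :=
  if h : Q a = 1 then LinearEquiv.ofInvolutive (reflMap Q a) (reflMap_involutive Q a h) else 1

theorem reflEquiv_apply (a x : V) (ha : Q a = 1) : reflEquiv Q a x = x + polar Q a x • a := by
  unfold reflEquiv
  rw [dif_pos ha]
  exact reflMap_apply Q a x

theorem reflEquiv_of_ne (a : V) (ha : Q a ≠ 1) : reflEquiv Q a = 1 := by
  unfold reflEquiv
  rw [dif_neg ha]

theorem reflEquiv_mem (a : V) : reflEquiv Q a ∈ isoGroup Q := by
  by_cases ha : Q a = 1
  · intro x
    rw [reflEquiv_apply Q a x ha, QuadraticMap.map_add Q, QuadraticMap.map_smul, ha,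
      polar_smul_right, polar_comm Q x a, smul_eq_mul, smul_eq_mul, mul_one, add_assoc,
      CharTwo.add_self_eq_zero, add_zero]
  · rw [reflEquiv_of_ne Q a ha]
    exact (isoGroup Q).one_mem

/-- the reflection as an element of the isometry group -/
noncomputable def reflO (a : V) : isoGroup Q := ⟨reflEquiv Q a, reflEquiv_mem Q a⟩

theorem reflO_apply (a x : V) (ha : Q a = 1) : (reflO Q a).1 x = x + polar Q a x • a :=
  reflEquiv_apply Q a x ha

theorem reflO_mul_self (a : V) : reflO Q a * reflO Q a = 1 := by
  apply Subtype.ext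
  apply LinearEquiv.ext
  intro x
  change reflEquiv Q a (reflEquiv Q a x) = x
  by_cases ha : Q a = 1
  · rw [reflEquiv_apply Q a _ ha, reflEquiv_apply Q a _ ha, ← reflMap_apply, ← reflMap_apply]
    exact reflMap_involutive Q a ha x
  · rw [reflEquiv_of_ne Q a ha]; rfl

theorem reflO_inv (a : V) : (reflO Q a)⁻¹ = reflO Q a :=
  inv_eq_of_mul_eq_one_right (reflO_mul_self Q a)

theorem conj_reflO (g : isoGroup Q) (a : V) : g * reflO Q a * g⁻¹ = reflO Q (g.1 a) := by
  by_cases ha : Q a = 1
  · have hga : Q (g.1 a) = 1 := by rw [g.2]; exact ha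
    apply Subtype.ext
    apply LinearEquiv.ext
    intro x
    change g.1 ((reflO Q a).1 ((g⁻¹).1 x)) = (reflO Q (g.1 a)).1 x
    rw [reflO_apply Q a _ ha, reflO_apply Q _ _ hga, map_add, map_smul, isoGroup_inv_apply,
      ← isoGroup_polar Q g a, isoGroup_inv_apply]
  · have hga : Q (g.1 a) ≠ 1 := by rw [g.2]; exact ha
    have h1 : reflO Q a = 1 := Subtype.ext (reflEquiv_of_ne Q a ha)
    have h2 : reflO Q (g.1 a) = 1 := Subtype.ext (reflEquiv_of_ne Q _ hga)
    rw [h1, h2, mul_one, mul_inv_cancel]

end defs

section main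
universe u
variable {F V : Type u} [Field F] [Finite F] [CharP F 2] [AddCommGroup V] [Module F V]
  [FiniteDimensional F V] (Q : QuadraticForm F V)

/-- Witt transitivity on vectors of value one -/
theorem exists_iso_map (hQ : (polarBilin Q).Nondegenerate) (a b : V) (ha : Q a = 1)
    (hb : Q b = 1) : ∃ g : isoGroup Q, g.1 a = b := by
  have ha0 : a ≠ 0 := by
    rintro rfl
    rw [QuadraticMap.map_zero] at ha
    exact zero_ne_one ha
  have hb0 : b ≠ 0 := by
    rintro rfl
    rw [QuadraticMap.map_zero] at hb
    exact zero_ne_one hb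
  let φ : (F ∙ a) ≃ₗ[F] (F ∙ b) :=
    (LinearEquiv.coord F V a ha0).trans (LinearEquiv.toSpanNonzeroSingleton F V b hb0)
  have hφ : ∀ x : (F ∙ a), ((φ x : (F ∙ b)) : V) = (LinearEquiv.coord F V a ha0 x) • b := by
    intro x
    rfl
  obtain ⟨g, hg1, hg2⟩ := Cfsg.Agent.S0750.result Q hQ (F ∙ a) (F ∙ b) φ (by
    intro x
    rw [hφ, QuadraticMap.map_smul, hb]
    conv_rhs => rw [← LinearEquiv.coord_apply_smul F V a ha0 x, QuadraticMap.map_smul, ha])
  refine ⟨⟨g, hg1⟩, ?_⟩
  have := hg2 ⟨a, Submodule.mem_span_singleton_self a⟩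
  rw [hφ, LinearEquiv.coord_self, one_smul] at this
  exact this

/-- the product of two reflections is a commutator -/
theorem reflO_mul_reflO_mem (hQ : (polarBilin Q).Nondegenerate) (a b : V) (ha : Q a = 1)
    (hb : Q b = 1) : reflO Q a * reflO Q b ∈ commutator (isoGroup Q) := by
  obtain ⟨g, hg⟩ := exists_iso_map Q hQ a b ha hb
  have h1 : reflO Q a * reflO Q b = ⁅reflO Q a, g⁆ := by
    rw [commutatorElement_def, reflO_inv, ← hg, ← conj_reflO, mul_assoc, mul_assoc, mul_assoc]
  rw [h1, commutator_def]
  exact Subgroup.commutator_mem_commutator (Subgroup.mem_top _) (Subgroup.mem_top _)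

/-- a product of an even number of reflections lies in the commutator subgroup -/
theorem reflO_list_prod_mem (hQ : (polarBilin Q).Nondegenerate) :
    ∀ (n : ℕ) (L : List V), L.length = 2 * n → (∀ a ∈ L, Q a = 1) →
      (L.map (reflO Q)).prod ∈ commutator (isoGroup Q) := by
  intro n
  induction n with
  | zero =>
    intro L hL _
    have : L = [] := List.length_eq_zero_iff.mp (by omega)
    subst this
    simp
  | succ n ih =>
    intro L hL hL1
    match L, hL, hL1 with
    | a :: b :: L', hL, hL1 =>
      have hlen : L'.length = 2 * n := by simp at hL; omega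
      have h1 := ih L' hlen (fun c hc => hL1 c (by simp [hc]))
      have h2 := reflO_mul_reflO_mem Q hQ a b (hL1 a (by simp)) (hL1 b (by simp))
      rw [List.map_cons, List.map_cons, List.prod_cons, List.prod_cons, ← mul_assoc]
      exact Subgroup.mul_mem _ h2 h1
    | [], hL, _ => simp at hL
    | [a], hL, _ => simp at hL; omega

omit [Finite F] [CharP F 2] [FiniteDimensional F V] in
/-- a product of automorphisms acting trivially on a submodule containing all their
displacements -/
theorem list_prod_apply (W : Submodule F V) (L : List (V ≃ₗ[F] V))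
    (h1 : ∀ g ∈ L, ∀ x, g x - x ∈ W) (h2 : ∀ g ∈ L, ∀ w ∈ W, g w = w) (x : V) :
    L.prod x = x + (L.map (fun g => g x - x)).sum := by
  induction L with
  | nil => simp
  | cons g L ih =>
    have ih' := ih (fun g' hg' => h1 g' (List.mem_cons_of_mem _ hg'))
      (fun g' hg' => h2 g' (List.mem_cons_of_mem _ hg'))
    have hs : (L.map (fun g => g x - x)).sum ∈ W := by
      apply list_sum_mem
      intro y hy
      obtain ⟨g', hg', rfl⟩ := List.mem_map.mp hy
      exact h1 g' (List.mem_cons_of_mem _ hg') x
    rw [List.prod_cons, LinearEquiv.mul_apply, ih', List.map_cons, List.sum_cons, map_add,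
      h2 g List.mem_cons_self _ hs]
    abel

/-- a vector of value one orthogonal to two given vectors -/
theorem exists_nonsingular_orth (hQ : (polarBilin Q).Nondegenerate) (hdim : 5 ≤ finrank F V)
    (u v : V) : ∃ a, Q a = 1 ∧ polar Q a u = 0 ∧ polar Q a v = 0 := by
  classical
  let B : LinearMap.BilinForm F V := polarBilin Q
  have hB : ∀ x y, B x y = polar Q x y := fun x y => rfl
  let U : Submodule F V := Submodule.span F (({u, v} : Finset V) : Set V)
  have huU : u ∈ U := Submodule.subset_span (by simp)
  have hvU : v ∈ U := Submodule.subset_span (by simp)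
  have hU : finrank F U ≤ 2 :=
    (finrank_span_finset_le_card (R := F) ({u, v} : Finset V)).trans Finset.card_le_two
  have hW : finrank F (B.orthogonal U) = finrank F V - finrank F U :=
    LinearMap.BilinForm.finrank_orthogonal hQ U
  have hWW : finrank F (B.orthogonal (B.orthogonal U)) = finrank F V - finrank F (B.orthogonal U) :=
    LinearMap.BilinForm.finrank_orthogonal hQ _
  by_contra hne
  push Not at hne
  have hsing : ∀ w ∈ B.orthogonal U, Q w = 0 := by
    intro w hw
    by_contra hw0
    obtain ⟨c, hc⟩ := exists_sq_of_finite_charTwo (Q w)⁻¹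
    have hwu : polar Q w u = 0 := by rw [polar_comm, ← hB]; exact hw u huU
    have hwv : polar Q w v = 0 := by rw [polar_comm, ← hB]; exact hw v hvU
    refine hne (c • w) ?_ ?_ ?_
    · rw [QuadraticMap.map_smul, hc, smul_eq_mul, inv_mul_cancel₀ hw0]
    · rw [polar_smul_left, hwu, smul_zero]
    · rw [polar_smul_left, hwv, smul_zero]
  have hle : B.orthogonal U ≤ B.orthogonal (B.orthogonal U) := by
    intro w hw w' hw'
    change B w' w = 0
    rw [hB]
    unfold polar
    rw [hsing _ (Submodule.add_mem _ hw' hw), hsing _ hw', hsing _ hw, sub_zero, sub_zero]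
  have := Submodule.finrank_mono hle
  omega

omit [Finite F] [FiniteDimensional F V] in
theorem siegel_apply (a u v : V) (ha : Q a = 1) (hu : Q u = 0) (hv : Q v = 0)
    (huv : polar Q u v = 0) (hau : polar Q a u = 0) (hav : polar Q a v = 0) (x : V) :
    (reflO Q a * reflO Q (a + u) * reflO Q (a + v) * reflO Q (a + u + v)).1 x =
      x + polar Q v x • u + polar Q u x • v := by
  have h1 : Q (a + u) = 1 := by rw [QuadraticMap.map_add Q, ha, hu, hau, add_zero, add_zero]
  have h2 : Q (a + v) = 1 := by rw [QuadraticMap.map_add Q, ha, hv, hav, add_zero, add_zero]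
  have h3 : Q (a + u + v) = 1 := by
    rw [QuadraticMap.map_add Q, h1, hv, polar_add_left, hav, huv, add_zero, add_zero, add_zero]
  have haa := polar_self_charTwo Q a
  have huu := polar_self_charTwo Q u
  have hvv := polar_self_charTwo Q v
  have hua : polar Q u a = 0 := by rw [polar_comm]; exact hau
  have hva : polar Q v a = 0 := by rw [polar_comm]; exact hav
  have hvu : polar Q v u = 0 := by rw [polar_comm]; exact huv
  change (reflO Q a).1 ((reflO Q (a + u)).1 ((reflO Q (a + v)).1 ((reflO Q (a + u + v)).1 x))) = _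
  rw [reflO_apply Q _ _ h3, reflO_apply Q _ _ h2, reflO_apply Q _ _ h1, reflO_apply Q _ _ ha]
  simp only [polar_add_left, polar_add_right, polar_smul_right, haa, huu, hvv, hau, hav, huv, hua,
    hva, hvu, smul_zero, add_zero]
  have key : ∀ α β γ : F, x + (α + β + γ) • (a + u + v) + (α + γ) • (a + v) + (α + β) • (a + u) + α • a =
      x + γ • u + β • v + (2 : F) • ((2 * α + β + γ) • a + (α + β) • u + (α + γ) • v) := by
    intro α β γ
    module
  rw [key, CharTwo.two_eq_zero, zero_smul, add_zero]

theorem siegel_mem (hQ : (polarBilin Q).Nondegenerate) (a u v : V) (ha : Q a = 1) (hu : Q u = 0)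
    (hv : Q v = 0) (huv : polar Q u v = 0) (hau : polar Q a u = 0) (hav : polar Q a v = 0) :
    reflO Q a * reflO Q (a + u) * reflO Q (a + v) * reflO Q (a + u + v) ∈
      commutator (isoGroup Q) := by
  have h1 : Q (a + u) = 1 := by rw [QuadraticMap.map_add Q, ha, hu, hau, add_zero, add_zero]
  have h2 : Q (a + v) = 1 := by rw [QuadraticMap.map_add Q, ha, hv, hav, add_zero, add_zero]
  have h3 : Q (a + u + v) = 1 := by
    rw [QuadraticMap.map_add Q, h1, hv, polar_add_left, hav, huv, add_zero, add_zero, add_zero]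
  rw [mul_assoc]
  exact Subgroup.mul_mem _ (reflO_mul_reflO_mem Q hQ _ _ ha h1) (reflO_mul_reflO_mem Q hQ _ _ h2 h3)

omit [Finite F] [FiniteDimensional F V] in
/-- basic facts on the nilpotent part of an involutive isometry -/
theorem invol_facts (t : isoGroup Q) (ht : t * t = 1) :
    (∀ x y, polar Q (t.1 x - x) y = polar Q x (t.1 y - y)) ∧
    (∀ x y, polar Q (t.1 x - x) (t.1 y - y) = 0) ∧
    (∀ x, Q (t.1 x - x) = polar Q x (t.1 x - x)) := by
  have htt : ∀ x, t.1 (t.1 x) = x := fun x => by
    have : (t * t).1 x = x := by rw [ht]; rfl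
    exact this
  have h1 : ∀ x y, polar Q (t.1 x - x) y = polar Q x (t.1 y - y) := by
    intro x y
    rw [polar_sub_left, polar_sub_right, ← isoGroup_polar Q t (t.1 x) y, htt]
  refine ⟨h1, ?_, ?_⟩
  · intro x y
    rw [h1, map_sub, htt]
    have : x = x := rfl
    have e : y - t.1 y - (t.1 y - y) = (y - t.1 y) + (y - t.1 y) := by abel
    rw [e, add_self_charTwo F, polar_zero_right]
  · intro x
    have h2 : Q (t.1 x - x) = Q (t.1 x) + Q x - polar Q (t.1 x) x := by
      rw [sub_eq_add_neg, QuadraticMap.map_add Q, QuadraticMap.map_neg, polar_neg_right]; ring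
    rw [h2, t.2, polar_sub_right, polar_self_charTwo, sub_zero, polar_comm Q x,
      CharTwo.add_self_eq_zero, zero_sub, CharTwo.neg_eq]

/-- an involution of non-alternating type is a product of `rank (t - 1)` reflections -/
theorem nonalt_decomp (hQ : (polarBilin Q).Nondegenerate) (t : isoGroup Q) (ht : t * t = 1)
    (hna : ∃ x, polar Q x (t.1 x - x) ≠ 0) :
    ∃ L : List V, L.length = finrank F (LinearMap.range (t.1.toLinearMap - LinearMap.id)) ∧
      (∀ a ∈ L, Q a = 1) ∧ t = (L.map (reflO Q)).prod := by
  classical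
  obtain ⟨hadj, hiso, hQN⟩ := invol_facts Q t ht
  set N : V →ₗ[F] V := t.1.toLinearMap - LinearMap.id with hNdef
  have hN : ∀ x, N x = t.1 x - x := fun x => rfl
  let B : V →ₗ[F] V →ₗ[F] F := polarBilin Q
  have hB : ∀ x y, B x y = polar Q x y := fun x y => rfl
  have halt : ∀ x, B x x = 0 := fun x => polar_self_charTwo Q x
  have hnd : ∀ x, (∀ y, B x y = 0) → x = 0 := fun x hx => hQ.1 x hx
  have hBN : ∀ x y, B (N x) y = B x (N y) := fun x y => hadj x y
  have hna' : ∃ x, B x (N x) ≠ 0 := hna
  obtain ⟨u, hu, hspan⟩ := exists_normal_family_nonalt B halt hnd N hBN hna'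
  let v : Fin (finrank F (LinearMap.range N)) → V := fun j => N (u j)
  have hv1 : ∀ j, Q (v j) = 1 := fun j => by
    change Q (t.1 (u j) - u j) = 1
    rw [hQN, ← hN, ← hB, hu, Matrix.one_apply_eq]
  refine ⟨List.ofFn v, List.length_ofFn, ?_, ?_⟩
  · intro a ha
    obtain ⟨j, rfl⟩ := (List.mem_ofFn' v a).mp ha
    exact hv1 j
  · -- the sum of the displacement maps
    let S : V →ₗ[F] V := ∑ j, (B (v j)).smulRight (v j)
    have hS : ∀ x, S x = ∑ j, polar Q (v j) x • v j := fun x => by
      simp only [S, LinearMap.sum_apply, LinearMap.smulRight_apply, hB]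
    have hNS : ∀ x, N x = S x := by
      have htop : LinearMap.eqLocus N S = ⊤ := by
        rw [eq_top_iff, ← hspan]
        apply sup_le
        · rw [Submodule.span_le]
          rintro _ ⟨i, rfl⟩
          change N (u i) = S (u i)
          rw [hS]
          have : ∀ j, polar Q (v j) (u i) • v j = if j = i then v i else 0 := by
            intro j
            rw [← hB, hBN, hu, Matrix.one_apply]
            split_ifs with h
            · rw [one_smul, h]
            · rw [zero_smul]
          rw [Finset.sum_congr rfl (fun j _ => this j), Finset.sum_ite_eq' Finset.univ i]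
          simp [v]
        · intro k hk
          change N k = S k
          rw [hS, LinearMap.mem_ker.mp hk]
          symm
          apply Finset.sum_eq_zero
          intro j _
          rw [← hB, hBN, LinearMap.mem_ker.mp hk, map_zero, zero_smul]
      intro x
      have : x ∈ LinearMap.eqLocus N S := by rw [htop]; exact Submodule.mem_top
      exact this
    apply Subtype.ext
    apply LinearEquiv.ext
    intro x
    rw [Subgroup.val_list_prod, List.map_map,
      list_prod_apply (LinearMap.range N) _ ?_ ?_ x]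
    · rw [List.map_map, List.map_ofFn, List.sum_ofFn]
      have : ∀ j, (((fun g : V ≃ₗ[F] V => g x - x) ∘ (Subtype.val ∘ reflO Q)) ∘ v) j =
          polar Q (v j) x • v j := by
        intro j
        change (reflO Q (v j)).1 x - x = _
        rw [reflO_apply Q _ _ (hv1 j), add_sub_cancel_left]
      rw [Finset.sum_congr rfl (fun j _ => this j), ← hS, ← hNS, hN]
      abel
    · intro g hg y
      obtain ⟨a, ha, rfl⟩ := List.mem_map.mp hg
      obtain ⟨j, rfl⟩ := (List.mem_ofFn' v a).mp ha
      change (reflO Q (v j)).1 y - y ∈ _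
      rw [reflO_apply Q _ _ (hv1 j), add_sub_cancel_left]
      exact Submodule.smul_mem _ _ ⟨u j, rfl⟩
    · rintro g hg _ ⟨y, rfl⟩
      obtain ⟨a, ha, rfl⟩ := List.mem_map.mp hg
      obtain ⟨j, rfl⟩ := (List.mem_ofFn' v a).mp ha
      change (reflO Q (v j)).1 (N y) = N y
      rw [reflO_apply Q _ _ (hv1 j)]
      have : polar Q (v j) (N y) = 0 := hiso (u j) y
      rw [this, zero_smul, add_zero]

/-- an involution of alternating type lies in the commutator subgroup, and has even rank -/
theorem alt_mem_commutator (hQ : (polarBilin Q).Nondegenerate) (hdim : 5 ≤ finrank F V)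
    (t : isoGroup Q) (ht : t * t = 1) (ha : ∀ x, polar Q x (t.1 x - x) = 0) :
    t ∈ commutator (isoGroup Q) ∧
      Even (finrank F (LinearMap.range (t.1.toLinearMap - LinearMap.id))) := by
  classical
  obtain ⟨hadj, hiso, hQN⟩ := invol_facts Q t ht
  set N : V →ₗ[F] V := t.1.toLinearMap - LinearMap.id with hNdef
  have hN : ∀ x, N x = t.1 x - x := fun x => rfl
  let B : V →ₗ[F] V →ₗ[F] F := polarBilin Q
  have hB : ∀ x y, B x y = polar Q x y := fun x y => rfl
  have halt : ∀ x, B x x = 0 := fun x => polar_self_charTwo Q x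
  have hnd : ∀ x, (∀ y, B x y = 0) → x = 0 := fun x hx => hQ.1 x hx
  have hBN : ∀ x y, B (N x) y = B x (N y) := fun x y => hadj x y
  have ha' : ∀ x, B x (N x) = 0 := ha
  obtain ⟨k, hk, u, hu, hspan⟩ := exists_normal_family_alt B halt hnd N hBN ha'
  refine ⟨?_, ⟨k, by rw [hk]; ring⟩⟩
  let v : Fin k ⊕ Fin k → V := fun c => N (u c)
  have hv0 : ∀ c, Q (v c) = 0 := fun c => by
    change Q (t.1 (u c) - u c) = 0
    rw [hQN]; exact ha _
  have hvv : ∀ c c', polar Q (v c) (v c') = 0 := fun c c' => hiso _ _
  have hvN : ∀ c y, polar Q (v c) (N y) = 0 := fun c y => hiso _ _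
  have hex : ∀ i : Fin k, ∃ a, Q a = 1 ∧ polar Q a (v (Sum.inl i)) = 0 ∧
      polar Q a (v (Sum.inr i)) = 0 := fun i => exists_nonsingular_orth Q hQ hdim _ _
  choose a ha1 ha2 ha3 using hex
  let g : Fin k → isoGroup Q := fun i => reflO Q (a i) * reflO Q (a i + v (Sum.inl i)) *
    reflO Q (a i + v (Sum.inr i)) * reflO Q (a i + v (Sum.inl i) + v (Sum.inr i))
  have hg_mem : ∀ i, g i ∈ commutator (isoGroup Q) := fun i =>
    siegel_mem Q hQ _ _ _ (ha1 i) (hv0 _) (hv0 _) (hvv _ _) (ha2 i) (ha3 i)
  have hg_apply : ∀ i x, (g i).1 x = x + polar Q (v (Sum.inr i)) x • v (Sum.inl i) +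
      polar Q (v (Sum.inl i)) x • v (Sum.inr i) := fun i x =>
    siegel_apply Q _ _ _ (ha1 i) (hv0 _) (hv0 _) (hvv _ _) (ha2 i) (ha3 i) x
  have hpol : ∀ c' c, polar Q (v c') (u c) = Matrix.J (Fin k) F c' c := by
    intro c' c
    rw [← hB, hBN, hu]
  have J1 : ∀ i j, Matrix.J (Fin k) F (Sum.inr i) (Sum.inl j) = if i = j then 1 else 0 := by
    intro i j; simp [Matrix.J, Matrix.one_apply]
  have J2 : ∀ i j, Matrix.J (Fin k) F (Sum.inl i) (Sum.inr j) = if i = j then 1 else 0 := by
    intro i j
    simp only [Matrix.J, Matrix.fromBlocks_apply₁₂, Matrix.neg_apply, Matrix.one_apply]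
    rw [CharTwo.neg_eq]
  have J3 : ∀ i j, Matrix.J (Fin k) F (Sum.inl i) (Sum.inl j) = 0 := by
    intro i j; simp [Matrix.J]
  have J4 : ∀ i j, Matrix.J (Fin k) F (Sum.inr i) (Sum.inr j) = 0 := by
    intro i j; simp [Matrix.J]
  have ht_eq : t = (List.ofFn g).prod := by
    let S : V →ₗ[F] V := ∑ i, ((B (v (Sum.inr i))).smulRight (v (Sum.inl i)) +
      (B (v (Sum.inl i))).smulRight (v (Sum.inr i)))
    have hS : ∀ x, S x = ∑ i, (polar Q (v (Sum.inr i)) x • v (Sum.inl i) +
        polar Q (v (Sum.inl i)) x • v (Sum.inr i)) := fun x => by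
      simp only [S, LinearMap.sum_apply, LinearMap.add_apply, LinearMap.smulRight_apply, hB]
    have hNS : ∀ x, N x = S x := by
      have htop : LinearMap.eqLocus N S = ⊤ := by
        rw [eq_top_iff, ← hspan]
        apply sup_le
        · rw [Submodule.span_le]
          rintro _ ⟨c, rfl⟩
          change N (u c) = S (u c)
          rw [hS]
          rcases c with j | j
          · simp only [hpol, J1, J3, zero_smul, add_zero, ite_smul, one_smul]
            rw [Finset.sum_ite_eq' Finset.univ j]
            simp [v]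
          · simp only [hpol, J2, J4, zero_smul, zero_add, ite_smul, one_smul]
            rw [Finset.sum_ite_eq' Finset.univ j]
            simp [v]
        · intro y hy
          change N y = S y
          rw [hS, LinearMap.mem_ker.mp hy]
          symm
          apply Finset.sum_eq_zero
          intro j _
          rw [← hB, ← hB, hBN, hBN, LinearMap.mem_ker.mp hy, map_zero, map_zero, zero_smul,
            zero_smul, add_zero]
      intro x
      have : x ∈ LinearMap.eqLocus N S := by rw [htop]; exact Submodule.mem_top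
      exact this
    apply Subtype.ext
    apply LinearEquiv.ext
    intro x
    rw [Subgroup.val_list_prod, list_prod_apply (LinearMap.range N) _ ?_ ?_ x]
    · rw [List.map_map, List.map_ofFn, List.sum_ofFn]
      have : ∀ j, (((fun g : V ≃ₗ[F] V => g x - x) ∘ Subtype.val) ∘ g) j =
          polar Q (v (Sum.inr j)) x • v (Sum.inl j) +
            polar Q (v (Sum.inl j)) x • v (Sum.inr j) := by
        intro j
        change (g j).1 x - x = _
        rw [hg_apply, add_assoc, add_sub_cancel_left]
      rw [Finset.sum_congr rfl (fun j _ => this j), ← hS, ← hNS, hN]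
      abel
    · intro g' hg' y
      obtain ⟨a', ha', rfl⟩ := List.mem_map.mp hg'
      obtain ⟨j, rfl⟩ := (List.mem_ofFn' g a').mp ha'
      change (g j).1 y - y ∈ _
      rw [hg_apply, add_assoc, add_sub_cancel_left]
      exact Submodule.add_mem _ (Submodule.smul_mem _ _ ⟨u _, rfl⟩)
        (Submodule.smul_mem _ _ ⟨u _, rfl⟩)
    · rintro g' hg' _ ⟨y, rfl⟩
      obtain ⟨a', ha', rfl⟩ := List.mem_map.mp hg'
      obtain ⟨j, rfl⟩ := (List.mem_ofFn' g a').mp ha'
      change (g j).1 (N y) = N y
      rw [hg_apply, hvN, hvN, zero_smul, zero_smul, add_zero, add_zero]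
  rw [ht_eq]
  apply Subgroup.list_prod_mem
  intro y hy
  obtain ⟨i, rfl⟩ := (List.mem_ofFn' g y).mp hy
  exact hg_mem i

/-- an involution of the isometry group lies in the commutator subgroup iff `t - 1` has even
rank, provided there is a homomorphism to a commutative group detecting reflections -/
theorem involution_mem_commutator_iff (hQ : (polarBilin Q).Nondegenerate)
    (hdim : 5 ≤ finrank F V) {A : Type*} [CommGroup A] (φ : isoGroup Q →* A) (δ : A)
    (hδ : ∀ a, Q a = 1 → φ (reflO Q a) = δ) (hδ2 : ∀ n : ℕ, δ ^ n = 1 → Even n)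
    (t : isoGroup Q) (ht : t * t = 1) :
    t ∈ commutator (isoGroup Q) ↔
      Even (finrank F (LinearMap.range (t.1.toLinearMap - LinearMap.id))) := by
  by_cases halt : ∀ x, polar Q x (t.1 x - x) = 0
  · obtain ⟨h1, h2⟩ := alt_mem_commutator Q hQ hdim t ht halt
    exact ⟨fun _ => h2, fun _ => h1⟩
  · push Not at halt
    obtain ⟨L, hlen, hL1, hL⟩ := nonalt_decomp Q hQ t ht halt
    rw [← hlen]
    constructor
    · intro hmem
      apply hδ2
      have h1 : φ t = 1 := Abelianization.commutator_subset_ker φ hmem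
      rw [hL, map_list_prod, List.map_map, List.prod_eq_pow_card _ δ ?_, List.length_map] at h1
      · exact h1
      · intro y hy
        obtain ⟨a, ha, rfl⟩ := List.mem_map.mp hy
        exact hδ a (hL1 a ha)
    · rintro ⟨n, hn⟩
      rw [hL]
      exact reflO_list_prod_mem Q hQ n L (by omega) hL1

end main

end Cfsg.Agent.Lib.Helper13
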