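import Mathlib
import Cfsg.Prelude.Def_Classical
import Cfsg.Agent.Lib.Helper13.OrthCharTwo

/-!
# Matrix isometry groups versus linear isometry groups

Transfer between `Cfsg.isometryGroup F Qf` (matrices) and `isoGroup Q` (linear automorphisms), and
the criterion for involutions of orthogonal groups in characteristic two to lie in the commutator
subgroup.
-/

set_option autoImplicit false

namespace Cfsg.Agent.Lib.Helper13

open Module QuadraticMap Matrix

section
universe u
variable {F : Type u} [Field F] {ι : Type} [Fintype ι] [DecidableEq ι]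

/-- invertible matrices as linear automorphisms -/
noncomputable def glEquiv : GL ι F ≃* ((ι → F) ≃ₗ[F] (ι → F)) :=
  Matrix.GeneralLinearGroup.toLin.trans (LinearMap.GeneralLinearGroup.generalLinearEquiv F (ι → F))

theorem glEquiv_apply (g : GL ι F) (x : ι → F) : glEquiv g x = (g : Matrix ι ι F) *ᵥ x := rfl

theorem glEquiv_symm_mulVec (h : (ι → F) ≃ₗ[F] (ι → F)) (x : ι → F) :
    ((glEquiv.symm h : GL ι F) : Matrix ι ι F) *ᵥ x = h x := by
  rw [← glEquiv_apply, MulEquiv.apply_symm_apply]

variable (Qf : (ι → F) → F) (Q : QuadraticForm F (ι → F)) (hfun : ∀ v, Q v = Qf v)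

/-- the matrix isometry group is isomorphic to the linear one -/
noncomputable def isoEquiv : Cfsg.isometryGroup F Qf ≃* isoGroup Q where
  toFun g := ⟨glEquiv g.1, fun v => by
    rw [glEquiv_apply, hfun, hfun]; exact g.2 v v⟩
  invFun h := ⟨glEquiv.symm h.1, fun u _ => by
    change Qf (((glEquiv.symm h.1 : GL ι F) : Matrix ι ι F) *ᵥ u) = Qf u
    rw [glEquiv_symm_mulVec, ← hfun, ← hfun]; exact h.2 u⟩
  left_inv g := Subtype.ext (glEquiv.symm_apply_apply g.1)
  right_inv h := Subtype.ext (glEquiv.apply_symm_apply h.1)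
  map_mul' a b := Subtype.ext (map_mul glEquiv a.1 b.1)

theorem isoEquiv_apply (g : Cfsg.isometryGroup F Qf) (x : ι → F) :
    (isoEquiv Qf Q hfun g).1 x = ((g : GL ι F) : Matrix ι ι F) *ᵥ x := rfl

theorem isoEquiv_symm_mulVec (h : isoGroup Q) (x : ι → F) :
    ((((isoEquiv Qf Q hfun).symm h : Cfsg.isometryGroup F Qf) : GL ι F) : Matrix ι ι F) *ᵥ x =
      h.1 x :=
  glEquiv_symm_mulVec h.1 x

theorem rank_sub_one_eq (g : Cfsg.isometryGroup F Qf) :
    (((g : GL ι F) : Matrix ι ι F) - 1).rank =
      finrank F (LinearMap.range ((isoEquiv Qf Q hfun g).1.toLinearMap - LinearMap.id)) := by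
  have : (((g : GL ι F) : Matrix ι ι F) - 1).mulVecLin =
      (isoEquiv Qf Q hfun g).1.toLinearMap - LinearMap.id := by
    apply LinearMap.ext
    intro x
    rw [Matrix.mulVecLin_apply, Matrix.sub_mulVec, Matrix.one_mulVec]
    rfl
  rw [Matrix.rank, this]

end

theorem mem_commutator_iff_of_equiv {G G' : Type*} [Group G] [Group G'] (e : G ≃* G') (t : G) :
    t ∈ commutator G ↔ e t ∈ commutator G' := by
  have h : (commutator G).map e.toMonoidHom = commutator G' := by
    rw [commutator_def, commutator_def, Subgroup.map_commutator,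
      Subgroup.map_top_of_surjective _ e.surjective]
  rw [← h]
  exact (Subgroup.mem_map_iff_mem e.injective).symm

section
universe u
variable {F : Type u} [Field F] [Finite F] [CharP F 2] {ι : Type} [Fintype ι] [DecidableEq ι]

/-- criterion for an involution of an orthogonal group in characteristic two to lie in the
commutator subgroup, given a homomorphism with value `1` on reflections -/
theorem isometryGroup_involution_mem_Omega_iff (Qf : (ι → F) → F) (Q : QuadraticForm F (ι → F))
    (hfun : ∀ v, Q v = Qf v) (hQ : (polarBilin Q).Nondegenerate) (hdim : 5 ≤ Fintype.card ι)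
    (φ : Cfsg.isometryGroup F Qf →* Multiplicative F)
    (hφ : ∀ (g : Cfsg.isometryGroup F Qf) (a : ι → F), Qf a = 1 →
      (∀ x, ((g : GL ι F) : Matrix ι ι F) *ᵥ x = x + polar Q a x • a) →
      φ g = Multiplicative.ofAdd 1)
    (t : Cfsg.isometryGroup F Qf) (ht : orderOf t = 2) :
    t ∈ Cfsg.Omega F Qf ↔ Even (((t : GL ι F) : Matrix ι ι F) - 1).rank := by
  change t ∈ commutator (Cfsg.isometryGroup F Qf) ↔ _
  rw [mem_commutator_iff_of_equiv (isoEquiv Qf Q hfun), rank_sub_one_eq Qf Q hfun]
  have htt : t * t = 1 := by rw [← pow_two, ← ht]; exact pow_orderOf_eq_one t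
  apply involution_mem_commutator_iff Q hQ
    (by rw [Module.finrank_fintype_fun_eq_card]; exact hdim)
    (φ.comp (isoEquiv Qf Q hfun).symm.toMonoidHom) (Multiplicative.ofAdd (1 : F))
  · intro a ha
    change φ ((isoEquiv Qf Q hfun).symm (reflO Q a)) = _
    apply hφ _ a (by rw [← hfun]; exact ha)
    intro x
    rw [isoEquiv_symm_mulVec, reflO_apply Q a x ha]
  · intro n hn
    rw [← ofAdd_nsmul, ← ofAdd_zero, Multiplicative.ofAdd.injective.eq_iff, nsmul_eq_mul,
      mul_one] at hn
    exact even_iff_two_dvd.mpr ((CharP.cast_eq_zero_iff F 2 n).mp hn)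
  · rw [← map_mul, htt, map_one]

end

end Cfsg.Agent.Lib.Helper13
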