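import Mathlib
import Cfsg.Agent.Lib.Helper13.OrthCharTwoMat
import Cfsg.Agent.Lib.Helper13.DicksonPlus
import Cfsg.Agent.Lib.Helper15.QuadClassify
import Cfsg.Agent.Lib.Helper15.QuadF2a
import Cfsg.Agent.S2169

/-!
# The Dickson invariant for an arbitrary nondegenerate quadratic form in characteristic two

`Q ⊥ Q` is always hyperbolic, so `g ↦ g ⊕ 1` embeds the isometry group of `Q` into an orthogonal
group of plus type, where the Dickson invariant is given by an explicit formula.
-/

set_option autoImplicit false

namespace Cfsg.Agent.Lib.Helper13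

open Module QuadraticMap

section transport
variable {F : Type*} [Field F] {V₁ V₂ : Type*} [AddCommGroup V₁] [Module F V₁]
  [AddCommGroup V₂] [Module F V₂] (Q₁ : QuadraticForm F V₁) (Q₂ : QuadraticForm F V₂)

/-- transport of isometries along a linear isometry -/
def isoGroupMap (T : V₁ ≃ₗ[F] V₂) (hT : ∀ v, Q₂ (T v) = Q₁ v) : isoGroup Q₁ →* isoGroup Q₂ where
  toFun g := ⟨(T.symm.trans g.1).trans T, fun v => by
    change Q₂ (T (g.1 (T.symm v))) = Q₂ v
    rw [hT, g.2, ← hT, LinearEquiv.apply_symm_apply]⟩
  map_one' := by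
    apply Subtype.ext
    apply LinearEquiv.ext
    intro x
    change T (T.symm x) = x
    rw [LinearEquiv.apply_symm_apply]
  map_mul' g h := by
    apply Subtype.ext
    apply LinearEquiv.ext
    intro x
    change T (g.1 (h.1 (T.symm x))) = T (g.1 (T.symm (T (h.1 (T.symm x)))))
    rw [LinearEquiv.symm_apply_apply]

theorem isoGroupMap_apply (T : V₁ ≃ₗ[F] V₂) (hT : ∀ v, Q₂ (T v) = Q₁ v) (g : isoGroup Q₁)
    (x : V₂) : (isoGroupMap Q₁ Q₂ T hT g).1 x = T (g.1 (T.symm x)) := rfl

theorem isoGroupMap_reflO [CharP F 2] (T : V₁ ≃ₗ[F] V₂) (hT : ∀ v, Q₂ (T v) = Q₁ v) (a : V₁)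
    (ha : Q₁ a = 1) : isoGroupMap Q₁ Q₂ T hT (reflO Q₁ a) = reflO Q₂ (T a) := by
  have ha2 : Q₂ (T a) = 1 := by rw [hT]; exact ha
  have hp : ∀ u v, polar Q₂ (T u) (T v) = polar Q₁ u v := by
    intro u v
    unfold polar
    rw [← map_add, hT, hT, hT]
  apply Subtype.ext
  apply LinearEquiv.ext
  intro x
  rw [isoGroupMap_apply, reflO_apply Q₁ a _ ha, reflO_apply Q₂ _ _ ha2, map_add, map_smul,
    LinearEquiv.apply_symm_apply, ← hp, LinearEquiv.apply_symm_apply]

variable {V : Type*} [AddCommGroup V] [Module F V] (Q : QuadraticForm F V)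

/-- `g ↦ g ⊕ 1` -/
def isoGroupProdLeft : isoGroup Q →* isoGroup (Q.prod Q) where
  toFun g := ⟨LinearEquiv.prodCongr g.1 (LinearEquiv.refl F V), fun v => by
    change (Q.prod Q) (g.1 v.1, v.2) = (Q.prod Q) v
    rw [QuadraticMap.prod_apply, QuadraticMap.prod_apply, g.2]⟩
  map_one' := by
    apply Subtype.ext
    apply LinearEquiv.ext
    intro x
    rfl
  map_mul' g h := by
    apply Subtype.ext
    apply LinearEquiv.ext
    intro x
    rfl

theorem isoGroupProdLeft_apply (g : isoGroup Q) (x : V × V) :
    (isoGroupProdLeft Q g).1 x = (g.1 x.1, x.2) := rfl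

theorem isoGroupProdLeft_reflO [CharP F 2] (a : V) (ha : Q a = 1) :
    isoGroupProdLeft Q (reflO Q a) = reflO (Q.prod Q) (a, 0) := by
  have ha2 : (Q.prod Q) (a, 0) = 1 := by
    rw [QuadraticMap.prod_apply, ha, QuadraticMap.map_zero, add_zero]
  apply Subtype.ext
  apply LinearEquiv.ext
  intro x
  rw [isoGroupProdLeft_apply, reflO_apply Q a _ ha, reflO_apply _ _ _ ha2, polar_prod]
  simp only [polar_zero_left, add_zero]
  ext
  · simp
  · simp

end transport

section hyp
universe u
variable {F V : Type u} [Field F] [Finite F] [CharP F 2] [AddCommGroup V] [Module F V]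
  [FiniteDimensional F V] (Q : QuadraticForm F V)

/-- `Q ⊥ Q` is hyperbolic -/
theorem prod_self_hyperbolic (hQ : (polarBilin Q).Nondegenerate) (hpos : 0 < finrank F V) :
    ∃ T : (V × V) ≃ₗ[F] (Fin (finrank F V) ⊕ Fin (finrank F V) → F),
      ∀ w, (Q.prod Q) w = Cfsg.quadFormPlus (finrank F V) F (T w) := by
  classical
  let β : Basis (Fin (finrank F V)) F V := Module.finBasis F V
  let B : LinearMap.BilinForm F V := polarBilin Q
  let γ : Basis (Fin (finrank F V)) F V := B.dualBasis hQ β
  have hγ : ∀ i j, polar Q (γ i) (β j) = if j = i then 1 else 0 := fun i j =>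
    LinearMap.BilinForm.apply_dualBasis_left hQ β i j
  have h2 : ∀ x : F, x + x = 0 := CharTwo.add_self_eq_zero
  let α : Fin (finrank F V) → Fin (finrank F V) → F := fun j k =>
    if k = j then Q (γ j) else if j < k then polar Q (γ j) (γ k) else 0
  let z : Fin (finrank F V) → V := fun j => ∑ k, α j k • β k
  have hz : ∀ i j, polar Q (γ i) (z j) = α j i := by
    intro i j
    change polar Q (γ i) (∑ k, α j k • β k) = _
    rw [Cfsg.Agent.Lib.Helper15.polar_sum_right]
    simp only [hγ, mul_ite, mul_one, mul_zero]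
    rw [Finset.sum_ite_eq' Finset.univ i]
    simp
  have hz' : ∀ i j, polar Q (z j) (γ i) = α j i := fun i j => by rw [polar_comm]; exact hz i j
  let e : Fin (finrank F V) → V × V := fun i => (β i, β i)
  let f : Fin (finrank F V) → V × V := fun j => (γ j + z j, z j)
  have hyp : Cfsg.Agent.Lib.Helper15.IsHypFamily (Q.prod Q) e f := by
    refine ⟨?_, ?_, ?_, ?_, ?_⟩
    · intro i
      change (Q.prod Q) (β i, β i) = 0
      rw [QuadraticMap.prod_apply]
      exact h2 _
    · intro j
      change (Q.prod Q) (γ j + z j, z j) = 0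
      rw [QuadraticMap.prod_apply]
      change Q (γ j + z j) + Q (z j) = 0
      rw [QuadraticMap.map_add Q, hz]
      have hα : α j j = Q (γ j) := if_pos rfl
      rw [hα]
      have : ∀ a b : F, a + b + a + b = 0 := by
        intro a b
        have := h2 (a + b)
        rw [← this]; ring
      exact this _ _
    · intro i j
      change polar (Q.prod Q) (β i, β i) (γ j + z j, z j) = _
      rw [polar_prod]
      change polar Q (β i) (γ j + z j) + polar Q (β i) (z j) = _
      rw [polar_add_right, add_assoc, h2, add_zero, polar_comm, hγ]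
    · intro i j
      change polar (Q.prod Q) (β i, β i) (β j, β j) = 0
      rw [polar_prod]
      exact h2 _
    · intro i j
      change polar (Q.prod Q) (γ i + z i, z i) (γ j + z j, z j) = 0
      rw [polar_prod]
      change polar Q (γ i + z i) (γ j + z j) + polar Q (z i) (z j) = 0
      rw [polar_add_left, polar_add_right, polar_add_right, hz, hz']
      have key : polar Q (γ i) (γ j) + α j i + α i j = 0 := by
        rcases lt_trichotomy i j with hij | hij | hij
        · have e1 : α i j = polar Q (γ i) (γ j) := by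
            change (if j = i then _ else if i < j then _ else _) = _
            rw [if_neg (ne_of_gt hij), if_pos hij]
          have e2 : α j i = 0 := by
            change (if i = j then _ else if j < i then _ else _) = _
            rw [if_neg (ne_of_lt hij), if_neg (not_lt.mpr hij.le)]
          rw [e1, e2, add_zero]; exact h2 _
        · subst hij
          rw [polar_self_charTwo, zero_add]; exact h2 _
        · have e1 : α j i = polar Q (γ j) (γ i) := by
            change (if i = j then _ else if j < i then _ else _) = _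
            rw [if_neg (ne_of_gt hij), if_pos hij]
          have e2 : α i j = 0 := by
            change (if j = i then _ else if i < j then _ else _) = _
            rw [if_neg (ne_of_lt hij), if_neg (not_lt.mpr hij.le)]
          rw [e1, e2, add_zero, polar_comm Q (γ j)]; exact h2 _
      have : ∀ p a b c : F, p + a + b = 0 → p + a + (b + c) + c = 0 := by
        intro p a b c h
        have := h2 c
        linear_combination h + this
      exact this _ _ _ _ key
  have hfin : finrank F (V × V) = 2 * finrank F V := by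
    rw [Module.finrank_prod]; ring
  obtain ⟨b, hbe, hbf⟩ := Cfsg.Agent.Lib.Helper15.hyp_basis (Q.prod Q) hpos e f hyp hfin
  refine ⟨b.equivFun, Cfsg.Agent.Lib.Helper15.quad_eq_plus_of_basis (Q.prod Q) b ?_⟩
  simp only [hbe, hbf]
  exact hyp

open Cfsg.Agent.Lib.Helper15 in
/-- a homomorphism on the isometry group taking the value `1` on all reflections -/
theorem exists_dickson_hom (hQ : (polarBilin Q).Nondegenerate) (hpos : 0 < finrank F V) :
    ∃ φ : isoGroup Q →* Multiplicative F,
      ∀ a, Q a = 1 → φ (reflO Q a) = Multiplicative.ofAdd 1 := by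
  obtain ⟨T, hT⟩ := prod_self_hyperbolic Q hQ hpos
  have hT' : ∀ w, (QPlus F (finrank F V)) (T w) = (Q.prod Q) w := fun w => by
    rw [QPlus_apply, hT]
  let ψ : isoGroup Q →* isoGroup (QPlus F (finrank F V)) :=
    (isoGroupMap (Q.prod Q) (QPlus F (finrank F V)) T hT').comp (isoGroupProdLeft Q)
  let E := isoEquiv (Cfsg.quadFormPlus (finrank F V) F) (QPlus F (finrank F V))
    (QPlus_apply F (finrank F V))
  refine ⟨dicksonHom.comp (E.symm.toMonoidHom.comp ψ), ?_⟩
  intro a ha
  change dicksonHom (E.symm (ψ (reflO Q a))) = _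
  have ha2 : (Q.prod Q) (a, 0) = 1 := by
    rw [QuadraticMap.prod_apply, ha, QuadraticMap.map_zero, add_zero]
  have ha3 : (QPlus F (finrank F V)) (T (a, 0)) = 1 := by rw [hT']; exact ha2
  have h1 : ψ (reflO Q a) = reflO (QPlus F (finrank F V)) (T (a, 0)) := by
    change isoGroupMap _ _ T hT' (isoGroupProdLeft Q (reflO Q a)) = _
    rw [isoGroupProdLeft_reflO Q a ha, isoGroupMap_reflO _ _ T hT' _ ha2]
  rw [h1, dicksonHom_apply, Cfsg.Agent.S2169.dk_refl _ (T (a, 0))
    (by rw [← QPlus_apply]; exact ha3) (fun x => by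
      rw [isoEquiv_symm_mulVec, reflO_apply _ _ x ha3])]

/-- an involution of the isometry group of a nondegenerate quadratic form of dimension at least
five over a finite field of characteristic two lies in the commutator subgroup iff `t - 1` has
even rank -/
theorem involution_mem_commutator_iff' (hQ : (polarBilin Q).Nondegenerate)
    (hdim : 5 ≤ finrank F V) (t : isoGroup Q) (ht : t * t = 1) :
    t ∈ commutator (isoGroup Q) ↔
      Even (finrank F (LinearMap.range (t.1.toLinearMap - LinearMap.id))) := by
  obtain ⟨φ, hφ⟩ := exists_dickson_hom Q hQ (by omega)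
  refine involution_mem_commutator_iff Q hQ hdim φ (Multiplicative.ofAdd (1 : F)) hφ ?_ t ht
  intro n hn
  rw [← ofAdd_nsmul, ← ofAdd_zero, Multiplicative.ofAdd.injective.eq_iff, nsmul_eq_mul,
    mul_one] at hn
  exact even_iff_two_dvd.mpr ((CharP.cast_eq_zero_iff F 2 n).mp hn)

end hyp

section mat
universe u
variable {F : Type u} [Field F] [Finite F] [CharP F 2] {ι : Type} [Fintype ι] [DecidableEq ι]

open Matrix in
/-- matrix version: involutions of `O(Q)` in `Ω(Q)`, characteristic two -/
theorem isometryGroup_involution_mem_Omega_iff' (Qf : (ι → F) → F) (Q : QuadraticForm F (ι → F))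
    (hfun : ∀ v, Q v = Qf v) (hQ : (polarBilin Q).Nondegenerate) (hdim : 5 ≤ Fintype.card ι)
    (t : Cfsg.isometryGroup F Qf) (ht : orderOf t = 2) :
    t ∈ Cfsg.Omega F Qf ↔ Even (((t : GL ι F) : Matrix ι ι F) - 1).rank := by
  change t ∈ commutator (Cfsg.isometryGroup F Qf) ↔ _
  rw [mem_commutator_iff_of_equiv (isoEquiv Qf Q hfun), rank_sub_one_eq Qf Q hfun]
  have htt : t * t = 1 := by rw [← pow_two, ← ht]; exact pow_orderOf_eq_one t
  apply involution_mem_commutator_iff' Q hQ
    (by rw [Module.finrank_fintype_fun_eq_card]; exact hdim)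
  rw [← map_mul, htt, map_one]

end mat

end Cfsg.Agent.Lib.Helper13
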