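import Mathlib
import Cfsg.Agent.S0750
import Cfsg.Agent.S0786
import Cfsg.Agent.Lib.Helper13.OrthCharTwoMat
import Cfsg.Agent.Lib.Helper13.DicksonGen

/-!
# Orthogonal groups in all characteristics: reflections, generation, abelianisation

General reflections `reflA Q a` (total: the identity when `Q a = 0`) in the abstract isometry group
`isoGroup Q`, generation by reflections transported from the matrix version, conjugacy of
reflections of equal norm (Witt), and the lemma that a subgroup whose image in the abelianisation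
contains the classes of all reflections supplements the commutator subgroup.
-/

set_option autoImplicit false

namespace Cfsg.Agent.Lib.Helper13

open Module QuadraticMap

section reflA
variable {F V : Type*} [Field F] [AddCommGroup V] [Module F V] (Q : QuadraticForm F V)

/-- the reflection formula as a linear map -/
def reflALin (a : V) : V →ₗ[F] V :=
  LinearMap.id - ((Q a)⁻¹ • (polarBilin Q a)).smulRight a

theorem reflALin_apply (a x : V) : reflALin Q a x = x - ((Q a)⁻¹ * polar Q a x) • a := by
  unfold reflALin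
  rw [LinearMap.sub_apply, LinearMap.id_apply, LinearMap.smulRight_apply, LinearMap.smul_apply,
    polarBilin_apply_apply, smul_eq_mul]

theorem reflALin_reflALin (a x : V) : reflALin Q a (reflALin Q a x) = x := by
  rw [reflALin_apply, reflALin_apply, polar_sub_right, polar_smul_right, polar_self]
  have : (Q a)⁻¹ * (polar Q a x - ((Q a)⁻¹ * polar Q a x) • (2 • Q a))
      = - ((Q a)⁻¹ * polar Q a x) := by
    rw [smul_eq_mul, nsmul_eq_mul]
    push_cast
    by_cases ha : Q a = 0
    · simp [ha]
    · field_simp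
      ring
  rw [this, neg_smul]
  abel

theorem reflALin_map (a x : V) : Q (reflALin Q a x) = Q x := by
  rw [reflALin_apply, sub_eq_add_neg, ← neg_smul, QuadraticMap.map_add Q, QuadraticMap.map_smul,
    polar_smul_right, polar_comm Q x a, smul_eq_mul, smul_eq_mul]
  by_cases ha : Q a = 0
  · simp [ha]
  · field_simp
    ring

/-- the reflection as a linear automorphism -/
def reflAEquiv (a : V) : V ≃ₗ[F] V :=
  LinearEquiv.ofInvolutive (reflALin Q a) (reflALin_reflALin Q a)

/-- the reflection in `a` (the identity when `Q a = 0`) -/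
def reflA (a : V) : isoGroup Q := ⟨reflAEquiv Q a, reflALin_map Q a⟩

theorem reflA_apply (a x : V) : (reflA Q a).1 x = x - ((Q a)⁻¹ * polar Q a x) • a :=
  reflALin_apply Q a x

theorem reflA_mul_self (a : V) : reflA Q a * reflA Q a = 1 := by
  apply Subtype.ext
  apply LinearEquiv.ext
  intro x
  exact reflALin_reflALin Q a x

theorem reflA_inv (a : V) : (reflA Q a)⁻¹ = reflA Q a :=
  inv_eq_of_mul_eq_one_left (reflA_mul_self Q a)

theorem reflA_of_eq_zero (a : V) (ha : Q a = 0) : reflA Q a = 1 := by
  apply Subtype.ext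
  apply LinearEquiv.ext
  intro x
  rw [reflA_apply, ha, inv_zero, zero_mul, zero_smul, sub_zero]
  rfl

theorem reflA_apply_of_orth (a x : V) (h : polar Q a x = 0) : (reflA Q a).1 x = x := by
  rw [reflA_apply, h, mul_zero, zero_smul, sub_zero]

theorem conj_reflA (g : isoGroup Q) (a : V) : g * reflA Q a * g⁻¹ = reflA Q (g.1 a) := by
  apply Subtype.ext
  apply LinearEquiv.ext
  intro x
  change g.1 ((reflA Q a).1 ((g⁻¹).1 x)) = (reflA Q (g.1 a)).1 x
  rw [reflA_apply, reflA_apply, map_sub, map_smul, isoGroup_inv_apply, isoGroup_map]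
  congr 3
  have := isoGroup_polar Q g a ((g⁻¹).1 x)
  rw [isoGroup_inv_apply] at this
  exact this.symm

theorem reflA_smul (a : V) (t : F) (ht : t ≠ 0) : reflA Q (t • a) = reflA Q a := by
  apply Subtype.ext
  apply LinearEquiv.ext
  intro x
  rw [reflA_apply, reflA_apply, QuadraticMap.map_smul, polar_smul_left, smul_smul, smul_eq_mul,
    smul_eq_mul]
  congr 2
  by_cases ha : Q a = 0
  · simp [ha]
  · field_simp

theorem reflA_eq_reflO [CharP F 2] (a : V) (ha : Q a = 1) : reflA Q a = reflO Q a := by
  apply Subtype.ext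
  apply LinearEquiv.ext
  intro x
  rw [reflA_apply, reflO_apply Q a x ha, ha, inv_one, one_mul, sub_eq_add_neg, ← neg_smul,
    CharTwo.neg_eq]

theorem isoGroupMap_reflA {V₂ : Type*} [AddCommGroup V₂] [Module F V₂] (Q₂ : QuadraticForm F V₂)
    (T : V ≃ₗ[F] V₂) (hT : ∀ v, Q₂ (T v) = Q v) (a : V) :
    isoGroupMap Q Q₂ T hT (reflA Q a) = reflA Q₂ (T a) := by
  have hp : ∀ u v, polar Q₂ (T u) (T v) = polar Q u v := by
    intro u v
    unfold polar
    rw [← map_add, hT, hT, hT]
  apply Subtype.ext
  apply LinearEquiv.ext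
  intro x
  rw [isoGroupMap_apply, reflA_apply, reflA_apply, map_sub, map_smul,
    LinearEquiv.apply_symm_apply, hT, ← hp, LinearEquiv.apply_symm_apply]

/-- the subgroup generated by the reflections -/
def reflGenA : Subgroup (isoGroup Q) := Subgroup.closure (Set.range (reflA Q))

theorem reflA_mem_reflGenA (a : V) : reflA Q a ∈ reflGenA Q :=
  Subgroup.subset_closure ⟨a, rfl⟩

end reflA

section mat
universe u
variable {F : Type u} [Field F] {ι : Type} [Fintype ι] [DecidableEq ι]
  (Q : QuadraticForm F (ι → F))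

open Cfsg.Agent.Lib.Helper6 in
/-- the matrix of a reflection -/
theorem isoEquiv_symm_reflA (a : ι → F) :
    ((((isoEquiv ⇑Q Q (fun _ => rfl)).symm (reflA Q a) : Cfsg.isometryGroup F ⇑Q) :
      Matrix.GeneralLinearGroup ι F) : Matrix ι ι F) = Cfsg.reflectionMatrix ⇑Q a := by
  apply matrix_ext_mulVec
  intro x
  rw [isoEquiv_symm_mulVec, reflA_apply, reflectionMatrix_mulVec]

end mat

section gen
universe u
variable {F : Type u} [Field F] [Fintype F]

open Cfsg.Agent.Lib.Helper6 in
/-- generation by reflections on `F^n` -/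
theorem reflGenA_eq_top_fin {n : ℕ} (Q : QuadraticForm F (Fin n → F))
    (hQ : (polarBilin Q).Nondegenerate) (h : Fintype.card F ≠ 2 ∨ n ≠ 4) : reflGenA Q = ⊤ := by
  let e := isoEquiv ⇑Q Q (fun _ => rfl)
  have hcd := Cfsg.Agent.S0786.closure_Rset_eq_top Q hQ h
  rw [eq_top_iff]
  intro g _
  have h1 : Subgroup.closure (Cfsg.Agent.S0792.Rset Q) ≤ (reflGenA Q).comap e.toMonoidHom := by
    rw [Subgroup.closure_le]
    rintro r ⟨u, hu, hr⟩
    change e r ∈ reflGenA Q
    have : e r = reflA Q u := by
      apply e.symm.injective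
      rw [e.symm_apply_apply]
      apply Subtype.ext
      apply Units.ext
      rw [hr]
      exact (isoEquiv_symm_reflA Q u).symm
    rw [this]
    exact reflA_mem_reflGenA Q u
  have h2 : e.symm g ∈ Subgroup.closure (Cfsg.Agent.S0792.Rset Q) := by
    rw [hcd]; exact Subgroup.mem_top _
  have h3 : e (e.symm g) ∈ reflGenA Q := h1 h2
  rwa [e.apply_symm_apply] at h3

variable {V : Type u} [AddCommGroup V] [Module F V] [FiniteDimensional F V]
  (Q : QuadraticForm F V)

/-- generation by reflections, abstract version -/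
theorem reflGenA_eq_top (hQ : (polarBilin Q).Nondegenerate)
    (h : Fintype.card F ≠ 2 ∨ finrank F V ≠ 4) : reflGenA Q = ⊤ := by
  let T : V ≃ₗ[F] (Fin (finrank F V) → F) := (finBasis F V).equivFun
  let Q₂ : QuadraticForm F (Fin (finrank F V) → F) := Q.comp T.symm.toLinearMap
  have hT : ∀ v, Q₂ (T v) = Q v := fun v => by
    change Q (T.symm (T v)) = Q v
    rw [LinearEquiv.symm_apply_apply]
  have hT' : ∀ v, Q (T.symm v) = Q₂ v := fun v => rfl
  have hpol : ∀ x y, polar Q₂ x y = polar Q (T.symm x) (T.symm y) := by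
    intro x y
    unfold polar
    rw [← hT', ← hT', ← hT', map_add]
  have hQ₂ : (polarBilin Q₂).Nondegenerate := by
    constructor
    · intro x hx
      have h0 : T.symm x = 0 := hQ.1 _ (fun y => by
        have h1 := hx (T y)
        change polar Q₂ x (T y) = 0 at h1
        rw [hpol, LinearEquiv.symm_apply_apply] at h1
        exact h1)
      exact T.symm.map_eq_zero_iff.mp h0
    · intro y hy
      have h0 : T.symm y = 0 := hQ.2 _ (fun x => by
        have h1 := hy (T x)
        change polar Q₂ (T x) y = 0 at h1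
        rw [hpol, LinearEquiv.symm_apply_apply] at h1
        exact h1)
      exact T.symm.map_eq_zero_iff.mp h0
  have hgen₂ := reflGenA_eq_top_fin Q₂ hQ₂ h
  rw [eq_top_iff]
  intro g _
  let ψ := isoGroupMap Q₂ Q T.symm hT'
  let ψ' := isoGroupMap Q Q₂ T hT
  have hg : g = ψ (ψ' g) := by
    apply Subtype.ext
    apply LinearEquiv.ext
    intro x
    change g.1 x = T.symm (T (g.1 (T.symm (T x))))
    rw [LinearEquiv.symm_apply_apply, LinearEquiv.symm_apply_apply]
  have h1 : reflGenA Q₂ ≤ (reflGenA Q).comap ψ := by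
    unfold reflGenA
    rw [Subgroup.closure_le]
    rintro _ ⟨a, rfl⟩
    change ψ (reflA Q₂ a) ∈ Subgroup.closure _
    rw [isoGroupMap_reflA Q₂ Q T.symm hT' a]
    exact Subgroup.subset_closure ⟨_, rfl⟩
  rw [hg]
  exact h1 (by rw [hgen₂]; exact Subgroup.mem_top _)

end gen

section abel
variable {F V : Type*} [Field F] [Finite F] [AddCommGroup V] [Module F V]
  [FiniteDimensional F V] (Q : QuadraticForm F V)

/-- Witt transitivity on nonzero vectors of equal norm -/
theorem exists_iso_map_of_eq (hQ : (polarBilin Q).Nondegenerate) (a b : V) (hab : Q a = Q b)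
    (ha0 : a ≠ 0) (hb0 : b ≠ 0) : ∃ g : isoGroup Q, g.1 a = b := by
  let φ : (F ∙ a) ≃ₗ[F] (F ∙ b) :=
    (LinearEquiv.coord F V a ha0).trans (LinearEquiv.toSpanNonzeroSingleton F V b hb0)
  have hφ : ∀ x : (F ∙ a), ((φ x : (F ∙ b)) : V) = (LinearEquiv.coord F V a ha0 x) • b := by
    intro x
    rfl
  obtain ⟨g, hg1, hg2⟩ := Cfsg.Agent.S0750.result Q hQ (F ∙ a) (F ∙ b) φ (by
    intro x
    rw [hφ, QuadraticMap.map_smul, ← hab]
    conv_rhs => rw [← LinearEquiv.coord_apply_smul F V a ha0 x, QuadraticMap.map_smul])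
  refine ⟨⟨g, hg1⟩, ?_⟩
  have := hg2 ⟨a, Submodule.mem_span_singleton_self a⟩
  rw [hφ, LinearEquiv.coord_self, one_smul] at this
  exact this

/-- reflections of equal norm have the same class in the abelianisation -/
theorem ab_reflA_eq_of_eq (hQ : (polarBilin Q).Nondegenerate) (a b : V) (ha : Q a ≠ 0)
    (hab : Q a = Q b) :
    Abelianization.of (reflA Q a) = Abelianization.of (reflA Q b) := by
  have ha0 : a ≠ 0 := by
    rintro rfl
    exact ha (QuadraticMap.map_zero Q)
  have hb0 : b ≠ 0 := by
    rintro rfl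
    rw [QuadraticMap.map_zero Q] at hab
    exact ha hab
  obtain ⟨g, hg⟩ := exists_iso_map_of_eq Q hQ a b hab ha0 hb0
  rw [← hg, ← conj_reflA, map_mul, map_mul, map_inv, mul_comm, inv_mul_cancel_left]

omit [Finite F] [FiniteDimensional F V] in
theorem ab_reflA_mul_self (a : V) :
    Abelianization.of (reflA Q a) * Abelianization.of (reflA Q a) = 1 := by
  rw [← map_mul, reflA_mul_self, map_one]

/-- reflections whose norms differ by a square have the same class in the abelianisation -/
theorem ab_reflA_eq_of_sq (hQ : (polarBilin Q).Nondegenerate) (a b : V) (t : F) (ht : t ≠ 0)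
    (ha : Q a ≠ 0) (hab : Q b = t * t * Q a) :
    Abelianization.of (reflA Q a) = Abelianization.of (reflA Q b) := by
  rw [← reflA_smul Q a t ht]
  apply ab_reflA_eq_of_eq Q hQ
  · rw [QuadraticMap.map_smul, smul_eq_mul]
    exact mul_ne_zero (mul_ne_zero ht ht) ha
  · rw [QuadraticMap.map_smul, smul_eq_mul, hab]

omit [Finite F] [FiniteDimensional F V] in
/-- a subgroup whose image in the abelianisation contains the classes of all reflections
supplements the commutator subgroup -/
theorem exists_mul_inv_mem_commutator (hgen : reflGenA Q = ⊤) (S : Subgroup (isoGroup Q))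
    (hS : ∀ a, Q a ≠ 0 → ∃ s ∈ S, Abelianization.of s = Abelianization.of (reflA Q a))
    (g : isoGroup Q) : ∃ s ∈ S, g * s⁻¹ ∈ commutator (isoGroup Q) := by
  have key : ∀ x : isoGroup Q, ∃ s ∈ S, Abelianization.of s = Abelianization.of x := by
    intro x
    have hx : x ∈ reflGenA Q := by rw [hgen]; exact Subgroup.mem_top _
    unfold reflGenA at hx
    induction hx using Subgroup.closure_induction with
    | mem r hr =>
      obtain ⟨a, rfl⟩ := hr
      by_cases ha : Q a = 0
      · exact ⟨1, S.one_mem, by rw [reflA_of_eq_zero Q a ha]⟩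
      · exact hS a ha
    | one => exact ⟨1, S.one_mem, rfl⟩
    | mul x y _ _ ihx ihy =>
      obtain ⟨s, hs, hsx⟩ := ihx
      obtain ⟨s', hs', hsy⟩ := ihy
      exact ⟨s * s', S.mul_mem hs hs', by rw [map_mul, map_mul, hsx, hsy]⟩
    | inv x _ ihx =>
      obtain ⟨s, hs, hsx⟩ := ihx
      exact ⟨s⁻¹, S.inv_mem hs, by rw [map_inv, map_inv, hsx]⟩
  obtain ⟨s, hs, hsg⟩ := key g
  refine ⟨s, hs, ?_⟩
  rw [← Abelianization.ker_of, MonoidHom.mem_ker, map_mul, map_inv, hsg, mul_inv_cancel]

end abel

end Cfsg.Agent.Lib.Helper13
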