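import Mathlib
import Cfsg.Agent.Lib.Helper13.OrthAll
import Cfsg.Agent.Lib.Helper6.Hyperbolic
import Cfsg.Agent.Lib.Helper6.Dickson
import Cfsg.Agent.Lib.Helper6.Spinor

/-!
# Transitivity of the commutator subgroup of an orthogonal group on subspaces

All characteristics, abstract quadratic space over a finite field, assuming generation by
reflections: the commutator subgroup is transitive on totally singular subspaces of dimension
less than half the dimension, and on nondegenerate subspaces of a given isometry type.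
-/

set_option autoImplicit false

namespace Cfsg.Agent.Lib.Helper13

open Module QuadraticMap

section stab
variable {F V : Type*} [Field F] [AddCommGroup V] [Module F V] (Q : QuadraticForm F V)

/-- the stabiliser of a subspace in the isometry group -/
def stabA (U : Submodule F V) : Subgroup (isoGroup Q) where
  carrier := {g | ∀ x, g.1 x ∈ U ↔ x ∈ U}
  mul_mem' := fun {a b} ha hb x => by
    change a.1 (b.1 x) ∈ U ↔ x ∈ U
    rw [ha, hb]
  one_mem' := fun _ => Iff.rfl
  inv_mem' := fun {a} ha x => by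
    have := ha ((a⁻¹).1 x)
    rw [isoGroup_inv_apply] at this
    exact this.symm

theorem mem_stabA (U : Submodule F V) (g : isoGroup Q) :
    g ∈ stabA Q U ↔ ∀ x, g.1 x ∈ U ↔ x ∈ U := Iff.rfl

theorem map_eq_of_mem_stabA (U : Submodule F V) (g : isoGroup Q) (hg : g ∈ stabA Q U) :
    U.map g.1.toLinearMap = U := by
  ext x
  rw [Submodule.mem_map]
  constructor
  · rintro ⟨u, hu, rfl⟩
    exact (hg u).mpr hu
  · intro hx
    refine ⟨(g⁻¹).1 x, ?_, isoGroup_inv_apply Q g x⟩
    have := hg ((g⁻¹).1 x)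
    rw [isoGroup_inv_apply] at this
    exact this.mp hx

theorem map_mul_eq (U : Submodule F V) (g h : isoGroup Q) :
    U.map (g * h).1.toLinearMap = (U.map h.1.toLinearMap).map g.1.toLinearMap := by
  rw [← Submodule.map_comp]
  rfl

theorem mem_stabA_of_forall [FiniteDimensional F V] (U : Submodule F V) (g : isoGroup Q)
    (h : ∀ x ∈ U, g.1 x ∈ U) : g ∈ stabA Q U := by
  intro x
  constructor
  · intro hx
    have hle : U.map g.1.toLinearMap ≤ U := by
      rintro _ ⟨u, hu, rfl⟩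
      exact h u hu
    have heq : U.map g.1.toLinearMap = U :=
      Submodule.eq_of_le_of_finrank_eq hle (LinearEquiv.finrank_map_eq g.1 U)
    rw [← heq] at hx
    obtain ⟨u, hu, hux⟩ := hx
    have : u = x := g.1.injective hux
    rwa [← this]
  · exact h x

theorem mem_stabA_of_involutive (U : Submodule F V) (g : isoGroup Q) (hg : g * g = 1)
    (h : ∀ x ∈ U, g.1 x ∈ U) : g ∈ stabA Q U := by
  intro x
  refine ⟨fun hx => ?_, h x⟩
  have h1 := h _ hx
  have h2 : g.1 (g.1 x) = x := by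
    have := congrArg (fun t : isoGroup Q => t.1 x) hg
    exact this
  rwa [h2] at h1

theorem reflA_mem_stabA_of_mem (U : Submodule F V) (b : V) (hb : b ∈ U) :
    reflA Q b ∈ stabA Q U := by
  apply mem_stabA_of_involutive Q U _ (reflA_mul_self Q b)
  intro x hx
  rw [reflA_apply]
  exact U.sub_mem hx (U.smul_mem _ hb)

theorem reflA_mem_stabA_of_orth (U : Submodule F V) (b : V) (hb : ∀ u ∈ U, polar Q b u = 0) :
    reflA Q b ∈ stabA Q U := by
  apply mem_stabA_of_involutive Q U _ (reflA_mul_self Q b)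
  intro x hx
  rw [reflA_apply_of_orth Q b x (hb x hx)]
  exact hx

/-- a subspace on which the polar form does not vanish contains a nonsingular vector -/
theorem exists_nonsingular_of_polar (X : Submodule F V) (x y : V) (hx : x ∈ X) (hy : y ∈ X)
    (hxy : polar Q x y ≠ 0) : ∃ b ∈ X, Q b ≠ 0 := by
  by_contra hne
  push Not at hne
  apply hxy
  unfold polar
  rw [hne _ (X.add_mem hx hy), hne x hx, hne y hy]
  simp

/-- hyperbolic partner of a nonzero singular vector -/
theorem exists_hyp_partner (hQ : (polarBilin Q).Nondegenerate) (e : V) (he : Q e = 0)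
    (he0 : e ≠ 0) : ∃ f, Q f = 0 ∧ polar Q e f = 1 := by
  have hex : ∃ y, polar Q e y ≠ 0 := by
    by_contra hne
    push Not at hne
    exact he0 (hQ.1 e hne)
  obtain ⟨y, hy⟩ := hex
  obtain ⟨y', h1⟩ : ∃ y', polar Q e y' = 1 :=
    ⟨(polar Q e y)⁻¹ • y, by rw [polar_smul_right, smul_eq_mul, inv_mul_cancel₀ hy]⟩
  refine ⟨y' - Q y' • e, ?_, ?_⟩
  · rw [sub_eq_add_neg, ← neg_smul, QuadraticMap.map_add Q, QuadraticMap.map_smul,
      polar_smul_right, polar_comm Q y' e, h1, he]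
    simp
  · rw [polar_sub_right, polar_smul_right, polar_self, he, h1]
    simp

/-- the product of the reflections in `e + c' f` and `e + c f` stabilises a totally singular
subspace containing `e` -/
theorem pair_mem_stabA [FiniteDimensional F V] (U : Submodule F V) (hU0 : ∀ u ∈ U, Q u = 0)
    (e f : V) (he : e ∈ U) (hf : Q f = 0) (hef : polar Q e f = 1) (c c' : F) (hc : c ≠ 0)
    (hc' : c' ≠ 0) :
    reflA Q (e + c' • f) * reflA Q (e + c • f) ∈ stabA Q U := by
  have hQe : Q e = 0 := hU0 e he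
  have hfe : polar Q f e = 1 := by rw [polar_comm]; exact hef
  have hnorm : ∀ d : F, Q (e + d • f) = d := by
    intro d
    rw [QuadraticMap.map_add Q, QuadraticMap.map_smul, polar_smul_right, hQe, hf, hef]
    simp
  have hpol : ∀ u ∈ U, polar Q e u = 0 := by
    intro u hu
    have := Cfsg.Agent.Lib.Helper6.TS.polar (Q := Q) (W := U) hU0 he hu
    exact this
  have hru : ∀ d : F, d ≠ 0 → ∀ u ∈ U,
      (reflA Q (e + d • f)).1 u = u - polar Q f u • e - (d * polar Q f u) • f := by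
    intro d hd u hu
    rw [reflA_apply, hnorm, polar_add_left, polar_smul_left, hpol u hu, zero_add, smul_eq_mul,
      inv_mul_cancel_left₀ hd, smul_add, smul_smul]
    rw [mul_comm (polar Q f u) d]
    abel
  have hre : ∀ d : F, d ≠ 0 → (reflA Q (e + d • f)).1 e = -(d • f) := by
    intro d hd
    rw [reflA_apply, hnorm, polar_add_left, polar_smul_left, polar_self, hQe, hfe, smul_eq_mul,
      smul_zero, zero_add, mul_one, inv_mul_cancel₀ hd, one_smul]
    abel
  have hrf : ∀ d : F, d ≠ 0 → (reflA Q (e + d • f)).1 f = -(d⁻¹ • e) := by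
    intro d hd
    rw [reflA_apply, hnorm, polar_add_left, polar_smul_left, polar_self, hf, hef, smul_eq_mul,
      smul_zero, mul_zero, add_zero, mul_one, smul_add, smul_smul, inv_mul_cancel₀ hd, one_smul]
    abel
  apply mem_stabA_of_forall
  intro u hu
  change (reflA Q (e + c' • f)).1 ((reflA Q (e + c • f)).1 u) ∈ U
  rw [hru c hc u hu, map_sub, map_sub, map_smul, map_smul, hru c' hc' u hu, hre c' hc',
    hrf c' hc']
  have : u - polar Q f u • e - (c' * polar Q f u) • f - polar Q f u • -(c' • f) -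
      (c * polar Q f u) • -(c'⁻¹ • e) = u - polar Q f u • e + (c * polar Q f u * c'⁻¹) • e := by
    module
  rw [this]
  exact U.add_mem (U.sub_mem hu (U.smul_mem _ he)) (U.smul_mem _ he)

end stab

section main
variable {F V : Type*} [Field F] [Fintype F] [AddCommGroup V] [Module F V]
  [FiniteDimensional F V] (Q : QuadraticForm F V)

omit [Fintype F] [FiniteDimensional F V] in
theorem polarBilin_isRefl : (polarBilin Q).IsRefl := by
  intro x y h
  rw [polarBilin_apply_apply] at h ⊢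
  rw [polar_comm]
  exact h

/-- a nondegenerate subspace of dimension at least two represents every nonzero scalar up to a
square factor -/
theorem exists_mem_norm_sq (X : Submodule F V)
    (hX : ∀ x ∈ X, (∀ y ∈ X, polar Q x y = 0) → x = 0) (hdim : 2 ≤ finrank F X) (c : F)
    (hc : c ≠ 0) : ∃ b ∈ X, ∃ t : F, t ≠ 0 ∧ Q b = t * t * c := by
  classical
  have hpos : 0 < finrank F X := by omega
  obtain ⟨⟨x₀, hx₀X⟩, hx₀⟩ := Module.finrank_pos_iff_exists_ne_zero.mp hpos
  have hx₀' : x₀ ≠ 0 := fun h => hx₀ (Subtype.ext h)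
  have hex : ∃ y ∈ X, polar Q x₀ y ≠ 0 := by
    by_contra hne
    push Not at hne
    exact hx₀' (hX x₀ hx₀X hne)
  obtain ⟨y₀, hy₀X, hy₀⟩ := hex
  obtain ⟨a₁, ha₁X, ha₁⟩ := exists_nonsingular_of_polar Q X x₀ y₀ hx₀X hy₀X hy₀
  by_cases h2 : (2 : F) = 0
  · obtain ⟨t, ht⟩ := Cfsg.Agent.Lib.Helper6.exists_sq_two h2 (Q a₁ / c)
    have ht0 : t ≠ 0 := by
      rintro rfl
      rw [mul_zero] at ht
      exact (div_ne_zero ha₁ hc) ht.symm
    refine ⟨a₁, ha₁X, t, ht0, ?_⟩
    rw [ht]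
    field_simp
  · let φ : V →ₗ[F] F := polarBilin Q a₁
    have hφ : ∀ x, φ x = polar Q a₁ x := fun x => rfl
    have hφa : φ a₁ ≠ 0 := by
      rw [hφ, polar_self, nsmul_eq_mul]
      push_cast
      exact mul_ne_zero h2 ha₁
    have hfr := Cfsg.Agent.Lib.Helper6.finrank_inf_ker_add_one X φ a₁ ha₁X hφa
    have hpos2 : 0 < finrank F ↥(X ⊓ LinearMap.ker φ) := by omega
    obtain ⟨⟨x₁, hx₁X⟩, hx₁⟩ := Module.finrank_pos_iff_exists_ne_zero.mp hpos2
    have hx₁' : x₁ ≠ 0 := fun h => hx₁ (Subtype.ext h)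
    have hx₁φ : polar Q a₁ x₁ = 0 := LinearMap.mem_ker.mp hx₁X.2
    have hex : ∃ y ∈ X, polar Q x₁ y ≠ 0 := by
      by_contra hne
      push Not at hne
      exact hx₁' (hX x₁ hx₁X.1 hne)
    obtain ⟨y₁, hy₁X, hy₁⟩ := hex
    set y₂ : V := y₁ - (polar Q a₁ y₁ / polar Q a₁ a₁) • a₁ with hy₂
    have hy₂X : y₂ ∈ X ⊓ LinearMap.ker φ := by
      refine Submodule.mem_inf.mpr ⟨X.sub_mem hy₁X (X.smul_mem _ ha₁X), ?_⟩
      rw [LinearMap.mem_ker, hφ, hy₂, polar_sub_right, polar_smul_right, smul_eq_mul,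
        div_mul_cancel₀ _ (by rw [← hφ]; exact hφa), sub_self]
    have hxy₂ : polar Q x₁ y₂ ≠ 0 := by
      rw [hy₂, polar_sub_right, polar_smul_right, polar_comm Q x₁ a₁, hx₁φ, smul_zero, sub_zero]
      exact hy₁
    obtain ⟨a₂, ha₂X, ha₂⟩ := exists_nonsingular_of_polar Q (X ⊓ LinearMap.ker φ) x₁ y₂ hx₁X
      hy₂X hxy₂
    have ha₁₂ : polar Q a₁ a₂ = 0 := LinearMap.mem_ker.mp ha₂X.2
    obtain ⟨s₁, s₂, hs⟩ := Cfsg.Agent.Lib.Helper6.exists_binary_value h2 (Q a₁) (Q a₂) c ha₁ ha₂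
    refine ⟨s₁ • a₁ + s₂ • a₂, X.add_mem (X.smul_mem _ ha₁X) (X.smul_mem _ ha₂X.1), 1,
      one_ne_zero, ?_⟩
    rw [QuadraticMap.map_add Q, QuadraticMap.map_smul, QuadraticMap.map_smul, polar_smul_left,
      polar_smul_right, ha₁₂, smul_eq_mul, smul_eq_mul, smul_eq_mul, smul_eq_mul, ← hs]
    ring

open LinearMap.BilinForm in
/-- **Transitivity on totally singular subspaces.** -/
theorem exists_commutator_map_ts (hQ : (polarBilin Q).Nondegenerate) (hgen : reflGenA Q = ⊤)
    (U W : Submodule F V) (k : ℕ) (hk : 2 * k < finrank F V) (hU : finrank F U = k)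
    (hW : finrank F W = k) (hU0 : ∀ u ∈ U, Q u = 0) (hW0 : ∀ w ∈ W, Q w = 0) :
    ∃ g : isoGroup Q, g ∈ commutator (isoGroup Q) ∧ U.map g.1.toLinearMap = W := by
  by_cases hk0 : k = 0
  · subst hk0
    have hU' : U = ⊥ := Submodule.finrank_eq_zero.mp hU
    have hW' : W = ⊥ := Submodule.finrank_eq_zero.mp hW
    refine ⟨1, Subgroup.one_mem _, ?_⟩
    rw [hU', hW', Submodule.map_bot]
  -- Witt
  let φ : U ≃ₗ[F] W := LinearEquiv.ofFinrankEq U W (hU.trans hW.symm)
  obtain ⟨g₀, hg₀1, hg₀2⟩ := Cfsg.Agent.S0750.result Q hQ U W φ (fun x => by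
    rw [hU0 _ x.2, hW0 _ (φ x).2])
  let g₀' : isoGroup Q := ⟨g₀, hg₀1⟩
  have hmap : U.map g₀'.1.toLinearMap = W := by
    apply Submodule.eq_of_le_of_finrank_eq
    · rintro _ ⟨u, hu, rfl⟩
      change g₀ u ∈ W
      rw [hg₀2 ⟨u, hu⟩]
      exact (φ ⟨u, hu⟩).2
    · rw [LinearEquiv.finrank_map_eq g₀ U, hU, hW]
  -- a nonzero vector of U and its partner
  have hpos : 0 < finrank F U := by omega
  obtain ⟨⟨e, heU⟩, he⟩ := Module.finrank_pos_iff_exists_ne_zero.mp hpos
  have he0 : e ≠ 0 := fun h => he (Subtype.ext h)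
  obtain ⟨f, hf, hef⟩ := exists_hyp_partner Q hQ e (hU0 e heU) he0
  -- a nonsingular vector orthogonal to U
  have hex : ∃ v₀ ∈ orthogonal (polarBilin Q) U, Q v₀ ≠ 0 := by
    by_contra hne
    push Not at hne
    have hTS : Cfsg.Agent.Lib.Helper6.TS Q (orthogonal (polarBilin Q) U) := hne
    have h1 := hTS.two_mul_finrank_le hQ
    have h2 := finrank_orthogonal hQ U
    have h3 := Submodule.finrank_le U
    omega
  obtain ⟨v₀, hv₀U, hv₀⟩ := hex
  have hv₀orth : ∀ u ∈ U, polar Q v₀ u = 0 := by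
    intro u hu
    rw [polar_comm]
    exact (Cfsg.Agent.Lib.Helper6.mem_orth_iff Q U v₀).mp hv₀U u hu
  have hnorm : ∀ d : F, Q (e + d • f) = d := by
    intro d
    rw [QuadraticMap.map_add Q, QuadraticMap.map_smul, polar_smul_right, hU0 e heU, hf, hef]
    simp
  obtain ⟨s, hs, hgs⟩ := exists_mul_inv_mem_commutator Q hgen (stabA Q U) (by
    intro a ha
    refine ⟨reflA Q v₀ * (reflA Q (e + Q a • f) * reflA Q (e + Q v₀ • f)),
      (stabA Q U).mul_mem (reflA_mem_stabA_of_orth Q U v₀ hv₀orth)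
        (pair_mem_stabA Q U hU0 e f heU hf hef (Q v₀) (Q a) hv₀ ha), ?_⟩
    have h1 : Abelianization.of (reflA Q (e + Q v₀ • f)) = Abelianization.of (reflA Q v₀) :=
      ab_reflA_eq_of_eq Q hQ _ _ (by rw [hnorm]; exact hv₀) (by rw [hnorm])
    have h2 : Abelianization.of (reflA Q (e + Q a • f)) = Abelianization.of (reflA Q a) :=
      ab_reflA_eq_of_eq Q hQ _ _ (by rw [hnorm]; exact ha) (by rw [hnorm])
    rw [map_mul, map_mul, h1, h2, mul_comm (Abelianization.of (reflA Q a)), ← mul_assoc,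
      ab_reflA_mul_self, one_mul]) g₀'
  refine ⟨g₀' * s⁻¹, hgs, ?_⟩
  rw [map_mul_eq, map_eq_of_mem_stabA Q U s⁻¹ ((stabA Q U).inv_mem hs)]
  exact hmap

open LinearMap.BilinForm in
/-- **Transitivity on nondegenerate subspaces of a given isometry type.** -/
theorem exists_commutator_map_nondeg (hQ : (polarBilin Q).Nondegenerate)
    (hgen : reflGenA Q = ⊤) (hn : 3 ≤ finrank F V) (U W : Submodule F V)
    (hU : U ⊓ orthogonal (polarBilin Q) U = ⊥) (φ : U ≃ₗ[F] W)
    (hφ : ∀ u : U, Q (φ u : V) = Q (u : V)) :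
    ∃ g : isoGroup Q, g ∈ commutator (isoGroup Q) ∧ U.map g.1.toLinearMap = W := by
  obtain ⟨g₀, hg₀1, hg₀2⟩ := Cfsg.Agent.S0750.result Q hQ U W φ hφ
  let g₀' : isoGroup Q := ⟨g₀, hg₀1⟩
  have hmap : U.map g₀'.1.toLinearMap = W := by
    apply Submodule.eq_of_le_of_finrank_eq
    · rintro _ ⟨u, hu, rfl⟩
      change g₀ u ∈ W
      rw [hg₀2 ⟨u, hu⟩]
      exact (φ ⟨u, hu⟩).2
    · rw [LinearEquiv.finrank_map_eq g₀ U]
      exact φ.finrank_eq
  set Up := orthogonal (polarBilin Q) U with hUp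
  have hXU : ∀ x ∈ U, (∀ y ∈ U, polar Q x y = 0) → x = 0 := by
    intro x hx hxy
    have h1 : x ∈ U ⊓ Up := by
      refine Submodule.mem_inf.mpr ⟨hx, ?_⟩
      rw [hUp, Cfsg.Agent.Lib.Helper6.mem_orth_iff]
      intro w hw
      rw [polar_comm]
      exact hxy w hw
    rw [hU] at h1
    exact (Submodule.mem_bot F).mp h1
  have hXUp : ∀ x ∈ Up, (∀ y ∈ Up, polar Q x y = 0) → x = 0 := by
    intro x hx hxy
    have h1 : x ∈ orthogonal (polarBilin Q) Up := by
      rw [Cfsg.Agent.Lib.Helper6.mem_orth_iff]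
      intro w hw
      rw [polar_comm]
      exact hxy w hw
    rw [hUp, orthogonal_orthogonal hQ (polarBilin_isRefl Q) U] at h1
    have h2 : x ∈ U ⊓ Up := ⟨h1, hx⟩
    rw [hU] at h2
    exact (Submodule.mem_bot F).mp h2
  have hfr : finrank F Up = finrank F V - finrank F U := finrank_orthogonal hQ U
  have hUporth : ∀ b ∈ Up, ∀ u ∈ U, polar Q b u = 0 := by
    intro b hb u hu
    rw [polar_comm]
    exact (Cfsg.Agent.Lib.Helper6.mem_orth_iff Q U b).mp hb u hu
  obtain ⟨s, hs, hgs⟩ := exists_mul_inv_mem_commutator Q hgen (stabA Q U) (by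
    intro a ha
    by_cases hdim : 2 ≤ finrank F U
    · obtain ⟨b, hbX, t, ht, hbt⟩ := exists_mem_norm_sq Q U hXU hdim (Q a) ha
      exact ⟨reflA Q b, reflA_mem_stabA_of_mem Q U b hbX,
        (ab_reflA_eq_of_sq Q hQ a b t ht ha hbt).symm⟩
    · have hdim' : 2 ≤ finrank F Up := by omega
      obtain ⟨b, hbX, t, ht, hbt⟩ := exists_mem_norm_sq Q Up hXUp hdim' (Q a) ha
      exact ⟨reflA Q b, reflA_mem_stabA_of_orth Q U b (hUporth b hbX),
        (ab_reflA_eq_of_sq Q hQ a b t ht ha hbt).symm⟩) g₀'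
  refine ⟨g₀' * s⁻¹, hgs, ?_⟩
  rw [map_mul_eq, map_eq_of_mem_stabA Q U s⁻¹ ((stabA Q U).inv_mem hs)]
  exact hmap

end main

end Cfsg.Agent.Lib.Helper13
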