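import Mathlib
import Cfsg.Agent.Lib.Helper13.OrthTrans
import Cfsg.Prelude.Def_FischerSpaces
import Cfsg.Prelude.Def_SporadicB

/-!
# Reflections over the field with three elements

Abstract quadratic space over a finite field in which every nonzero scalar squares to `1`
(i.e. `F = F_3`): reflections of a fixed norm form a class of 3-transpositions in the group they
generate; products of two reflections of norm `-c` lie in the group generated by the reflections
of norm `c`.
-/

set_option autoImplicit false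

namespace Cfsg.Agent.Lib.Helper13

open Module QuadraticMap

section basic
variable {F V : Type*} [Field F] [AddCommGroup V] [Module F V] (Q : QuadraticForm F V)

theorem reflA_conj_self (a b : V) :
    reflA Q a * reflA Q b * reflA Q a = reflA Q ((reflA Q a).1 b) := by
  have := conj_reflA Q (reflA Q a) b
  rwa [reflA_inv] at this

theorem reflA_apply_self (a : V) (ha : Q a ≠ 0) : (reflA Q a).1 a = -a := by
  rw [reflA_apply, polar_self, nsmul_eq_mul]
  have : (Q a)⁻¹ * ((2 : ℕ) * Q a) = 2 := by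
    push_cast
    field_simp
  rw [this, two_smul]
  abel

theorem reflA_ne_one (h2 : (2 : F) ≠ 0) (a : V) (ha : Q a ≠ 0) : reflA Q a ≠ 1 := by
  intro h
  have h1 := reflA_apply_self Q a ha
  rw [h] at h1
  change a = -a at h1
  have h3 : (2 : F) • a = 0 := by
    rw [two_smul]
    nth_rewrite 1 [h1]
    exact neg_add_cancel a
  have h4 : a = 0 := by
    rcases smul_eq_zero.mp h3 with h | h
    · exact absurd h h2
    · exact h
  rw [h4, QuadraticMap.map_zero] at ha
  exact ha rfl

theorem orderOf_reflA (h2 : (2 : F) ≠ 0) (a : V) (ha : Q a ≠ 0) : orderOf (reflA Q a) = 2 := by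
  have : Fact (Nat.Prime 2) := ⟨Nat.prime_two⟩
  apply orderOf_eq_prime
  · rw [pow_two, reflA_mul_self]
  · exact reflA_ne_one Q h2 a ha

/-- orthogonal reflections commute -/
theorem reflA_comm_of_orth (a b : V) (hab : polar Q a b = 0) :
    reflA Q a * reflA Q b = reflA Q b * reflA Q a := by
  have h := reflA_conj_self Q a b
  rw [reflA_apply_of_orth Q a b hab] at h
  calc reflA Q a * reflA Q b = reflA Q a * reflA Q b * (reflA Q a * reflA Q a) := by
        rw [reflA_mul_self, mul_one]
    _ = reflA Q a * reflA Q b * reflA Q a * reflA Q a := by rw [mul_assoc, mul_assoc, mul_assoc]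
    _ = reflA Q b * reflA Q a := by rw [h]

variable (hF : ∀ x : F, x ≠ 0 → x * x = 1)
include hF

/-- key computation over the field with three elements -/
theorem reflA_sub_apply (a b : V) (c : F) (hc : c ≠ 0) (ha : Q a = c) (hb : Q b = c)
    (hab : polar Q a b ≠ 0) :
    (reflA Q (b - (c⁻¹ * polar Q a b) • a)).1 a = (c⁻¹ * polar Q a b) • b := by
  have hε0 : c⁻¹ * polar Q a b ≠ 0 := mul_ne_zero (inv_ne_zero hc) hab
  have hε := hF _ hε0
  have himg : (reflA Q a).1 b = b - (c⁻¹ * polar Q a b) • a := by rw [reflA_apply, ha]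
  have hnorm : Q (b - (c⁻¹ * polar Q a b) • a) = c := by
    rw [← himg, isoGroup_map, hb]
  rw [reflA_apply, hnorm, polar_sub_left, polar_smul_left, polar_self, ha, polar_comm Q b a,
    nsmul_eq_mul, smul_eq_mul]
  have hcoef : c⁻¹ * (polar Q a b - c⁻¹ * polar Q a b * ((2 : ℕ) * c)) =
      -(c⁻¹ * polar Q a b) := by
    push_cast
    field_simp
    ring
  rw [hcoef, neg_smul, sub_neg_eq_add, smul_sub, smul_smul, hε, one_smul]
  abel

/-- two reflections of the same norm in non-orthogonal vectors are conjugate in the group they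
generate -/
theorem reflA_conj_of_polar_ne (a b : V) (c : F) (hc : c ≠ 0) (ha : Q a = c) (hb : Q b = c)
    (hab : polar Q a b ≠ 0) :
    (reflA Q a * reflA Q b * reflA Q a) * reflA Q a * (reflA Q a * reflA Q b * reflA Q a)⁻¹ =
      reflA Q b := by
  have hε0 : c⁻¹ * polar Q a b ≠ 0 := mul_ne_zero (inv_ne_zero hc) hab
  have himg : (reflA Q a).1 b = b - (c⁻¹ * polar Q a b) • a := by rw [reflA_apply, ha]
  rw [reflA_conj_self, conj_reflA, himg, reflA_sub_apply Q hF a b c hc ha hb hab,
    reflA_smul Q b _ hε0]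

/-- the 3-transposition property -/
theorem reflA_mul_pow_three (a b : V) (c : F) (hc : c ≠ 0) (ha : Q a = c) (hb : Q b = c) :
    (reflA Q a * reflA Q b) ^ 2 = 1 ∨ (reflA Q a * reflA Q b) ^ 3 = 1 := by
  by_cases hab : polar Q a b = 0
  · left
    have h := reflA_conj_self Q a b
    rw [reflA_apply_of_orth Q a b hab] at h
    rw [pow_two]
    calc reflA Q a * reflA Q b * (reflA Q a * reflA Q b)
        = (reflA Q a * reflA Q b * reflA Q a) * reflA Q b := by rw [mul_assoc, mul_assoc, mul_assoc]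
      _ = 1 := by rw [h, reflA_mul_self]
  · right
    have hε0 : c⁻¹ * polar Q a b ≠ 0 := mul_ne_zero (inv_ne_zero hc) hab
    have hε := hF _ hε0
    have h1 := reflA_conj_self Q a b
    have h2 := reflA_conj_self Q b a
    rw [reflA_apply, ha] at h1
    rw [reflA_apply, hb, polar_comm Q b a] at h2
    have hvec : a - (c⁻¹ * polar Q a b) • b =
        (-(c⁻¹ * polar Q a b)) • (b - (c⁻¹ * polar Q a b) • a) := by
      rw [smul_sub, smul_smul, neg_mul, hε, neg_smul, neg_smul, one_smul]
      abel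
    rw [hvec, reflA_smul Q _ _ (neg_ne_zero.mpr hε0)] at h2
    have h3 : (reflA Q a * reflA Q b) ^ 3 =
        (reflA Q a * reflA Q b * reflA Q a) * (reflA Q b * reflA Q a * reflA Q b) := by
      rw [pow_succ, pow_two]
      simp only [mul_assoc]
    rw [h3, h1, h2, reflA_mul_self]

end basic

section connect
variable {F V : Type*} [Field F] [Fintype F] [AddCommGroup V] [Module F V]
  [FiniteDimensional F V] (Q : QuadraticForm F V)

/-- the common orthogonal complement of a family of vectors with invertible diagonal Gram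
matrix is nondegenerate; here for two orthogonal nonsingular vectors -/
theorem exists_orth_norm_two (hQ : (polarBilin Q).Nondegenerate) (h2 : (2 : F) ≠ 0)
    (hdim : 4 ≤ finrank F V) (a b : V) (ha : Q a ≠ 0) (hb : Q b ≠ 0) (hab : polar Q a b = 0)
    (c' : F) (hc' : c' ≠ 0) :
    ∃ w : V, ∃ t : F, t ≠ 0 ∧ Q w = t * t * c' ∧ polar Q a w = 0 ∧ polar Q b w = 0 := by
  let φa : V →ₗ[F] F := polarBilin Q a
  let φb : V →ₗ[F] F := polarBilin Q b
  have hφa : ∀ x, φa x = polar Q a x := fun x => rfl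
  have hφb : ∀ x, φb x = polar Q b x := fun x => rfl
  have haa : polar Q a a ≠ 0 := by
    rw [polar_self, nsmul_eq_mul]
    push_cast
    exact mul_ne_zero h2 ha
  have hbb : polar Q b b ≠ 0 := by
    rw [polar_self, nsmul_eq_mul]
    push_cast
    exact mul_ne_zero h2 hb
  have hba : polar Q b a = 0 := by rw [polar_comm]; exact hab
  set X : Submodule F V := (⊤ ⊓ LinearMap.ker φa) ⊓ LinearMap.ker φb with hXdef
  have hmemX : ∀ x, x ∈ X ↔ polar Q a x = 0 ∧ polar Q b x = 0 := by
    intro x
    rw [hXdef, Submodule.mem_inf, Submodule.mem_inf, LinearMap.mem_ker, LinearMap.mem_ker]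
    simp [hφa, hφb]
  have hf1 := Cfsg.Agent.Lib.Helper6.finrank_inf_ker_add_one (⊤ : Submodule F V) φa a
    Submodule.mem_top (by rw [hφa]; exact haa)
  have hf2 := Cfsg.Agent.Lib.Helper6.finrank_inf_ker_add_one (⊤ ⊓ LinearMap.ker φa) φb b
    (Submodule.mem_inf.mpr ⟨Submodule.mem_top, by rw [LinearMap.mem_ker, hφa]; exact hab⟩)
    (by rw [hφb]; exact hbb)
  have hft : finrank F (⊤ : Submodule F V) = finrank F V := finrank_top F V
  have hXdim : 2 ≤ finrank F X := by
    rw [hXdef]
    omega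
  have hX : ∀ x ∈ X, (∀ y ∈ X, polar Q x y = 0) → x = 0 := by
    intro x hx hxy
    obtain ⟨hxa, hxb⟩ := (hmemX x).mp hx
    apply hQ.1 x
    intro y
    change polar Q x y = 0
    set y' : V := y - (polar Q a y / polar Q a a) • a - (polar Q b y / polar Q b b) • b with hy'
    have hy'X : y' ∈ X := by
      rw [hmemX]
      constructor
      · rw [hy', polar_sub_right, polar_sub_right, polar_smul_right, polar_smul_right, hab,
          smul_eq_mul, smul_eq_mul, div_mul_cancel₀ _ haa]
        simp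
      · rw [hy', polar_sub_right, polar_sub_right, polar_smul_right, polar_smul_right, hba,
          smul_eq_mul, smul_eq_mul, div_mul_cancel₀ _ hbb]
        simp
    have h0 := hxy y' hy'X
    rw [hy', polar_sub_right, polar_sub_right, polar_smul_right, polar_smul_right,
      polar_comm Q x a, polar_comm Q x b, hxa, hxb] at h0
    simpa using h0
  obtain ⟨w, hwX, t, ht, hwt⟩ := exists_mem_norm_sq Q X hX hXdim c' hc'
  obtain ⟨hwa, hwb⟩ := (hmemX w).mp hwX
  exact ⟨w, t, ht, hwt, hwa, hwb⟩

end connect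

section connect2
variable {F V : Type*} [Field F] [Fintype F] [AddCommGroup V] [Module F V]
  [FiniteDimensional F V] (Q : QuadraticForm F V)

/-- two orthogonal vectors of norm `c` are both non-orthogonal to some vector of norm `c` -/
theorem exists_connecting (hQ : (polarBilin Q).Nondegenerate)
    (hF : ∀ x : F, x ≠ 0 → x * x = 1) (h2 : (2 : F) ≠ 0) (hdim : 4 ≤ finrank F V) (a b : V)
    (c : F) (hc : c ≠ 0) (ha : Q a = c) (hb : Q b = c) (hab : polar Q a b = 0) :
    ∃ d, Q d = c ∧ polar Q a d ≠ 0 ∧ polar Q b d ≠ 0 := by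
  obtain ⟨w, t, ht, hwt, hwa, hwb⟩ := exists_orth_norm_two Q hQ h2 hdim a b (ha ▸ hc)
    (hb ▸ hc) hab (-c) (neg_ne_zero.mpr hc)
  rw [hF t ht, one_mul] at hwt
  have h2c : (2 : ℕ) • c ≠ 0 := by
    rw [nsmul_eq_mul]
    push_cast
    exact mul_ne_zero h2 hc
  refine ⟨a + b + w, ?_, ?_, ?_⟩
  · rw [QuadraticMap.map_add Q, QuadraticMap.map_add Q, polar_add_left, ha, hb, hab, hwt, hwa,
      hwb]
    ring
  · rw [polar_add_right, polar_add_right, polar_self, ha, hab, hwa, add_zero, add_zero]
    exact h2c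
  · rw [polar_add_right, polar_add_right, polar_self, hb, polar_comm Q b a, hab, hwb, add_zero,
      zero_add]
    exact h2c

/-- every nonzero scalar is a norm -/
theorem exists_norm_eq (hQ : (polarBilin Q).Nondegenerate)
    (hF : ∀ x : F, x ≠ 0 → x * x = 1) (hdim : 2 ≤ finrank F V) (c : F) (hc : c ≠ 0) :
    ∃ a, Q a = c := by
  obtain ⟨a, -, t, ht, hat⟩ := exists_mem_norm_sq Q ⊤ (fun x _ hx => hQ.1 x (fun y => hx y
    Submodule.mem_top)) (by rw [finrank_top]; exact hdim) c hc
  rw [hF t ht, one_mul] at hat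
  exact ⟨a, hat⟩

/-- reflections of norm `c` are conjugate under any subgroup containing them all -/
theorem exists_conj_mem (hQ : (polarBilin Q).Nondegenerate)
    (hF : ∀ x : F, x ≠ 0 → x * x = 1) (h2 : (2 : F) ≠ 0) (hdim : 4 ≤ finrank F V)
    (c : F) (hc : c ≠ 0) (R : Subgroup (isoGroup Q)) (hR : ∀ v, Q v = c → reflA Q v ∈ R)
    (a b : V) (ha : Q a = c) (hb : Q b = c) :
    ∃ h ∈ R, h * reflA Q a * h⁻¹ = reflA Q b := by
  have step : ∀ a b : V, Q a = c → Q b = c → polar Q a b ≠ 0 →
      ∃ h ∈ R, h * reflA Q a * h⁻¹ = reflA Q b := by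
    intro a b ha hb hab
    exact ⟨reflA Q a * reflA Q b * reflA Q a,
      R.mul_mem (R.mul_mem (hR a ha) (hR b hb)) (hR a ha),
      reflA_conj_of_polar_ne Q hF a b c hc ha hb hab⟩
  by_cases hab : polar Q a b = 0
  · obtain ⟨d, hd, had, hbd⟩ := exists_connecting Q hQ hF h2 hdim a b c hc ha hb hab
    obtain ⟨h₁, hh₁, e₁⟩ := step a d ha hd had
    obtain ⟨h₂, hh₂, e₂⟩ := step d b hd hb (by rw [polar_comm]; exact hbd)
    refine ⟨h₂ * h₁, R.mul_mem hh₂ hh₁, ?_⟩
    rw [← e₂, ← e₁]
    group
  · exact step a b ha hb hab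

end connect2

section matclass
universe u
variable {F : Type u} [Field F] [Fintype F] {ι : Type} [Fintype ι] [DecidableEq ι]
  (Q : QuadraticForm F (ι → F))

open Matrix

omit [Fintype F] in
/-- reflections of norm `c` in the matrix group, abstractly -/
theorem mem_reflectionsOfNorm_iff (c : F) (g : ↥(Cfsg.isometryGroup F ⇑Q)) :
    g ∈ Cfsg.reflectionsOfNorm ⇑Q c ↔
      ∃ v, Q v = c ∧ isoEquiv ⇑Q Q (fun _ => rfl) g = reflA Q v := by
  constructor
  · rintro ⟨v, hv, hmat⟩
    refine ⟨v, hv, ?_⟩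
    have : g = (isoEquiv ⇑Q Q (fun _ => rfl)).symm (reflA Q v) := by
      apply Subtype.ext
      apply Units.ext
      exact hmat.trans (isoEquiv_symm_reflA Q v).symm
    rw [this, MulEquiv.apply_symm_apply]
  · rintro ⟨v, hv, hg⟩
    refine ⟨v, hv, ?_⟩
    have : g = (isoEquiv ⇑Q Q (fun _ => rfl)).symm (reflA Q v) := by
      rw [← hg, MulEquiv.symm_apply_apply]
    rw [this]
    exact isoEquiv_symm_reflA Q v

/-- **Reflections of a fixed norm over the field with three elements form a class of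
3-transpositions in the group they generate.** -/
theorem isThreeTranspositionClass_reflectionsOfNorm (hQ : (polarBilin Q).Nondegenerate)
    (hF : ∀ x : F, x ≠ 0 → x * x = 1) (h2 : (2 : F) ≠ 0) (hdim : 4 ≤ Fintype.card ι) (c : F)
    (hc : c ≠ 0) :
    Cfsg.IsThreeTranspositionClass {g : ↥(Cfsg.reflectionSubgroup (⇑Q) c) |
      (g : ↥(Cfsg.isometryGroup F (⇑Q))) ∈ Cfsg.reflectionsOfNorm (⇑Q) c} := by
  classical
  let e := isoEquiv ⇑Q Q (fun _ => rfl)
  have hdim' : 4 ≤ finrank F (ι → F) := by rw [Module.finrank_fintype_fun_eq_card]; exact hdim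
  have hD := mem_reflectionsOfNorm_iff Q c
  set Rc := Cfsg.reflectionSubgroup (⇑Q) c with hRc
  let R' : Subgroup (isoGroup Q) := Rc.map e.toMonoidHom
  have hmemRc : ∀ v, Q v = c → e.symm (reflA Q v) ∈ Rc := by
    intro v hv
    apply Subgroup.subset_closure
    exact (hD _).mpr ⟨v, hv, e.apply_symm_apply _⟩
  have hR' : ∀ v, Q v = c → reflA Q v ∈ R' := by
    intro v hv
    exact ⟨e.symm (reflA Q v), hmemRc v hv, e.apply_symm_apply _⟩
  obtain ⟨a₀, ha₀⟩ := exists_norm_eq Q hQ hF (by omega) c hc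
  refine ⟨⟨?_, ?_⟩, ⟨⟨e.symm (reflA Q a₀), hmemRc a₀ ha₀⟩, ?_, ?_⟩, ?_⟩
  · intro d hd
    obtain ⟨v, hv, hdv⟩ := (hD d.1).mp hd
    rw [← Subgroup.orderOf_coe, ← MulEquiv.orderOf_eq e d.1, hdv]
    exact orderOf_reflA Q h2 v (hv ▸ hc)
  · intro d hd d' hd'
    obtain ⟨v, hv, hdv⟩ := (hD d.1).mp hd
    obtain ⟨v', hv', hdv'⟩ := (hD d'.1).mp hd'
    rcases reflA_mul_pow_three Q hF v v' c hc hv hv' with h | h
    · left
      apply Subtype.ext
      apply e.injective
      change e ((d.1 * d'.1) ^ 2) = e 1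
      rw [map_pow, map_mul, hdv, hdv', h, map_one]
    · right
      apply Subtype.ext
      apply e.injective
      change e ((d.1 * d'.1) ^ 3) = e 1
      rw [map_pow, map_mul, hdv, hdv', h, map_one]
  · exact (hD _).mpr ⟨a₀, ha₀, e.apply_symm_apply _⟩
  · ext g
    change _ ↔ IsConj _ g
    rw [Set.mem_ofPred_eq, hD, isConj_iff]
    constructor
    · rintro ⟨v, hv, hg⟩
      obtain ⟨h', ⟨h₀, hh₀, rfl⟩, hconj⟩ := exists_conj_mem Q hQ hF h2 hdim' c hc R' hR' a₀ v
        ha₀ hv
      refine ⟨⟨h₀, hh₀⟩, ?_⟩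
      apply Subtype.ext
      apply e.injective
      change e (h₀ * e.symm (reflA Q a₀) * h₀⁻¹) = e g.1
      rw [map_mul, map_mul, map_inv, e.apply_symm_apply, hg]
      exact hconj
    · rintro ⟨h, hh⟩
      refine ⟨(e h.1).1 a₀, by rw [isoGroup_map]; exact ha₀, ?_⟩
      rw [← hh]
      change e (h.1 * e.symm (reflA Q a₀) * h.1⁻¹) = _
      rw [map_mul, map_mul, map_inv, e.apply_symm_apply, conj_reflA]
  · exact Subgroup.closure_closure_coe_preimage

end matclass

end Cfsg.Agent.Lib.Helper13
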