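import Mathlib
import Cfsg.Agent.Lib.Helper13.OrthThree

/-!
# The reflection subgroups of orthogonal groups over the field with three elements

The subgroup generated by the reflections of norm `c` has index two.
-/

set_option autoImplicit false

namespace Cfsg.Agent.Lib.Helper13

open Module QuadraticMap

section pairs
variable {F V : Type*} [Field F] [AddCommGroup V] [Module F V] (Q : QuadraticForm F V)

/-- the product of two orthogonal reflections of the same norm, rewritten with `u ± w` -/
theorem reflA_mul_orth_eq (h2 : (2 : F) ≠ 0) (u w : V) (d : F) (hd : d ≠ 0) (hu : Q u = d)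
    (hw : Q w = d) (huw : polar Q u w = 0) :
    reflA Q u * reflA Q w = reflA Q (u + w) * reflA Q (u - w) := by
  have hwu : polar Q w u = 0 := by rw [polar_comm]; exact huw
  have hp : Q (u + w) = 2 * d := by
    rw [QuadraticMap.map_add Q, hu, hw, huw]; ring
  have hm : Q (u - w) = 2 * d := by
    rw [sub_eq_add_neg, QuadraticMap.map_add Q, QuadraticMap.map_neg, polar_neg_right, hu, hw,
      huw]
    ring
  have h2d : (2 : F) * d ≠ 0 := mul_ne_zero h2 hd
  apply Subtype.ext
  apply LinearEquiv.ext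
  intro x
  change (reflA Q u).1 ((reflA Q w).1 x) = (reflA Q (u + w)).1 ((reflA Q (u - w)).1 x)
  rw [reflA_apply Q w x, reflA_apply Q u, reflA_apply Q (u - w) x, reflA_apply Q (u + w), hu, hw,
    hp, hm]
  simp only [polar_sub_right, polar_sub_left, polar_add_left, polar_smul_right,
    polar_self, hu, hw, huw, hwu, smul_eq_mul, nsmul_eq_mul]
  push_cast
  match_scalars <;> field_simp <;> ring

end pairs

section triple
variable {F V : Type*} [Field F] [Fintype F] [AddCommGroup V] [Module F V]
  [FiniteDimensional F V] (Q : QuadraticForm F V)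

/-- the orthogonal complement of a nonsingular vector and a hyperbolic pair orthogonal to it
represents every nonzero scalar up to squares -/
theorem exists_orth_norm_three (hQ : (polarBilin Q).Nondegenerate) (h2 : (2 : F) ≠ 0)
    (hdim : 5 ≤ finrank F V) (u s f : V) (hu : Q u ≠ 0) (hs : Q s = 0) (hf : Q f = 0)
    (hus : polar Q u s = 0) (huf : polar Q u f = 0) (hsf : polar Q s f = 1) (c' : F)
    (hc' : c' ≠ 0) :
    ∃ x : V, ∃ t : F, t ≠ 0 ∧ Q x = t * t * c' ∧ polar Q u x = 0 ∧ polar Q s x = 0 ∧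
      polar Q f x = 0 := by
  let φu : V →ₗ[F] F := polarBilin Q u
  let φs : V →ₗ[F] F := polarBilin Q s
  let φf : V →ₗ[F] F := polarBilin Q f
  have hφu : ∀ x, φu x = polar Q u x := fun x => rfl
  have hφs : ∀ x, φs x = polar Q s x := fun x => rfl
  have hφf : ∀ x, φf x = polar Q f x := fun x => rfl
  have huu : polar Q u u ≠ 0 := by
    rw [polar_self, nsmul_eq_mul]
    push_cast
    exact mul_ne_zero h2 hu
  have hss : polar Q s s = 0 := by rw [polar_self, hs, smul_zero]
  have hff : polar Q f f = 0 := by rw [polar_self, hf, smul_zero]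
  have hsu : polar Q s u = 0 := by rw [polar_comm]; exact hus
  have hfu : polar Q f u = 0 := by rw [polar_comm]; exact huf
  have hfs : polar Q f s = 1 := by rw [polar_comm]; exact hsf
  set X : Submodule F V := ((⊤ ⊓ LinearMap.ker φu) ⊓ LinearMap.ker φs) ⊓ LinearMap.ker φf
    with hXdef
  have hmemX : ∀ x, x ∈ X ↔ polar Q u x = 0 ∧ polar Q s x = 0 ∧ polar Q f x = 0 := by
    intro x
    rw [hXdef, Submodule.mem_inf, Submodule.mem_inf, Submodule.mem_inf, LinearMap.mem_ker,
      LinearMap.mem_ker, LinearMap.mem_ker]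
    simp [hφu, hφs, hφf, and_assoc]
  have hf1 := Cfsg.Agent.Lib.Helper6.finrank_inf_ker_add_one (⊤ : Submodule F V) φu u
    Submodule.mem_top (by rw [hφu]; exact huu)
  have hf2 := Cfsg.Agent.Lib.Helper6.finrank_inf_ker_add_one (⊤ ⊓ LinearMap.ker φu) φs f
    (Submodule.mem_inf.mpr ⟨Submodule.mem_top, by rw [LinearMap.mem_ker, hφu]; exact huf⟩)
    (by rw [hφs, hsf]; exact one_ne_zero)
  have hf3 := Cfsg.Agent.Lib.Helper6.finrank_inf_ker_add_one
    ((⊤ ⊓ LinearMap.ker φu) ⊓ LinearMap.ker φs) φf s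
    (Submodule.mem_inf.mpr ⟨Submodule.mem_inf.mpr ⟨Submodule.mem_top, by
      rw [LinearMap.mem_ker, hφu]; exact hus⟩, by rw [LinearMap.mem_ker, hφs]; exact hss⟩)
    (by rw [hφf, hfs]; exact one_ne_zero)
  have hft : finrank F (⊤ : Submodule F V) = finrank F V := finrank_top F V
  have hXdim : 2 ≤ finrank F X := by
    rw [hXdef]
    omega
  have hX : ∀ x ∈ X, (∀ y ∈ X, polar Q x y = 0) → x = 0 := by
    intro x hx hxy
    obtain ⟨hxu, hxs, hxf⟩ := (hmemX x).mp hx
    apply hQ.1 x
    intro y
    change polar Q x y = 0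
    set y' : V := y - (polar Q u y / polar Q u u) • u - polar Q f y • s - polar Q s y • f with hy'
    have hy'X : y' ∈ X := by
      rw [hmemX]
      refine ⟨?_, ?_, ?_⟩
      · rw [hy', polar_sub_right, polar_sub_right, polar_sub_right, polar_smul_right,
          polar_smul_right, polar_smul_right, hus, huf, smul_eq_mul, smul_eq_mul, smul_eq_mul,
          div_mul_cancel₀ _ huu]
        simp
      · rw [hy', polar_sub_right, polar_sub_right, polar_sub_right, polar_smul_right,
          polar_smul_right, polar_smul_right, hsu, hss, hsf, smul_eq_mul, smul_eq_mul,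
          smul_eq_mul]
        simp
      · rw [hy', polar_sub_right, polar_sub_right, polar_sub_right, polar_smul_right,
          polar_smul_right, polar_smul_right, hfu, hfs, hff, smul_eq_mul, smul_eq_mul,
          smul_eq_mul]
        simp
    have h0 := hxy y' hy'X
    rw [hy', polar_sub_right, polar_sub_right, polar_sub_right, polar_smul_right,
      polar_smul_right, polar_smul_right, polar_comm Q x u, polar_comm Q x s, polar_comm Q x f,
      hxu, hxs, hxf] at h0
    simpa using h0
  obtain ⟨x, hxX, t, ht, hxt⟩ := exists_mem_norm_sq Q X hX hXdim c' hc'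
  obtain ⟨hxu, hxs, hxf⟩ := (hmemX x).mp hxX
  exact ⟨x, t, ht, hxt, hxu, hxs, hxf⟩

variable (hF : ∀ x : F, x ≠ 0 → x * x = 1)
include hF

omit [Fintype F] [FiniteDimensional F V] in
theorem three_eq_zero_of (h2 : (2 : F) ≠ 0) : (3 : F) = 0 := by
  have h := hF 2 h2
  have : (3 : F) = 2 * 2 - 1 := by norm_num
  rw [this, h, sub_self]

/-- a vector of norm `d` orthogonal to two non-orthogonal, non-proportional vectors of norm `d` -/
theorem exists_orth_both (hQ : (polarBilin Q).Nondegenerate) (h2 : (2 : F) ≠ 0)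
    (hdim : 5 ≤ finrank F V) (u w : V) (d : F) (hd : d ≠ 0) (hu : Q u = d) (hw : Q w = d)
    (huw : polar Q u w ≠ 0) (hs0 : u + (d⁻¹ * polar Q u w) • w ≠ 0) :
    ∃ x, Q x = d ∧ polar Q u x = 0 ∧ polar Q w x = 0 := by
  have h3 := three_eq_zero_of hF h2
  set ε : F := d⁻¹ * polar Q u w with hεdef
  have hε0 : ε ≠ 0 := mul_ne_zero (inv_ne_zero hd) huw
  have hε : ε * ε = 1 := hF ε hε0
  have hβ : polar Q u w = d * ε := by
    rw [hεdef]
    field_simp
  set s : V := u + ε • w with hsdef
  have hQs : Q s = 0 := by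
    rw [hsdef, QuadraticMap.map_add Q, QuadraticMap.map_smul, polar_smul_right, hu, hw, hβ,
      smul_eq_mul, smul_eq_mul]
    linear_combination (2 * d) * hε + d * h3
  have hus : polar Q u s = 0 := by
    rw [hsdef, polar_add_right, polar_smul_right, polar_self, hu, hβ, smul_eq_mul, nsmul_eq_mul]
    push_cast
    linear_combination d * hε + d * h3
  have hws : polar Q w s = 0 := by
    rw [hsdef, polar_add_right, polar_smul_right, polar_self, hw, polar_comm Q w u, hβ,
      smul_eq_mul, nsmul_eq_mul]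
    push_cast
    linear_combination (d * ε) * h3
  -- a hyperbolic partner of `s` orthogonal to `u`
  have hex : ∃ y, polar Q s y ≠ 0 := by
    by_contra hne
    push Not at hne
    exact hs0 (hQ.1 s hne)
  obtain ⟨y, hy⟩ := hex
  obtain ⟨y₀, hy₀⟩ : ∃ y₀, polar Q s y₀ = 1 :=
    ⟨(polar Q s y)⁻¹ • y, by rw [polar_smul_right, smul_eq_mul, inv_mul_cancel₀ hy]⟩
  have huu : polar Q u u ≠ 0 := by
    rw [polar_self, nsmul_eq_mul, hu]
    push_cast
    exact mul_ne_zero h2 hd
  have hsu : polar Q s u = 0 := by rw [polar_comm]; exact hus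
  have hss : polar Q s s = 0 := by rw [polar_self, hQs, smul_zero]
  obtain ⟨y₁, hy₁s, hy₁u⟩ : ∃ y₁, polar Q s y₁ = 1 ∧ polar Q u y₁ = 0 := by
    refine ⟨y₀ - (polar Q u y₀ / polar Q u u) • u, ?_, ?_⟩
    · rw [polar_sub_right, polar_smul_right, hsu, hy₀]
      simp
    · rw [polar_sub_right, polar_smul_right, smul_eq_mul, div_mul_cancel₀ _ huu, sub_self]
  obtain ⟨f, hQf, hsf, huf⟩ : ∃ f, Q f = 0 ∧ polar Q s f = 1 ∧ polar Q u f = 0 := by
    refine ⟨y₁ - Q y₁ • s, ?_, ?_, ?_⟩
    · rw [sub_eq_add_neg, ← neg_smul, QuadraticMap.map_add Q, QuadraticMap.map_smul,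
        polar_smul_right, polar_comm Q y₁ s, hy₁s, hQs]
      simp
    · rw [polar_sub_right, polar_smul_right, hss, hy₁s]
      simp
    · rw [polar_sub_right, polar_smul_right, hus, hy₁u]
      simp
  obtain ⟨x, t, ht, hxt, hxu, hxs, -⟩ := exists_orth_norm_three Q hQ h2 hdim u s f
    (hu ▸ hd) hQs hQf hus huf hsf d hd
  rw [hF t ht, one_mul] at hxt
  refine ⟨x, hxt, hxu, ?_⟩
  have hw' : w = ε • (s - u) := by
    rw [hsdef, add_sub_cancel_left, smul_smul, hε, one_smul]
  rw [hw', polar_smul_left, polar_sub_left, hxs, hxu, sub_zero, smul_zero]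

/-- the product of two reflections of norm `-c` lies in any subgroup containing the reflections
of norm `c` -/
theorem reflA_mul_mem_of_neg (hQ : (polarBilin Q).Nondegenerate) (h2 : (2 : F) ≠ 0)
    (hdim : 5 ≤ finrank F V) (c : F) (hc : c ≠ 0) (R : Subgroup (isoGroup Q))
    (hR : ∀ v, Q v = c → reflA Q v ∈ R) (u w : V) (hu : Q u = -c) (hw : Q w = -c) :
    reflA Q u * reflA Q w ∈ R := by
  have h3 := three_eq_zero_of hF h2
  have hd : -c ≠ 0 := neg_ne_zero.mpr hc
  have h2d : (2 : F) * -c = c := by linear_combination (-c) * h3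
  have orth : ∀ u w : V, Q u = -c → Q w = -c → polar Q u w = 0 →
      reflA Q u * reflA Q w ∈ R := by
    intro u w hu hw huw
    rw [reflA_mul_orth_eq Q h2 u w (-c) hd hu hw huw]
    apply R.mul_mem
    · apply hR
      rw [QuadraticMap.map_add Q, hu, hw, huw]
      linear_combination (-c) * h3
    · apply hR
      rw [sub_eq_add_neg, QuadraticMap.map_add Q, QuadraticMap.map_neg, polar_neg_right, hu, hw,
        huw]
      linear_combination (-c) * h3
  by_cases huw : polar Q u w = 0
  · exact orth u w hu hw huw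
  · by_cases hs0 : u + ((-c)⁻¹ * polar Q u w) • w = 0
    · have hε0 : (-c)⁻¹ * polar Q u w ≠ 0 := mul_ne_zero (inv_ne_zero hd) huw
      have hu' : u = (-((-c)⁻¹ * polar Q u w)) • w := by
        rw [neg_smul]
        exact eq_neg_of_add_eq_zero_left hs0
      have : reflA Q u = reflA Q w := by
        rw [hu', reflA_smul Q w _ (neg_ne_zero.mpr hε0)]
      rw [this, reflA_mul_self]
      exact R.one_mem
    · obtain ⟨x, hx, hux, hwx⟩ := exists_orth_both Q hF hQ h2 hdim u w (-c) hd hu hw huw hs0
      have h1 := orth u x hu hx hux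
      have h2' := orth x w hx hw (by rw [polar_comm]; exact hwx)
      have : reflA Q u * reflA Q w = (reflA Q u * reflA Q x) * (reflA Q x * reflA Q w) := by
        rw [mul_assoc, ← mul_assoc (reflA Q x), reflA_mul_self, one_mul]
      rw [this]
      exact R.mul_mem h1 h2'

/-- **The reflections of norm `c` generate a subgroup of index two.** -/
theorem index_reflSub_eq_two (hQ : (polarBilin Q).Nondegenerate) (h2 : (2 : F) ≠ 0)
    (hdim : 5 ≤ finrank F V) (hgen : reflGenA Q = ⊤) (c : F) (hc : c ≠ 0)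
    (χ : isoGroup Q →* ℤˣ) (hχ1 : ∀ v, Q v = c → χ (reflA Q v) = 1)
    (hχ2 : ∀ v, Q v = -c → χ (reflA Q v) = -1) :
    (Subgroup.closure {g : isoGroup Q | ∃ v, Q v = c ∧ g = reflA Q v}).index = 2 := by
  set R := Subgroup.closure {g : isoGroup Q | ∃ v, Q v = c ∧ g = reflA Q v} with hRdef
  have hR : ∀ v, Q v = c → reflA Q v ∈ R := fun v hv => Subgroup.subset_closure ⟨v, hv, rfl⟩
  have hnormal : ∀ g x : isoGroup Q, x ∈ R → g * x * g⁻¹ ∈ R := by
    intro g x hx
    rw [hRdef] at hx
    induction hx using Subgroup.closure_induction with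
    | mem r hr =>
      obtain ⟨v, hv, rfl⟩ := hr
      rw [conj_reflA]
      exact hR _ (by rw [isoGroup_map]; exact hv)
    | one => rw [mul_one, mul_inv_cancel]; exact R.one_mem
    | mul x y _ _ ihx ihy =>
      have : g * (x * y) * g⁻¹ = (g * x * g⁻¹) * (g * y * g⁻¹) := by group
      rw [this]
      exact R.mul_mem ihx ihy
    | inv x _ ihx =>
      have : g * x⁻¹ * g⁻¹ = (g * x * g⁻¹)⁻¹ := by group
      rw [this]
      exact R.inv_mem ihx
  have hχR : ∀ x ∈ R, χ x = 1 := by
    have : R ≤ χ.ker := by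
      rw [hRdef, Subgroup.closure_le]
      rintro _ ⟨v, hv, rfl⟩
      exact hχ1 v hv
    exact fun x hx => this hx
  obtain ⟨u₀, hu₀⟩ := exists_norm_eq Q hQ hF (by omega) (-c) (neg_ne_zero.mpr hc)
  set r₀ := reflA Q u₀ with hr₀
  have hr₀inv : r₀⁻¹ = r₀ := reflA_inv Q u₀
  have key : ∀ b : isoGroup Q, b ∈ R ∨ b * r₀ ∈ R := by
    intro b
    have hb : b ∈ reflGenA Q := by rw [hgen]; exact Subgroup.mem_top _
    unfold reflGenA at hb
    induction hb using Subgroup.closure_induction with
    | mem r hr =>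
      obtain ⟨a, rfl⟩ := hr
      by_cases ha : Q a = 0
      · left
        rw [reflA_of_eq_zero Q a ha]
        exact R.one_mem
      · have h1 := hF (Q a) ha
        have h2' := hF c hc
        have h3' : (Q a - c) * (Q a + c) = 0 := by linear_combination h1 - h2'
        rcases mul_eq_zero.mp h3' with h | h
        · left
          exact hR a (sub_eq_zero.mp h)
        · right
          exact reflA_mul_mem_of_neg Q hF hQ h2 hdim c hc R hR a u₀
            (eq_neg_of_add_eq_zero_left h) hu₀
    | one => left; exact R.one_mem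
    | mul x y _ _ ihx ihy =>
      rcases ihx with hx | hx <;> rcases ihy with hy | hy
      · left; exact R.mul_mem hx hy
      · right
        rw [mul_assoc]
        exact R.mul_mem hx hy
      · right
        have h1 := hnormal r₀ y hy
        have : x * y * r₀ = (x * r₀) * (r₀ * y * r₀⁻¹) := by
          rw [hr₀inv]
          have hsq : r₀ * r₀ = 1 := reflA_mul_self Q u₀
          calc x * y * r₀ = x * (r₀ * r₀) * y * r₀ := by rw [hsq, mul_one]
            _ = x * r₀ * (r₀ * y * r₀) := by simp only [mul_assoc]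
        rw [this]
        exact R.mul_mem hx h1
      · left
        have h1 := hnormal r₀ (y * r₀) hy
        have : x * y = (x * r₀) * (r₀ * (y * r₀) * r₀⁻¹) := by
          rw [hr₀inv]
          have hsq : r₀ * r₀ = 1 := reflA_mul_self Q u₀
          calc x * y = x * (r₀ * r₀) * y * (r₀ * r₀) := by rw [hsq, mul_one, mul_one]
            _ = x * r₀ * (r₀ * (y * r₀) * r₀) := by simp only [mul_assoc]
        rw [this]
        exact R.mul_mem hx h1
    | inv x _ ihx =>
      rcases ihx with hx | hx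
      · left; exact R.inv_mem hx
      · right
        have h1 := hnormal r₀ _ (R.inv_mem hx)
        have : x⁻¹ * r₀ = r₀ * (x * r₀)⁻¹ * r₀⁻¹ := by
          rw [mul_inv_rev, hr₀inv]
          have hsq : r₀ * r₀ = 1 := reflA_mul_self Q u₀
          calc x⁻¹ * r₀ = (r₀ * r₀) * x⁻¹ * r₀ := by rw [hsq, one_mul]
            _ = r₀ * (r₀ * x⁻¹) * r₀ := by simp only [mul_assoc]
        rw [this]
        exact h1
  rw [Subgroup.index_eq_two_iff]
  refine ⟨r₀, fun b => ?_⟩
  have hχr₀ : χ r₀ = -1 := hχ2 u₀ hu₀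
  rcases key b with hb | hb
  · right
    refine ⟨hb, fun hb' => ?_⟩
    have h1 := hχR _ hb'
    rw [map_mul, hχR b hb, hχr₀, one_mul] at h1
    exact absurd h1 (by decide)
  · left
    refine ⟨hb, fun hb' => ?_⟩
    have h1 := hχR _ hb
    rw [map_mul, hχR b hb', hχr₀, one_mul] at h1
    exact absurd h1 (by decide)

end triple

section matindex
universe u
variable {F : Type u} [Field F] [Fintype F] {n : ℕ} (Q : QuadraticForm F (Fin n → F))

open Cfsg.Agent.Lib.Helper6 in
/-- a sign character separating the two norm classes of reflections -/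
theorem exists_sign_char (hQ : (polarBilin Q).Nondegenerate)
    (hF : ∀ x : F, x ≠ 0 → x * x = 1) (h2 : (2 : F) ≠ 0) (hn : 2 ≤ n) (c : F) (hc : c ≠ 0) :
    ∃ χ : isoGroup Q →* ℤˣ, (∀ v, Q v = c → χ (reflA Q v) = 1) ∧
      (∀ v, Q v = -c → χ (reflA Q v) = -1) := by
  classical
  obtain ⟨θ, hθ, -, -⟩ := spinor_main Q h2 hQ hn
  let e := isoEquiv ⇑Q Q (fun _ => rfl)
  have hmk : ∀ v (hv : Q v ≠ 0), e.symm (reflA Q v) = mkRefl Q v hv := by
    intro v hv
    apply eq_mkRefl
    exact isoEquiv_symm_reflA Q v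
  have hneg : (-1 : F) ≠ 1 := neg_one_ne_one_of_two h2
  have hsq1 : IsSquare (1 : F) := ⟨1, by rw [one_mul]⟩
  have hsqn : ¬ IsSquare (-1 : F) := by
    rintro ⟨y, hy⟩
    have hy0 : y ≠ 0 := by
      rintro rfl
      rw [mul_zero] at hy
      exact neg_ne_zero.mpr one_ne_zero hy
    rw [hF y hy0] at hy
    exact hneg hy
  have hθ1 : ∀ v, Q v = 1 → θ (e.symm (reflA Q v)) = 1 := by
    intro v hv
    rw [hmk v (by rw [hv]; exact one_ne_zero), hθ, hv, if_pos hsq1]
  have hθn : ∀ v, Q v = -1 → θ (e.symm (reflA Q v)) = -1 := by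
    intro v hv
    rw [hmk v (by rw [hv]; exact neg_ne_zero.mpr one_ne_zero), hθ, hv, if_neg hsqn]
  have hdet : ∀ v, Q v ≠ 0 → detSign Q h2 hQ (e.symm (reflA Q v)) = -1 := by
    intro v hv
    rw [hmk v hv, detSign_refl]
  have hcc : (c - 1) * (c + 1) = 0 := by linear_combination hF c hc
  rcases mul_eq_zero.mp hcc with h | h
  · have hc1 : c = 1 := sub_eq_zero.mp h
    subst hc1
    exact ⟨θ.comp e.symm.toMonoidHom, fun v hv => hθ1 v hv, fun v hv => hθn v hv⟩
  · have hc1 : c = -1 := eq_neg_of_add_eq_zero_left h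
    subst hc1
    refine ⟨(θ * detSign Q h2 hQ).comp e.symm.toMonoidHom, fun v hv => ?_, fun v hv => ?_⟩
    · change θ (e.symm (reflA Q v)) * detSign Q h2 hQ (e.symm (reflA Q v)) = 1
      rw [hθn v hv, hdet v (by rw [hv]; exact neg_ne_zero.mpr one_ne_zero)]
      rfl
    · rw [neg_neg] at hv
      change θ (e.symm (reflA Q v)) * detSign Q h2 hQ (e.symm (reflA Q v)) = -1
      rw [hθ1 v hv, hdet v (by rw [hv]; exact one_ne_zero)]
      rfl

/-- **Index of the reflection subgroup of one norm class** (matrix form) -/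
theorem index_reflectionSubgroup (hQ : (polarBilin Q).Nondegenerate)
    (hF : ∀ x : F, x ≠ 0 → x * x = 1) (h2 : (2 : F) ≠ 0) (hn : 5 ≤ n) (c : F) (hc : c ≠ 0) :
    (Cfsg.reflectionSubgroup (⇑Q) c).index = 2 := by
  let e := isoEquiv ⇑Q Q (fun _ => rfl)
  have hcard : Fintype.card F ≠ 2 := by
    intro hcd
    have := Nat.cast_card_eq_zero F
    rw [hcd] at this
    exact h2 (by exact_mod_cast this)
  have hgen := reflGenA_eq_top_fin Q hQ (Or.inl hcard)
  obtain ⟨χ, hχ1, hχ2⟩ := exists_sign_char Q hQ hF h2 (by omega) c hc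
  have hidx := index_reflSub_eq_two Q hF hQ h2 (by rw [Module.finrank_fin_fun]; exact hn) hgen c hc
    χ hχ1 hχ2
  set R := Subgroup.closure {g : isoGroup Q | ∃ v, Q v = c ∧ g = reflA Q v} with hRdef
  have hD := mem_reflectionsOfNorm_iff Q c
  have hcomap : Cfsg.reflectionSubgroup (⇑Q) c = R.comap e.toMonoidHom := by
    apply le_antisymm
    · unfold Cfsg.reflectionSubgroup
      rw [Subgroup.closure_le]
      intro g hg
      obtain ⟨v, hv, hgv⟩ := (hD g).mp hg
      change e g ∈ R
      rw [hgv]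
      exact Subgroup.subset_closure ⟨v, hv, rfl⟩
    · have h1 : R ≤ (Cfsg.reflectionSubgroup (⇑Q) c).map e.toMonoidHom := by
        rw [hRdef, Subgroup.closure_le]
        rintro _ ⟨v, hv, rfl⟩
        refine ⟨e.symm (reflA Q v), ?_, e.apply_symm_apply _⟩
        apply Subgroup.subset_closure
        exact (hD _).mpr ⟨v, hv, e.apply_symm_apply _⟩
      have h2' := Subgroup.comap_mono (f := e.toMonoidHom) h1
      rwa [Subgroup.comap_map_eq_self_of_injective e.injective] at h2'
  rw [hcomap, Subgroup.index_comap_of_surjective R e.surjective]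
  exact hidx

end matindex

end Cfsg.Agent.Lib.Helper13
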