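import Mathlib
import Cfsg.Agent.Lib.Helper13.OrthThree2
import Cfsg.Prelude.Def_GeometricClasses

/-!
# Non-maximality of some subspace stabilisers in `Ω`

Bridging between the matrix vocabulary `Cfsg.Geo.subspaceStabilizer`, `Cfsg.Geo.omegaGL` and the
abstract isometry group; the stabiliser in `Ω` of a hyperbolic plane over a field with at most
three elements is not maximal.
-/

set_option autoImplicit false

namespace Cfsg.Agent.Lib.Helper13

open Module QuadraticMap

section hyp
variable {F V : Type*} [Field F] [Fintype F] [AddCommGroup V] [Module F V]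
  [FiniteDimensional F V] (Q : QuadraticForm F V)

omit [Fintype F] in
theorem finrank_le_inf_ker_add_one (P : Submodule F V) (φ : V →ₗ[F] F) :
    finrank F P ≤ finrank F ↥(P ⊓ LinearMap.ker φ) + 1 := by
  by_cases h : ∃ y ∈ P, φ y ≠ 0
  · obtain ⟨y, hy, hφ⟩ := h
    rw [Cfsg.Agent.Lib.Helper6.finrank_inf_ker_add_one P φ y hy hφ]
  · push Not at h
    have : P ⊓ LinearMap.ker φ = P := inf_eq_left.mpr (fun y hy => LinearMap.mem_ker.mpr (h y hy))
    rw [this]
    omega

/-- the orthogonal complement of a hyperbolic pair -/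
def hypPerp (e f : V) : Submodule F V :=
  (⊤ ⊓ LinearMap.ker (polarBilin Q e)) ⊓ LinearMap.ker (polarBilin Q f)

omit [Fintype F] [FiniteDimensional F V] in
theorem mem_hypPerp (e f x : V) : x ∈ hypPerp Q e f ↔ polar Q e x = 0 ∧ polar Q f x = 0 := by
  unfold hypPerp
  rw [Submodule.mem_inf, Submodule.mem_inf, LinearMap.mem_ker, LinearMap.mem_ker]
  simp

omit [Fintype F] in
theorem finrank_hypPerp (e f : V) (he : Q e = 0) (hf : Q f = 0) (hef : polar Q e f = 1) :
    finrank F (hypPerp Q e f) + 2 = finrank F V := by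
  have hfe : polar Q f e = 1 := by rw [polar_comm]; exact hef
  have hee : polar Q e e = 0 := by rw [polar_self, he, smul_zero]
  have hf1 := Cfsg.Agent.Lib.Helper6.finrank_inf_ker_add_one (⊤ : Submodule F V)
    (polarBilin Q e) f Submodule.mem_top (by
      rw [polarBilin_apply_apply, hef]; exact one_ne_zero)
  have hf2 := Cfsg.Agent.Lib.Helper6.finrank_inf_ker_add_one
    (⊤ ⊓ LinearMap.ker (polarBilin Q e)) (polarBilin Q f) e
    (Submodule.mem_inf.mpr ⟨Submodule.mem_top, by
      rw [LinearMap.mem_ker, polarBilin_apply_apply]; exact hee⟩)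
    (by rw [polarBilin_apply_apply, hfe]; exact one_ne_zero)
  have hft : finrank F (⊤ : Submodule F V) = finrank F V := finrank_top F V
  unfold hypPerp
  omega

omit [Fintype F] [FiniteDimensional F V] in
theorem hypPerp_nondeg (hQ : (polarBilin Q).Nondegenerate) (e f : V) (he : Q e = 0)
    (hf : Q f = 0) (hef : polar Q e f = 1) :
    ∀ x ∈ hypPerp Q e f, (∀ y ∈ hypPerp Q e f, polar Q x y = 0) → x = 0 := by
  have hfe : polar Q f e = 1 := by rw [polar_comm]; exact hef
  have hee : polar Q e e = 0 := by rw [polar_self, he, smul_zero]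
  have hff : polar Q f f = 0 := by rw [polar_self, hf, smul_zero]
  intro x hx hxy
  obtain ⟨hxe, hxf⟩ := (mem_hypPerp Q e f x).mp hx
  apply hQ.1 x
  intro y
  change polar Q x y = 0
  set y' : V := y - polar Q f y • e - polar Q e y • f with hy'
  have hy'X : y' ∈ hypPerp Q e f := by
    rw [mem_hypPerp]
    constructor
    · rw [hy', polar_sub_right, polar_sub_right, polar_smul_right, polar_smul_right, hee, hef]
      simp
    · rw [hy', polar_sub_right, polar_sub_right, polar_smul_right, polar_smul_right, hfe, hff]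
      simp
  have h0 := hxy y' hy'X
  rw [hy', polar_sub_right, polar_sub_right, polar_smul_right, polar_smul_right,
    polar_comm Q x e, polar_comm Q x f, hxe, hxf] at h0
  simpa using h0

/-- the complement of a hyperbolic pair represents every nonzero scalar up to squares -/
theorem exists_orth_norm_hyp (hQ : (polarBilin Q).Nondegenerate) (hdim : 4 ≤ finrank F V)
    (e f : V) (he : Q e = 0) (hf : Q f = 0) (hef : polar Q e f = 1) (c' : F) (hc' : c' ≠ 0) :
    ∃ w : V, ∃ t : F, t ≠ 0 ∧ Q w = t * t * c' ∧ polar Q e w = 0 ∧ polar Q f w = 0 := by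
  have hfr := finrank_hypPerp Q e f he hf hef
  obtain ⟨w, hwX, t, ht, hwt⟩ := exists_mem_norm_sq Q (hypPerp Q e f)
    (hypPerp_nondeg Q hQ e f he hf hef) (by omega) c' hc'
  obtain ⟨hwe, hwf⟩ := (mem_hypPerp Q e f w).mp hwX
  exact ⟨w, t, ht, hwt, hwe, hwf⟩

/-- in characteristic two, the complement of a hyperbolic pair contains a nonzero singular
vector -/
theorem exists_singular_hyp_two (hQ : (polarBilin Q).Nondegenerate) (h2 : (2 : F) = 0)
    (hdim : 5 ≤ finrank F V) (e f : V) (he : Q e = 0) (hf : Q f = 0) (hef : polar Q e f = 1) :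
    ∃ z : V, z ≠ 0 ∧ Q z = 0 ∧ polar Q e z = 0 ∧ polar Q f z = 0 := by
  have hfr := finrank_hypPerp Q e f he hf hef
  have hnd := hypPerp_nondeg Q hQ e f he hf hef
  obtain ⟨a, t, ht, hat, hae, haf⟩ := exists_orth_norm_hyp Q hQ (by omega) e f he hf hef 1
    one_ne_zero
  have ha : Q a ≠ 0 := by
    rw [hat, mul_one]
    exact mul_ne_zero ht ht
  have haX : a ∈ hypPerp Q e f := (mem_hypPerp Q e f a).mpr ⟨hae, haf⟩
  have ha0 : a ≠ 0 := by
    rintro rfl
    exact ha (QuadraticMap.map_zero Q)
  have hex : ∃ a' ∈ hypPerp Q e f, polar Q a a' ≠ 0 := by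
    by_contra hne
    push Not at hne
    exact ha0 (hnd a haX hne)
  obtain ⟨a', ha'X, haa'⟩ := hex
  -- a nonzero vector of the complement orthogonal to `a` and `a'`
  have h1 := finrank_le_inf_ker_add_one (hypPerp Q e f) (polarBilin Q a)
  have h2' := finrank_le_inf_ker_add_one (hypPerp Q e f ⊓ LinearMap.ker (polarBilin Q a))
    (polarBilin Q a')
  have hpos : 0 < finrank F ↥((hypPerp Q e f ⊓ LinearMap.ker (polarBilin Q a)) ⊓
      LinearMap.ker (polarBilin Q a')) := by omega
  obtain ⟨⟨b₀, hb₀X⟩, hb₀⟩ := Module.finrank_pos_iff_exists_ne_zero.mp hpos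
  have hb₀' : b₀ ≠ 0 := fun h => hb₀ (Subtype.ext h)
  obtain ⟨⟨hb₀H, hb₀a⟩, hb₀a'⟩ := hb₀X
  have hab₀ : polar Q a b₀ = 0 := LinearMap.mem_ker.mp hb₀a
  have ha'b₀ : polar Q a' b₀ = 0 := LinearMap.mem_ker.mp hb₀a'
  obtain ⟨hb₀e, hb₀f⟩ := (mem_hypPerp Q e f b₀).mp hb₀H
  obtain ⟨x, hx⟩ := Cfsg.Agent.Lib.Helper6.exists_sq_two h2 (Q b₀ / Q a)
  refine ⟨x • a + b₀, ?_, ?_, ?_, ?_⟩
  · intro hz
    have h3 : polar Q a' (x • a + b₀) = 0 := by rw [hz, polar_zero_right]
    rw [polar_add_right, polar_smul_right, ha'b₀, add_zero, smul_eq_mul, polar_comm Q a' a] at h3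
    have hx0 : x = 0 := by
      rcases mul_eq_zero.mp h3 with h | h
      · exact h
      · exact absurd h haa'
    rw [hx0, zero_smul, zero_add] at hz
    exact hb₀' hz
  · rw [QuadraticMap.map_add Q, QuadraticMap.map_smul, polar_smul_left, hab₀, smul_eq_mul, hx,
      smul_zero, add_zero, div_mul_cancel₀ _ ha]
    have : Q b₀ + Q b₀ = 2 * Q b₀ := by ring
    rw [this, h2, zero_mul]
  · rw [polar_add_right, polar_smul_right, hae, hb₀e, smul_zero, add_zero]
  · rw [polar_add_right, polar_smul_right, haf, hb₀f, smul_zero, add_zero]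

end hyp

section plane
variable {F V : Type*} [Field F] [Fintype F] [AddCommGroup V] [Module F V]
  [FiniteDimensional F V] (Q : QuadraticForm F V)

omit [Fintype F] [FiniteDimensional F V] in
/-- the product of two reflections of the same norm is in the commutator subgroup -/
theorem reflA_mul_mem_commutator [Finite F] [FiniteDimensional F V]
    (hQ : (polarBilin Q).Nondegenerate) (a b : V) (ha : Q a ≠ 0)
    (hab : Q a = Q b) : reflA Q a * reflA Q b ∈ commutator (isoGroup Q) := by
  rw [← Abelianization.ker_of, MonoidHom.mem_ker, map_mul, ab_reflA_eq_of_eq Q hQ a b ha hab,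
    ab_reflA_mul_self]

/-- **The stabiliser of a hyperbolic plane over a field with at most three elements**: it lies in
the stabiliser of the point `⟨e + f⟩`, strictly inside `Ω`. -/
theorem plane_core (hQ : (polarBilin Q).Nondegenerate) (hF : ∀ x : F, x ≠ 0 → x * x = 1)
    (hdim : 5 ≤ finrank F V) (W : Submodule F V) (e f : V) (heW : e ∈ W) (hfW : f ∈ W)
    (hWspan : ∀ x ∈ W, ∃ a b : F, x = a • e + b • f) (he : Q e = 0) (hf : Q f = 0)
    (hef : polar Q e f = 1) :
    (∀ g : isoGroup Q, g ∈ stabA Q W → g ∈ stabA Q (Submodule.span F {e + f})) ∧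
    (∃ g ∈ commutator (isoGroup Q), g ∈ stabA Q (Submodule.span F {e + f}) ∧ g ∉ stabA Q W) ∧
    (∃ g ∈ commutator (isoGroup Q), g ∉ stabA Q (Submodule.span F {e + f})) := by
  have hfe : polar Q f e = 1 := by rw [polar_comm]; exact hef
  have hee : polar Q e e = 0 := by rw [polar_self, he, smul_zero]
  have hff : polar Q f f = 0 := by rw [polar_self, hf, smul_zero]
  have hnormW : ∀ a b : F, Q (a • e + b • f) = a * b := by
    intro a b
    rw [QuadraticMap.map_add Q, QuadraticMap.map_smul, QuadraticMap.map_smul, polar_smul_left,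
      polar_smul_right, he, hf, hef]
    simp
  have hQv : Q (e + f) = 1 := by
    have := hnormW 1 1
    rwa [one_smul, one_smul, one_mul] at this
  have hvW : e + f ∈ W := W.add_mem heW hfW
  -- vectors orthogonal to the plane
  obtain ⟨b, t, ht, hbt, hbe, hbf⟩ := exists_orth_norm_hyp Q hQ (by omega) e f he hf hef 1
    one_ne_zero
  rw [hF t ht, one_mul] at hbt
  have hyex : ∃ y, y ≠ 0 ∧ Q y = 2 ∧ polar Q e y = 0 ∧ polar Q f y = 0 := by
    by_cases h2 : (2 : F) = 0
    · obtain ⟨z, hz0, hz, hze, hzf⟩ := exists_singular_hyp_two Q hQ h2 hdim e f he hf hef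
      exact ⟨z, hz0, by rw [hz, h2], hze, hzf⟩
    · obtain ⟨y, t', ht', hyt, hye, hyf⟩ := exists_orth_norm_hyp Q hQ (by omega) e f he hf hef 2
        h2
      rw [hF t' ht', one_mul] at hyt
      refine ⟨y, ?_, hyt, hye, hyf⟩
      rintro rfl
      rw [QuadraticMap.map_zero] at hyt
      exact h2 hyt.symm
  obtain ⟨y, hy0, hQy, hye, hyf⟩ := hyex
  have hperp_zero : ∀ x : V, x ∈ W → polar Q e x = 0 → polar Q f x = 0 → x = 0 := by
    intro x hx hxe hxf
    obtain ⟨a, c, rfl⟩ := hWspan x hx
    rw [polar_add_right, polar_smul_right, polar_smul_right, hee, hef] at hxe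
    rw [polar_add_right, polar_smul_right, polar_smul_right, hfe, hff] at hxf
    have hc : c = 0 := by simpa using hxe
    have ha : a = 0 := by simpa using hxf
    rw [ha, hc, zero_smul, zero_smul, add_zero]
  have hfix : ∀ g : isoGroup Q, g.1 (e + f) = e + f → g ∈ stabA Q (Submodule.span F {e + f}) := by
    intro g hg
    apply mem_stabA_of_forall
    intro x hx
    obtain ⟨c, rfl⟩ := Submodule.mem_span_singleton.mp hx
    rw [map_smul, hg]
    exact Submodule.smul_mem _ _ (Submodule.mem_span_singleton_self _)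
  refine ⟨?_, ?_, ?_⟩
  · intro g hg
    apply mem_stabA_of_forall
    intro x hx
    obtain ⟨c, rfl⟩ := Submodule.mem_span_singleton.mp hx
    have hgv : g.1 (e + f) ∈ W := (hg (e + f)).mpr hvW
    obtain ⟨a, d, had⟩ := hWspan _ hgv
    have hn : a * d = 1 := by
      rw [← hnormW, ← had, isoGroup_map, hQv]
    have ha0 : a ≠ 0 := by
      rintro rfl
      rw [zero_mul] at hn
      exact zero_ne_one hn
    have hda : d = a := by
      have h1 := hF a ha0
      have : a * d = a * a := by rw [hn, h1]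
      exact mul_left_cancel₀ ha0 this
    rw [map_smul, had, hda, ← smul_add]
    exact Submodule.smul_mem _ _ (Submodule.smul_mem _ _ (Submodule.mem_span_singleton_self _))
  · -- the element `r_{e - f + y} r_b`
    have hQa : Q (e - f + y) = 1 := by
      have h1 : Q (e - f) = -1 := by
        have := hnormW 1 (-1)
        rw [one_smul, neg_smul, one_smul, ← sub_eq_add_neg] at this
        rw [this]
        ring
      rw [QuadraticMap.map_add Q, h1, hQy, polar_sub_left, hye, hyf]
      ring
    have hpa_e : polar Q (e - f + y) e = -1 := by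
      rw [polar_add_left, polar_sub_left, hee, hfe, polar_comm Q y e, hye]
      ring
    have hpa_v : polar Q (e - f + y) (e + f) = 0 := by
      rw [polar_add_left, polar_sub_left, polar_add_right, polar_add_right, polar_add_right, hee,
        hef, hfe, hff, polar_comm Q y e, polar_comm Q y f, hye, hyf]
      ring
    have hpb_v : polar Q b (e + f) = 0 := by
      rw [polar_add_right, polar_comm Q b e, polar_comm Q b f, hbe, hbf, add_zero]
    refine ⟨reflA Q (e - f + y) * reflA Q b, reflA_mul_mem_commutator Q hQ _ _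
      (by rw [hQa]; exact one_ne_zero) (by rw [hQa, hbt]), ?_, ?_⟩
    · apply hfix
      change (reflA Q (e - f + y)).1 ((reflA Q b).1 (e + f)) = e + f
      rw [reflA_apply_of_orth Q b _ hpb_v, reflA_apply_of_orth Q _ _ hpa_v]
    · intro hg
      have h1 : (reflA Q (e - f + y) * reflA Q b).1 e ∈ W := (hg e).mpr heW
      change (reflA Q (e - f + y)).1 ((reflA Q b).1 e) ∈ W at h1
      rw [reflA_apply_of_orth Q b e (by rw [polar_comm]; exact hbe), reflA_apply, hQa, hpa_e,
        inv_one, one_mul, neg_smul, one_smul, sub_neg_eq_add] at h1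
      have h2 : y ∈ W := by
        have h3 : e + (e - f + y) - e - e + f ∈ W :=
          W.add_mem (W.sub_mem (W.sub_mem h1 heW) heW) hfW
        have h4 : e + (e - f + y) - e - e + f = y := by abel
        rwa [h4] at h3
      exact hy0 (hperp_zero y h2 hye hyf)
  · -- the element `r_{e + b} r_b`
    have hQa : Q (e + b) = 1 := by
      rw [QuadraticMap.map_add Q, he, hbt, hbe]
      ring
    have hpa_v : polar Q (e + b) (e + f) = 1 := by
      rw [polar_add_left, polar_add_right, polar_add_right, hee, hef, polar_comm Q b e,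
        polar_comm Q b f, hbe, hbf]
      ring
    have hpb_v : polar Q b (e + f) = 0 := by
      rw [polar_add_right, polar_comm Q b e, polar_comm Q b f, hbe, hbf, add_zero]
    have hb0 : b ≠ 0 := by
      rintro rfl
      rw [QuadraticMap.map_zero] at hbt
      exact zero_ne_one hbt
    refine ⟨reflA Q (e + b) * reflA Q b, reflA_mul_mem_commutator Q hQ _ _
      (by rw [hQa]; exact one_ne_zero) (by rw [hQa, hbt]), ?_⟩
    intro hg
    have h1 : (reflA Q (e + b) * reflA Q b).1 (e + f) ∈ Submodule.span F {e + f} :=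
      (hg (e + f)).mpr (Submodule.mem_span_singleton_self _)
    change (reflA Q (e + b)).1 ((reflA Q b).1 (e + f)) ∈ _ at h1
    rw [reflA_apply_of_orth Q b _ hpb_v, reflA_apply, hQa, hpa_v, inv_one, one_mul, one_smul]
      at h1
    obtain ⟨c, hc⟩ := Submodule.mem_span_singleton.mp h1
    -- `c • (e + f) = e + f - (e + b)`, so `b = f - c • (e + f) ∈ W`
    have hbW : b ∈ W := by
      have h3 : b = f - c • (e + f) := by
        rw [hc]
        abel
      rw [h3]
      exact W.sub_mem hfW (W.smul_mem _ hvW)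
    exact hb0 (hperp_zero b hbW hbe hbf)

end plane

section geo
universe u
variable {F : Type u} [Field F] {ι : Type} [Fintype ι] [DecidableEq ι]
  (Q : QuadraticForm F (ι → F))

open Cfsg.Geo Matrix

theorem mem_subspaceStabilizer_iff (U : Submodule F (ι → F))
    (g : ↥(Cfsg.isometryGroup F ⇑Q)) :
    (g : GL ι F) ∈ subspaceStabilizer U ↔ isoEquiv ⇑Q Q (fun _ => rfl) g ∈ stabA Q U := by
  constructor
  · intro h x
    exact (h x).symm
  · intro h x
    exact (h x).symm

theorem mem_omegaGL_iff (g : GL ι F) :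
    g ∈ omegaGL ⇑Q ↔ ∃ x : ↥(Cfsg.isometryGroup F ⇑Q), x ∈ Cfsg.Omega F ⇑Q ∧ (x : GL ι F) = g := by
  unfold omegaGL
  rw [Subgroup.mem_map]
  rfl

/-- assembly: an intermediate subgroup between a subspace stabiliser in `Ω` and `Ω` -/
theorem exists_between (W U : Submodule F (ι → F))
    (h1 : ∀ g : isoGroup Q, g ∈ commutator (isoGroup Q) → g ∈ stabA Q W → g ∈ stabA Q U)
    (h2 : ∃ g ∈ commutator (isoGroup Q), g ∈ stabA Q U ∧ g ∉ stabA Q W)
    (h3 : ∃ g ∈ commutator (isoGroup Q), g ∉ stabA Q U) :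
    ∃ K : Subgroup (GL ι F), subspaceStabilizer W ⊓ omegaGL ⇑Q < K ∧ K < omegaGL ⇑Q := by
  let e := isoEquiv ⇑Q Q (fun _ => rfl)
  have hcomm : ∀ x : ↥(Cfsg.isometryGroup F ⇑Q), x ∈ Cfsg.Omega F ⇑Q ↔
      e x ∈ commutator (isoGroup Q) := fun x => mem_commutator_iff_of_equiv e x
  refine ⟨subspaceStabilizer U ⊓ omegaGL ⇑Q, ?_, ?_⟩
  · rw [SetLike.lt_iff_le_and_exists]
    constructor
    · rintro g ⟨hgW, hgΩ⟩
      refine ⟨?_, hgΩ⟩
      obtain ⟨x, hx, rfl⟩ := (mem_omegaGL_iff Q g).mp hgΩ
      exact (mem_subspaceStabilizer_iff Q U x).mpr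
        (h1 (e x) ((hcomm x).mp hx) ((mem_subspaceStabilizer_iff Q W x).mp hgW))
    · obtain ⟨g, hg, hgU, hgW⟩ := h2
      refine ⟨((e.symm g : ↥(Cfsg.isometryGroup F ⇑Q)) : GL ι F), ⟨?_, ?_⟩, ?_⟩
      · exact (mem_subspaceStabilizer_iff Q U (e.symm g)).mpr (by
          rw [e.apply_symm_apply]; exact hgU)
      · exact (mem_omegaGL_iff Q _).mpr ⟨e.symm g, (hcomm _).mpr (by
          rw [e.apply_symm_apply]; exact hg), rfl⟩
      · rintro ⟨hW, -⟩
        have hW' := (mem_subspaceStabilizer_iff Q W (e.symm g)).mp hW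
        rw [e.apply_symm_apply] at hW'
        exact hgW hW'
  · rw [SetLike.lt_iff_le_and_exists]
    refine ⟨inf_le_right, ?_⟩
    obtain ⟨g, hg, hgU⟩ := h3
    refine ⟨((e.symm g : ↥(Cfsg.isometryGroup F ⇑Q)) : GL ι F), ?_, ?_⟩
    · exact (mem_omegaGL_iff Q _).mpr ⟨e.symm g, (hcomm _).mpr (by
        rw [e.apply_symm_apply]; exact hg), rfl⟩
    · rintro ⟨hU, -⟩
      have hU' := (mem_subspaceStabilizer_iff Q U (e.symm g)).mp hU
      rw [e.apply_symm_apply] at hU'
      exact hgU hU'

end geo

section geoplane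
universe u
variable {F : Type u} [Field F] [Fintype F] {ι : Type} [Fintype ι] [DecidableEq ι]
  (Q : QuadraticForm F (ι → F))

open Cfsg.Geo Matrix

/-- **Stabilisers of hyperbolic planes over fields with at most three elements are not maximal
in `Ω`.** -/
theorem plane_not_maximal (hQ : (polarBilin Q).Nondegenerate) (hq : Fintype.card F ≤ 3)
    (hcard : 5 ≤ Fintype.card ι) (W : Submodule F (ι → F)) (hdim : finrank F W = 2)
    (hW : IsNondegenerateOn (QuadraticMap.polar ⇑Q) W) (hWp : IsPlusTypeOn ⇑Q W) :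
    ∃ K : Subgroup (GL ι F), subspaceStabilizer W ⊓ omegaGL ⇑Q < K ∧ K < omegaGL ⇑Q := by
  have hF : ∀ x : F, x ≠ 0 → x * x = 1 := by
    intro x hx
    have h1 := FiniteField.pow_card_sub_one_eq_one x hx
    have h2 : 1 < Fintype.card F := Fintype.one_lt_card
    have h3 : Fintype.card F - 1 = 1 ∨ Fintype.card F - 1 = 2 := by omega
    rcases h3 with h | h
    · rw [h, pow_one] at h1
      rw [h1, one_mul]
    · rw [h, pow_two] at h1
      exact h1
  have hdimV : 5 ≤ finrank F (ι → F) := by
    rw [Module.finrank_fintype_fun_eq_card]; exact hcard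
  -- the singular line and a hyperbolic pair spanning the plane
  obtain ⟨U, hUW, hUts, hU2⟩ := hWp
  have hU1 : finrank F U = 1 := by omega
  have hpos : 0 < finrank F U := by omega
  obtain ⟨⟨e, heU⟩, he⟩ := Module.finrank_pos_iff_exists_ne_zero.mp hpos
  have he0 : e ≠ 0 := fun h => he (Subtype.ext h)
  have heW : e ∈ W := hUW heU
  have hQe : Q e = 0 := hUts e heU
  obtain ⟨y, hyW, hy⟩ := (hW e heW he0).2
  change polar Q e y ≠ 0 at hy
  obtain ⟨y', hy'W, hy'⟩ : ∃ y' ∈ W, polar Q e y' = 1 :=
    ⟨(polar Q e y)⁻¹ • y, W.smul_mem _ hyW, by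
      rw [polar_smul_right, smul_eq_mul, inv_mul_cancel₀ hy]⟩
  have hee : polar Q e e = 0 := by rw [polar_self, hQe, smul_zero]
  obtain ⟨f, hfW, hQf, hef⟩ : ∃ f ∈ W, Q f = 0 ∧ polar Q e f = 1 := by
    refine ⟨y' - Q y' • e, W.sub_mem hy'W (W.smul_mem _ heW), ?_, ?_⟩
    · rw [sub_eq_add_neg, ← neg_smul, QuadraticMap.map_add Q, QuadraticMap.map_smul,
        polar_smul_right, polar_comm Q y' e, hy', hQe]
      simp
    · rw [polar_sub_right, polar_smul_right, hee, hy']
      simp
  have hfe : polar Q f e = 1 := by rw [polar_comm]; exact hef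
  have hff : polar Q f f = 0 := by rw [polar_self, hQf, smul_zero]
  -- the plane is spanned by `e, f`
  have hli : LinearIndependent F ![e, f] := by
    rw [LinearIndependent.pair_iff]
    intro s t hst
    have h1 : polar Q e (s • e + t • f) = 0 := by rw [hst, polar_zero_right]
    have h2 : polar Q f (s • e + t • f) = 0 := by rw [hst, polar_zero_right]
    rw [polar_add_right, polar_smul_right, polar_smul_right, hee, hef] at h1
    rw [polar_add_right, polar_smul_right, polar_smul_right, hfe, hff] at h2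
    constructor
    · simpa using h2
    · simpa using h1
  have hspan : Submodule.span F (Set.range ![e, f]) = W := by
    apply Submodule.eq_of_le_of_finrank_eq
    · rw [Submodule.span_le]
      rintro _ ⟨i, rfl⟩
      fin_cases i
      · exact heW
      · exact hfW
    · rw [finrank_span_eq_card hli, hdim]
      rfl
  have hWspan : ∀ x ∈ W, ∃ a b : F, x = a • e + b • f := by
    intro x hx
    rw [← hspan, Matrix.range_cons, Matrix.range_cons, Matrix.range_empty, Set.union_empty] at hx
    have hx' : x ∈ Submodule.span F ({e, f} : Set (ι → F)) := by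
      convert hx using 2
      exact Set.insert_eq e {f}
    obtain ⟨a, b, hab⟩ := Submodule.mem_span_pair.mp hx'
    exact ⟨a, b, hab.symm⟩
  obtain ⟨h1, h2, h3⟩ := plane_core Q hQ hF hdimV W e f heW hfW hWspan hQe hQf hef
  exact exists_between Q W (Submodule.span F {e + f}) (fun g _ hg => h1 g hg) h2 h3

end geoplane

section bridge
variable {F : Type*} [Field F] {ι : Type} [Fintype ι] [DecidableEq ι]

/-- a quadratic form given as a function, as a `QuadraticForm` -/
def toQF (Q : (ι → F) → F) (hQ : Cfsg.Geo.IsNondegenerateQuadraticForm Q) :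
    QuadraticForm F (ι → F) where
  toFun := Q
  toFun_smul := fun a x => by rw [hQ.smul, smul_eq_mul, pow_two]
  exists_companion' := ⟨LinearMap.mk₂ F (QuadraticMap.polar Q) hQ.polar_bilinear.add_left
    (fun c x v => by rw [hQ.polar_bilinear.smul_left, smul_eq_mul]) hQ.polar_bilinear.add_right
    (fun c v x => by rw [hQ.polar_bilinear.smul_right, smul_eq_mul]), fun x y => by
      rw [LinearMap.mk₂_apply]
      unfold QuadraticMap.polar
      ring⟩

theorem toQF_coe (Q : (ι → F) → F) (hQ : Cfsg.Geo.IsNondegenerateQuadraticForm Q) :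
    ⇑(toQF Q hQ) = Q := rfl

theorem toQF_nondegenerate (Q : (ι → F) → F) (hQ : Cfsg.Geo.IsNondegenerateQuadraticForm Q) :
    (polarBilin (toQF Q hQ)).Nondegenerate := by
  constructor
  · intro x hx
    by_contra hne
    obtain ⟨y, hy⟩ := (hQ.nondegenerate x hne).2
    exact hy (hx y)
  · intro y hy
    by_contra hne
    obtain ⟨x, hx⟩ := (hQ.nondegenerate y hne).1
    exact hx (hy x)

end bridge

end Cfsg.Agent.Lib.Helper13
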