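import Mathlib
import Cfsg.Agent.Lib.Helper6.SiegelOmega
import Cfsg.Agent.Lib.Helper6.SiegelExist
import Cfsg.Agent.Lib.Helper13.OrthMax
import Cfsg.Prelude.Def_GeometricClasses

/-!
# Stabilisers of totally singular subspaces are maximal in `Ω`

`Ω` is generated by the Siegel transformations `ρ_{u,w}` (`Helper6.Sg_eq_Omega`).  For a subgroup
`M` let `X` be the set of singular vectors `u` all of whose Siegel transformations lie in `M`;
it is `M`-invariant and closed under scalars, and if it contains a hyperbolic pair it contains all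
singular vectors.  An overgroup of the stabiliser of a totally singular `W` either produces such a
pair or stabilises a larger totally singular subspace, which the stabiliser of `W` does not.
-/

set_option autoImplicit false
set_option linter.unusedSectionVars false

namespace Cfsg.Agent.Lib.Helper13

open Matrix Module QuadraticMap Cfsg.Agent.Lib.Helper6

section orthparab
universe u
variable {F : Type u} [Field F] {ι : Type} [Fintype ι] [DecidableEq ι]

/-- a matrix mapping a subspace into itself stabilises it -/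
theorem mem_subspaceStabilizer_of_forall' (g : GL ι F) (W : Submodule F (ι → F))
    (h : ∀ x ∈ W, (g : Matrix ι ι F) *ᵥ x ∈ W) :
    g ∈ Cfsg.Geo.subspaceStabilizer W := by
  intro x
  change x ∈ W ↔ (g : Matrix ι ι F) *ᵥ x ∈ W
  refine ⟨h x, fun hx => ?_⟩
  have hle : W.map (Matrix.toLin' (g : Matrix ι ι F)) ≤ W := by
    rintro _ ⟨y, hy, rfl⟩
    rw [Matrix.toLin'_apply]
    exact h y hy
  have hinj : Function.Injective (Matrix.toLin' (g : Matrix ι ι F)) := by
    intro a b hab
    rw [Matrix.toLin'_apply, Matrix.toLin'_apply] at hab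
    have h2 := congrArg (fun z => ((g⁻¹ : GL ι F) : Matrix ι ι F) *ᵥ z) hab
    simp only [mulVec_mulVec, ← Units.val_mul, inv_mul_cancel, Units.val_one, one_mulVec] at h2
    exact h2
  have heq : W.map (Matrix.toLin' (g : Matrix ι ι F)) = W :=
    Submodule.eq_of_le_of_finrank_eq hle
      (Submodule.equivMapOfInjective _ hinj W).finrank_eq.symm
  rw [← heq] at hx
  obtain ⟨y, hy, hyx⟩ := hx
  rw [Matrix.toLin'_apply] at hyx
  have h3 : y = x := by
    have h2 := congrArg (fun z => ((g⁻¹ : GL ι F) : Matrix ι ι F) *ᵥ z) hyx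
    simp only [mulVec_mulVec, ← Units.val_mul, inv_mul_cancel, Units.val_one, one_mulVec] at h2
    exact h2
  rwa [← h3]

variable (Q : QuadraticForm F (ι → F))

/-- all Siegel transformations centred at the singular vector `u` lie in `M` -/
def OrX (M : Subgroup (GL ι F)) (u : ι → F) : Prop :=
  Q u = 0 ∧ ∀ (w : ι → F) (hu : Q u = 0) (huw : polar (⇑Q) u w = 0),
    ((siegIso Q u w hu huw : ↥(Cfsg.isometryGroup F ⇑Q)) : GL ι F) ∈ M

variable {Q} {M : Subgroup (GL ι F)}

theorem OrX.zero : OrX Q M 0 := by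
  refine ⟨map_zero Q, fun w hu huw => ?_⟩
  have : siegIso Q 0 w hu huw = 1 := by
    apply iso_ext_gact
    intro x
    rw [gact_siegIso, gact_one, smul_zero, add_zero, polar_zero_left, neg_zero, zero_smul,
      add_zero]
  rw [this]
  exact M.one_mem

theorem OrX.map {u : ι → F} (hX : OrX Q M u) (g : ↥(Cfsg.isometryGroup F ⇑Q))
    (hg : (g : GL ι F) ∈ M) : OrX Q M (gact Q g u) := by
  obtain ⟨hu, h⟩ := hX
  refine ⟨by rw [Q_gact, hu], fun w hu' huw => ?_⟩
  have huw' : polar (⇑Q) u (gact Q g⁻¹ w) = 0 := by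
    rw [← polar_gact Q g, gact_gact_inv]
    exact huw
  have e : siegIso Q (gact Q g u) w hu' huw =
      g * siegIso Q u (gact Q g⁻¹ w) hu huw' * g⁻¹ := by
    apply iso_ext_gact
    intro x
    rw [conj_siegIso, gact_siegIso, gact_siegIso, gact_gact_inv]
  rw [e]
  exact M.mul_mem (M.mul_mem hg (h _ hu huw')) (M.inv_mem hg)

theorem OrX.smul {u : ι → F} (hX : OrX Q M u) (t : F) : OrX Q M (t • u) := by
  by_cases ht : t = 0
  · rw [ht, zero_smul]
    exact OrX.zero
  obtain ⟨hu, h⟩ := hX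
  refine ⟨by rw [Q_smul, hu, mul_zero], fun w hu' huw => ?_⟩
  have huw₀ : polar (⇑Q) u w = 0 := by
    rw [polar_smul_left, smul_eq_mul] at huw
    exact (mul_eq_zero.mp huw).resolve_left ht
  have e : siegIso Q (t • u) w hu' huw = siegIso Q u (t • w) hu
      (by rw [polar_smul_right, huw₀, smul_zero]) :=
    siegIso_smul_left Q t u w hu huw₀
  rw [e]
  exact h _ hu _

theorem OrX.trans1 {u v z : ι → F} (hu : OrX Q M u) (hv : OrX Q M v)
    (huv : polar (⇑Q) u v ≠ 0) (hz : Q z = 0) (huz : polar (⇑Q) u z ≠ 0) : OrX Q M z := by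
  obtain ⟨c, hc⟩ : ∃ c, c = polar (⇑Q) u z := ⟨_, rfl⟩
  have hc0 : c ≠ 0 := by rw [hc]; exact huz
  have hv' := hv.smul (c / polar (⇑Q) u v)
  obtain ⟨v', hv'def⟩ : ∃ v', v' = (c / polar (⇑Q) u v) • v := ⟨_, rfl⟩
  rw [← hv'def] at hv'
  have huv' : polar (⇑Q) u v' = c := by
    rw [hv'def, polar_smul_right, smul_eq_mul, div_mul_cancel₀ _ huv]
  have hQv' : Q v' = 0 := hv'.1
  obtain ⟨w₀, hw₀⟩ : ∃ w₀, w₀ = c⁻¹ • (v' - z) := ⟨_, rfl⟩
  have huw₀ : polar (⇑Q) u w₀ = 0 := by
    rw [hw₀, polar_smul_right, polar_sub_right, huv', ← hc, sub_self, smul_zero]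
  have hs := hu.2 w₀ hu.1 huw₀
  have hmap := hv'.map (siegIso Q u w₀ hu.1 huw₀) hs
  have e : gact Q (siegIso Q u w₀ hu.1 huw₀) v' = z := by
    rw [gact_siegIso, huv']
    have p1 : polar (⇑Q) w₀ v' = c⁻¹ * (polar (⇑Q) v' v' - polar (⇑Q) z v') := by
      rw [hw₀, polar_smul_left, polar_sub_left, smul_eq_mul]
    have p2 : polar (⇑Q) v' v' = 0 := by rw [polar_self, hQv', smul_zero]
    have p3 : Q w₀ = c⁻¹ * c⁻¹ * (0 + 0 - polar (⇑Q) v' z) := by
      rw [hw₀, Q_smul, Q_sub, hQv', hz]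
    have h1 : polar (⇑Q) w₀ v' - Q w₀ * c = 0 := by
      rw [p1, p2, p3, polar_comm (⇑Q) z v']
      field_simp
      ring
    rw [h1, zero_smul, add_zero, hw₀, smul_smul, neg_mul, mul_inv_cancel₀ hc0, neg_smul, one_smul]
    abel
  rwa [e] at hmap

theorem exists_link_polar (hQ : (polarBilin Q).Nondegenerate) {a b : ι → F} (ha : a ≠ 0)
    (hb : b ≠ 0) : ∃ y, polar (⇑Q) a y ≠ 0 ∧ polar (⇑Q) b y ≠ 0 := by
  have hex : ∀ x : ι → F, x ≠ 0 → ∃ y, polar (⇑Q) x y ≠ 0 := by
    intro x hx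
    by_contra hne
    push Not at hne
    exact hx (hQ.1 x hne)
  obtain ⟨y₁, h₁⟩ := hex a ha
  obtain ⟨y₂, h₂⟩ := hex b hb
  by_cases h3 : polar (⇑Q) b y₁ = 0
  · by_cases h4 : polar (⇑Q) a y₂ = 0
    · refine ⟨y₁ + y₂, ?_, ?_⟩
      · rw [polar_add_right, h4, add_zero]
        exact h₁
      · rw [polar_add_right, h3, zero_add]
        exact h₂
    · exact ⟨y₂, h4, h₂⟩
  · exact ⟨y₁, h₁, h3⟩

theorem OrX.all (hQ : (polarBilin Q).Nondegenerate) {u v : ι → F} (hu : OrX Q M u)
    (hv : OrX Q M v) (huv : polar (⇑Q) u v ≠ 0) (z : ι → F) (hz : Q z = 0) : OrX Q M z := by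
  by_cases hz0 : z = 0
  · rw [hz0]
    exact OrX.zero
  by_cases huz : polar (⇑Q) u z = 0
  · have hu0 : u ≠ 0 := by
      intro h0
      apply huv
      rw [h0, polar_zero_left]
    obtain ⟨y, hy1, hy2⟩ := exists_link_polar hQ hu0 hz0
    obtain ⟨z', hz'⟩ : ∃ z', z' = y - (Q y / polar (⇑Q) u y) • u := ⟨_, rfl⟩
    have hQz' : Q z' = 0 := by
      rw [hz', Q_sub, Q_smul, hu.1, polar_smul_right, polar_comm (⇑Q) y u, smul_eq_mul,
        div_mul_cancel₀ _ hy1]
      ring
    have huz' : polar (⇑Q) u z' ≠ 0 := by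
      rw [hz', polar_sub_right, polar_smul_right, polar_self, hu.1, smul_zero, smul_zero, sub_zero]
      exact hy1
    have hzz' : polar (⇑Q) z' z ≠ 0 := by
      rw [hz', polar_sub_left, polar_smul_left, huz, smul_zero, sub_zero, polar_comm]
      exact hy2
    have hz'X := hu.trans1 hv huv hQz' huz'
    exact hz'X.trans1 hu (by rw [polar_comm]; exact huz') hz hzz'
  · exact hu.trans1 hv huv hz huz

theorem omegaGL_le_of_forall [Fintype F] (hQ : (polarBilin Q).Nondegenerate)
    (h5 : 5 ≤ Fintype.card ι) (hall : ∀ z, Q z = 0 → OrX Q M z) :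
    Cfsg.Geo.omegaGL ⇑Q ≤ M := by
  intro g hg
  obtain ⟨x, hx, rfl⟩ := (mem_omegaGL_iff Q g).mp hg
  rw [← Sg_eq_Omega Q hQ h5] at hx
  unfold Sg at hx
  refine Subgroup.closure_induction
    (p := fun x _ => ((x : ↥(Cfsg.isometryGroup F ⇑Q)) : GL ι F) ∈ M) ?_ ?_ ?_ ?_ hx
  · rintro s ⟨u, w, hu, huw, rfl⟩
    exact (hall u hu).2 w hu huw
  · exact M.one_mem
  · intro a b _ _ ha hb
    exact M.mul_mem ha hb
  · intro a _ ha
    exact M.inv_mem ha

theorem polar_gact_siegIso_self (u w x : ι → F) (hu : Q u = 0) (huw : polar (⇑Q) u w = 0)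
    (hx : Q x = 0) :
    polar (⇑Q) x (gact Q (siegIso Q u w hu huw) x) =
      -(Q w * (polar (⇑Q) u x * polar (⇑Q) u x)) := by
  have p2 : polar (⇑Q) x x = 0 := by rw [polar_self, hx, smul_zero]
  rw [gact_siegIso, polar_add_right, polar_add_right, polar_smul_right, polar_smul_right, p2,
    polar_comm (⇑Q) x u, polar_comm (⇑Q) x w]
  simp only [smul_eq_mul]
  ring

theorem ts_two_mul_finrank_le (hQ : (polarBilin Q).Nondegenerate) (W' : Submodule F (ι → F))
    (hW' : Cfsg.Geo.IsTotallySingularQuad ⇑Q W') : 2 * finrank F W' ≤ Fintype.card ι := by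
  have hle : W' ≤ LinearMap.BilinForm.orthogonal (polarBilin Q) W' := by
    intro a ha
    rw [LinearMap.BilinForm.mem_orthogonal_iff]
    intro b hb
    change polar (⇑Q) b a = 0
    unfold polar
    rw [hW' _ (W'.add_mem hb ha), hW' b hb, hW' a ha]
    ring
  have h1 := LinearMap.BilinForm.finrank_orthogonal hQ W'
  have h2 := Submodule.finrank_mono hle
  have h3 : finrank F (ι → F) = Fintype.card ι := Module.finrank_fintype_fun_eq_card F
  have h4 := Submodule.finrank_le W'
  omega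

/-- **The stabiliser of a totally singular subspace is maximal in `Ω`**, provided every larger
totally singular subspace forces `2 (dim W + 1) < n`. -/
theorem orth_ts_stabilizer_maximal [Fintype F] (hQ : (polarBilin Q).Nondegenerate)
    (h5 : 5 ≤ Fintype.card ι) (W : Submodule F (ι → F)) (hW0 : W ≠ ⊥)
    (hW : Cfsg.Geo.IsTotallySingularQuad ⇑Q W)
    (hgen : ∀ W' : Submodule F (ι → F), Cfsg.Geo.IsTotallySingularQuad ⇑Q W' → W < W' →
      2 * (finrank F W + 1) < Fintype.card ι) :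
    Cfsg.Geo.IsMaximalIn (Cfsg.Geo.omegaGL ⇑Q)
      (Cfsg.Geo.subspaceStabilizer W ⊓ Cfsg.Geo.omegaGL ⇑Q) := by
  classical
  have hfin : 5 ≤ finrank F (ι → F) := by
    rw [Module.finrank_fintype_fun_eq_card]
    exact h5
  have hWf : ∀ x ∈ W, ∀ y ∈ W, polar (⇑Q) x y = 0 := by
    intro x hx y hy
    unfold polar
    rw [hW _ (W.add_mem hx hy), hW x hx, hW y hy]
    ring
  have hsO : ∀ (u w : ι → F) (hu : Q u = 0) (huw : polar (⇑Q) u w = 0),
      ((siegIso Q u w hu huw : ↥(Cfsg.isometryGroup F ⇑Q)) : GL ι F) ∈ Cfsg.Geo.omegaGL ⇑Q :=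
    fun u w hu huw => (mem_omegaGL_iff Q _).mpr ⟨_, siegIso_mem_Omega Q hQ h5 u w hu huw, rfl⟩
  have hstab1 : ∀ u ∈ W, ∀ (w : ι → F) (hu : Q u = 0) (huw : polar (⇑Q) u w = 0),
      ((siegIso Q u w hu huw : ↥(Cfsg.isometryGroup F ⇑Q)) : GL ι F) ∈
        Cfsg.Geo.subspaceStabilizer W := by
    intro u huW w hu huw
    apply mem_subspaceStabilizer_of_forall'
    intro x hx
    change gact Q (siegIso Q u w hu huw) x ∈ W
    rw [gact_siegIso, hWf u huW x hx, neg_zero, zero_smul, add_zero]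
    exact W.add_mem hx (W.smul_mem _ huW)
  have hstab2 : ∀ (u w : ι → F) (hu : Q u = 0) (huw : polar (⇑Q) u w = 0),
      (∀ x ∈ W, polar (⇑Q) u x = 0) → (∀ x ∈ W, polar (⇑Q) w x = 0) →
      ((siegIso Q u w hu huw : ↥(Cfsg.isometryGroup F ⇑Q)) : GL ι F) ∈
        Cfsg.Geo.subspaceStabilizer W := by
    intro u w hu huw h1 h2
    apply mem_subspaceStabilizer_of_forall'
    intro x hx
    change gact Q (siegIso Q u w hu huw) x ∈ W
    rw [gact_siegIso, h1 x hx, h2 x hx, mul_zero, sub_zero, zero_smul, add_zero, neg_zero,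
      zero_smul, add_zero]
    exact hx
  refine ⟨lt_of_le_of_ne inf_le_right ?_, ?_⟩
  · intro heq
    obtain ⟨u, huW, hu0⟩ := (Submodule.ne_bot_iff W).mp hW0
    obtain ⟨y, hy⟩ : ∃ y, polar (⇑Q) u y ≠ 0 := by
      by_contra hne
      push Not at hne
      exact hu0 (hQ.1 u hne)
    obtain ⟨v, hv⟩ : ∃ v, v = y - (Q y / polar (⇑Q) u y) • u := ⟨_, rfl⟩
    have hQv : Q v = 0 := by
      rw [hv, Q_sub, Q_smul, hW u huW, polar_smul_right, polar_comm (⇑Q) y u, smul_eq_mul,
        div_mul_cancel₀ _ hy]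
      ring
    have hvu : polar (⇑Q) v u ≠ 0 := by
      have p2 : polar (⇑Q) u u = 0 := by rw [polar_self, hW u huW, smul_zero]
      rw [hv, polar_sub_left, polar_smul_left, p2, smul_zero, sub_zero, polar_comm]
      exact hy
    obtain ⟨w, hvw, -, hQw⟩ := exists_nonsingular_perp Q hQ hfin v v
    have hmem : ((siegIso Q v w hQv hvw : ↥(Cfsg.isometryGroup F ⇑Q)) : GL ι F) ∈
        Cfsg.Geo.subspaceStabilizer W ⊓ Cfsg.Geo.omegaGL ⇑Q := by
      rw [heq]
      exact hsO _ _ _ _
    have h1 : gact Q (siegIso Q v w hQv hvw) u ∈ W := (hmem.1 u).mp huW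
    have h2 := hWf u huW _ h1
    rw [polar_gact_siegIso_self v w u hQv hvw (hW u huW)] at h2
    have h3 : Q w * (polar (⇑Q) v u * polar (⇑Q) v u) = 0 := neg_eq_zero.mp h2
    rcases mul_eq_zero.mp h3 with h4 | h4
    · exact hQw h4
    · exact hvu (mul_self_eq_zero.mp h4)
  · intro M hHM hMO
    by_cases hMH : M ≤ Cfsg.Geo.subspaceStabilizer W ⊓ Cfsg.Geo.omegaGL ⇑Q
    · exact Or.inl (le_antisymm hMH hHM)
    right
    refine le_antisymm hMO ?_
    have hiso : ∀ g ∈ M, ∃ x : ↥(Cfsg.isometryGroup F ⇑Q), (x : GL ι F) = g := by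
      intro g hg
      obtain ⟨x, -, hx⟩ := (mem_omegaGL_iff Q g).mp (hMO hg)
      exact ⟨x, hx⟩
    have hXW : ∀ u ∈ W, OrX Q M u := fun u hu =>
      ⟨hW u hu, fun w hu' huw => hHM ⟨hstab1 u hu w hu' huw, hsO u w hu' huw⟩⟩
    by_cases hA : ∃ g : ↥(Cfsg.isometryGroup F ⇑Q), (g : GL ι F) ∈ M ∧
        ∃ x ∈ W, ∃ y ∈ W, polar (⇑Q) (gact Q g x) y ≠ 0
    · obtain ⟨g, hgM, x, hx, y, hy, hxy⟩ := hA
      exact omegaGL_le_of_forall hQ h5
        (fun z hz => ((hXW x hx).map g hgM).all hQ (hXW y hy) hxy z hz)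
    · exfalso
      push Not at hA
      obtain ⟨g₀, hg₀M, hg₀H⟩ := SetLike.not_le_iff_exists.mp hMH
      obtain ⟨γ, hγ⟩ := hiso g₀ hg₀M
      have hx₀ : ∃ x₀ ∈ W, gact Q γ x₀ ∉ W := by
        by_contra hne
        push Not at hne
        apply hg₀H
        refine ⟨?_, hMO hg₀M⟩
        rw [← hγ]
        exact mem_subspaceStabilizer_of_forall' _ W (fun x hx => hne x hx)
      obtain ⟨x₀, hx₀W, hx₀⟩ := hx₀
      obtain ⟨S, hS⟩ : ∃ S : Set (ι → F), S = {v | ∃ g : ↥(Cfsg.isometryGroup F ⇑Q),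
          (g : GL ι F) ∈ M ∧ ∃ x ∈ W, v = gact Q g x} := ⟨_, rfl⟩
      obtain ⟨W', hW'def⟩ : ∃ W' : Submodule F (ι → F), W' = Submodule.span F S := ⟨_, rfl⟩
      have hSmem : ∀ v, v ∈ S ↔ ∃ g : ↥(Cfsg.isometryGroup F ⇑Q),
          (g : GL ι F) ∈ M ∧ ∃ x ∈ W, v = gact Q g x := by
        intro v
        rw [hS]
        rfl
      have hSW' : ∀ v ∈ S, v ∈ W' := by
        intro v hv
        rw [hW'def]
        exact Submodule.subset_span hv
      have hWW' : W ≤ W' := fun x hx =>
        hSW' x ((hSmem x).mpr ⟨1, M.one_mem, x, hx, (gact_one Q x).symm⟩)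
      have hSS : ∀ a ∈ S, ∀ b ∈ S, polar (⇑Q) a b = 0 := by
        intro a ha b hb
        obtain ⟨g₁, hg₁, x₁, hx₁, rfl⟩ := (hSmem a).mp ha
        obtain ⟨g₂, hg₂, x₂, hx₂, rfl⟩ := (hSmem b).mp hb
        have := hA (g₂⁻¹ * g₁) (M.mul_mem (M.inv_mem hg₂) hg₁) x₁ hx₁ x₂ hx₂
        rw [gact_mul, ← polar_gact Q g₂, gact_gact_inv] at this
        exact this
      have hSQ : ∀ a ∈ S, Q a = 0 := by
        intro a ha
        obtain ⟨g₁, hg₁, x₁, hx₁, rfl⟩ := (hSmem a).mp ha
        rw [Q_gact]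
        exact hW x₁ hx₁
      have hW'S : ∀ a ∈ W', ∀ b ∈ S, polar (⇑Q) a b = 0 := by
        intro a ha b hb
        rw [hW'def] at ha
        refine Submodule.span_induction (p := fun a _ => polar (⇑Q) a b = 0) ?_ ?_ ?_ ?_ ha
        · intro a' ha'
          exact hSS a' ha' b hb
        · exact polar_zero_left _ _
        · intro a₁ a₂ _ _ h1 h2
          rw [polar_add_left, h1, h2, add_zero]
        · intro t a₁ _ h1
          rw [polar_smul_left, h1, smul_zero]
      have hW'W' : ∀ a ∈ W', ∀ b ∈ W', polar (⇑Q) a b = 0 := by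
        intro a ha b hb
        rw [hW'def] at hb
        refine Submodule.span_induction (p := fun b _ => polar (⇑Q) a b = 0) ?_ ?_ ?_ ?_ hb
        · intro b' hb'
          exact hW'S a ha b' hb'
        · exact polar_zero_right _ _
        · intro b₁ b₂ _ _ h1 h2
          rw [polar_add_right, h1, h2, add_zero]
        · intro t b₁ _ h1
          rw [polar_smul_right, h1, smul_zero]
      have hW'Q : Cfsg.Geo.IsTotallySingularQuad ⇑Q W' := by
        intro a ha
        have ha' := ha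
        rw [hW'def] at ha'
        refine Submodule.span_induction (p := fun a _ => Q a = 0) ?_ ?_ ?_ ?_ ha'
        · intro a' ha'
          exact hSQ a' ha'
        · exact map_zero Q
        · intro a₁ a₂ h1m h2m h1 h2
          rw [← hW'def] at h1m h2m
          rw [Q_add, h1, h2, hW'W' a₁ h1m a₂ h2m]
          ring
        · intro t a₁ _ h1
          rw [Q_smul, h1, mul_zero]
      have hinv : ∀ (g : ↥(Cfsg.isometryGroup F ⇑Q)), (g : GL ι F) ∈ M → ∀ a ∈ W',
          gact Q g a ∈ W' := by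
        intro g hg a ha
        rw [hW'def] at ha
        refine Submodule.span_induction (p := fun a _ => gact Q g a ∈ W') ?_ ?_ ?_ ?_ ha
        · intro a' ha'
          obtain ⟨g₁, hg₁, x₁, hx₁, rfl⟩ := (hSmem a').mp ha'
          exact hSW' _ ((hSmem _).mpr ⟨g * g₁, M.mul_mem hg hg₁, x₁, hx₁,
            (gact_mul Q g g₁ x₁).symm⟩)
        · rw [gact_zero]
          exact W'.zero_mem
        · intro a₁ a₂ _ _ h1 h2
          rw [gact_add]
          exact W'.add_mem h1 h2
        · intro t a₁ _ h1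
          rw [gact_smul]
          exact W'.smul_mem t h1
      have hlt : W < W' := by
        refine lt_of_le_of_ne hWW' (fun heq => hx₀ ?_)
        have h1 : gact Q γ x₀ ∈ W' :=
          hSW' _ ((hSmem _).mpr ⟨γ, by rw [hγ]; exact hg₀M, x₀, hx₀W, rfl⟩)
        rwa [← heq] at h1
      have hdim := hgen W' hW'Q hlt
      obtain ⟨w', hw'W', hw'W⟩ := SetLike.exists_of_lt hlt
      have hB : (polarBilin Q).IsRefl := by
        intro a b hab
        change polar (⇑Q) b a = 0
        rw [polar_comm]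
        exact hab
      obtain ⟨y, hyW, hy⟩ : ∃ y, (∀ x ∈ W, polar (⇑Q) x y = 0) ∧ polar (⇑Q) w' y ≠ 0 := by
        by_contra hne
        push Not at hne
        apply hw'W
        rw [← LinearMap.BilinForm.orthogonal_orthogonal hQ hB W,
          LinearMap.BilinForm.mem_orthogonal_iff]
        intro y hy
        rw [LinearMap.BilinForm.mem_orthogonal_iff] at hy
        have h1 := hne y (fun x hx => hy x hx)
        change polar (⇑Q) y w' = 0
        rw [polar_comm]
        exact h1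
      have hQw' : Q w' = 0 := hW'Q w' hw'W'
      have hw'Wperp : ∀ x ∈ W, polar (⇑Q) w' x = 0 :=
        fun x hx => hW'W' w' hw'W' x (hWW' hx)
      obtain ⟨u', hu'⟩ : ∃ u', u' = y - (Q y / polar (⇑Q) w' y) • w' := ⟨_, rfl⟩
      have hQu' : Q u' = 0 := by
        rw [hu', Q_sub, Q_smul, hQw', polar_smul_right, polar_comm (⇑Q) y w', smul_eq_mul,
          div_mul_cancel₀ _ hy]
        ring
      have hu'W : ∀ x ∈ W, polar (⇑Q) u' x = 0 := by
        intro x hx
        rw [hu', polar_sub_left, polar_smul_left, hw'Wperp x hx, smul_zero, sub_zero, polar_comm]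
        exact hyW x hx
      have hu'w' : polar (⇑Q) u' w' ≠ 0 := by
        have p2 : polar (⇑Q) w' w' = 0 := by rw [polar_self, hQw', smul_zero]
        rw [hu', polar_sub_left, polar_smul_left, p2, smul_zero, sub_zero, polar_comm]
        exact hy
      have hN : ∃ w, (∀ x ∈ W, polar (⇑Q) w x = 0) ∧ polar (⇑Q) u' w = 0 ∧ Q w ≠ 0 := by
        by_contra hne
        push Not at hne
        obtain ⟨N, hNdef⟩ : ∃ N : Submodule F (ι → F),
            N = LinearMap.BilinForm.orthogonal (polarBilin Q) W ⊓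
              LinearMap.ker (polarBilin Q u') := ⟨_, rfl⟩
        have hNQ : ∀ a ∈ N, Q a = 0 := by
          intro a ha
          rw [hNdef] at ha
          obtain ⟨ha1, ha2⟩ := Submodule.mem_inf.mp ha
          rw [LinearMap.BilinForm.mem_orthogonal_iff] at ha1
          refine hne a (fun x hx => ?_) (LinearMap.mem_ker.mp ha2)
          rw [polar_comm]
          exact ha1 x hx
        have hNN : N ≤ LinearMap.BilinForm.orthogonal (polarBilin Q) N := by
          intro a ha
          rw [LinearMap.BilinForm.mem_orthogonal_iff]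
          intro b hb
          change polar (⇑Q) b a = 0
          unfold polar
          rw [hNQ _ (N.add_mem hb ha), hNQ b hb, hNQ a ha]
          ring
        have h1 := LinearMap.BilinForm.finrank_orthogonal hQ W
        have h2 := LinearMap.BilinForm.finrank_orthogonal hQ N
        have h3 := finrank_le_inf_ker_add_one
          (LinearMap.BilinForm.orthogonal (polarBilin Q) W) (polarBilin Q u')
        rw [← hNdef] at h3
        have h4 := Submodule.finrank_mono hNN
        have h5' : finrank F (ι → F) = Fintype.card ι := Module.finrank_fintype_fun_eq_card F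
        have h6 := Submodule.finrank_le N
        omega
      obtain ⟨w, hwW, hu'w, hQw⟩ := hN
      have hs : ((siegIso Q u' w hQu' hu'w : ↥(Cfsg.isometryGroup F ⇑Q)) : GL ι F) ∈ M :=
        hHM ⟨hstab2 u' w hQu' hu'w hu'W hwW, hsO u' w hQu' hu'w⟩
      have h1 := hinv (siegIso Q u' w hQu' hu'w) hs w' hw'W'
      have h2 := hW'W' w' hw'W' _ h1
      rw [polar_gact_siegIso_self u' w w' hQu' hu'w hQw'] at h2
      have h3 : Q w * (polar (⇑Q) u' w' * polar (⇑Q) u' w') = 0 := neg_eq_zero.mp h2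
      rcases mul_eq_zero.mp h3 with h4 | h4
      · exact hQw h4
      · exact hu'w' (mul_self_eq_zero.mp h4)

end orthparab

end Cfsg.Agent.Lib.Helper13
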