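import Mathlib
import Cfsg.Agent.Lib.Helper13.OrthParab
import Cfsg.Agent.Lib.Helper13.OrthAll

/-!
# Stabilisers of non-degenerate subspaces are maximal in `Ω`

`V = U ⊥ W` with both summands non-degenerate, `dim U ≥ 7`, `dim U ≥ dim W`, and no isometry maps
`U` into `W`.  An overgroup `M` of the stabiliser `H` of `U` in `Ω` containing `g ∉ H` contains a
conjugate `ρ` of a Siegel transformation of `U` which does not stabilise `U`; conjugating the Siegel
transformations `ρ_{x,y}` (`x ∈ U` singular fixed by `ρ`) gives `ρ_{x,w₀} ∈ M` with `0 ≠ w₀ ∈ W`.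
The set of such `w₀` is a subspace of `W` invariant under the part of `H` fixing `x`, which acts
irreducibly on `W` (Siegel transformations of `W` when `dim W ≥ 3`, products of two reflections
otherwise, with the plus type plane over fields with at most three elements as the exception), so
all Siegel transformations centred at `x` lie in `M`, and then `M = Ω`.
-/

set_option autoImplicit false
set_option linter.unusedSectionVars false
set_option linter.unusedVariables false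

namespace Cfsg.Agent.Lib.Helper13.OND

open Matrix Module QuadraticMap Cfsg.Agent.Lib.Helper6 Cfsg.Agent.Lib.Helper13

section geometry
universe u
variable {F : Type u} [Field F] {ι : Type} [Fintype ι] [DecidableEq ι]
variable (Q : QuadraticForm F (ι → F))

/-- the polar form is non-degenerate on `X` -/
def NdOn (X : Submodule F (ι → F)) : Prop :=
  ∀ x ∈ X, x ≠ 0 → ∃ y ∈ X, polar (⇑Q) x y ≠ 0

theorem exists_singular_sub [Finite F] (S : Submodule F (ι → F)) (hS : 3 ≤ finrank F S) :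
    ∃ z ∈ S, z ≠ 0 ∧ Q z = 0 := by
  obtain ⟨z, hz0, hz⟩ := Cfsg.Agent.Lib.Helper15.exists_singular_of_three_le_finrank
    (Q.comp S.subtype) hS
  refine ⟨(z : ι → F), z.2, fun h0 => hz0 (Subtype.ext h0), ?_⟩
  simpa using hz

theorem finrank_cut2 (P : Submodule F (ι → F)) (a b : ι → F) :
    finrank F P ≤ finrank F ↥((P ⊓ LinearMap.ker (polarBilin Q a)) ⊓
      LinearMap.ker (polarBilin Q b)) + 2 := by
  have h1 := finrank_le_inf_ker_add_one P (polarBilin Q a)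
  have h2 := finrank_le_inf_ker_add_one (P ⊓ LinearMap.ker (polarBilin Q a)) (polarBilin Q b)
  omega

theorem finrank_cut3 (P : Submodule F (ι → F)) (a b c : ι → F) :
    finrank F P ≤ finrank F ↥(((P ⊓ LinearMap.ker (polarBilin Q a)) ⊓
      LinearMap.ker (polarBilin Q b)) ⊓ LinearMap.ker (polarBilin Q c)) + 3 := by
  have h1 := finrank_cut2 Q P a b
  have h2 := finrank_le_inf_ker_add_one ((P ⊓ LinearMap.ker (polarBilin Q a)) ⊓
    LinearMap.ker (polarBilin Q b)) (polarBilin Q c)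
  omega

theorem exists_ne_zero_cut2 (P : Submodule F (ι → F)) (a b : ι → F) (h : 3 ≤ finrank F P) :
    ∃ x ∈ P, x ≠ 0 ∧ polar (⇑Q) a x = 0 ∧ polar (⇑Q) b x = 0 := by
  have h1 := finrank_cut2 Q P a b
  have hpos : 0 < finrank F ↥((P ⊓ LinearMap.ker (polarBilin Q a)) ⊓
      LinearMap.ker (polarBilin Q b)) := by omega
  obtain ⟨⟨x, hx⟩, hx0⟩ := Module.finrank_pos_iff_exists_ne_zero.mp hpos
  simp only [Submodule.mem_inf, LinearMap.mem_ker, polarBilin_apply_apply] at hx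
  exact ⟨x, hx.1.1, fun h => hx0 (Subtype.ext h), hx.1.2, hx.2⟩

theorem exists_ne_zero_cut3 (P : Submodule F (ι → F)) (a b c : ι → F) (h : 4 ≤ finrank F P) :
    ∃ x ∈ P, x ≠ 0 ∧ polar (⇑Q) a x = 0 ∧ polar (⇑Q) b x = 0 ∧ polar (⇑Q) c x = 0 := by
  have h1 := finrank_cut3 Q P a b c
  have hpos : 0 < finrank F ↥(((P ⊓ LinearMap.ker (polarBilin Q a)) ⊓
      LinearMap.ker (polarBilin Q b)) ⊓ LinearMap.ker (polarBilin Q c)) := by omega
  obtain ⟨⟨x, hx⟩, hx0⟩ := Module.finrank_pos_iff_exists_ne_zero.mp hpos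
  simp only [Submodule.mem_inf, LinearMap.mem_ker, polarBilin_apply_apply] at hx
  exact ⟨x, hx.1.1.1, fun h => hx0 (Subtype.ext h), hx.1.1.2, hx.1.2, hx.2⟩

theorem exists_singular_cut2 [Finite F] (P : Submodule F (ι → F)) (a b : ι → F)
    (h : 5 ≤ finrank F P) :
    ∃ x ∈ P, x ≠ 0 ∧ Q x = 0 ∧ polar (⇑Q) a x = 0 ∧ polar (⇑Q) b x = 0 := by
  have h1 := finrank_cut2 Q P a b
  obtain ⟨x, hx, hx0, hQx⟩ := exists_singular_sub Q ((P ⊓ LinearMap.ker (polarBilin Q a)) ⊓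
      LinearMap.ker (polarBilin Q b)) (by omega)
  simp only [Submodule.mem_inf, LinearMap.mem_ker, polarBilin_apply_apply] at hx
  exact ⟨x, hx.1.1, hx0, hQx, hx.1.2, hx.2⟩

theorem exists_singular_cut3 [Finite F] (P : Submodule F (ι → F)) (a b c : ι → F)
    (h : 6 ≤ finrank F P) :
    ∃ x ∈ P, x ≠ 0 ∧ Q x = 0 ∧ polar (⇑Q) a x = 0 ∧ polar (⇑Q) b x = 0 ∧
      polar (⇑Q) c x = 0 := by
  have h1 := finrank_cut3 Q P a b c
  obtain ⟨x, hx, hx0, hQx⟩ := exists_singular_sub Q (((P ⊓ LinearMap.ker (polarBilin Q a)) ⊓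
      LinearMap.ker (polarBilin Q b)) ⊓ LinearMap.ker (polarBilin Q c)) (by omega)
  simp only [Submodule.mem_inf, LinearMap.mem_ker, polarBilin_apply_apply] at hx
  exact ⟨x, hx.1.1.1, hx0, hQx, hx.1.1.2, hx.1.2, hx.2⟩

/-- a hyperbolic partner inside `X` -/
theorem exists_partner (X : Submodule F (ι → F)) (hX : NdOn Q X) {e : ι → F} (heX : e ∈ X)
    (he0 : e ≠ 0) (he : Q e = 0) : ∃ e' ∈ X, Q e' = 0 ∧ polar (⇑Q) e e' = 1 := by
  obtain ⟨y, hyX, hy⟩ := hX e heX he0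
  obtain ⟨y₁, hy₁⟩ : ∃ y₁, y₁ = (polar (⇑Q) e y)⁻¹ • y := ⟨_, rfl⟩
  have hy₁X : y₁ ∈ X := by rw [hy₁]; exact X.smul_mem _ hyX
  have h1 : polar (⇑Q) e y₁ = 1 := by
    rw [hy₁, polar_smul_right, smul_eq_mul, inv_mul_cancel₀ hy]
  refine ⟨y₁ - Q y₁ • e, X.sub_mem hy₁X (X.smul_mem _ heX), ?_, ?_⟩
  · rw [Q_sub, Q_smul, he, polar_smul_right, polar_comm (⇑Q) y₁ e, h1, smul_eq_mul]
    ring
  · rw [polar_sub_right, polar_smul_right, polar_self, he, h1]
    simp

theorem exists_hyp_pair [Finite F] (X : Submodule F (ι → F)) (hX : NdOn Q X)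
    (h3 : 3 ≤ finrank F X) :
    ∃ e ∈ X, ∃ e' ∈ X, Q e = 0 ∧ Q e' = 0 ∧ polar (⇑Q) e e' = 1 := by
  obtain ⟨e, heX, he0, he⟩ := exists_singular_sub Q X h3
  obtain ⟨e', he'X, he', hee'⟩ := exists_partner Q X hX heX he0 he
  exact ⟨e, heX, e', he'X, he, he', hee'⟩

theorem hyp_proj (e e' y : ι → F) (he : Q e = 0) (he' : Q e' = 0)
    (hee' : polar (⇑Q) e e' = 1) :
    polar (⇑Q) (y - polar (⇑Q) y e' • e - polar (⇑Q) y e • e') e = 0 ∧
    polar (⇑Q) (y - polar (⇑Q) y e' • e - polar (⇑Q) y e • e') e' = 0 := by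
  have h1 : polar (⇑Q) e e = 0 := by rw [polar_self, he, smul_zero]
  have h2 : polar (⇑Q) e' e' = 0 := by rw [polar_self, he', smul_zero]
  have h3 : polar (⇑Q) e' e = 1 := by rw [polar_comm]; exact hee'
  constructor
  · rw [polar_sub_left, polar_sub_left, polar_smul_left, polar_smul_left, h1, h3]
    simp
  · rw [polar_sub_left, polar_sub_left, polar_smul_left, polar_smul_left, h2, hee']
    simp

theorem hyp_sing (e e' x : ι → F) (he : Q e = 0) (he' : Q e' = 0)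
    (hee' : polar (⇑Q) e e' = 1) (hxe : polar (⇑Q) x e = 0) (hxe' : polar (⇑Q) x e' = 0) :
    Q (x - Q x • e + e') = 0 := by
  rw [Q_add, Q_sub, Q_smul, he, he', polar_sub_left, polar_smul_right, polar_smul_left, hxe,
    hxe', hee']
  simp only [smul_eq_mul]
  ring

/-- singular vectors of a non-degenerate space of dimension at least three are not confined to a
proper subspace -/
theorem exists_singular_not_mem [Finite F] (X D : Submodule F (ι → F)) (hX : NdOn Q X)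
    (h3 : 3 ≤ finrank F X) (hXD : ¬ X ≤ D) : ∃ z ∈ X, Q z = 0 ∧ z ∉ D := by
  by_contra hcon
  push Not at hcon
  obtain ⟨e, heX, e', he'X, he, he', hee'⟩ := exists_hyp_pair Q X hX h3
  apply hXD
  intro y hy
  obtain ⟨hxe, hxe'⟩ := hyp_proj Q e e' y he he' hee'
  obtain ⟨x, hx⟩ : ∃ x, x = y - polar (⇑Q) y e' • e - polar (⇑Q) y e • e' := ⟨_, rfl⟩
  rw [← hx] at hxe hxe'
  have hxX : x ∈ X := by
    rw [hx]
    exact X.sub_mem (X.sub_mem hy (X.smul_mem _ heX)) (X.smul_mem _ he'X)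
  have hs := hcon (x - Q x • e + e') (X.add_mem (X.sub_mem hxX (X.smul_mem _ heX)) he'X)
    (hyp_sing Q e e' x he he' hee' hxe hxe')
  have heD := hcon e heX he
  have he'D := hcon e' he'X he'
  have hxD : x ∈ D := by
    have : x = (x - Q x • e + e') + Q x • e - e' := by abel
    rw [this]
    exact D.sub_mem (D.add_mem hs (D.smul_mem _ heD)) he'D
  have : y = x + polar (⇑Q) y e' • e + polar (⇑Q) y e • e' := by rw [hx]; abel
  rw [this]
  exact D.add_mem (D.add_mem hxD (D.smul_mem _ heD)) (D.smul_mem _ he'D)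

/-- a vector of prescribed norm in `U` perpendicular to a singular vector -/
theorem exists_value_perp [Finite F] {U : Submodule F (ι → F)} (hU : NdOn Q U)
    (h5 : 5 ≤ finrank F U) {x : ι → F} (hxU : x ∈ U) (hx0 : x ≠ 0) (hx : Q x = 0) (c : F) :
    ∃ b ∈ U, polar (⇑Q) x b = 0 ∧ Q b = c := by
  obtain ⟨x', hx'U, hx', hxx'⟩ := exists_partner Q U hU hxU hx0 hx
  obtain ⟨e, heU, he0, he, he1, he2⟩ := exists_singular_cut2 Q U x x' h5
  obtain ⟨y, hyU, hy⟩ := hU e heU he0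
  obtain ⟨y', hy'⟩ : ∃ y', y' = (polar (⇑Q) e y)⁻¹ • (y - polar (⇑Q) x y • x') := ⟨_, rfl⟩
  have hy'U : y' ∈ U := by
    rw [hy']
    exact U.smul_mem _ (U.sub_mem hyU (U.smul_mem _ hx'U))
  have hxy' : polar (⇑Q) x y' = 0 := by
    rw [hy', polar_smul_right, polar_sub_right, polar_smul_right, hxx']
    simp
  have hey' : polar (⇑Q) e y' = 1 := by
    rw [hy', polar_smul_right, polar_sub_right, polar_smul_right, polar_comm (⇑Q) e x', he2]
    simp [hy]
  have hQe' : Q (y' - Q y' • e) = 0 := by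
    rw [Q_sub, Q_smul, he, polar_smul_right, polar_comm (⇑Q) y' e, hey', smul_eq_mul]
    ring
  have hpe' : polar (⇑Q) e (y' - Q y' • e) = 1 := by
    rw [polar_sub_right, polar_smul_right, polar_self, he, hey']
    simp
  have hxe' : polar (⇑Q) x (y' - Q y' • e) = 0 := by
    rw [polar_sub_right, polar_smul_right, he1, hxy']
    simp
  refine ⟨e + c • (y' - Q y' • e), U.add_mem heU (U.smul_mem _ (U.sub_mem hy'U
    (U.smul_mem _ heU))), ?_, ?_⟩
  · rw [polar_add_right, polar_smul_right, he1, hxe']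
    simp
  · rw [Q_add, Q_smul, he, hQe', polar_smul_right, hpe']
    simp

/-- two independent vectors span a plane -/
theorem plane_span (S : Submodule F (ι → F)) (h2 : finrank F S = 2) (y a : ι → F)
    (hy : y ∈ S) (ha : a ∈ S) (hy0 : y ≠ 0) (hind : ∀ c : F, a ≠ c • y) :
    ∀ v ∈ S, ∃ α β : F, v = α • y + β • a := by
  have hli : LinearIndependent F ![y, a] := by
    rw [LinearIndependent.pair_iff]
    intro s t hst
    by_cases ht : t = 0
    · subst ht
      rw [zero_smul, add_zero] at hst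
      exact ⟨(smul_eq_zero.mp hst).resolve_right hy0, rfl⟩
    · exfalso
      apply hind (-(t⁻¹ * s))
      have h1 : t • a = -(s • y) := by
        rw [eq_neg_iff_add_eq_zero, add_comm]
        exact hst
      calc a = t⁻¹ • (t • a) := by rw [smul_smul, inv_mul_cancel₀ ht, one_smul]
        _ = (-(t⁻¹ * s)) • y := by rw [h1, smul_neg, smul_smul, neg_smul]
  have hspan : Submodule.span F (Set.range ![y, a]) = S := by
    apply Submodule.eq_of_le_of_finrank_eq
    · rw [Submodule.span_le]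
      rintro _ ⟨i, rfl⟩
      fin_cases i
      · simpa using hy
      · simpa using ha
    · rw [finrank_span_eq_card hli, Fintype.card_fin, h2]
  intro v hv
  rw [← hspan] at hv
  obtain ⟨c, hc⟩ := (Submodule.mem_span_range_iff_exists_fun F).mp hv
  rw [Fin.sum_univ_two] at hc
  exact ⟨c 0, c 1, by simpa using hc.symm⟩

end geometry

section irreducibility
universe u
variable {F : Type u} [Field F] {ι : Type} [Fintype ι] [DecidableEq ι]
variable (Q : QuadraticForm F (ι → F))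

/-- irreducibility under Siegel transformations, dimension at least three -/
theorem irred_big [Finite F] (W : Submodule F (ι → F)) (hW : NdOn Q W) (h3 : 3 ≤ finrank F W)
    (P : (ι → F) → Prop) (hadd : ∀ a b, P a → P b → P (a + b))
    (hsmul : ∀ (c : F) a, P a → P (c • a))
    (hsieg : ∀ s ∈ W, ∀ w ∈ W, ∀ (hs : Q s = 0) (hsw : polar (⇑Q) s w = 0), ∀ y ∈ W, P y →
      P (gact Q (siegIso Q s w hs hsw) y))
    (p : ι → F) (hpW : p ∈ W) (hp0 : p ≠ 0) (hPp : P p) : ∀ v ∈ W, P v := by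
  have hsub : ∀ a b, P a → P b → P (a - b) := by
    intro a b ha hb
    have := hadd a ((-1 : F) • b) ha (hsmul (-1) b hb)
    rwa [neg_one_smul, ← sub_eq_add_neg] at this
  obtain ⟨s, hsW, hs, hsD⟩ := exists_singular_not_mem Q W (LinearMap.ker (polarBilin Q p)) hW h3
    (by
      intro hle
      obtain ⟨y, hyW, hy⟩ := hW p hpW hp0
      have := hle hyW
      rw [LinearMap.mem_ker, polarBilin_apply_apply] at this
      exact hy this)
  have hsp : polar (⇑Q) s p ≠ 0 := by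
    intro h
    apply hsD
    rw [LinearMap.mem_ker, polarBilin_apply_apply, polar_comm]
    exact h
  have hs0 : s ≠ 0 := by
    rintro rfl
    exact hsp (polar_zero_left _ _)
  have hE : ∀ w ∈ W, polar (⇑Q) s w = 0 →
      P ((polar (⇑Q) w p - Q w * polar (⇑Q) s p) • s + (-(polar (⇑Q) s p)) • w) := by
    intro w hwW hsw
    have := hsub _ _ (hsieg s hsW w hwW hs hsw p hpW hPp) hPp
    rw [gact_siegIso] at this
    have e : p + (polar (⇑Q) w p - Q w * polar (⇑Q) s p) • s + (-(polar (⇑Q) s p)) • w - p =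
        (polar (⇑Q) w p - Q w * polar (⇑Q) s p) • s + (-(polar (⇑Q) s p)) • w := by abel
    rwa [e] at this
  obtain ⟨s', hs'W, hs', hss'⟩ := exists_partner Q W hW hsW hs0 hs
  obtain ⟨w, hwW, hw0, hw1, hw2⟩ := exists_ne_zero_cut2 Q W s s' h3
  obtain ⟨y, hyW, hy⟩ := hW w hwW hw0
  obtain ⟨w', hw'⟩ : ∃ w', w' = y - polar (⇑Q) s y • s' := ⟨_, rfl⟩
  have hw'W : w' ∈ W := by
    rw [hw']
    exact W.sub_mem hyW (W.smul_mem _ hs'W)
  have hsw' : polar (⇑Q) s w' = 0 := by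
    rw [hw', polar_sub_right, polar_smul_right, hss', smul_eq_mul, mul_one, sub_self]
  have hww' : polar (⇑Q) w w' ≠ 0 := by
    rw [hw', polar_sub_right, polar_smul_right, polar_comm (⇑Q) w s', hw2, smul_zero, sub_zero]
    exact hy
  have hPs : P s := by
    have h1 := hE w hwW hw1
    have h2 := hE w' hw'W hsw'
    have h3' := hE (w + w') (W.add_mem hwW hw'W) (by rw [polar_add_right, hw1, hsw', add_zero])
    have h4 := hsub _ _ (hsub _ _ h3' h1) h2
    have e : ((polar (⇑Q) (w + w') p - Q (w + w') * polar (⇑Q) s p) • s +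
          (-(polar (⇑Q) s p)) • (w + w')
        - ((polar (⇑Q) w p - Q w * polar (⇑Q) s p) • s + (-(polar (⇑Q) s p)) • w))
        - ((polar (⇑Q) w' p - Q w' * polar (⇑Q) s p) • s + (-(polar (⇑Q) s p)) • w')
        = (-(polar (⇑Q) w w' * polar (⇑Q) s p)) • s := by
      rw [polar_add_left, Q_add]
      module
    rw [e] at h4
    have h5 := hsmul (-(polar (⇑Q) w w' * polar (⇑Q) s p))⁻¹ _ h4
    rwa [smul_smul, inv_mul_cancel₀ (neg_ne_zero.mpr (mul_ne_zero hww' hsp)), one_smul] at h5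
  have hPperp : ∀ w ∈ W, polar (⇑Q) s w = 0 → P w := by
    intro w hwW hsw
    have h1 := hE w hwW hsw
    have h2 := hsub _ _ (hsmul (polar (⇑Q) w p - Q w * polar (⇑Q) s p) s hPs) h1
    have e : (polar (⇑Q) w p - Q w * polar (⇑Q) s p) • s -
        ((polar (⇑Q) w p - Q w * polar (⇑Q) s p) • s + (-(polar (⇑Q) s p)) • w) =
        polar (⇑Q) s p • w := by module
    rw [e] at h2
    have h3 := hsmul (polar (⇑Q) s p)⁻¹ _ h2
    rwa [smul_smul, inv_mul_cancel₀ hsp, one_smul] at h3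
  intro v hvW
  obtain ⟨c, hc⟩ : ∃ c, c = polar (⇑Q) s v / polar (⇑Q) s p := ⟨_, rfl⟩
  have h1 : P (v - c • p) := hPperp _ (W.sub_mem hvW (W.smul_mem _ hpW)) (by
    rw [polar_sub_right, polar_smul_right, smul_eq_mul, hc, div_mul_cancel₀ _ hsp, sub_self])
  have h2 := hadd _ _ h1 (hsmul c p hPp)
  rwa [sub_add_cancel] at h2

theorem irred_line (W : Submodule F (ι → F)) (h1 : finrank F W = 1) (P : (ι → F) → Prop)
    (hsmul : ∀ (c : F) a, P a → P (c • a))
    (p : ι → F) (hpW : p ∈ W) (hp0 : p ≠ 0) (hPp : P p) : ∀ v ∈ W, P v := by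
  intro v hvW
  obtain ⟨c, hc⟩ := (finrank_eq_one_iff_of_nonzero' (⟨p, hpW⟩ : W)
    (fun h => hp0 (congrArg Subtype.val h))).mp h1 ⟨v, hvW⟩
  have hv : v = c • p := by
    have := congrArg Subtype.val hc
    simpa using this.symm
  rw [hv]
  exact hsmul c p hPp

/-- irreducibility under reflections, for planes -/
theorem plane_irred [Fintype F] (W : Submodule F (ι → F)) (hW : NdOn Q W) (h2 : finrank F W = 2)
    (hex : ¬ (Fintype.card F ≤ 3 ∧ ∃ s ∈ W, s ≠ 0 ∧ Q s = 0)) (P : (ι → F) → Prop)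
    (hadd : ∀ a b, P a → P b → P (a + b)) (hsmul : ∀ (c : F) a, P a → P (c • a))
    (hrefl : ∀ a ∈ W, Q a ≠ 0 → ∀ y ∈ W, P y → polar (⇑Q) a y ≠ 0 → P a)
    (p : ι → F) (hpW : p ∈ W) (hp0 : p ≠ 0) (hPp : P p) : ∀ v ∈ W, P v := by
  classical
  have fin : ∀ y a, y ∈ W → a ∈ W → y ≠ 0 → (∀ c : F, a ≠ c • y) → P y → P a →
      ∀ v ∈ W, P v := by
    intro y a hy ha hy0 hind hPy hPa v hv
    obtain ⟨α, β, rfl⟩ := plane_span W h2 y a hy ha hy0 hind v hv
    exact hadd _ _ (hsmul α y hPy) (hsmul β a hPa)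
  by_cases hiso : ∃ s ∈ W, s ≠ 0 ∧ Q s = 0
  · have hq : 4 ≤ Fintype.card F := by
      by_contra h
      exact hex ⟨by omega, hiso⟩
    obtain ⟨e, heW, he0, he⟩ := hiso
    obtain ⟨e', he'W, he', hee'⟩ := exists_partner Q W hW heW he0 he
    have hpee : polar (⇑Q) e e = 0 := by rw [polar_self, he, smul_zero]
    have hpe'e' : polar (⇑Q) e' e' = 0 := by rw [polar_self, he', smul_zero]
    have hpe'e : polar (⇑Q) e' e = 1 := by rw [polar_comm]; exact hee'
    have hind0 : ∀ c : F, e' ≠ c • e := by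
      intro c h
      have : polar (⇑Q) e e' = 0 := by rw [h, polar_smul_right, hpee, smul_zero]
      rw [hee'] at this
      exact one_ne_zero this
    obtain ⟨α, β, hpab⟩ := plane_span W h2 e e' heW he'W he0 hind0 p hpW
    have hQa : ∀ c : F, Q (e + c • e') = c := by
      intro c
      rw [Q_add, Q_smul, he, he', polar_smul_right, hee']
      simp
    have hpa : ∀ c : F, polar (⇑Q) (e + c • e') p = β + c * α := by
      intro c
      rw [hpab, polar_add_left, polar_add_right, polar_add_right, polar_smul_right,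
        polar_smul_right, polar_smul_left, polar_smul_left, polar_smul_right, polar_smul_right,
        hpee, hpe'e', hee', hpe'e]
      simp only [smul_eq_mul]
      ring
    have hab : α ≠ 0 ∨ β ≠ 0 := by
      by_contra h
      push Not at h
      apply hp0
      rw [hpab, h.1, h.2, zero_smul, zero_smul, add_zero]
    have good : ∀ c : F, c ≠ -β / α → β + c * α ≠ 0 := by
      intro c hc h
      by_cases ha : α = 0
      · rw [ha, mul_zero, add_zero] at h
        rcases hab with h' | h'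
        · exact h' ha
        · exact h' h
      · apply hc
        rw [eq_div_iff ha]
        linear_combination h
    have hcard : 1 < (Finset.univ \ ({0, -β / α} : Finset F)).card := by
      have h1 : ({0, -β / α} : Finset F).card ≤ 2 := Finset.card_le_two
      have h2 := Finset.card_sdiff_add_card_eq_card
        (Finset.subset_univ ({0, -β / α} : Finset F))
      rw [Finset.card_univ] at h2
      omega
    obtain ⟨c₁, hc₁, c₂, hc₂, hc12⟩ := Finset.one_lt_card.mp hcard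
    simp only [Finset.mem_sdiff, Finset.mem_univ, true_and, Finset.mem_insert,
      Finset.mem_singleton, not_or] at hc₁ hc₂
    have hP1 : P (e + c₁ • e') := hrefl _ (W.add_mem heW (W.smul_mem _ he'W))
      (by rw [hQa]; exact hc₁.1) p hpW hPp (by rw [hpa]; exact good c₁ hc₁.2)
    have hP2 : P (e + c₂ • e') := hrefl _ (W.add_mem heW (W.smul_mem _ he'W))
      (by rw [hQa]; exact hc₂.1) p hpW hPp (by rw [hpa]; exact good c₂ hc₂.2)
    apply fin (e + c₁ • e') (e + c₂ • e') (W.add_mem heW (W.smul_mem _ he'W))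
      (W.add_mem heW (W.smul_mem _ he'W)) ?_ ?_ hP1 hP2
    · intro h
      have := hQa c₁
      rw [h, map_zero] at this
      exact hc₁.1 this.symm
    · intro k h
      have h1 : polar (⇑Q) e' (e + c₂ • e') = polar (⇑Q) e' (k • (e + c₁ • e')) := by rw [h]
      have h2 : polar (⇑Q) e (e + c₂ • e') = polar (⇑Q) e (k • (e + c₁ • e')) := by rw [h]
      rw [polar_smul_right, polar_add_right, polar_add_right, polar_smul_right, polar_smul_right,
        hpe'e, hpe'e'] at h1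
      rw [polar_smul_right, polar_add_right, polar_add_right, polar_smul_right, polar_smul_right,
        hpee, hee'] at h2
      simp only [smul_eq_mul, mul_zero, add_zero, zero_add, mul_one] at h1 h2
      apply hc12
      rw [h2, ← h1, one_mul]
  · push Not at hiso
    obtain ⟨a, haW, hind, hap⟩ : ∃ a ∈ W, (∀ c : F, a ≠ c • p) ∧ polar (⇑Q) a p ≠ 0 := by
      obtain ⟨a₀, ha₀W, ha₀⟩ := hW p hpW hp0
      by_cases h : ∀ c : F, a₀ ≠ c • p
      · exact ⟨a₀, ha₀W, h, by rw [polar_comm]; exact ha₀⟩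
      · push Not at h
        obtain ⟨k, hk⟩ := h
        have hpp : polar (⇑Q) p p ≠ 0 := by
          intro h0
          apply ha₀
          rw [hk, polar_smul_right, h0, smul_zero]
        obtain ⟨b, hbW, hb⟩ : ∃ b ∈ W, ∀ c : F, b ≠ c • p := by
          by_contra hcon
          push Not at hcon
          have hle : W ≤ Submodule.span F {p} := by
            intro b hb
            obtain ⟨c, hc⟩ := hcon b hb
            rw [hc]
            exact Submodule.smul_mem _ _ (Submodule.mem_span_singleton_self p)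
          have := Submodule.finrank_mono hle
          rw [finrank_span_singleton hp0] at this
          omega
        by_cases hbp : polar (⇑Q) b p = 0
        · refine ⟨b + p, W.add_mem hbW hpW, ?_, ?_⟩
          · intro c hc
            apply hb (c - 1)
            rw [sub_smul, one_smul, ← hc]
            abel
          · rw [polar_add_left, hbp, zero_add]
            exact hpp
        · exact ⟨b, hbW, hb, hbp⟩
    have ha0 : a ≠ 0 := by
      intro h
      apply hind 0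
      rw [h, zero_smul]
    have hPa : P a := hrefl a haW (hiso a haW ha0) p hpW hPp hap
    exact fin p a hpW haW hp0 hind hPp hPa

end irreducibility

section pairs
universe u
variable {F : Type u} [Field F] {ι : Type} [Fintype ι] [DecidableEq ι]
variable (Q : QuadraticForm F (ι → F))

/-- an orthogonal decomposition into two non-degenerate subspaces -/
structure OrthPair (U W : Submodule F (ι → F)) : Prop where
  orth : ∀ u ∈ U, ∀ w ∈ W, polar (⇑Q) u w = 0
  dec : ∀ x : ι → F, ∃ u ∈ U, ∃ w ∈ W, x = u + w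
  ndU : NdOn Q U
  ndW : NdOn Q W

variable {Q} {U W : Submodule F (ι → F)}

theorem OrthPair.symm (h : OrthPair Q U W) : OrthPair Q W U :=
  ⟨fun w hw u hu => by rw [polar_comm]; exact h.orth u hu w hw,
   fun x => by
     obtain ⟨u, hu, w, hw, rfl⟩ := h.dec x
     exact ⟨w, hw, u, hu, add_comm u w⟩, h.ndW, h.ndU⟩

theorem OrthPair.inter (h : OrthPair Q U W) {x : ι → F} (hxU : x ∈ U) (hxW : x ∈ W) : x = 0 := by
  by_contra hx0
  obtain ⟨y, hyU, hy⟩ := h.ndU x hxU hx0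
  exact hy (by rw [polar_comm]; exact h.orth y hyU x hxW)

theorem OrthPair.mem_right (h : OrthPair Q U W) {x : ι → F}
    (hx : ∀ u ∈ U, polar (⇑Q) u x = 0) : x ∈ W := by
  obtain ⟨u, hu, w, hw, rfl⟩ := h.dec x
  have hu0 : u = 0 := by
    by_contra hu0
    obtain ⟨y, hyU, hy⟩ := h.ndU u hu hu0
    apply hy
    have := hx y hyU
    rw [polar_add_right, h.orth y hyU w hw, add_zero] at this
    rw [polar_comm]
    exact this
  rw [hu0, zero_add]
  exact hw

theorem OrthPair.finrank_add (h : OrthPair Q U W) :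
    finrank F U + finrank F W = Fintype.card ι := by
  have hc : IsCompl U W := by
    refine ⟨?_, ?_⟩
    · rw [Submodule.disjoint_def]
      intro x hxU hxW
      exact h.inter hxU hxW
    · rw [codisjoint_iff, Submodule.eq_top_iff']
      intro x
      obtain ⟨u, hu, w, hw, rfl⟩ := h.dec x
      exact Submodule.add_mem_sup hu hw
  rw [Submodule.finrank_add_eq_of_isCompl hc, Module.finrank_fintype_fun_eq_card]

theorem OrthPair.stab_le (h : OrthPair Q U W) (γ : ↥(Cfsg.isometryGroup F ⇑Q))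
    (hγ : (γ : GL ι F) ∈ Cfsg.Geo.subspaceStabilizer U) :
    (γ : GL ι F) ∈ Cfsg.Geo.subspaceStabilizer W := by
  apply mem_subspaceStabilizer_of_forall'
  intro w hw
  change gact Q γ w ∈ W
  apply h.mem_right
  intro u hu
  have h1 : gact Q γ⁻¹ u ∈ U := by
    have h2 : gact Q γ⁻¹ u ∈ U ↔
        ((γ : GL ι F) : Matrix ι ι F) *ᵥ (gact Q γ⁻¹ u) ∈ U := hγ (gact Q γ⁻¹ u)
    rw [h2]
    change gact Q γ (gact Q γ⁻¹ u) ∈ U
    rw [gact_gact_inv]
    exact hu
  have h3 : polar (⇑Q) u (gact Q γ w) = polar (⇑Q) (gact Q γ⁻¹ u) w := by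
    rw [← polar_gact Q γ (gact Q γ⁻¹ u) w, gact_gact_inv]
  rw [h3]
  exact h.orth _ h1 w hw

theorem OrthPair.stab_eq (h : OrthPair Q U W) :
    Cfsg.Geo.subspaceStabilizer W ⊓ Cfsg.Geo.omegaGL ⇑Q =
      Cfsg.Geo.subspaceStabilizer U ⊓ Cfsg.Geo.omegaGL ⇑Q := by
  apply le_antisymm
  · rintro g ⟨hg, hgΩ⟩
    obtain ⟨γ, hγ, rfl⟩ := (mem_omegaGL_iff Q g).mp hgΩ
    exact ⟨h.symm.stab_le γ hg, hgΩ⟩
  · rintro g ⟨hg, hgΩ⟩
    obtain ⟨γ, hγ, rfl⟩ := (mem_omegaGL_iff Q g).mp hgΩ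
    exact ⟨h.stab_le γ hg, hgΩ⟩

variable (Q)

/-- the orthogonal complement of a non-degenerate subspace -/
theorem orthPair_of_nondeg (hQ : (polarBilin Q).Nondegenerate) (W : Submodule F (ι → F))
    (hW : Cfsg.Geo.IsNondegenerateOn (polar (⇑Q)) W) :
    OrthPair Q W (LinearMap.BilinForm.orthogonal (polarBilin Q) W) := by
  have hmem : ∀ y, y ∈ LinearMap.BilinForm.orthogonal (polarBilin Q) W ↔
      ∀ w ∈ W, polar (⇑Q) w y = 0 := fun y => by
    rw [LinearMap.BilinForm.mem_orthogonal_iff]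
    rfl
  have hrefl : (polarBilin Q).IsRefl := fun x y h => by
    rw [polarBilin_apply_apply] at h ⊢
    rw [polar_comm]
    exact h
  have hdisj : Disjoint W (LinearMap.BilinForm.orthogonal (polarBilin Q) W) := by
    rw [Submodule.disjoint_def]
    intro x hxW hxU
    by_contra hx0
    obtain ⟨y, hyW, hy⟩ := (hW x hxW hx0).1
    exact hy ((hmem x).mp hxU y hyW)
  have hcompl := (LinearMap.BilinForm.isCompl_orthogonal_iff_disjoint hrefl).mpr hdisj
  have hdec : ∀ x : ι → F, ∃ u ∈ W, ∃ w ∈ LinearMap.BilinForm.orthogonal (polarBilin Q) W,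
      x = u + w := by
    intro x
    have : x ∈ W ⊔ LinearMap.BilinForm.orthogonal (polarBilin Q) W := by
      rw [hcompl.sup_eq_top]
      exact Submodule.mem_top
    obtain ⟨u, hu, w, hw, rfl⟩ := Submodule.mem_sup.mp this
    exact ⟨u, hu, w, hw, rfl⟩
  refine ⟨fun u hu w hw => (hmem w).mp hw u hu, hdec, fun x hx hx0 => (hW x hx hx0).2, ?_⟩
  intro u hu hu0
  obtain ⟨y, hy⟩ : ∃ y, polar (⇑Q) u y ≠ 0 := by
    by_contra hne
    push Not at hne
    exact hu0 (hQ.1 u hne)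
  obtain ⟨a, ha, b, hb, rfl⟩ := hdec y
  refine ⟨b, hb, ?_⟩
  rw [polar_add_right, polar_comm (⇑Q) u a, (hmem u).mp hu a ha, zero_add] at hy
  exact hy

theorem not_maps_into_of_finrank_lt (U W : Submodule F (ι → F))
    (h : finrank F W < finrank F U) (γ : ↥(Cfsg.isometryGroup F ⇑Q)) :
    ¬ ∀ x ∈ U, gact Q γ x ∈ W := by
  intro hk
  have hle : U ≤ W.map (Matrix.toLin'
      (((γ⁻¹ : ↥(Cfsg.isometryGroup F ⇑Q)) : GL ι F) : Matrix ι ι F)) := by
    intro u hu
    refine ⟨gact Q γ u, hk u hu, ?_⟩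
    rw [Matrix.toLin'_apply]
    exact gact_inv_gact Q γ u
  have h1 := Submodule.finrank_mono hle
  have h2 := Submodule.finrank_map_le (Matrix.toLin'
      (((γ⁻¹ : ↥(Cfsg.isometryGroup F ⇑Q)) : GL ι F) : Matrix ι ι F)) W
  omega

/-- all scalar multiples of the Siegel transformation `ρ_{x,v}` lie in `M` -/
def SIn (M : Subgroup (GL ι F)) (x v : ι → F) : Prop :=
  Q x = 0 ∧ polar (⇑Q) x v = 0 ∧
    ∀ (t : F) (hx : Q x = 0) (hxv : polar (⇑Q) x (t • v) = 0),
      ((siegIso Q x (t • v) hx hxv : ↥(Cfsg.isometryGroup F ⇑Q)) : GL ι F) ∈ M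

variable {Q} {M : Subgroup (GL ι F)}

theorem sieg_mem_congr {u u' w w' : ι → F} {hu : Q u = 0} {huw : polar (⇑Q) u w = 0}
    {hu' : Q u' = 0} {huw' : polar (⇑Q) u' w' = 0} (h1 : u = u') (h2 : w = w')
    (h : ((siegIso Q u w hu huw : ↥(Cfsg.isometryGroup F ⇑Q)) : GL ι F) ∈ M) :
    ((siegIso Q u' w' hu' huw' : ↥(Cfsg.isometryGroup F ⇑Q)) : GL ι F) ∈ M := by
  subst h1
  subst h2
  exact h

theorem SIn.mem {x v : ι → F} (h : SIn Q M x v) (hx : Q x = 0) (hxv : polar (⇑Q) x v = 0) :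
    ((siegIso Q x v hx hxv : ↥(Cfsg.isometryGroup F ⇑Q)) : GL ι F) ∈ M :=
  sieg_mem_congr rfl (one_smul F v) (h.2.2 1 hx (by rw [one_smul]; exact hxv))

theorem SIn.add {x v v' : ι → F} (h : SIn Q M x v) (h' : SIn Q M x v') :
    SIn Q M x (v + v') := by
  refine ⟨h.1, by rw [polar_add_right, h.2.1, h'.2.1, add_zero], fun t hx hxv => ?_⟩
  have h1 : polar (⇑Q) x (t • v) = 0 := by rw [polar_smul_right, h.2.1, smul_zero]
  have h2 : polar (⇑Q) x (t • v') = 0 := by rw [polar_smul_right, h'.2.1, smul_zero]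
  have e := siegIso_mul Q x (t • v) (t • v') hx h1 h2
  have hm : ((siegIso Q x (t • v) hx h1 * siegIso Q x (t • v') hx h2 :
      ↥(Cfsg.isometryGroup F ⇑Q)) : GL ι F) ∈ M :=
    M.mul_mem (h.2.2 t hx h1) (h'.2.2 t hx h2)
  rw [e] at hm
  exact sieg_mem_congr rfl (smul_add t v v').symm hm

theorem SIn.smul {x v : ι → F} (h : SIn Q M x v) (c : F) : SIn Q M x (c • v) := by
  refine ⟨h.1, by rw [polar_smul_right, h.2.1, smul_zero], fun t hx hxv => ?_⟩
  have h1 : polar (⇑Q) x ((t * c) • v) = 0 := by rw [polar_smul_right, h.2.1, smul_zero]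
  exact sieg_mem_congr rfl (mul_smul t c v) (h.2.2 (t * c) hx h1)

theorem SIn.neg {x v : ι → F} (h : SIn Q M x v) : SIn Q M x (-v) := by
  have := h.smul (-1)
  rwa [neg_one_smul] at this

theorem SIn.sub {x v v' : ι → F} (h : SIn Q M x v) (h' : SIn Q M x v') :
    SIn Q M x (v - v') := by
  rw [sub_eq_add_neg]
  exact h.add h'.neg

theorem SIn.conj {x v : ι → F} (h : SIn Q M x v) (g : ↥(Cfsg.isometryGroup F ⇑Q))
    (hg : (g : GL ι F) ∈ M) : SIn Q M (gact Q g x) (gact Q g v) := by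
  refine ⟨by rw [Q_gact, h.1], by rw [polar_gact, h.2.1], fun t hx hxv => ?_⟩
  have h1 : polar (⇑Q) x (t • v) = 0 := by rw [polar_smul_right, h.2.1, smul_zero]
  have e := conj_siegIso Q g x (t • v) h.1 h1
  have hm : ((g * siegIso Q x (t • v) h.1 h1 * g⁻¹ : ↥(Cfsg.isometryGroup F ⇑Q)) : GL ι F) ∈ M :=
    M.mul_mem (M.mul_mem hg (h.2.2 t h.1 h1)) (M.inv_mem hg)
  rw [e] at hm
  exact sieg_mem_congr rfl (gact_smul Q g t v) hm

theorem OrX_of_SIn {x : ι → F} (hx : Q x = 0)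
    (h : ∀ v, polar (⇑Q) x v = 0 → SIn Q M x v) : OrX Q M x :=
  ⟨hx, fun w hu huw => (h w huw).mem hu huw⟩

variable (Q)

theorem sieg_stab_of_mem (U : Submodule F (ι → F)) (u w : ι → F) (huU : u ∈ U) (hwU : w ∈ U)
    (hu : Q u = 0) (huw : polar (⇑Q) u w = 0) :
    ((siegIso Q u w hu huw : ↥(Cfsg.isometryGroup F ⇑Q)) : GL ι F) ∈
      Cfsg.Geo.subspaceStabilizer U := by
  apply mem_subspaceStabilizer_of_forall'
  intro x hx
  change gact Q (siegIso Q u w hu huw) x ∈ U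
  rw [gact_siegIso]
  exact U.add_mem (U.add_mem hx (U.smul_mem _ huU)) (U.smul_mem _ hwU)

theorem sieg_stab_of_perp (U : Submodule F (ι → F)) (u w : ι → F)
    (h1 : ∀ x ∈ U, polar (⇑Q) u x = 0) (h2 : ∀ x ∈ U, polar (⇑Q) w x = 0)
    (hu : Q u = 0) (huw : polar (⇑Q) u w = 0) :
    ((siegIso Q u w hu huw : ↥(Cfsg.isometryGroup F ⇑Q)) : GL ι F) ∈
      Cfsg.Geo.subspaceStabilizer U := by
  apply mem_subspaceStabilizer_of_forall'
  intro x hx
  change gact Q (siegIso Q u w hu huw) x ∈ U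
  rw [gact_siegIso, h1 x hx, h2 x hx]
  simp only [mul_zero, sub_zero, zero_smul, neg_zero, add_zero]
  exact hx

/-- the product of two reflections as a matrix isometry -/
noncomputable def rr (a b : ι → F) : ↥(Cfsg.isometryGroup F ⇑Q) :=
  (isoEquiv (⇑Q) Q (fun _ => rfl)).symm (reflA Q a * reflA Q b)

theorem gact_rr (a b x : ι → F) :
    gact Q (rr Q a b) x = (reflA Q a).1 ((reflA Q b).1 x) := by
  unfold rr
  rw [gact_def]
  exact isoEquiv_symm_mulVec (⇑Q) Q (fun _ => rfl) _ x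

theorem rr_mem_Omega [Finite F] (hQ : (polarBilin Q).Nondegenerate) (a b : ι → F)
    (ha : Q a ≠ 0) (hab : Q a = Q b) : rr Q a b ∈ Cfsg.Omega F ⇑Q := by
  unfold rr
  show _ ∈ commutator _
  rw [mem_commutator_iff_of_equiv (isoEquiv (⇑Q) Q (fun _ => rfl)), MulEquiv.apply_symm_apply]
  exact reflA_mul_mem_commutator Q hQ a b ha hab

theorem image_le_of_sing (U Y Y' : Submodule F (ι → F))
    (hYY' : ∀ y ∈ Y, ∀ y' ∈ Y', polar (⇑Q) y y' = 0)
    (γ : ↥(Cfsg.isometryGroup F ⇑Q))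
    (hs : ∀ s ∈ U, Q s = 0 → gact Q γ s ∈ Y ∨ gact Q γ s ∈ Y')
    (e e' : ι → F) (heU : e ∈ U) (he'U : e' ∈ U) (he : Q e = 0) (he' : Q e' = 0)
    (hee' : polar (⇑Q) e e' = 1) (hγe : gact Q γ e ∈ Y) : ∀ y ∈ U, gact Q γ y ∈ Y := by
  have key : ∀ s ∈ U, Q s = 0 → polar (⇑Q) s e ≠ 0 → gact Q γ s ∈ Y := by
    intro s hsU hs0 hse
    rcases hs s hsU hs0 with h | h
    · exact h
    · exfalso
      apply hse
      rw [← polar_gact Q γ, polar_comm]
      exact hYY' _ hγe _ h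
  have hγe' : gact Q γ e' ∈ Y := key e' he'U he' (by
    rw [polar_comm, hee']
    exact one_ne_zero)
  intro y hy
  obtain ⟨hxe, hxe'⟩ := hyp_proj Q e e' y he he' hee'
  obtain ⟨x, hx⟩ : ∃ x, x = y - polar (⇑Q) y e' • e - polar (⇑Q) y e • e' := ⟨_, rfl⟩
  rw [← hx] at hxe hxe'
  have hxU : x ∈ U := by
    rw [hx]
    exact U.sub_mem (U.sub_mem hy (U.smul_mem _ heU)) (U.smul_mem _ he'U)
  have hsY := key (x - Q x • e + e') (U.add_mem (U.sub_mem hxU (U.smul_mem _ heU)) he'U)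
    (hyp_sing Q e e' x he he' hee' hxe hxe') (by
      rw [polar_add_left, polar_sub_left, polar_smul_left, hxe, polar_self, he,
        polar_comm (⇑Q) e' e, hee']
      simp)
  have hyx : y = (x - Q x • e + e') + Q x • e - e' + polar (⇑Q) y e' • e +
      polar (⇑Q) y e • e' := by
    rw [hx]
    abel
  obtain ⟨c₁, hc₁⟩ : ∃ c₁, c₁ = polar (⇑Q) y e' := ⟨_, rfl⟩
  obtain ⟨c₂, hc₂⟩ : ∃ c₂, c₂ = polar (⇑Q) y e := ⟨_, rfl⟩
  rw [← hc₁, ← hc₂] at hyx
  rw [hyx, gact_add, gact_add, gact_sub, gact_add, gact_smul, gact_smul, gact_smul]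
  exact Y.add_mem (Y.add_mem (Y.sub_mem (Y.add_mem hsY (Y.smul_mem _ hγe)) hγe')
    (Y.smul_mem _ hγe)) (Y.smul_mem _ hγe')

theorem mem_of_sieg_form (Y : Submodule F (ι → F)) (y a b : ι → F) (c κ : F) (hκ : κ ≠ 0)
    (hy : y ∈ Y) (h : y + (-(c * κ)) • a + (-κ) • b ∈ Y) : b + c • a ∈ Y := by
  have h2 := Y.smul_mem κ⁻¹ (Y.sub_mem hy h)
  have e : κ⁻¹ • (y - (y + (-(c * κ)) • a + (-κ) • b)) = b + c • a := by
    have e1 : y - (y + (-(c * κ)) • a + (-κ) • b) = κ • (b + c • a) := by module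
    rw [e1, smul_smul, inv_mul_cancel₀ hκ, one_smul]
  rwa [e] at h2

end pairs

section main
universe u
variable {F : Type u} [Field F] [Fintype F] {ι : Type} [Fintype ι] [DecidableEq ι]
variable (Q : QuadraticForm F (ι → F))
variable {U W : Submodule F (ι → F)} {M : Subgroup (GL ι F)}

theorem SIn_of_mem_left (hQ : (polarBilin Q).Nondegenerate) (hP : OrthPair Q U W)
    (h7 : 7 ≤ finrank F U)
    (hHM : Cfsg.Geo.subspaceStabilizer U ⊓ Cfsg.Geo.omegaGL ⇑Q ≤ M)
    {x v : ι → F} (hxU : x ∈ U) (hvU : v ∈ U) (hx : Q x = 0) (hxv : polar (⇑Q) x v = 0) :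
    SIn Q M x v := by
  have h5 : 5 ≤ Fintype.card ι := by
    have := hP.finrank_add
    omega
  refine ⟨hx, hxv, fun t hx' hxv' => hHM ⟨sieg_stab_of_mem Q U x (t • v) hxU (U.smul_mem _ hvU)
    hx' hxv', ?_⟩⟩
  exact (mem_omegaGL_iff Q _).mpr ⟨_, siegIso_mem_Omega Q hQ h5 x (t • v) hx' hxv', rfl⟩

theorem SIn_of_mem_right (hQ : (polarBilin Q).Nondegenerate) (hP : OrthPair Q U W)
    (h7 : 7 ≤ finrank F U)
    (hHM : Cfsg.Geo.subspaceStabilizer U ⊓ Cfsg.Geo.omegaGL ⇑Q ≤ M)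
    {x v : ι → F} (hxW : x ∈ W) (hvW : v ∈ W) (hx : Q x = 0) (hxv : polar (⇑Q) x v = 0) :
    SIn Q M x v := by
  have h5 : 5 ≤ Fintype.card ι := by
    have := hP.finrank_add
    omega
  refine ⟨hx, hxv, fun t hx' hxv' => hHM ⟨sieg_stab_of_perp Q U x (t • v)
    (fun y hy => by rw [polar_comm]; exact hP.orth y hy x hxW)
    (fun y hy => by rw [polar_comm]; exact hP.orth y hy _ (W.smul_mem _ hvW)) hx' hxv', ?_⟩⟩
  exact (mem_omegaGL_iff Q _).mpr ⟨_, siegIso_mem_Omega Q hQ h5 x (t • v) hx' hxv', rfl⟩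

/-- if all conjugated Siegel transformations of `U` stabilise `U`, singular vectors of `U` are
mapped into `U` or into `W` -/
theorem sing_image_pure (hP : OrthPair Q U W) (h7 : 7 ≤ finrank F U)
    (γ : ↥(Cfsg.isometryGroup F ⇑Q))
    (hst : ∀ u ∈ U, ∀ w ∈ U, ∀ (hu : Q u = 0) (huw : polar (⇑Q) u w = 0), ∀ y ∈ U,
      gact Q (γ * siegIso Q u w hu huw * γ⁻¹) y ∈ U) :
    ∀ u ∈ U, Q u = 0 → gact Q γ u ∈ U ∨ gact Q γ u ∈ W := by
  intro u huU hu
  obtain ⟨aU, haU, aW, haW, ha⟩ := hP.dec (gact Q γ u)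
  by_cases haU0 : aU = 0
  · right
    rw [ha, haU0, zero_add]
    exact haW
  by_cases haW0 : aW = 0
  · left
    rw [ha, haW0, add_zero]
    exact haU
  exfalso
  obtain ⟨x₁, hx₁U, hx₁⟩ := hP.ndU aU haU haU0
  obtain ⟨x₂, hx₂W, hx₂⟩ := hP.ndW aW haW haW0
  have hκ₁ : polar (⇑Q) (gact Q γ u) x₁ ≠ 0 := by
    rw [ha, polar_add_left, polar_comm (⇑Q) aW x₁, hP.orth x₁ hx₁U aW haW, add_zero]
    exact hx₁
  have hκ₂ : polar (⇑Q) (gact Q γ u) x₂ ≠ 0 := by
    rw [ha, polar_add_left, hP.orth aU haU x₂ hx₂W, zero_add]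
    exact hx₂
  obtain ⟨w, hwU, hw0, hw1, hw2, hw3⟩ :=
    exists_ne_zero_cut3 Q U u (gact Q γ⁻¹ x₁) (gact Q γ⁻¹ x₂) (by omega)
  obtain ⟨b, hb⟩ : ∃ b, b = gact Q γ w := ⟨_, rfl⟩
  have hb0 : b ≠ 0 := by
    rw [hb]
    exact fun h => hw0 ((gact_eq_zero_iff Q γ w).mp h)
  have hform : ∀ y, polar (⇑Q) w (gact Q γ⁻¹ y) = 0 →
      gact Q (γ * siegIso Q u w hu hw1 * γ⁻¹) y =
        y + (-(Q w * polar (⇑Q) (gact Q γ u) y)) • gact Q γ u +
          (-(polar (⇑Q) (gact Q γ u) y)) • b := by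
    intro y hy
    have e1 : polar (⇑Q) u (gact Q γ⁻¹ y) = polar (⇑Q) (gact Q γ u) y := by
      rw [← polar_gact Q γ u (gact Q γ⁻¹ y), gact_gact_inv]
    rw [gact_mul, gact_mul, gact_siegIso, hy, e1, gact_add, gact_add, gact_smul, gact_smul,
      gact_gact_inv, ← hb, zero_sub]
  have hw2' : polar (⇑Q) w (gact Q γ⁻¹ x₁) = 0 := by rw [polar_comm]; exact hw2
  have hw3' : polar (⇑Q) w (gact Q γ⁻¹ x₂) = 0 := by rw [polar_comm]; exact hw3
  have h1 := hst u huU w hwU hu hw1 x₁ hx₁U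
  rw [hform x₁ hw2'] at h1
  have hinU : b + Q w • gact Q γ u ∈ U := mem_of_sieg_form U x₁ _ b (Q w) _ hκ₁ hx₁U h1
  have hρW : gact Q (γ * siegIso Q u w hu hw1 * γ⁻¹) x₂ ∈ W := by
    apply hP.mem_right
    intro u₁ hu₁
    have hinv : (γ * siegIso Q u w hu hw1 * γ⁻¹)⁻¹ =
        γ * siegIso Q u (-w) hu (by rw [polar_neg_right, hw1, neg_zero]) * γ⁻¹ := by
      rw [_root_.mul_inv_rev, _root_.mul_inv_rev, inv_inv, siegIso_inv, ← mul_assoc]
    have h4 : gact Q (γ * siegIso Q u w hu hw1 * γ⁻¹)⁻¹ u₁ ∈ U := by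
      rw [hinv]
      exact hst u huU (-w) (U.neg_mem hwU) hu _ u₁ hu₁
    have h5 : polar (⇑Q) u₁ (gact Q (γ * siegIso Q u w hu hw1 * γ⁻¹) x₂) =
        polar (⇑Q) (gact Q (γ * siegIso Q u w hu hw1 * γ⁻¹)⁻¹ u₁) x₂ := by
      rw [← polar_gact Q (γ * siegIso Q u w hu hw1 * γ⁻¹)
        (gact Q (γ * siegIso Q u w hu hw1 * γ⁻¹)⁻¹ u₁) x₂, gact_gact_inv]
    rw [h5]
    exact hP.orth _ h4 x₂ hx₂W
  rw [hform x₂ hw3'] at hρW
  have hinW : b + Q w • gact Q γ u ∈ W := mem_of_sieg_form W x₂ _ b (Q w) _ hκ₂ hx₂W hρW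
  have hzero := hP.inter hinU hinW
  have hbx₁ : polar (⇑Q) b x₁ = 0 := by
    rw [hb, ← polar_gact Q γ⁻¹ (gact Q γ w) x₁, gact_inv_gact]
    exact hw2'
  have h6 : polar (⇑Q) (b + Q w • gact Q γ u) x₁ = 0 := by rw [hzero, polar_zero_left]
  rw [polar_add_left, hbx₁, zero_add, polar_smul_left, smul_eq_mul] at h6
  have hQw : Q w = 0 := (mul_eq_zero.mp h6).resolve_right hκ₁
  rw [hQw, zero_smul, add_zero] at hzero
  exact hb0 hzero

theorem exists_sieg_moving (hP : OrthPair Q U W) (h7 : 7 ≤ finrank F U)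
    (γ : ↥(Cfsg.isometryGroup F ⇑Q)) (hγU : ∃ x₀ ∈ U, gact Q γ x₀ ∉ U)
    (hγW : ¬ ∀ x ∈ U, gact Q γ x ∈ W) :
    ∃ u ∈ U, ∃ w ∈ U, ∃ (hu : Q u = 0) (huw : polar (⇑Q) u w = 0), ∃ y ∈ U,
      gact Q (γ * siegIso Q u w hu huw * γ⁻¹) y ∉ U := by
  by_contra hcon
  push Not at hcon
  have hs := sing_image_pure Q hP h7 γ hcon
  obtain ⟨e, heU, e', he'U, he, he', hee'⟩ := exists_hyp_pair Q U hP.ndU (by omega)
  rcases hs e heU he with h | h
  · obtain ⟨x₀, hx₀U, hx₀⟩ := hγU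
    exact hx₀ (image_le_of_sing Q U U W hP.orth γ hs e e' heU he'U he he' hee' h x₀ hx₀U)
  · apply hγW
    exact image_le_of_sing Q U W U (fun w hw u hu => by rw [polar_comm]; exact hP.orth u hu w hw)
      γ (fun s hsU hs0 => (hs s hsU hs0).symm) e e' heU he'U he he' hee' h

theorem stepA (hQ : (polarBilin Q).Nondegenerate) (hP : OrthPair Q U W)
    (h7 : 7 ≤ finrank F U)
    (hHM : Cfsg.Geo.subspaceStabilizer U ⊓ Cfsg.Geo.omegaGL ⇑Q ≤ M)
    (γ : ↥(Cfsg.isometryGroup F ⇑Q)) (hγM : (γ : GL ι F) ∈ M)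
    (hγU : ∃ x₀ ∈ U, gact Q γ x₀ ∉ U) (hγW : ¬ ∀ x ∈ U, gact Q γ x ∈ W) :
    ∃ x ∈ U, x ≠ 0 ∧ Q x = 0 ∧ ∃ w₀ ∈ W, w₀ ≠ 0 ∧ SIn Q M x w₀ := by
  obtain ⟨u, huU, w, hwU, hu, huw, y₀, hy₀U, hy₀⟩ := exists_sieg_moving Q hP h7 γ hγU hγW
  obtain ⟨ρ, hρ⟩ : ∃ ρ, ρ = γ * siegIso Q u w hu huw * γ⁻¹ := ⟨_, rfl⟩
  rw [← hρ] at hy₀
  have hρM : (ρ : GL ι F) ∈ M := by
    rw [hρ]
    exact M.mul_mem (M.mul_mem hγM ((SIn_of_mem_left Q hQ hP h7 hHM huU hwU hu huw).mem hu huw))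
      (M.inv_mem hγM)
  obtain ⟨x, hxU, hx0, hx, hx1, hx2, hx3⟩ :=
    exists_singular_cut3 Q U (gact Q γ u) (gact Q γ w) y₀ (by omega)
  have hfix : gact Q ρ x = x := by
    have e1 : polar (⇑Q) u (gact Q γ⁻¹ x) = 0 := by
      rw [← polar_gact Q γ u (gact Q γ⁻¹ x), gact_gact_inv]
      exact hx1
    have e2 : polar (⇑Q) w (gact Q γ⁻¹ x) = 0 := by
      rw [← polar_gact Q γ w (gact Q γ⁻¹ x), gact_gact_inv]
      exact hx2
    rw [hρ, gact_mul, gact_mul, gact_siegIso, e1, e2]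
    simp only [mul_zero, sub_zero, zero_smul, neg_zero, add_zero]
    exact gact_gact_inv Q γ x
  have h1 : SIn Q M x y₀ := SIn_of_mem_left Q hQ hP h7 hHM hxU hy₀U hx
    (by rw [polar_comm]; exact hx3)
  have h2 := h1.conj ρ hρM
  rw [hfix] at h2
  obtain ⟨pU, hpU, pW, hpW, hp⟩ := hP.dec (gact Q ρ y₀)
  have hpW0 : pW ≠ 0 := by
    intro h0
    apply hy₀
    rw [hp, h0, add_zero]
    exact hpU
  have hxpU : polar (⇑Q) x pU = 0 := by
    have := h2.2.1
    rw [hp, polar_add_right, hP.orth x hxU pW hpW, add_zero] at this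
    exact this
  have h3 : SIn Q M x pU := SIn_of_mem_left Q hQ hP h7 hHM hxU hpU hx hxpU
  have h4 := h2.sub h3
  have e : gact Q ρ y₀ - pU = pW := by
    rw [hp]
    abel
  rw [e] at h4
  exact ⟨x, hxU, hx0, hx, pW, hpW, hpW0, h4⟩

theorem stepB (hQ : (polarBilin Q).Nondegenerate) (hP : OrthPair Q U W)
    (h7 : 7 ≤ finrank F U)
    (hHM : Cfsg.Geo.subspaceStabilizer U ⊓ Cfsg.Geo.omegaGL ⇑Q ≤ M)
    (hex : ¬ (Fintype.card F ≤ 3 ∧ finrank F W = 2 ∧ ∃ s ∈ W, s ≠ 0 ∧ Q s = 0))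
    {x w₀ : ι → F} (hxU : x ∈ U) (hx0 : x ≠ 0) (hx : Q x = 0) (hw₀W : w₀ ∈ W) (hw₀0 : w₀ ≠ 0)
    (h0 : SIn Q M x w₀) : ∀ v ∈ W, SIn Q M x v := by
  have hadd : ∀ a b, SIn Q M x a → SIn Q M x b → SIn Q M x (a + b) := fun a b ha hb => ha.add hb
  have hsmul : ∀ (c : F) a, SIn Q M x a → SIn Q M x (c • a) := fun c a ha => ha.smul c
  have hpos : 0 < finrank F W :=
    Module.finrank_pos_iff_exists_ne_zero.mpr ⟨⟨w₀, hw₀W⟩, fun h => hw₀0 (congrArg Subtype.val h)⟩
  by_cases h3 : 3 ≤ finrank F W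
  · apply irred_big Q W hP.ndW h3 (SIn Q M x) hadd hsmul ?_ w₀ hw₀W hw₀0 h0
    intro s hsW w hwW hs hsw y hyW hPy
    have hg := (SIn_of_mem_right Q hQ hP h7 hHM hsW hwW hs hsw).mem hs hsw
    have h4 := hPy.conj (siegIso Q s w hs hsw) hg
    have hfix : gact Q (siegIso Q s w hs hsw) x = x := by
      rw [gact_siegIso, polar_comm (⇑Q) w x, hP.orth x hxU w hwW, polar_comm (⇑Q) s x,
        hP.orth x hxU s hsW]
      simp
    rwa [hfix] at h4
  · by_cases h1 : finrank F W = 1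
    · exact irred_line W h1 (SIn Q M x) hsmul w₀ hw₀W hw₀0 h0
    · have h2 : finrank F W = 2 := by omega
      apply plane_irred Q W hP.ndW h2 (fun h => hex ⟨h.1, h2, h.2⟩) (SIn Q M x) hadd hsmul ?_
        w₀ hw₀W hw₀0 h0
      intro a haW hQa y hyW hPy hay
      obtain ⟨b, hbU, hxb, hQb⟩ := exists_value_perp Q hP.ndU (by omega) hxU hx0 hx (Q a)
      have hΩ := rr_mem_Omega Q hQ a b hQa hQb.symm
      have hstab : ((rr Q a b : ↥(Cfsg.isometryGroup F ⇑Q)) : GL ι F) ∈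
          Cfsg.Geo.subspaceStabilizer U := by
        apply mem_subspaceStabilizer_of_forall'
        intro z hz
        change gact Q (rr Q a b) z ∈ U
        have hz' : z - ((Q b)⁻¹ * polar (⇑Q) b z) • b ∈ U := U.sub_mem hz (U.smul_mem _ hbU)
        rw [gact_rr, reflA_apply, reflA_apply, polar_comm (⇑Q) a, hP.orth _ hz' a haW, mul_zero,
          zero_smul, sub_zero]
        exact hz'
      have hM : ((rr Q a b : ↥(Cfsg.isometryGroup F ⇑Q)) : GL ι F) ∈ M :=
        hHM ⟨hstab, (mem_omegaGL_iff Q _).mpr ⟨_, hΩ, rfl⟩⟩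
      have h5 := hPy.conj (rr Q a b) hM
      have hfix : gact Q (rr Q a b) x = x := by
        rw [gact_rr, reflA_apply, reflA_apply, polar_comm (⇑Q) b x, hxb, mul_zero, zero_smul,
          sub_zero, polar_comm (⇑Q) a x, hP.orth x hxU a haW, mul_zero, zero_smul, sub_zero]
      have hy' : gact Q (rr Q a b) y = y - ((Q a)⁻¹ * polar (⇑Q) a y) • a := by
        rw [gact_rr, reflA_apply, reflA_apply, hP.orth b hbU y hyW, mul_zero, zero_smul, sub_zero]
      rw [hfix, hy'] at h5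
      have h6 := hPy.sub h5
      rw [sub_sub_cancel] at h6
      have h7' := h6.smul ((Q a)⁻¹ * polar (⇑Q) a y)⁻¹
      rwa [smul_smul, inv_mul_cancel₀ (mul_ne_zero (inv_ne_zero hQa) hay), one_smul] at h7'

theorem stepC (hQ : (polarBilin Q).Nondegenerate) (hP : OrthPair Q U W)
    (h7 : 7 ≤ finrank F U)
    (hHM : Cfsg.Geo.subspaceStabilizer U ⊓ Cfsg.Geo.omegaGL ⇑Q ≤ M)
    {x : ι → F} (hxU : x ∈ U) (hx0 : x ≠ 0) (hx : Q x = 0) (hX : OrX Q M x) :
    Cfsg.Geo.omegaGL ⇑Q ≤ M := by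
  have h5 : 5 ≤ Fintype.card ι := by
    have := hP.finrank_add
    omega
  obtain ⟨e, heU, he, hxe⟩ := exists_partner Q U hP.ndU hxU hx0 hx
  obtain ⟨w, hwU, hew, hQw⟩ : ∃ w ∈ U, polar (⇑Q) e w = 0 ∧ Q w ≠ 0 := by
    obtain ⟨z, hzU, hz0, hz1, hz2⟩ := exists_ne_zero_cut2 Q U x e (by omega)
    by_cases hQz : Q z = 0
    · obtain ⟨y, hyU, hy⟩ := hP.ndU z hzU hz0
      obtain ⟨hy'x, hy'e⟩ := hyp_proj Q x e y hx he hxe
      obtain ⟨y', hy'⟩ : ∃ y', y' = y - polar (⇑Q) y e • x - polar (⇑Q) y x • e := ⟨_, rfl⟩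
      rw [← hy'] at hy'x hy'e
      have hy'U : y' ∈ U := by
        rw [hy']
        exact U.sub_mem (U.sub_mem hyU (U.smul_mem _ hxU)) (U.smul_mem _ heU)
      have hzy' : polar (⇑Q) z y' ≠ 0 := by
        rw [hy', polar_sub_right, polar_sub_right, polar_smul_right, polar_smul_right,
          polar_comm (⇑Q) z x, hz1, polar_comm (⇑Q) z e, hz2, smul_zero, smul_zero, sub_zero,
          sub_zero]
        exact hy
      by_cases hQy' : Q y' = 0
      · refine ⟨z + y', U.add_mem hzU hy'U, ?_, ?_⟩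
        · rw [polar_add_right, hz2, polar_comm (⇑Q) e y', hy'e, add_zero]
        · rw [Q_add, hQz, hQy', zero_add, zero_add]
          exact hzy'
      · exact ⟨y', hy'U, by rw [polar_comm]; exact hy'e, hQy'⟩
    · exact ⟨z, hzU, hz2, hQz⟩
  have hρM := (SIn_of_mem_left Q hQ hP h7 hHM heU hwU he hew).mem he hew
  have hX2 := hX.map (siegIso Q e w he hew) hρM
  have hne : polar (⇑Q) x (gact Q (siegIso Q e w he hew) x) ≠ 0 := by
    have hex1 : polar (⇑Q) e x = 1 := by rw [polar_comm]; exact hxe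
    rw [polar_gact_siegIso_self e w x he hew hx, hex1]
    simpa using hQw
  apply omegaGL_le_of_forall hQ h5
  intro z hz
  exact OrX.all hQ hX hX2 hne z hz

/-- **The stabiliser of a non-degenerate subspace is maximal in `Ω`.** -/
theorem orth_nondeg_stabilizer_maximal (hQ : (polarBilin Q).Nondegenerate)
    (hP : OrthPair Q U W) (h7 : 7 ≤ finrank F U) (hW0 : W ≠ ⊥)
    (hni : ∀ γ : ↥(Cfsg.isometryGroup F ⇑Q), ¬ ∀ x ∈ U, gact Q γ x ∈ W)
    (hex : ¬ (Fintype.card F ≤ 3 ∧ finrank F W = 2 ∧ ∃ s ∈ W, s ≠ 0 ∧ Q s = 0)) :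
    Cfsg.Geo.IsMaximalIn (Cfsg.Geo.omegaGL ⇑Q)
      (Cfsg.Geo.subspaceStabilizer U ⊓ Cfsg.Geo.omegaGL ⇑Q) := by
  have h5 : 5 ≤ Fintype.card ι := by
    have := hP.finrank_add
    omega
  constructor
  · rw [SetLike.lt_iff_le_and_exists]
    refine ⟨inf_le_right, ?_⟩
    obtain ⟨w₀, hw₀W, hw₀0⟩ := (Submodule.ne_bot_iff W).mp hW0
    obtain ⟨x, hxU, hx0, hx⟩ := exists_singular_sub Q U (by omega)
    have hxw : polar (⇑Q) x w₀ = 0 := hP.orth x hxU w₀ hw₀W
    refine ⟨_, (mem_omegaGL_iff Q _).mpr ⟨_, siegIso_mem_Omega Q hQ h5 x w₀ hx hxw, rfl⟩, ?_⟩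
    rintro ⟨hs, -⟩
    obtain ⟨y, hyU, hy⟩ := hP.ndU x hxU hx0
    have h1 := (hs y).mp hyU
    change gact Q (siegIso Q x w₀ hx hxw) y ∈ U at h1
    rw [gact_siegIso] at h1
    have h2 : (-(polar (⇑Q) x y)) • w₀ ∈ U := by
      have := U.sub_mem h1 (U.add_mem hyU
        (U.smul_mem (polar (⇑Q) w₀ y - Q w₀ * polar (⇑Q) x y) hxU))
      rwa [add_sub_cancel_left] at this
    have h3 : w₀ ∈ U := by
      have := U.smul_mem (-(polar (⇑Q) x y))⁻¹ h2
      rwa [smul_smul, inv_mul_cancel₀ (neg_ne_zero.mpr hy), one_smul] at this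
    exact hw₀0 (hP.inter h3 hw₀W)
  · intro M hHM hMΩ
    by_cases hMH : M ≤ Cfsg.Geo.subspaceStabilizer U ⊓ Cfsg.Geo.omegaGL ⇑Q
    · left
      exact le_antisymm hMH hHM
    · right
      apply le_antisymm hMΩ
      obtain ⟨g, hgM, hgH⟩ := SetLike.not_le_iff_exists.mp hMH
      obtain ⟨γ, hγΩ, rfl⟩ := (mem_omegaGL_iff Q g).mp (hMΩ hgM)
      have hγU : ∃ x₀ ∈ U, gact Q γ x₀ ∉ U := by
        by_contra hcon
        push Not at hcon
        exact hgH ⟨mem_subspaceStabilizer_of_forall' _ U hcon, hMΩ hgM⟩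
      obtain ⟨x, hxU, hx0, hx, w₀, hw₀W, hw₀0, h0⟩ := stepA Q hQ hP h7 hHM γ hgM hγU (hni γ)
      have hall := stepB Q hQ hP h7 hHM hex hxU hx0 hx hw₀W hw₀0 h0
      have hX : OrX Q M x := by
        apply OrX_of_SIn hx
        intro v hxv
        obtain ⟨vU, hvU, vW, hvW, rfl⟩ := hP.dec v
        have hxvU : polar (⇑Q) x vU = 0 := by
          rw [polar_add_right, hP.orth x hxU vW hvW, add_zero] at hxv
          exact hxv
        exact (SIn_of_mem_left Q hQ hP h7 hHM hxU hvU hx hxvU).add (hall vW hvW)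
      exact stepC Q hQ hP h7 hHM hxU hx0 hx hX

/-- a plane with a nonzero singular vector is of plus type -/
theorem plusType_of_singular (S : Submodule F (ι → F)) (h2 : finrank F S = 2) (s : ι → F)
    (hsS : s ∈ S) (hs0 : s ≠ 0) (hs : Q s = 0) : Cfsg.Geo.IsPlusTypeOn (⇑Q) S := by
  refine ⟨Submodule.span F {s}, ?_, ?_, ?_⟩
  · rw [Submodule.span_le]
    rintro _ rfl
    exact hsS
  · intro w hw
    obtain ⟨c, rfl⟩ := Submodule.mem_span_singleton.mp hw
    rw [Q_smul, hs, mul_zero]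
  · rw [finrank_span_singleton hs0, h2]

/-- **General form for an arbitrary non-degenerate subspace `W`** (either of `W`, `W^⊥` may be the
larger one). -/
theorem nondeg_stabilizer_maximal (hQ : (polarBilin Q).Nondegenerate)
    (h13 : 13 ≤ Fintype.card ι) (W : Submodule F (ι → F)) (hW0 : W ≠ ⊥) (hW1 : W ≠ ⊤)
    (hW : Cfsg.Geo.IsNondegenerateOn (polar (⇑Q)) W)
    (hni : finrank F W ≠ finrank F (LinearMap.BilinForm.orthogonal (polarBilin Q) W) ∨
      ∀ γ : ↥(Cfsg.isometryGroup F ⇑Q),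
        ¬ ∀ x ∈ W, gact Q γ x ∈ LinearMap.BilinForm.orthogonal (polarBilin Q) W)
    (hexW : ¬ (Fintype.card F ≤ 3 ∧ finrank F W = 2 ∧ ∃ s ∈ W, s ≠ 0 ∧ Q s = 0))
    (hexW' : ¬ (Fintype.card F ≤ 3 ∧
      finrank F (LinearMap.BilinForm.orthogonal (polarBilin Q) W) = 2 ∧
      ∃ s ∈ LinearMap.BilinForm.orthogonal (polarBilin Q) W, s ≠ 0 ∧ Q s = 0)) :
    Cfsg.Geo.IsMaximalIn (Cfsg.Geo.omegaGL ⇑Q)
      (Cfsg.Geo.subspaceStabilizer W ⊓ Cfsg.Geo.omegaGL ⇑Q) := by
  have hP := orthPair_of_nondeg Q hQ W hW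
  have hfr := hP.finrank_add
  by_cases hle : finrank F (LinearMap.BilinForm.orthogonal (polarBilin Q) W) ≤ finrank F W
  · have hW'0 : LinearMap.BilinForm.orthogonal (polarBilin Q) W ≠ ⊥ := by
      intro h0
      apply hW1
      apply Submodule.eq_top_of_finrank_eq
      rw [h0, finrank_bot, add_zero] at hfr
      rw [hfr, Module.finrank_fintype_fun_eq_card]
    refine orth_nondeg_stabilizer_maximal Q hQ hP (by omega) hW'0 ?_ hexW'
    rcases hni with h | h
    · exact not_maps_into_of_finrank_lt Q _ _ (by omega)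
    · exact h
  · rw [← hP.stab_eq]
    exact orth_nondeg_stabilizer_maximal Q hQ hP.symm (by omega) hW0
      (not_maps_into_of_finrank_lt Q _ _ (by omega)) hexW

end main

end Cfsg.Agent.Lib.Helper13.OND
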