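import Mathlib
import Cfsg.Agent.Lib.Helper13.OrthNondeg

/-!
# Unitary structures on a quadratic space: definitions

`Q` is a quadratic form on `F^ι` and `δ` a matrix with `δ² = τ δ - ν`, `x² - τ x + ν` irreducible,
whose adjoint for the polar form is `τ - δ` and with `Q (δ v) = ν Q v`: then `K = F[δ]` is a
quadratic field acting on `F^ι`, and `Q` is the norm of a `K`-Hermitian form.  For a singular `x`
the `K`-line `Kl δ x = ⟨x, δ x⟩` is totally singular and the Siegel elements `ρ_{x, δ x}` (the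
unitary transvections) commute with `δ`.  For a subgroup `M` we let `Lsub M v` be the subspace of
the `w ⟂ v` with `ρ_{v,w} ∈ M`.
-/

set_option autoImplicit false
set_option linter.unusedSectionVars false
set_option linter.unusedVariables false

namespace Cfsg.Agent.Lib.Helper13

open Matrix Module QuadraticMap Cfsg.Agent.Lib.Helper6 Cfsg.Agent.Lib.Helper13.OND

section uom
universe u
variable {F : Type u} [Field F] {ι : Type} [Fintype ι] [DecidableEq ι]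
variable (Q : QuadraticForm F (ι → F))

/-- a quadratic field `F[δ]` of matrices making `Q` the norm of a Hermitian form -/
structure UStr (δ : Matrix ι ι F) (τ ν : F) : Prop where
  adj : ∀ u v, polar (⇑Q) (δ *ᵥ u) v + polar (⇑Q) u (δ *ᵥ v) = τ * polar (⇑Q) u v
  sq : δ * δ = τ • δ - ν • (1 : Matrix ι ι F)
  sc : ∀ v, Q (δ *ᵥ v) = ν * Q v
  pol : ∀ v, polar (⇑Q) v (δ *ᵥ v) = τ * Q v
  irr : ∀ a : F, a ^ 2 - τ * a + ν ≠ 0

/-- the `K`-line of `x` -/
def Kl (δ : Matrix ι ι F) (x : ι → F) : Submodule F (ι → F) :=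
  Submodule.span F {x, δ *ᵥ x}

theorem mem_Kl {δ : Matrix ι ι F} {x w : ι → F} :
    w ∈ Kl δ x ↔ ∃ a b : F, w = a • x + b • (δ *ᵥ x) := by
  unfold Kl
  rw [Submodule.mem_span_pair]
  constructor
  · rintro ⟨a, b, h⟩
    exact ⟨a, b, h.symm⟩
  · rintro ⟨a, b, h⟩
    exact ⟨a, b, h.symm⟩

theorem self_mem_Kl (δ : Matrix ι ι F) (x : ι → F) : x ∈ Kl δ x :=
  Submodule.subset_span (by simp)

theorem delta_mem_Kl (δ : Matrix ι ι F) (x : ι → F) : δ *ᵥ x ∈ Kl δ x :=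
  Submodule.subset_span (by simp)

/-- the orthogonal complement of the `K`-line of `x` -/
def KPerp (δ : Matrix ι ι F) (x : ι → F) : Submodule F (ι → F) :=
  LinearMap.ker (polarBilin Q x) ⊓ LinearMap.ker (polarBilin Q (δ *ᵥ x))

variable {Q}

theorem mem_KPerp {δ : Matrix ι ι F} {x w : ι → F} :
    w ∈ KPerp Q δ x ↔ polar (⇑Q) x w = 0 ∧ polar (⇑Q) (δ *ᵥ x) w = 0 := by
  unfold KPerp
  simp only [Submodule.mem_inf, LinearMap.mem_ker, polarBilin_apply_apply]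

variable {δ : Matrix ι ι F} {τ ν : F}

theorem UStr.adj' (hU : UStr Q δ τ ν) (u v : ι → F) :
    polar (⇑Q) u (δ *ᵥ v) = τ * polar (⇑Q) u v - polar (⇑Q) (δ *ᵥ u) v := by
  have := hU.adj u v
  linear_combination this

theorem UStr.adj'' (hU : UStr Q δ τ ν) (u v : ι → F) :
    polar (⇑Q) (δ *ᵥ u) v = τ * polar (⇑Q) u v - polar (⇑Q) u (δ *ᵥ v) := by
  have := hU.adj u v
  linear_combination this

theorem UStr.dd (hU : UStr Q δ τ ν) (x : ι → F) :
    δ *ᵥ (δ *ᵥ x) = τ • (δ *ᵥ x) - ν • x := by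
  rw [mulVec_mulVec, hU.sq, sub_mulVec, smul_mulVec, smul_mulVec, one_mulVec]

theorem UStr.polar_dd (hU : UStr Q δ τ ν) (u v : ι → F) :
    polar (⇑Q) (δ *ᵥ u) (δ *ᵥ v) = ν * polar (⇑Q) u v := by
  have h1 := hU.sc (u + v)
  rw [mulVec_add, Q_add, Q_add, hU.sc, hU.sc] at h1
  linear_combination h1

theorem UStr.nu_ne (hU : UStr Q δ τ ν) : ν ≠ 0 := by
  intro h0
  have := hU.irr 0
  rw [h0] at this
  simp at this

/-- the norm of `a + b δ` -/
theorem UStr.norm_ne (hU : UStr Q δ τ ν) {a b : F} (hab : a ≠ 0 ∨ b ≠ 0) :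
    a ^ 2 + a * b * τ + b ^ 2 * ν ≠ 0 := by
  by_cases hb : b = 0
  · subst hb
    have ha : a ≠ 0 := by tauto
    simpa using ha
  · intro h0
    apply hU.irr (-(a / b))
    field_simp
    linear_combination h0

theorem UStr.Q_comb (hU : UStr Q δ τ ν) (a b : F) (x : ι → F) :
    Q (a • x + b • (δ *ᵥ x)) = (a ^ 2 + a * b * τ + b ^ 2 * ν) * Q x := by
  rw [Q_add, Q_smul, Q_smul, hU.sc, polar_smul_left, polar_smul_right, hU.pol]
  simp only [smul_eq_mul]
  ring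

/-- `K` acts freely -/
theorem UStr.comb_eq_zero (hU : UStr Q δ τ ν) {a b : F} {x : ι → F} (hx : x ≠ 0)
    (h : a • x + b • (δ *ᵥ x) = 0) : a = 0 ∧ b = 0 := by
  by_contra hne
  have hab : a ≠ 0 ∨ b ≠ 0 := by
    by_contra h2
    push Not at h2
    exact hne h2
  have hN := hU.norm_ne hab
  apply hx
  -- multiply by the conjugate `(a + b τ) - b δ`
  have h1 : (a + b * τ) • (a • x + b • (δ *ᵥ x)) - b • (δ *ᵥ (a • x + b • (δ *ᵥ x))) =
      (a ^ 2 + a * b * τ + b ^ 2 * ν) • x := by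
    rw [mulVec_add, mulVec_smul, mulVec_smul, hU.dd]
    module
  rw [h, mulVec_zero, smul_zero, smul_zero, sub_zero] at h1
  exact (smul_eq_zero.mp h1.symm).resolve_left hN

theorem UStr.delta_ne_zero (hU : UStr Q δ τ ν) {x : ι → F} (hx : x ≠ 0) : δ *ᵥ x ≠ 0 := by
  intro h0
  have := hU.comb_eq_zero (a := 0) (b := 1) hx (by rw [zero_smul, one_smul, zero_add, h0])
  exact one_ne_zero this.2

theorem UStr.Q_delta (hU : UStr Q δ τ ν) {x : ι → F} (hx : Q x = 0) : Q (δ *ᵥ x) = 0 := by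
  rw [hU.sc, hx, mul_zero]

theorem UStr.polar_self_delta (hU : UStr Q δ τ ν) {x : ι → F} (hx : Q x = 0) :
    polar (⇑Q) x (δ *ᵥ x) = 0 := by
  rw [hU.pol, hx, mul_zero]

/-- the `K`-line of a singular vector is totally singular -/
theorem UStr.Q_Kl (hU : UStr Q δ τ ν) {x w : ι → F} (hx : Q x = 0) (hw : w ∈ Kl δ x) :
    Q w = 0 := by
  obtain ⟨a, b, rfl⟩ := mem_Kl.mp hw
  rw [hU.Q_comb, hx, mul_zero]

theorem UStr.delta_mem_KPerp (hU : UStr Q δ τ ν) {x w : ι → F} (hw : w ∈ KPerp Q δ x) :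
    δ *ᵥ w ∈ KPerp Q δ x := by
  obtain ⟨h1, h2⟩ := mem_KPerp.mp hw
  refine mem_KPerp.mpr ⟨?_, ?_⟩
  · rw [hU.adj', h1, h2]
    ring
  · rw [hU.polar_dd, h1, mul_zero]

theorem UStr.KPerp_symm (hU : UStr Q δ τ ν) {x w : ι → F} (hw : w ∈ KPerp Q δ x) :
    x ∈ KPerp Q δ w := by
  obtain ⟨h1, h2⟩ := mem_KPerp.mp hw
  refine mem_KPerp.mpr ⟨by rw [polar_comm]; exact h1, ?_⟩
  rw [hU.adj'', polar_comm (⇑Q) w x, h1, polar_comm (⇑Q) w (δ *ᵥ x), h2]
  ring

theorem UStr.Kl_le_KPerp (hU : UStr Q δ τ ν) {x : ι → F} (hx : Q x = 0) :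
    Kl δ x ≤ KPerp Q δ x := by
  intro w hw
  obtain ⟨a, b, rfl⟩ := mem_Kl.mp hw
  have h1 : polar (⇑Q) x x = 0 := by rw [polar_self, hx, smul_zero]
  have h2 := hU.polar_self_delta hx
  have h3 : polar (⇑Q) (δ *ᵥ x) x = 0 := by rw [polar_comm]; exact h2
  have h4 : polar (⇑Q) (δ *ᵥ x) (δ *ᵥ x) = 0 := by rw [hU.polar_dd, h1, mul_zero]
  refine mem_KPerp.mpr ⟨?_, ?_⟩
  · rw [polar_add_right, polar_smul_right, polar_smul_right, h1, h2]
    simp
  · rw [polar_add_right, polar_smul_right, polar_smul_right, h3, h4]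
    simp

theorem UStr.delta_mem_Kl_of_mem (hU : UStr Q δ τ ν) {x w : ι → F} (hw : w ∈ Kl δ x) :
    δ *ᵥ w ∈ Kl δ x := by
  obtain ⟨a, b, rfl⟩ := mem_Kl.mp hw
  rw [mulVec_add, mulVec_smul, mulVec_smul, hU.dd]
  refine mem_Kl.mpr ⟨-(b * ν), a + b * τ, ?_⟩
  module

/-! ### Siegel elements with singular direction -/

variable {M : Subgroup (GL ι F)}

/-- for singular orthogonal `x`, `v`: `ρ_{x,v} = ρ_{v,-x}` -/
theorem siegIso_swap (x v : ι → F) (hx : Q x = 0) (hv : Q v = 0) (hxv : polar (⇑Q) x v = 0)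
    (hvx : polar (⇑Q) v (-x) = 0) :
    siegIso Q x v hx hxv = siegIso Q v (-x) hv hvx := by
  apply iso_ext_gact
  intro z
  rw [gact_siegIso, gact_siegIso, hv, QuadraticMap.map_neg, hx, polar_neg_left]
  module

theorem SIn.swap {x v : ι → F} (h : SIn Q M x v) (hv : Q v = 0) : SIn Q M v x := by
  have hvx : polar (⇑Q) v x = 0 := by rw [polar_comm]; exact h.2.1
  refine ⟨hv, hvx, fun t hv' hvt => ?_⟩
  have h1 : polar (⇑Q) x ((-t) • v) = 0 := by rw [polar_smul_right, h.2.1, smul_zero]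
  have h2 := h.2.2 (-t) h.1 h1
  have hQ1 : Q ((-t) • v) = 0 := by rw [Q_smul, hv, mul_zero]
  have h3 : polar (⇑Q) ((-t) • v) (-x) = 0 := by
    rw [polar_smul_left, polar_neg_right, hvx]
    simp
  rw [siegIso_swap x ((-t) • v) h.1 hQ1 h1 h3] at h2
  have h4 : polar (⇑Q) v (-x) = 0 := by rw [polar_neg_right, hvx, neg_zero]
  have e := siegIso_smul_left Q (-t) v (-x) hv h4
  have h5 : siegIso Q ((-t) • v) (-x) hQ1 h3 =
      siegIso Q v ((-t) • -x) hv (by rw [polar_smul_right, h4, smul_zero]) := e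
  rw [h5] at h2
  exact sieg_mem_congr rfl (by rw [smul_neg, neg_smul, neg_neg]) h2

theorem SIn.self {x : ι → F} (hx : Q x = 0) : SIn Q M x x := by
  have hxx : polar (⇑Q) x x = 0 := by rw [polar_self, hx, smul_zero]
  refine ⟨hx, hxx, fun t hx' hxt => ?_⟩
  have h0 : polar (⇑Q) x (0 : ι → F) = 0 := by simp
  have e := siegIso_add_smul Q t x 0 hx h0
  have h1 : ((siegIso Q x 0 hx h0 : ↥(Cfsg.isometryGroup F ⇑Q)) : GL ι F) ∈ M := by
    rw [siegIso_zero Q x hx]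
    exact M.one_mem
  rw [← e] at h1
  exact sieg_mem_congr rfl (zero_add _) h1

theorem SIn.zero {x : ι → F} (hx : Q x = 0) : SIn Q M x 0 := by
  have := (SIn.self (M := M) hx).smul 0
  rwa [zero_smul] at this

/-- the subspace of the directions `w` with `ρ_{v,w} ∈ M` -/
def Lsub (M : Subgroup (GL ι F)) (v : ι → F) (hv : Q v = 0) : Submodule F (ι → F) where
  carrier := {w | SIn Q M v w}
  add_mem' := fun ha hb => SIn.add ha hb
  zero_mem' := SIn.zero hv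
  smul_mem' := fun c _ hw => SIn.smul hw c

theorem mem_Lsub {v w : ι → F} {hv : Q v = 0} : w ∈ Lsub M v hv ↔ SIn Q M v w := Iff.rfl

/-- if all unitary transvections lie in `M`, the `K`-line of `v` lies in `Lsub M v` -/
theorem Kl_le_Lsub (hU : UStr Q δ τ ν) (hM : ∀ y, Q y = 0 → SIn Q M y (δ *ᵥ y))
    {v : ι → F} (hv : Q v = 0) : Kl δ v ≤ Lsub M v hv := by
  intro w hw
  obtain ⟨a, b, rfl⟩ := mem_Kl.mp hw
  exact SIn.add ((SIn.self hv).smul a) ((hM v hv).smul b)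

/-- the unitary transvection `ρ_{y, t δ y}` -/
noncomputable def utv (hU : UStr Q δ τ ν) (y : ι → F) (hy : Q y = 0) (t : F) :
    ↥(Cfsg.isometryGroup F ⇑Q) :=
  siegIso Q y (t • (δ *ᵥ y)) hy (by rw [polar_smul_right, hU.polar_self_delta hy, smul_zero])

theorem gact_utv (hU : UStr Q δ τ ν) (y : ι → F) (hy : Q y = 0) (t : F) (z : ι → F) :
    gact Q (utv hU y hy t) z =
      z + (t * polar (⇑Q) (δ *ᵥ y) z) • y - (t * polar (⇑Q) y z) • (δ *ᵥ y) := by
  unfold utv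
  rw [gact_siegIso, Q_smul, hU.Q_delta hy, polar_smul_left]
  simp only [smul_eq_mul, mul_zero, zero_mul, sub_zero]
  module

theorem utv_mem (hU : UStr Q δ τ ν) (hM : ∀ y, Q y = 0 → SIn Q M y (δ *ᵥ y))
    (y : ι → F) (hy : Q y = 0) (t : F) : ((utv hU y hy t : ↥(Cfsg.isometryGroup F ⇑Q)) : GL ι F) ∈ M :=
  (hM y hy).2.2 t hy _

/-- the unitary transvections commute with `δ` -/
theorem gact_utv_delta (hU : UStr Q δ τ ν) (y : ι → F) (hy : Q y = 0) (t : F) (z : ι → F) :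
    gact Q (utv hU y hy t) (δ *ᵥ z) = δ *ᵥ (gact Q (utv hU y hy t) z) := by
  rw [gact_utv, gact_utv, mulVec_sub, mulVec_add, mulVec_smul, mulVec_smul, hU.dd, hU.polar_dd,
    hU.adj' y z]
  module

/-- `ρ_{y, t δ y}` fixes the vectors orthogonal to the `K`-line of `y` -/
theorem gact_utv_of_mem_KPerp (hU : UStr Q δ τ ν) (y : ι → F) (hy : Q y = 0) (t : F) {z : ι → F}
    (hz : z ∈ KPerp Q δ y) : gact Q (utv hU y hy t) z = z := by
  obtain ⟨h1, h2⟩ := mem_KPerp.mp hz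
  rw [gact_utv, h1, h2]
  simp

/-- the basic move: `Lsub M v` is invariant under the unitary transvections fixing `v` -/
theorem Lsub_move (hU : UStr Q δ τ ν) (hM : ∀ y, Q y = 0 → SIn Q M y (δ *ᵥ y))
    {v : ι → F} (hv : Q v = 0) {y : ι → F} (hy : Q y = 0) (hyv : y ∈ KPerp Q δ v)
    {z : ι → F} (hz : z ∈ Lsub M v hv) :
    polar (⇑Q) (δ *ᵥ y) z • y - polar (⇑Q) y z • (δ *ᵥ y) ∈ Lsub M v hv := by
  have hvy : v ∈ KPerp Q δ y := hU.KPerp_symm hyv
  have h1 := SIn.conj hz (utv hU y hy 1) (utv_mem hU hM y hy 1)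
  rw [gact_utv_of_mem_KPerp hU y hy 1 hvy, gact_utv] at h1
  have h2 : SIn Q M v (z + (1 * polar (⇑Q) (δ *ᵥ y) z) • y - (1 * polar (⇑Q) y z) • (δ *ᵥ y) - z) :=
    SIn.sub h1 hz
  have e : z + (1 * polar (⇑Q) (δ *ᵥ y) z) • y - (1 * polar (⇑Q) y z) • (δ *ᵥ y) - z =
      polar (⇑Q) (δ *ᵥ y) z • y - polar (⇑Q) y z • (δ *ᵥ y) := by
    module
  rw [e] at h2
  exact h2

end uom

end Cfsg.Agent.Lib.Helper13
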