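import Mathlib
import Cfsg.Agent.Lib.Helper13.UOmDefs

/-!
# A nondegenerate `δ`-invariant complement of a singular `K`-line in its orthogonal complement
-/

set_option autoImplicit false
set_option linter.unusedSectionVars false
set_option linter.unusedVariables false

namespace Cfsg.Agent.Lib.Helper13

open Matrix Module QuadraticMap Cfsg.Agent.Lib.Helper6 Cfsg.Agent.Lib.Helper13.OND

section fog0
universe u
variable {F : Type u} [Field F] {ι : Type} [Fintype ι] [DecidableEq ι]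
variable {Q : QuadraticForm F (ι → F)} {δ : Matrix ι ι F} {τ ν : F}

theorem ndOn_top (hQ : (polarBilin Q).Nondegenerate) : NdOn Q ⊤ := by
  intro x _ hx
  by_contra hne
  push Not at hne
  apply hx
  apply hQ.1 x
  intro y
  exact hne y Submodule.mem_top

theorem solve_ab {β τ ν : F} (hΔ : β ^ 2 - τ * β + ν ≠ 0) (p r : F) :
    ∃ a b : F, a + b * β = p ∧ a * (τ - β) + b * ν = r := by
  obtain ⟨D, hD⟩ : ∃ D, D = β ^ 2 - τ * β + ν := ⟨_, rfl⟩
  have hD0 : D ≠ 0 := by rw [hD]; exact hΔ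
  refine ⟨p - (r - p * (τ - β)) / D * β, (r - p * (τ - β)) / D, by ring, ?_⟩
  field_simp
  rw [hD]
  ring

theorem solve_cd {β τ ν : F} (hΔ : β ^ 2 - τ * β + ν ≠ 0) (p r : F) :
    ∃ c d : F, c + d * (τ - β) = p ∧ c * β + d * ν = r := by
  obtain ⟨D, hD⟩ : ∃ D, D = β ^ 2 - τ * β + ν := ⟨_, rfl⟩
  have hD0 : D ≠ 0 := by rw [hD]; exact hΔ
  refine ⟨p - (r - β * p) / D * (τ - β), (r - β * p) / D, by ring, ?_⟩
  field_simp
  rw [hD]
  ring

/-- FO-G0 -/
theorem exists_KX [Fintype F] (hU : UStr Q δ τ ν) (hQ : (polarBilin Q).Nondegenerate)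
    (hn : 14 ≤ Fintype.card ι) (v : ι → F) (hv0 : v ≠ 0) (hv : Q v = 0) :
    ∃ X : Submodule F (ι → F), NdOn Q X ∧ Fintype.card ι ≤ finrank F X + 4 ∧
      (∀ x ∈ X, δ *ᵥ x ∈ X) ∧ X ≤ KPerp Q δ v ∧ X ⊓ Kl δ v = ⊥ ∧
      (∀ z ∈ KPerp Q δ v, ∃ k ∈ Kl δ v, ∃ x ∈ X, z = k + x) := by
  obtain ⟨v', -, hv', hvv'⟩ := exists_partner Q ⊤ (ndOn_top hQ) (Submodule.mem_top (x := v)) hv0 hv
  obtain ⟨β, hβ⟩ : ∃ β, β = polar (⇑Q) (δ *ᵥ v) v' := ⟨_, rfl⟩
  have hΔ : β ^ 2 - τ * β + ν ≠ 0 := hU.irr β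
  -- the Gram matrix
  have g1 : polar (⇑Q) v (δ *ᵥ v') = τ - β := by rw [hU.adj', hvv', ← hβ]; ring
  have g2 : polar (⇑Q) (δ *ᵥ v) (δ *ᵥ v') = ν := by rw [hU.polar_dd, hvv', mul_one]
  have g3 : polar (⇑Q) v' v = 1 := by rw [polar_comm]; exact hvv'
  have g4 : polar (⇑Q) v' (δ *ᵥ v) = β := by rw [polar_comm, ← hβ]
  have g5 : polar (⇑Q) (δ *ᵥ v') v = τ - β := by rw [polar_comm]; exact g1
  have g6 : polar (⇑Q) (δ *ᵥ v') (δ *ᵥ v) = ν := by rw [polar_comm]; exact g2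
  have z1 : polar (⇑Q) v v = 0 := by rw [polar_self, hv, smul_zero]
  have z2 : polar (⇑Q) v (δ *ᵥ v) = 0 := hU.polar_self_delta hv
  have z3 : polar (⇑Q) (δ *ᵥ v) v = 0 := by rw [polar_comm]; exact z2
  have z4 : polar (⇑Q) (δ *ᵥ v) (δ *ᵥ v) = 0 := by rw [hU.polar_dd, z1, mul_zero]
  have z1' : polar (⇑Q) v' v' = 0 := by rw [polar_self, hv', smul_zero]
  have z2' : polar (⇑Q) v' (δ *ᵥ v') = 0 := hU.polar_self_delta hv'
  have z3' : polar (⇑Q) (δ *ᵥ v') v' = 0 := by rw [polar_comm]; exact z2'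
  have z4' : polar (⇑Q) (δ *ᵥ v') (δ *ᵥ v') = 0 := by rw [hU.polar_dd, z1', mul_zero]
  refine ⟨KPerp Q δ v ⊓ KPerp Q δ v', ?_, ?_, ?_, inf_le_left, ?_, ?_⟩
  · -- nondegenerate
    intro x hx hx0
    obtain ⟨hxv, hxv'⟩ := Submodule.mem_inf.mp hx
    obtain ⟨h1, h2⟩ := mem_KPerp.mp hxv
    obtain ⟨h3, h4⟩ := mem_KPerp.mp hxv'
    obtain ⟨y₀, -, hy₀⟩ := ndOn_top hQ x Submodule.mem_top hx0
    obtain ⟨a, b, hab1, hab2⟩ := solve_ab hΔ (polar (⇑Q) v' y₀) (polar (⇑Q) (δ *ᵥ v') y₀)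
    obtain ⟨c, d, hcd1, hcd2⟩ := solve_cd hΔ (polar (⇑Q) v y₀) (polar (⇑Q) (δ *ᵥ v) y₀)
    refine ⟨y₀ - (a • v + b • (δ *ᵥ v)) - (c • v' + d • (δ *ᵥ v')), ?_, ?_⟩
    · refine Submodule.mem_inf.mpr ⟨mem_KPerp.mpr ⟨?_, ?_⟩, mem_KPerp.mpr ⟨?_, ?_⟩⟩
      · simp only [polar_sub_right, polar_add_right, polar_smul_right, smul_eq_mul, z1, z2, hvv',
          g1]
        linear_combination -hcd1
      · simp only [polar_sub_right, polar_add_right, polar_smul_right, smul_eq_mul, z3, z4, ← hβ,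
          g2]
        linear_combination -hcd2
      · simp only [polar_sub_right, polar_add_right, polar_smul_right, smul_eq_mul, z1', z2', g3,
          g4]
        linear_combination -hab1
      · simp only [polar_sub_right, polar_add_right, polar_smul_right, smul_eq_mul, z3', z4', g5,
          g6]
        linear_combination -hab2
    · have h1' : polar (⇑Q) x v = 0 := by rw [polar_comm]; exact h1
      have h2' : polar (⇑Q) x (δ *ᵥ v) = 0 := by rw [polar_comm]; exact h2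
      have h3' : polar (⇑Q) x v' = 0 := by rw [polar_comm]; exact h3
      have h4' : polar (⇑Q) x (δ *ᵥ v') = 0 := by rw [polar_comm]; exact h4
      simp only [polar_sub_right, polar_add_right, polar_smul_right, smul_eq_mul, h1', h2', h3',
        h4', mul_zero, add_zero, sub_zero]
      exact hy₀
  · -- dimension
    have e : KPerp Q δ v ⊓ KPerp Q δ v' =
        (((⊤ ⊓ LinearMap.ker (polarBilin Q v)) ⊓ LinearMap.ker (polarBilin Q (δ *ᵥ v))) ⊓
          LinearMap.ker (polarBilin Q v')) ⊓ LinearMap.ker (polarBilin Q (δ *ᵥ v')) := by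
      unfold KPerp
      simp only [top_inf_eq, inf_assoc]
    rw [e]
    have d1 := finrank_le_inf_ker_add_one (⊤ : Submodule F (ι → F)) (polarBilin Q v)
    have d2 := finrank_le_inf_ker_add_one (⊤ ⊓ LinearMap.ker (polarBilin Q v))
      (polarBilin Q (δ *ᵥ v))
    have d3 := finrank_le_inf_ker_add_one ((⊤ ⊓ LinearMap.ker (polarBilin Q v)) ⊓
      LinearMap.ker (polarBilin Q (δ *ᵥ v))) (polarBilin Q v')
    have d4 := finrank_le_inf_ker_add_one (((⊤ ⊓ LinearMap.ker (polarBilin Q v)) ⊓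
      LinearMap.ker (polarBilin Q (δ *ᵥ v))) ⊓ LinearMap.ker (polarBilin Q v'))
      (polarBilin Q (δ *ᵥ v'))
    rw [finrank_top, Module.finrank_fintype_fun_eq_card] at d1
    omega
  · -- δ-invariance
    intro x hx
    obtain ⟨hxv, hxv'⟩ := Submodule.mem_inf.mp hx
    exact Submodule.mem_inf.mpr ⟨hU.delta_mem_KPerp hxv, hU.delta_mem_KPerp hxv'⟩
  · -- trivial intersection with the K-line
    rw [eq_bot_iff]
    intro u hu
    obtain ⟨hu1, hu2⟩ := Submodule.mem_inf.mp hu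
    obtain ⟨-, hu3⟩ := Submodule.mem_inf.mp hu1
    obtain ⟨a, b, rfl⟩ := mem_Kl.mp hu2
    obtain ⟨h3, h4⟩ := mem_KPerp.mp hu3
    rw [polar_add_right, polar_smul_right, polar_smul_right, g3, g4] at h3
    rw [polar_add_right, polar_smul_right, polar_smul_right, g5, g6] at h4
    simp only [smul_eq_mul] at h3 h4
    have hb : b * (β ^ 2 - τ * β + ν) = 0 := by linear_combination h4 - (τ - β) * h3
    have hb0 : b = 0 := (mul_eq_zero.mp hb).resolve_right hΔ
    have ha0 : a = 0 := by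
      rw [hb0] at h3
      linear_combination h3
    rw [Submodule.mem_bot, ha0, hb0]
    simp
  · -- decomposition
    intro z hz
    obtain ⟨a, b, hab1, hab2⟩ := solve_ab hΔ (polar (⇑Q) v' z) (polar (⇑Q) (δ *ᵥ v') z)
    have hk : a • v + b • (δ *ᵥ v) ∈ Kl δ v := mem_Kl.mpr ⟨a, b, rfl⟩
    refine ⟨a • v + b • (δ *ᵥ v), hk, z - (a • v + b • (δ *ᵥ v)), ?_, by abel⟩
    refine Submodule.mem_inf.mpr ⟨(KPerp Q δ v).sub_mem hz (hU.Kl_le_KPerp hv hk),
      mem_KPerp.mpr ⟨?_, ?_⟩⟩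
    · simp only [polar_sub_right, polar_add_right, polar_smul_right, smul_eq_mul, g3, g4]
      linear_combination -hab1
    · simp only [polar_sub_right, polar_add_right, polar_smul_right, smul_eq_mul, g5, g6]
      linear_combination -hab2

end fog0

end Cfsg.Agent.Lib.Helper13
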