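import Mathlib
import Cfsg.Agent.Lib.Helper13.S5700FOG0

/-!
# Propagation of `KPerp v ≤ Lsub M v` along chains of `K`-orthogonal singular vectors
-/

set_option autoImplicit false
set_option linter.unusedSectionVars false
set_option linter.unusedVariables false

namespace Cfsg.Agent.Lib.Helper13

open Matrix Module QuadraticMap Cfsg.Agent.Lib.Helper6 Cfsg.Agent.Lib.Helper13.OND

section foiv
universe u
variable {F : Type u} [Field F] {ι : Type} [Fintype ι] [DecidableEq ι]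
variable {Q : QuadraticForm F (ι → F)} {δ : Matrix ι ι F} {τ ν : F} {M : Subgroup (GL ι F)}

/-- `K`-lines: a nonzero vector of the `K`-line of `v` generates it -/
theorem UStr.Kl_symm (hU : UStr Q δ τ ν) {x v : ι → F} (hx : x ∈ Kl δ v) (hx0 : x ≠ 0) :
    v ∈ Kl δ x := by
  obtain ⟨a, b, rfl⟩ := mem_Kl.mp hx
  have hab : a ≠ 0 ∨ b ≠ 0 := by
    by_contra h2
    push Not at h2
    apply hx0
    rw [h2.1, h2.2]
    simp
  have hN := hU.norm_ne hab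
  obtain ⟨x, hx'⟩ : ∃ x, x = a • v + b • (δ *ᵥ v) := ⟨_, rfl⟩
  rw [← hx']
  have h1 : (a + b * τ) • x - b • (δ *ᵥ x) = (a ^ 2 + a * b * τ + b ^ 2 * ν) • v := by
    rw [hx', mulVec_add, mulVec_smul, mulVec_smul, hU.dd]
    module
  refine mem_Kl.mpr ⟨(a ^ 2 + a * b * τ + b ^ 2 * ν)⁻¹ * (a + b * τ),
    -((a ^ 2 + a * b * τ + b ^ 2 * ν)⁻¹ * b), ?_⟩
  calc v = (a ^ 2 + a * b * τ + b ^ 2 * ν)⁻¹ • ((a ^ 2 + a * b * τ + b ^ 2 * ν) • v) := by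
        rw [smul_smul, inv_mul_cancel₀ hN, one_smul]
    _ = (a ^ 2 + a * b * τ + b ^ 2 * ν)⁻¹ • ((a + b * τ) • x - b • (δ *ᵥ x)) := by rw [h1]
    _ = _ := by rw [smul_sub, smul_smul, smul_smul, neg_smul, sub_eq_add_neg]

theorem propagate_step (hU : UStr Q δ τ ν)
    (hirr : ∀ (v : ι → F) (hv : Q v = 0), v ≠ 0 → ∀ w ∈ Lsub M v hv, w ∈ KPerp Q δ v →
      w ∉ Kl δ v → KPerp Q δ v ≤ Lsub M v hv)
    (x : ι → F) (hx0 : x ≠ 0) (hx : Q x = 0) (hfull : KPerp Q δ x ≤ Lsub M x hx)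
    (v₁ : ι → F) (hv₁0 : v₁ ≠ 0) (hv₁ : Q v₁ = 0) (h1 : v₁ ∈ KPerp Q δ x) (h2 : v₁ ∉ Kl δ x) :
    KPerp Q δ v₁ ≤ Lsub M v₁ hv₁ := by
  have h3 : SIn Q M x v₁ := mem_Lsub.mp (hfull h1)
  have h4 : x ∈ Lsub M v₁ hv₁ := mem_Lsub.mpr (SIn.swap h3 hv₁)
  have h5 : x ∈ KPerp Q δ v₁ := hU.KPerp_symm h1
  have h6 : x ∉ Kl δ v₁ := fun h => h2 (hU.Kl_symm h hx0)
  exact hirr v₁ hv₁ hv₁0 x h4 h5 h6

/-- FO-IV -/
theorem propagate [Fintype F] (hU : UStr Q δ τ ν) (hQ : (polarBilin Q).Nondegenerate)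
    (hn : 14 ≤ Fintype.card ι) (hM : ∀ y, Q y = 0 → SIn Q M y (δ *ᵥ y))
    (hirr : ∀ (v : ι → F) (hv : Q v = 0), v ≠ 0 → ∀ w ∈ Lsub M v hv, w ∈ KPerp Q δ v →
      w ∉ Kl δ v → KPerp Q δ v ≤ Lsub M v hv)
    (x : ι → F) (hx0 : x ≠ 0) (hx : Q x = 0) (hfull : KPerp Q δ x ≤ Lsub M x hx) :
    ∀ (v : ι → F) (hv : Q v = 0), v ≠ 0 → KPerp Q δ v ≤ Lsub M v hv := by
  intro v hv hv0
  obtain ⟨X, -, hXd, -, hXP, hXK, -⟩ := exists_KX hU hQ hn x hx0 hx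
  obtain ⟨Y, -, hYd, -, hYP, hYK, -⟩ := exists_KX hU hQ hn v hv0 hv
  have hdim := Submodule.finrank_sup_add_finrank_inf_eq X Y
  have hle : finrank F ↥(X ⊔ Y) ≤ Fintype.card ι := by
    have := Submodule.finrank_le (X ⊔ Y)
    rwa [Module.finrank_fintype_fun_eq_card] at this
  obtain ⟨v₁, hv₁S, hv₁0, hv₁⟩ := exists_singular_sub Q (X ⊓ Y) (by omega)
  obtain ⟨hv₁X, hv₁Y⟩ := Submodule.mem_inf.mp hv₁S
  have h1 : v₁ ∈ KPerp Q δ x := hXP hv₁X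
  have h2 : v₁ ∉ Kl δ x := by
    intro h
    apply hv₁0
    have : v₁ ∈ X ⊓ Kl δ x := Submodule.mem_inf.mpr ⟨hv₁X, h⟩
    rw [hXK] at this
    exact (Submodule.mem_bot F).mp this
  have h3 : v₁ ∈ KPerp Q δ v := hYP hv₁Y
  have h4 : v₁ ∉ Kl δ v := by
    intro h
    apply hv₁0
    have : v₁ ∈ Y ⊓ Kl δ v := Submodule.mem_inf.mpr ⟨hv₁Y, h⟩
    rw [hYK] at this
    exact (Submodule.mem_bot F).mp this
  have hf1 := propagate_step hU hirr x hx0 hx hfull v₁ hv₁0 hv₁ h1 h2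
  have h5 : v ∈ KPerp Q δ v₁ := hU.KPerp_symm h3
  have h6 : v ∉ Kl δ v₁ := fun h => h4 (hU.Kl_symm h hv0)
  exact propagate_step hU hirr v₁ hv₁0 hv₁ hf1 v hv0 hv h5 h6

end foiv

end Cfsg.Agent.Lib.Helper13
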