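import Mathlib
import Cfsg.Agent.Lib.Helper13.OrthMax
import Cfsg.Agent.Lib.Helper6.Hyperbolic2

/-!
# Stabilisers of totally singular subspaces of dimension `m - 1` in `Ω⁺_{2m}(q)`

An abstract family character (the parity of the codimension of `U ⊓ g U` for a maximal totally
singular subspace `U`), and the non-maximality of the stabiliser of a totally singular subspace of
dimension `m - 1` in the commutator subgroup of the orthogonal group of plus type: it fixes both
maximal totally singular subspaces containing it.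
-/

set_option autoImplicit false

namespace Cfsg.Agent.Lib.Helper13

open Module QuadraticMap

section famsignA
variable {F V : Type*} [Field F] [AddCommGroup V] [Module F V] [FiniteDimensional F V]
  (Q : QuadraticForm F V)

open Cfsg.Agent.Lib.Helper6

omit [FiniteDimensional F V] in
/-- the image of a totally singular subspace under an isometry is totally singular -/
theorem ts_map (U : Submodule F V) (hU : TS Q U) (g : isoGroup Q) :
    TS Q (U.map g.1.toLinearMap) := by
  rintro _ ⟨u, hu, rfl⟩
  change Q (g.1 u) = 0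
  rw [isoGroup_map]
  exact hU u hu

omit [FiniteDimensional F V] in
theorem finrank_map_iso (U : Submodule F V) (g : isoGroup Q) :
    finrank F (U.map g.1.toLinearMap) = finrank F U :=
  LinearEquiv.finrank_map_eq g.1 U

omit [FiniteDimensional F V] in
/-- an isometry mapping a subspace onto itself stabilises it -/
theorem mem_stabA_of_map_eq (X : Submodule F V) (g : isoGroup Q)
    (h : X.map g.1.toLinearMap = X) : g ∈ stabA Q X := by
  intro x
  constructor
  · intro hx
    rw [← h] at hx
    obtain ⟨u, hu, hux⟩ := hx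
    have : u = x := g.1.injective hux
    rwa [← this]
  · intro hx
    have : g.1 x ∈ X.map g.1.toLinearMap := ⟨x, hx, rfl⟩
    rwa [h] at this

/-- the distance of a maximal totally singular subspace from its image -/
noncomputable def distA (m : ℕ) (U : Submodule F V) (g : isoGroup Q) : ℕ :=
  m - finrank F ↥(U ⊓ U.map g.1.toLinearMap)

theorem even_distA_mul (hQ : (polarBilin Q).Nondegenerate) (m : ℕ) (hV : finrank F V = 2 * m)
    (U : Submodule F V) (hU : TS Q U) (hUm : finrank F U = m) (g h : isoGroup Q) :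
    Even (distA Q m U g + distA Q m U h + distA Q m U (g * h)) := by
  have k := parity_three Q hQ m hV _ U (U.map g.1.toLinearMap) (U.map (g * h).1.toLinearMap)
    hU hUm (ts_map Q U hU g) ((finrank_map_iso Q U g).trans hUm) (ts_map Q U hU (g * h))
    ((finrank_map_iso Q U (g * h)).trans hUm) rfl
  have e1 : U.map g.1.toLinearMap ⊓ U.map (g * h).1.toLinearMap =
      (U ⊓ U.map h.1.toLinearMap).map g.1.toLinearMap := by
    rw [map_mul_eq, Submodule.map_inf _ g.1.injective]
  rw [e1, finrank_map_iso] at k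
  exact k

omit [FiniteDimensional F V] in
theorem distA_one (m : ℕ) (U : Submodule F V) (hUm : finrank F U = m) :
    distA Q m U 1 = 0 := by
  unfold distA
  have : U.map (1 : isoGroup Q).1.toLinearMap = U := by
    ext x
    constructor
    · rintro ⟨u, hu, rfl⟩
      exact hu
    · intro hx
      exact ⟨x, hx, rfl⟩
  rw [this, inf_idem, hUm, Nat.sub_self]

/-- the family character attached to a maximal totally singular subspace -/
noncomputable def famSignA (hQ : (polarBilin Q).Nondegenerate) (m : ℕ)
    (hV : finrank F V = 2 * m) (U : Submodule F V) (hU : TS Q U) (hUm : finrank F U = m) :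
    isoGroup Q →* ℤˣ where
  toFun g := (-1) ^ distA Q m U g
  map_one' := by rw [distA_one Q m U hUm, pow_zero]
  map_mul' g h := by
    have k := even_distA_mul Q hQ m hV U hU hUm g h
    rw [← pow_add]
    have hiff : Even (distA Q m U (g * h)) ↔ Even (distA Q m U g + distA Q m U h) := by
      rw [Nat.even_add] at k
      exact k.symm
    by_cases hc : Even (distA Q m U (g * h))
    · rw [hc.neg_one_pow, (hiff.mp hc).neg_one_pow]
    · have hc' : ¬ Even (distA Q m U g + distA Q m U h) := fun h' => hc (hiff.mpr h')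
      rw [Nat.not_even_iff_odd] at hc hc'
      rw [hc.neg_one_pow, hc'.neg_one_pow]

theorem famSignA_apply (hQ : (polarBilin Q).Nondegenerate) (m : ℕ)
    (hV : finrank F V = 2 * m) (U : Submodule F V) (hU : TS Q U) (hUm : finrank F U = m)
    (g : isoGroup Q) : famSignA Q hQ m hV U hU hUm g = (-1) ^ distA Q m U g := rfl

/-- elements of the commutator subgroup move a maximal totally singular subspace by an even
distance -/
theorem even_distA_of_mem_commutator (hQ : (polarBilin Q).Nondegenerate) (m : ℕ)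
    (hV : finrank F V = 2 * m) (U : Submodule F V) (hU : TS Q U) (hUm : finrank F U = m)
    (g : isoGroup Q) (hg : g ∈ commutator (isoGroup Q)) : Even (distA Q m U g) := by
  have h2 : g ∈ (famSignA Q hQ m hV U hU hUm).ker :=
    Abelianization.commutator_subset_ker _ hg
  rw [MonoidHom.mem_ker, famSignA_apply] at h2
  exact (neg_one_pow_eq_one_iff_even (by decide)).1 h2

/-- an element of the commutator subgroup whose image of `U` shares a hyperplane with `U`
fixes `U` -/
theorem map_eq_of_hyperplane_le (hQ : (polarBilin Q).Nondegenerate) (m : ℕ)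
    (hV : finrank F V = 2 * m) (U : Submodule F V) (hU : TS Q U) (hUm : finrank F U = m)
    (g : isoGroup Q) (hg : g ∈ commutator (isoGroup Q)) (W' : Submodule F V) (hW'U : W' ≤ U)
    (hW'g : W' ≤ U.map g.1.toLinearMap) (hW'm : finrank F W' + 1 = m) :
    U.map g.1.toLinearMap = U := by
  have hev := even_distA_of_mem_commutator Q hQ m hV U hU hUm g hg
  have h1 : finrank F W' ≤ finrank F ↥(U ⊓ U.map g.1.toLinearMap) :=
    Submodule.finrank_mono (le_inf hW'U hW'g)
  have h2 : finrank F ↥(U ⊓ U.map g.1.toLinearMap) ≤ m := by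
    have := Submodule.finrank_mono (inf_le_left : U ⊓ U.map g.1.toLinearMap ≤ U)
    omega
  unfold distA at hev
  have h3 : finrank F ↥(U ⊓ U.map g.1.toLinearMap) = m := by
    rcases hev with ⟨r, hr⟩
    omega
  have h4 : U ⊓ U.map g.1.toLinearMap = U :=
    Submodule.eq_of_le_of_finrank_le inf_le_left (by omega)
  have h5 : U ≤ U.map g.1.toLinearMap := inf_eq_left.mp h4
  exact (Submodule.eq_of_le_of_finrank_le h5 (by rw [finrank_map_iso])).symm

end famsignA

section core
variable {F V : Type*} [Field F] [Fintype F] [AddCommGroup V] [Module F V]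
  [FiniteDimensional F V] (Q : QuadraticForm F V)

open Cfsg.Agent.Lib.Helper6 LinearMap.BilinForm

/-- **The stabiliser of a totally singular subspace of dimension `m - 1`** in the commutator
subgroup fixes a maximal totally singular subspace containing it, and lies strictly between. -/
theorem ts_hyperplane_core (hQ : (polarBilin Q).Nondegenerate) (hgen : reflGenA Q = ⊤) (m : ℕ)
    (hm : 2 ≤ m) (hV : finrank F V = 2 * m) (U : Submodule F V) (hU : TS Q U)
    (hUm : finrank F U = m) (W : Submodule F V) (hWU : W ≤ U) (hWm : finrank F W + 1 = m) :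
    (∀ g : isoGroup Q, g ∈ commutator (isoGroup Q) → g ∈ stabA Q W → g ∈ stabA Q U) ∧
    (∃ g ∈ commutator (isoGroup Q), g ∈ stabA Q U ∧ g ∉ stabA Q W) ∧
    (∃ g ∈ commutator (isoGroup Q), g ∉ stabA Q U) := by
  have hW : TS Q W := hU.mono hWU
  have hposW : 0 < finrank F W := by omega
  obtain ⟨⟨w₀, hw₀W⟩, hw₀⟩ := Module.finrank_pos_iff_exists_ne_zero.mp hposW
  have hw₀0 : w₀ ≠ 0 := fun h => hw₀ (Subtype.ext h)
  have hw₀U : w₀ ∈ U := hWU hw₀W
  have hQw₀ : Q w₀ = 0 := hU w₀ hw₀U
  obtain ⟨f₀, hf₀, hwf⟩ := exists_hyp_partner Q hQ w₀ hQw₀ hw₀0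
  have hWfr : finrank F W = m - 1 := by omega
  refine ⟨?_, ?_, ?_⟩
  · intro g hg hgW
    have h1 := map_eq_of_mem_stabA Q W g hgW
    apply mem_stabA_of_map_eq
    exact map_eq_of_hyperplane_le Q hQ m hV U hU hUm g hg W hWU
      (h1.symm.le.trans (Submodule.map_mono hWU)) hWm
  · let φ : V →ₗ[F] F := polarBilin Q f₀
    have hφ : ∀ x, φ x = polar Q f₀ x := fun x => rfl
    have hφw : φ w₀ ≠ 0 := by
      rw [hφ, polar_comm, hwf]
      exact one_ne_zero
    have hW'm : finrank F ↥(U ⊓ LinearMap.ker φ) + 1 = m := by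
      rw [finrank_inf_ker_add_one U φ w₀ hw₀U hφw, hUm]
    have hW'U : U ⊓ LinearMap.ker φ ≤ U := inf_le_left
    have hW'ts : TS Q (U ⊓ LinearMap.ker φ) := hU.mono hW'U
    obtain ⟨g, hg, hgW⟩ := exists_commutator_map_ts Q hQ hgen W (U ⊓ LinearMap.ker φ) (m - 1)
      (by omega) hWfr (by omega) hW hW'ts
    refine ⟨g, hg, ?_, ?_⟩
    · apply mem_stabA_of_map_eq
      exact map_eq_of_hyperplane_le Q hQ m hV U hU hUm g hg (U ⊓ LinearMap.ker φ) hW'U
        (hgW.symm.le.trans (Submodule.map_mono hWU)) hW'm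
    · intro hgW'
      have h1 := map_eq_of_mem_stabA Q W g hgW'
      have h2 : W = U ⊓ LinearMap.ker φ := h1.symm.trans hgW
      have h3 : w₀ ∈ U ⊓ LinearMap.ker φ := h2 ▸ hw₀W
      exact hφw (LinearMap.mem_ker.mp (Submodule.mem_inf.mp h3).2)
  · have hQa : Q (w₀ + f₀) = 1 := by
      rw [QuadraticMap.map_add Q, hQw₀, hf₀, hwf]
      simp
    have hra : (reflA Q (w₀ + f₀)).1 w₀ = -f₀ := by
      rw [reflA_apply, hQa, polar_add_left, polar_self, hQw₀, polar_comm Q f₀ w₀, hwf]
      simp
    have hW₂ts : TS Q (W.map (reflA Q (w₀ + f₀)).1.toLinearMap) := ts_map Q W hW _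
    have hW₂m : finrank F (W.map (reflA Q (w₀ + f₀)).1.toLinearMap) = m - 1 :=
      (finrank_map_iso Q W _).trans hWfr
    obtain ⟨g, hg, hgW⟩ := exists_commutator_map_ts Q hQ hgen W
      (W.map (reflA Q (w₀ + f₀)).1.toLinearMap) (m - 1) (by omega) hWfr hW₂m hW hW₂ts
    refine ⟨g, hg, ?_⟩
    intro hgU
    have h1 := map_eq_of_mem_stabA Q U g hgU
    have h2 : W.map (reflA Q (w₀ + f₀)).1.toLinearMap ≤ U :=
      hgW.symm.le.trans ((Submodule.map_mono hWU).trans h1.le)
    have h3 : -f₀ ∈ U := h2 (Submodule.mem_map.mpr ⟨w₀, hw₀W, hra⟩)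
    have h4 : f₀ ∈ U := by
      have := U.neg_mem h3
      rwa [neg_neg] at this
    have h5 := hU.polar hw₀U h4
    rw [hwf] at h5
    exact one_ne_zero h5

end core

section geots
universe u
variable {F : Type u} [Field F] [Fintype F] {n : ℕ}

open Cfsg.Geo Matrix Cfsg.Agent.Lib.Helper6

/-- **Stabilisers of totally singular subspaces of dimension `n/2 - 1` are not maximal in
`Ω⁺_n(q)`.** -/
theorem ts_hyperplane_not_maximal (Q : QuadraticForm F (Fin n → F))
    (hQ : (polarBilin Q).Nondegenerate) (hn : 5 ≤ n) (hplus : IsPlusTypeOn ⇑Q ⊤)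
    (W : Submodule F (Fin n → F)) (hW : IsTotallySingularQuad ⇑Q W)
    (hdim : 2 * (finrank F W + 1) = n) :
    ∃ K : Subgroup (GL (Fin n) F), subspaceStabilizer W ⊓ omegaGL ⇑Q < K ∧ K < omegaGL ⇑Q := by
  obtain ⟨E, -, hE, hEm⟩ := hplus
  have hV : finrank F (Fin n → F) = n := by
    rw [Module.finrank_fintype_fun_eq_card, Fintype.card_fin]
  rw [finrank_top, hV] at hEm
  obtain ⟨m, hm⟩ : ∃ m, m = finrank F W + 1 := ⟨_, rfl⟩
  have hV' : finrank F (Fin n → F) = 2 * m := by omega
  have hEm' : finrank F E = m := by omega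
  obtain ⟨U, _, -, ⟨hU, hUm, hWU⟩, -, -⟩ :=
    exists_two_extensions Q hQ m hV' E hE hEm' W hW (by omega)
  have hgen : reflGenA Q = ⊤ := reflGenA_eq_top_fin Q hQ (Or.inr (by omega))
  obtain ⟨h1, h2, h3⟩ := ts_hyperplane_core Q hQ hgen m (by omega) hV' U hU hUm W hWU (by omega)
  exact exists_between Q W U h1 h2 h3

end geots

end Cfsg.Agent.Lib.Helper13
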