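import Mathlib
import Cfsg.Agent.Lib.Helper13.OrthMax2

/-!
# Non-maximality in `Ω`: general bridging and pairs of complementary totally singular subspaces

A general template for statements `H ⊓ Ω < K < Ω` (matrix vocabulary of `Cfsg.Geo`) in terms of
predicates on the abstract isometry group, and the stabiliser of a pair of complementary maximal
totally singular subspaces of odd dimension (which lies in the stabiliser of each member).
-/

set_option autoImplicit false

namespace Cfsg.Agent.Lib.Helper13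

open Module QuadraticMap

section bridge2
universe u
variable {F : Type u} [Field F] {ι : Type} [Fintype ι] [DecidableEq ι]
  (Q : QuadraticForm F (ι → F))

open Cfsg.Geo Matrix

theorem toLin'_isoEquiv_symm (g : isoGroup Q) :
    Matrix.toLin' ((((isoEquiv ⇑Q Q (fun _ => rfl)).symm g : ↥(Cfsg.isometryGroup F ⇑Q)) :
      GL ι F) : Matrix ι ι F) = g.1.toLinearMap := by
  apply LinearMap.ext
  intro x
  rw [Matrix.toLin'_apply]
  exact isoEquiv_symm_mulVec ⇑Q Q (fun _ => rfl) g x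

theorem mem_subspaceStabilizer_symm_iff (U : Submodule F (ι → F)) (g : isoGroup Q) :
    (((isoEquiv ⇑Q Q (fun _ => rfl)).symm g : ↥(Cfsg.isometryGroup F ⇑Q)) : GL ι F) ∈
      subspaceStabilizer U ↔ g ∈ stabA Q U := by
  rw [mem_subspaceStabilizer_iff, MulEquiv.apply_symm_apply]

theorem mem_decompositionStabilizer_symm_iff {t : ℕ} (D : Fin t → Submodule F (ι → F))
    (g : isoGroup Q) :
    (((isoEquiv ⇑Q Q (fun _ => rfl)).symm g : ↥(Cfsg.isometryGroup F ⇑Q)) : GL ι F) ∈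
      decompositionStabilizer D ↔
      ∃ σ : Equiv.Perm (Fin t), ∀ i, (D i).map g.1.toLinearMap = D (σ i) := by
  have h := toLin'_isoEquiv_symm Q g
  constructor
  · rintro ⟨σ, hσ⟩
    refine ⟨σ, fun i => ?_⟩
    rw [← h]
    exact hσ i
  · rintro ⟨σ, hσ⟩
    refine ⟨σ, fun i => ?_⟩
    have := hσ i
    rw [← h] at this
    exact this

/-- general assembly: an intermediate subgroup between `H ⊓ Ω` and `Ω`, from predicates on the
abstract isometry group -/
theorem exists_between_pred (H K : Subgroup (GL ι F)) (P R : isoGroup Q → Prop)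
    (hP : ∀ g : isoGroup Q,
      (((isoEquiv ⇑Q Q (fun _ => rfl)).symm g : ↥(Cfsg.isometryGroup F ⇑Q)) : GL ι F) ∈ H ↔ P g)
    (hR : ∀ g : isoGroup Q,
      (((isoEquiv ⇑Q Q (fun _ => rfl)).symm g : ↥(Cfsg.isometryGroup F ⇑Q)) : GL ι F) ∈ K ↔ R g)
    (h1 : ∀ g : isoGroup Q, g ∈ commutator (isoGroup Q) → P g → R g)
    (h2 : ∃ g ∈ commutator (isoGroup Q), R g ∧ ¬ P g)
    (h3 : ∃ g ∈ commutator (isoGroup Q), ¬ R g) :
    ∃ K' : Subgroup (GL ι F), H ⊓ omegaGL ⇑Q < K' ∧ K' < omegaGL ⇑Q := by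
  let e := isoEquiv ⇑Q Q (fun _ => rfl)
  have hcomm : ∀ x : ↥(Cfsg.isometryGroup F ⇑Q), x ∈ Cfsg.Omega F ⇑Q ↔
      e x ∈ commutator (isoGroup Q) := fun x => mem_commutator_iff_of_equiv e x
  have hΩ : ∀ g : isoGroup Q, g ∈ commutator (isoGroup Q) →
      ((e.symm g : ↥(Cfsg.isometryGroup F ⇑Q)) : GL ι F) ∈ omegaGL ⇑Q := by
    intro g hg
    exact (mem_omegaGL_iff Q _).mpr ⟨e.symm g, (hcomm _).mpr (by
      rw [e.apply_symm_apply]; exact hg), rfl⟩
  have hΩ' : ∀ g ∈ omegaGL ⇑Q, ∃ x : isoGroup Q, x ∈ commutator (isoGroup Q) ∧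
      ((e.symm x : ↥(Cfsg.isometryGroup F ⇑Q)) : GL ι F) = g := by
    intro g hg
    obtain ⟨x, hx, rfl⟩ := (mem_omegaGL_iff Q g).mp hg
    exact ⟨e x, (hcomm x).mp hx, by rw [e.symm_apply_apply]⟩
  refine ⟨K ⊓ omegaGL ⇑Q, ?_, ?_⟩
  · rw [SetLike.lt_iff_le_and_exists]
    constructor
    · rintro g ⟨hgH, hgΩ⟩
      refine ⟨?_, hgΩ⟩
      obtain ⟨x, hx, rfl⟩ := hΩ' g hgΩ
      exact (hR x).mpr (h1 x hx ((hP x).mp hgH))
    · obtain ⟨g, hg, hgR, hgP⟩ := h2
      exact ⟨_, ⟨(hR g).mpr hgR, hΩ g hg⟩, fun h => hgP ((hP g).mp h.1)⟩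
  · rw [SetLike.lt_iff_le_and_exists]
    refine ⟨inf_le_right, ?_⟩
    obtain ⟨g, hg, hgR⟩ := h3
    exact ⟨_, hΩ g hg, fun h => hgR ((hR g).mp h.1)⟩

end bridge2

section paircore
variable {F V : Type*} [Field F] [Fintype F] [AddCommGroup V] [Module F V]
  [FiniteDimensional F V] (Q : QuadraticForm F V)

open Cfsg.Agent.Lib.Helper6 LinearMap.BilinForm

omit [Fintype F] [FiniteDimensional F V] in
/-- the product of the reflections in `a` and `a + u`, for `u` singular and orthogonal to `a`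
(a Siegel transformation) -/
theorem reflA_mul_reflA_add_apply (a u x : V) (ha : Q a ≠ 0) (hu : Q u = 0)
    (hau : polar Q a u = 0) :
    (reflA Q a * reflA Q (a + u)).1 x =
      x + ((Q a)⁻¹ * polar Q u x) • a -
        ((Q a)⁻¹ * polar Q a x + (Q a)⁻¹ * polar Q u x) • u := by
  have hb : Q (a + u) = Q a := by
    rw [QuadraticMap.map_add Q, hu, hau]
    simp
  have h1 := reflA_apply_self Q a ha
  have h2 : (reflA Q a).1 u = u := reflA_apply_of_orth Q a u hau
  change (reflA Q a).1 ((reflA Q (a + u)).1 x) = _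
  rw [reflA_apply Q (a + u) x, hb, polar_add_left, map_sub, map_smul, map_add, h1, h2,
    reflA_apply Q a x]
  module

/-- **The stabiliser of a pair of complementary maximal totally singular subspaces of odd
dimension** in the commutator subgroup lies strictly inside the stabiliser of the first member. -/
theorem ts_pair_core (hQ : (polarBilin Q).Nondegenerate) (hgen : reflGenA Q = ⊤) (k : ℕ)
    (hk2 : 2 ≤ k) (hko : Odd k) (hV : finrank F V = 2 * k) (D : Fin 2 → Submodule F V)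
    (hts : ∀ i, TS Q (D i)) (hfr : ∀ i, finrank F (D i) = k) (hdisj : D 0 ⊓ D 1 = ⊥) :
    (∀ g : isoGroup Q, g ∈ commutator (isoGroup Q) →
      (∃ σ : Equiv.Perm (Fin 2), ∀ i, (D i).map g.1.toLinearMap = D (σ i)) →
        g ∈ stabA Q (D 0)) ∧
    (∃ g ∈ commutator (isoGroup Q), g ∈ stabA Q (D 0) ∧
      ¬ ∃ σ : Equiv.Perm (Fin 2), ∀ i, (D i).map g.1.toLinearMap = D (σ i)) ∧
    (∃ g ∈ commutator (isoGroup Q), g ∉ stabA Q (D 0)) := by
  have hfin2 : ∀ x : Fin 2, x = 0 ∨ x = 1 := by decide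
  have hpos : 0 < finrank F (D 0) := by rw [hfr 0]; omega
  obtain ⟨⟨e₂, he₂D⟩, he₂⟩ := Module.finrank_pos_iff_exists_ne_zero.mp hpos
  have he₂0 : e₂ ≠ 0 := fun h => he₂ (Subtype.ext h)
  have hQe₂ : Q e₂ = 0 := hts 0 e₂ he₂D
  -- partner in `D 1`
  have hex : ∃ y ∈ D 1, polar Q e₂ y ≠ 0 := by
    by_contra hne
    push Not at hne
    have h1 : e₂ ∈ orthogonal (polarBilin Q) (D 1) := by
      rw [mem_orth_iff]
      intro w hw
      rw [polar_comm]
      exact hne w hw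
    rw [TS.orth_eq hQ hV (hts 1) (hfr 1)] at h1
    have h2 : e₂ ∈ D 0 ⊓ D 1 := Submodule.mem_inf.mpr ⟨he₂D, h1⟩
    rw [hdisj] at h2
    exact he₂0 ((Submodule.mem_bot F).mp h2)
  obtain ⟨y, hyD, hy⟩ := hex
  obtain ⟨f₂, hf₂D, hef⟩ : ∃ f₂ ∈ D 1, polar Q e₂ f₂ = 1 :=
    ⟨(polar Q e₂ y)⁻¹ • y, (D 1).smul_mem _ hyD, by
      rw [polar_smul_right, smul_eq_mul, inv_mul_cancel₀ hy]⟩
  have hQf₂ : Q f₂ = 0 := hts 1 f₂ hf₂D
  let φ : V →ₗ[F] F := polarBilin Q f₂
  have hφ : ∀ x, φ x = polar Q f₂ x := fun x => rfl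
  have hφe : φ e₂ ≠ 0 := by
    rw [hφ, polar_comm, hef]
    exact one_ne_zero
  have hker : finrank F ↥(D 0 ⊓ LinearMap.ker φ) + 1 = k := by
    rw [finrank_inf_ker_add_one (D 0) φ e₂ he₂D hφe, hfr 0]
  refine ⟨?_, ?_, ?_⟩
  · rintro g hg ⟨σ, hσ⟩
    rcases hfin2 (σ 0) with h0 | h0
    · apply mem_stabA_of_map_eq
      rw [hσ 0, h0]
    · exfalso
      have hev := even_distA_of_mem_commutator Q hQ k hV (D 0) (hts 0) (hfr 0) g hg
      unfold distA at hev
      rw [hσ 0, h0, hdisj, finrank_bot, Nat.sub_zero] at hev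
      exact (Nat.not_even_iff_odd.mpr hko) hev
  · have hpos2 : 0 < finrank F ↥(D 0 ⊓ LinearMap.ker φ) := by omega
    obtain ⟨⟨u, huD⟩, hu⟩ := Module.finrank_pos_iff_exists_ne_zero.mp hpos2
    have hu0 : u ≠ 0 := fun h => hu (Subtype.ext h)
    have huD0 : u ∈ D 0 := (Submodule.mem_inf.mp huD).1
    have hfu : polar Q f₂ u = 0 := LinearMap.mem_ker.mp (Submodule.mem_inf.mp huD).2
    have hQu : Q u = 0 := hts 0 u huD0
    have heu : polar Q e₂ u = 0 := (hts 0).polar he₂D huD0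
    have hQa : Q (e₂ + f₂) = 1 := by
      rw [QuadraticMap.map_add Q, hQe₂, hQf₂, hef]
      simp
    have hau : polar Q (e₂ + f₂) u = 0 := by
      rw [polar_add_left, heu, hfu, add_zero]
    have ha0 : Q (e₂ + f₂) ≠ 0 := by
      rw [hQa]
      exact one_ne_zero
    have hQb : Q (e₂ + f₂) = Q (e₂ + f₂ + u) := by
      rw [QuadraticMap.map_add Q (e₂ + f₂) u, hQu, hau]
      simp
    have hgΩ := reflA_mul_mem_commutator Q hQ (e₂ + f₂) (e₂ + f₂ + u) ha0 hQb
    have hgx := fun x => reflA_mul_reflA_add_apply Q (e₂ + f₂) u x ha0 hQu hau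
    refine ⟨_, hgΩ, ?_, ?_⟩
    · apply mem_stabA_of_forall
      intro x hx
      rw [hgx x]
      simp only [(hts 0).polar huD0 hx, mul_zero, zero_smul, add_zero]
      exact (D 0).sub_mem hx ((D 0).smul_mem _ huD0)
    · rintro ⟨σ, hσ⟩
      have hgf : (reflA Q (e₂ + f₂) * reflA Q (e₂ + f₂ + u)).1 f₂ = f₂ - u := by
        rw [hgx f₂, polar_comm Q u f₂, hfu, polar_add_left, hef, polar_self, hQf₂, hQa]
        simp
      have hmem : f₂ - u ∈ D (σ 1) := by
        rw [← hσ 1, ← hgf]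
        exact Submodule.mem_map.mpr ⟨f₂, hf₂D, rfl⟩
      rcases hfin2 (σ 1) with h1 | h1
      · rw [h1] at hmem
        have h2 : f₂ ∈ D 0 := by
          have := (D 0).add_mem hmem huD0
          rwa [sub_add_cancel] at this
        have h3 := (hts 0).polar he₂D h2
        rw [hef] at h3
        exact one_ne_zero h3
      · rw [h1] at hmem
        have h2 : u ∈ D 1 := by
          have := (D 1).sub_mem hf₂D hmem
          rwa [sub_sub_cancel] at this
        have h3 : u ∈ D 0 ⊓ D 1 := Submodule.mem_inf.mpr ⟨huD0, h2⟩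
        rw [hdisj] at h3
        exact hu0 ((Submodule.mem_bot F).mp h3)
  · exact (ts_hyperplane_core Q hQ hgen k hk2 hV (D 0) (hts 0) (hfr 0) _ inf_le_left hker).2.2

end paircore

section geopair
universe u
variable {F : Type u} [Field F] [Fintype F] {n : ℕ}

open Cfsg.Geo Matrix Cfsg.Agent.Lib.Helper6

/-- **Stabilisers of pairs of complementary totally singular `n/2`-spaces, `n/2` odd, are not
maximal in `Ω⁺_n(q)`.** -/
theorem ts_pair_not_maximal (Q : QuadraticForm F (Fin n → F))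
    (hQ : (polarBilin Q).Nondegenerate) (hn : 5 ≤ n) (k : ℕ) (hk : 2 * k = n) (hko : Odd k)
    (D : Fin 2 → Submodule F (Fin n → F)) (hD : IsMDecomposition k D)
    (hts : ∀ i, IsTotallySingularQuad ⇑Q (D i)) :
    ∃ K : Subgroup (GL (Fin n) F),
      decompositionStabilizer D ⊓ omegaGL ⇑Q < K ∧ K < omegaGL ⇑Q := by
  have hV : finrank F (Fin n → F) = 2 * k := by
    rw [Module.finrank_fintype_fun_eq_card, Fintype.card_fin]
    omega
  have hgen : reflGenA Q = ⊤ := reflGenA_eq_top_fin Q hQ (Or.inr (by omega))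
  have hdisj : D 0 ⊓ D 1 = ⊥ := by
    have := hD.indep.pairwiseDisjoint (show (0 : Fin 2) ≠ 1 by decide)
    exact disjoint_iff.mp this
  obtain ⟨h1, h2, h3⟩ := ts_pair_core Q hQ hgen k (by omega) hko hV D hts hD.finrank_eq hdisj
  exact exists_between_pred Q (decompositionStabilizer D) (subspaceStabilizer (D 0)) _ _
    (mem_decompositionStabilizer_symm_iff Q D) (mem_subspaceStabilizer_symm_iff Q (D 0)) h1 h2 h3

end geopair

end Cfsg.Agent.Lib.Helper13
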