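import Mathlib
import Cfsg.Agent.Lib.Helper13.OrthMax3

/-!
# Orthogonal decompositions over the field with three elements

The stabiliser in `Ω` of an orthogonal decomposition into isometric nondegenerate subspaces of
dimension `2` or `3` over the field with three elements preserves a frame (the set of vectors of a
suitable norm lying in a member), hence lies in the stabiliser of that frame, strictly inside `Ω`.
-/

set_option autoImplicit false

namespace Cfsg.Agent.Lib.Helper13

open Module QuadraticMap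

section frame
variable {F V : Type*} [Field F] [Fintype F] [AddCommGroup V] [Module F V]
  [FiniteDimensional F V] (Q : QuadraticForm F V)

/-- vectors of norm `c` lying in a member of a family of subspaces -/
def frameSet {t : ℕ} (D : Fin t → Submodule F V) (c : F) : Set V :=
  {x | Q x = c ∧ ∃ i, x ∈ D i}

omit [Fintype F] [FiniteDimensional F V] in
theorem reflA_reflA_apply (a x : V) : (reflA Q a).1 ((reflA Q a).1 x) = x := by
  have := congrArg (fun t : isoGroup Q => t.1 x) (reflA_mul_self Q a)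
  exact this

omit [Fintype F] [FiniteDimensional F V] in
/-- the reflection swapping two orthogonal vectors of the same norm -/
theorem reflA_sub_swap (h2 : (2 : F) ≠ 0) (v w : V) (c : F) (hc : c ≠ 0) (hv : Q v = c)
    (hw : Q w = c) (hvw : polar Q v w = 0) : (reflA Q (v - w)).1 v = w := by
  have hn : Q (v - w) = 2 * c := by
    rw [sub_eq_add_neg, QuadraticMap.map_add Q, QuadraticMap.map_neg, polar_neg_right, hv, hw, hvw]
    ring
  rw [reflA_apply, hn, polar_sub_left, polar_self, hv, polar_comm Q w v, hvw, nsmul_eq_mul]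
  have : (2 * c)⁻¹ * (((2 : ℕ) : F) * c - 0) = 1 := by
    rw [Nat.cast_ofNat, sub_zero, inv_mul_cancel₀ (mul_ne_zero h2 hc)]
  rw [this, one_smul]
  abel

omit [Fintype F] [FiniteDimensional F V] in
/-- the swapping reflection preserves the frame -/
theorem reflA_sub_mem_frameSet (h2 : (2 : F) ≠ 0) {t : ℕ} (D : Fin t → Submodule F V) (c : F)
    (hc : c ≠ 0) (horth : ∀ i j, i ≠ j → ∀ x ∈ D i, ∀ y ∈ D j, polar Q x y = 0)
    (hP : ∀ i, ∀ x ∈ D i, ∀ y ∈ D i, Q x = c → Q y = c → polar Q x y = 0 ∨ x = y ∨ x = -y)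
    (i j : Fin t) (hij : i ≠ j) (v w : V) (hv : v ∈ D i) (hw : w ∈ D j) (hQv : Q v = c)
    (hQw : Q w = c) (x : V) (hx : x ∈ frameSet Q D c) :
    (reflA Q (v - w)).1 x ∈ frameSet Q D c := by
  obtain ⟨hQx, l, hxl⟩ := hx
  have hvw : polar Q v w = 0 := horth i j hij v hv w hw
  have hfix : polar Q (v - w) x = 0 → (reflA Q (v - w)).1 x ∈ frameSet Q D c := by
    intro h
    rw [reflA_apply_of_orth Q _ x h]
    exact ⟨hQx, l, hxl⟩
  have hsw := reflA_sub_swap Q h2 v w c hc hQv hQw hvw
  have hwv : (reflA Q (v - w)).1 w = v := by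
    have := reflA_reflA_apply Q (v - w) v
    rwa [hsw] at this
  by_cases hli : l = i
  · rw [hli] at hxl
    have hwx : polar Q w x = 0 := horth j i (Ne.symm hij) w hw x hxl
    rcases hP i x hxl v hv hQx hQv with h | h | h
    · apply hfix
      rw [polar_sub_left, polar_comm Q v x, h, hwx, sub_zero]
    · rw [h, hsw]
      exact ⟨hQw, j, hw⟩
    · rw [h, map_neg, hsw]
      exact ⟨by rw [QuadraticMap.map_neg, hQw], j, (D j).neg_mem hw⟩
  · by_cases hlj : l = j
    · rw [hlj] at hxl
      have hvx : polar Q v x = 0 := horth i j hij v hv x hxl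
      rcases hP j x hxl w hw hQx hQw with h | h | h
      · apply hfix
        rw [polar_sub_left, hvx, polar_comm Q w x, h, sub_zero]
      · rw [h, hwv]
        exact ⟨hQv, i, hv⟩
      · rw [h, map_neg, hwv]
        exact ⟨by rw [QuadraticMap.map_neg, hQv], i, (D i).neg_mem hv⟩
    · apply hfix
      rw [polar_sub_left, horth i l (Ne.symm hli) v hv x hxl,
        horth j l (Ne.symm hlj) w hw x hxl, sub_zero]

omit [Fintype F] [FiniteDimensional F V] in
/-- isometries permuting the members preserve the frame -/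
theorem frameSet_of_perm {t : ℕ} (D : Fin t → Submodule F V) (c : F) (g : isoGroup Q)
    (hσ : ∃ σ : Equiv.Perm (Fin t), ∀ i, (D i).map g.1.toLinearMap = D (σ i)) :
    ∀ x, g.1 x ∈ frameSet Q D c ↔ x ∈ frameSet Q D c := by
  obtain ⟨σ, hσ⟩ := hσ
  intro x
  constructor
  · rintro ⟨hQ', j, hj⟩
    refine ⟨by rw [← hQ', isoGroup_map], σ.symm j, ?_⟩
    have h1 : g.1 x ∈ (D (σ.symm j)).map g.1.toLinearMap := by
      rw [hσ, Equiv.apply_symm_apply]
      exact hj
    obtain ⟨u, hu, hux⟩ := h1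
    have : u = x := g.1.injective hux
    rwa [← this]
  · rintro ⟨hQ', i, hi⟩
    refine ⟨by rw [isoGroup_map]; exact hQ', σ i, ?_⟩
    rw [← hσ i]
    exact ⟨x, hi, rfl⟩

/-- **Frame overgroup, characteristic three.** -/
theorem frame_core (hQ : (polarBilin Q).Nondegenerate) (h3 : (3 : F) = 0) {t : ℕ}
    (D : Fin t → Submodule F V) (c : F) (hc : c ≠ 0)
    (horth : ∀ i j, i ≠ j → ∀ x ∈ D i, ∀ y ∈ D j, polar Q x y = 0)
    (hP : ∀ i, ∀ x ∈ D i, ∀ y ∈ D i, Q x = c → Q y = c → polar Q x y = 0 ∨ x = y ∨ x = -y)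
    (ix : Fin 5 → Fin t) (hix : Function.Injective ix) (v : Fin 5 → V)
    (hv : ∀ j, v j ∈ D (ix j)) (hvc : ∀ j, Q (v j) = c)
    (v' : V) (hv' : v' ∈ D (ix 0)) (hv'0 : v' ≠ 0) (hvv' : polar Q (v 0) v' = 0)
    (hdisj : D (ix 0) ⊓ D (ix 1) = ⊥) :
    (∀ g : isoGroup Q, g ∈ commutator (isoGroup Q) →
      (∃ σ : Equiv.Perm (Fin t), ∀ i, (D i).map g.1.toLinearMap = D (σ i)) →
        ∀ x, g.1 x ∈ frameSet Q D c ↔ x ∈ frameSet Q D c) ∧
    (∃ g ∈ commutator (isoGroup Q), (∀ x, g.1 x ∈ frameSet Q D c ↔ x ∈ frameSet Q D c) ∧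
      ¬ ∃ σ : Equiv.Perm (Fin t), ∀ i, (D i).map g.1.toLinearMap = D (σ i)) ∧
    (∃ g ∈ commutator (isoGroup Q), ¬ ∀ x, g.1 x ∈ frameSet Q D c ↔ x ∈ frameSet Q D c) := by
  have h2 : (2 : F) ≠ 0 := by
    intro h
    have : (1 : F) = 0 := by linear_combination h3 - h
    exact one_ne_zero this
  have hne : ∀ a b : Fin 5, a ≠ b → ix a ≠ ix b := fun a b hab h => hab (hix h)
  have hvorth : ∀ a b : Fin 5, a ≠ b → polar Q (v a) (v b) = 0 := fun a b hab =>
    horth _ _ (hne a b hab) _ (hv a) _ (hv b)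
  have h2c : (2 : F) * c ≠ 0 := mul_ne_zero h2 hc
  have hself : ∀ a, polar Q (v a) (v a) = 2 * c := fun a => by
    rw [polar_self, hvc, nsmul_eq_mul, Nat.cast_ofNat]
  have hnsub : ∀ a b : Fin 5, a ≠ b → Q (v a - v b) = 2 * c := by
    intro a b hab
    rw [sub_eq_add_neg, QuadraticMap.map_add Q, QuadraticMap.map_neg, polar_neg_right, hvc, hvc,
      hvorth a b hab]
    ring
  refine ⟨fun g _ hσ => frameSet_of_perm Q D c g hσ, ?_, ?_⟩
  · have hgΩ := reflA_mul_mem_commutator Q hQ (v 0 - v 1) (v 2 - v 3)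
      (by rw [hnsub 0 1 (by decide)]; exact h2c)
      (by rw [hnsub 0 1 (by decide), hnsub 2 3 (by decide)])
    have hsw : ∀ (a b : Fin 5), a ≠ b → ∀ x,
        (reflA Q (v a - v b)).1 x ∈ frameSet Q D c ↔ x ∈ frameSet Q D c := by
      intro a b hab x
      constructor
      · intro hx
        have := reflA_sub_mem_frameSet Q h2 D c hc horth hP (ix a) (ix b) (hne a b hab) (v a)
          (v b) (hv a) (hv b) (hvc a) (hvc b) _ hx
        rwa [reflA_reflA_apply] at this
      · exact reflA_sub_mem_frameSet Q h2 D c hc horth hP (ix a) (ix b) (hne a b hab) (v a)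
          (v b) (hv a) (hv b) (hvc a) (hvc b) x
    refine ⟨_, hgΩ, ?_, ?_⟩
    · intro x
      change (reflA Q (v 0 - v 1)).1 ((reflA Q (v 2 - v 3)).1 x) ∈ _ ↔ _
      rw [hsw 0 1 (by decide), hsw 2 3 (by decide)]
    · rintro ⟨σ, hσ⟩
      have hg0 : (reflA Q (v 0 - v 1) * reflA Q (v 2 - v 3)).1 (v 0) = v 1 := by
        change (reflA Q (v 0 - v 1)).1 ((reflA Q (v 2 - v 3)).1 (v 0)) = v 1
        rw [reflA_apply_of_orth Q (v 2 - v 3) (v 0) (by
          rw [polar_sub_left, hvorth 2 0 (by decide), hvorth 3 0 (by decide), sub_zero])]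
        exact reflA_sub_swap Q h2 (v 0) (v 1) c hc (hvc 0) (hvc 1) (hvorth 0 1 (by decide))
      have hb : ∀ b : Fin 5, b ≠ 0 → polar Q (v b) v' = 0 := fun b hb =>
        horth _ _ (hne b 0 hb) _ (hv b) _ hv'
      have hg' : (reflA Q (v 0 - v 1) * reflA Q (v 2 - v 3)).1 v' = v' := by
        change (reflA Q (v 0 - v 1)).1 ((reflA Q (v 2 - v 3)).1 v') = v'
        rw [reflA_apply_of_orth Q (v 2 - v 3) v' (by
            rw [polar_sub_left, hb 2 (by decide), hb 3 (by decide), sub_zero]),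
          reflA_apply_of_orth Q (v 0 - v 1) v' (by
            rw [polar_sub_left, hvv', hb 1 (by decide), sub_zero])]
      have hm1 : v 1 ∈ D (σ (ix 0)) := by
        have : (reflA Q (v 0 - v 1) * reflA Q (v 2 - v 3)).1 (v 0) ∈
            (D (ix 0)).map (reflA Q (v 0 - v 1) * reflA Q (v 2 - v 3)).1.toLinearMap :=
          ⟨v 0, hv 0, rfl⟩
        rwa [hσ (ix 0), hg0] at this
      have hm2 : v' ∈ D (σ (ix 0)) := by
        rw [← hσ (ix 0)]
        exact ⟨v', hv', hg'⟩
      have hσ0 : σ (ix 0) = ix 1 := by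
        by_contra hne'
        have := horth _ _ hne' _ hm1 _ (hv 1)
        rw [hself] at this
        exact h2c this
      rw [hσ0] at hm2
      have : v' ∈ D (ix 0) ⊓ D (ix 1) := Submodule.mem_inf.mpr ⟨hv', hm2⟩
      rw [hdisj] at this
      exact hv'0 ((Submodule.mem_bot F).mp this)
  · have hQ01 : Q (v 0 + v 1) = 2 * c := by
      rw [QuadraticMap.map_add Q, hvc, hvc, hvorth 0 1 (by decide)]
      ring
    have hQ012 : Q (v 0 + v 1 + v 2) = 3 * c := by
      rw [QuadraticMap.map_add Q, hQ01, hvc, polar_add_left, hvorth 0 2 (by decide),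
        hvorth 1 2 (by decide)]
      ring
    have hQa : Q (v 0 + v 1 + v 2 + v 3) = c := by
      rw [QuadraticMap.map_add Q, hQ012, hvc, polar_add_left, polar_add_left,
        hvorth 0 3 (by decide), hvorth 1 3 (by decide), hvorth 2 3 (by decide)]
      linear_combination c * h3
    have hgΩ := reflA_mul_mem_commutator Q hQ (v 0 + v 1 + v 2 + v 3) (v 4)
      (by rw [hQa]; exact hc) (by rw [hQa, hvc])
    refine ⟨_, hgΩ, ?_⟩
    intro hR
    have h0 : v 0 ∈ frameSet Q D c := ⟨hvc 0, ix 0, hv 0⟩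
    have h1 := (hR (v 0)).mpr h0
    have hg0 : (reflA Q (v 0 + v 1 + v 2 + v 3) * reflA Q (v 4)).1 (v 0) =
        v 0 + (v 0 + v 1 + v 2 + v 3) := by
      change (reflA Q (v 0 + v 1 + v 2 + v 3)).1 ((reflA Q (v 4)).1 (v 0)) = _
      rw [reflA_apply_of_orth Q (v 4) (v 0) (hvorth 4 0 (by decide)), reflA_apply, hQa,
        polar_add_left, polar_add_left, polar_add_left, hself, hvorth 1 0 (by decide),
        hvorth 2 0 (by decide), hvorth 3 0 (by decide)]
      have : c⁻¹ * (2 * c + 0 + 0 + 0) = -1 := by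
        have e : c⁻¹ * (2 * c + 0 + 0 + 0) = 2 := by
          rw [add_zero, add_zero, add_zero, mul_comm 2 c, ← mul_assoc, inv_mul_cancel₀ hc, one_mul]
        rw [e]
        linear_combination h3
      rw [this, neg_smul, one_smul, sub_neg_eq_add]
    rw [hg0] at h1
    obtain ⟨-, j, hj⟩ := h1
    by_cases hj1 : ix 1 = j
    · have hj2 : ix 2 ≠ j := fun h => (hne 1 2 (by decide)) (hj1.trans h.symm)
      have := horth _ _ hj2 _ (hv 2) _ hj
      simp only [polar_add_right, hvorth 2 0 (by decide), hvorth 2 1 (by decide),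
        hvorth 2 3 (by decide), hself] at this
      apply h2c
      linear_combination this
    · have := horth _ _ hj1 _ (hv 1) _ hj
      simp only [polar_add_right, hvorth 1 0 (by decide), hvorth 1 2 (by decide),
        hvorth 1 3 (by decide), hself] at this
      apply h2c
      linear_combination this

end frame

end Cfsg.Agent.Lib.Helper13
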