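import Mathlib
import Cfsg.Agent.Lib.Helper13.OrthFrame

/-!
# Nondegenerate subspaces of dimension two and three over the field with three elements

Frames: a nondegenerate plane or 3-space over the field with three elements has a norm `c` such
that any two vectors of norm `c` in it are orthogonal or equal up to sign.
-/

set_option autoImplicit false

namespace Cfsg.Agent.Lib.Helper13

open Module QuadraticMap

section sub
variable {F V : Type*} [Field F] [AddCommGroup V] [Module F V] [FiniteDimensional F V]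
  (Q : QuadraticForm F V)

/-- nondegeneracy of the polar form on a subspace -/
def NondegOn (X : Submodule F V) : Prop := ∀ x ∈ X, (∀ y ∈ X, polar Q x y = 0) → x = 0

theorem exists_nonsingular_of_nondegOn (X : Submodule F V) (hX : NondegOn Q X)
    (hpos : 0 < finrank F X) : ∃ w ∈ X, Q w ≠ 0 := by
  obtain ⟨⟨x, hxX⟩, hx⟩ := Module.finrank_pos_iff_exists_ne_zero.mp hpos
  have hx0 : x ≠ 0 := fun h => hx (Subtype.ext h)
  have hex : ∃ y ∈ X, polar Q x y ≠ 0 := by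
    by_contra hne
    push Not at hne
    exact hx0 (hX x hxX hne)
  obtain ⟨y, hyX, hy⟩ := hex
  exact exists_nonsingular_of_polar Q X x y hxX hyX hy

/-- the orthogonal complement of a nonsingular vector inside a nondegenerate subspace -/
theorem nondegOn_inf_ker (h2 : (2 : F) ≠ 0) (X : Submodule F V) (hX : NondegOn Q X) (w : V)
    (hw : w ∈ X) (hQw : Q w ≠ 0) :
    NondegOn Q (X ⊓ LinearMap.ker (polarBilin Q w)) ∧
      finrank F ↥(X ⊓ LinearMap.ker (polarBilin Q w)) + 1 = finrank F X := by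
  have hww : polar Q w w ≠ 0 := by
    rw [polar_self, nsmul_eq_mul, Nat.cast_ofNat]
    exact mul_ne_zero h2 hQw
  constructor
  · intro z hz hzy
    obtain ⟨hzX, hzw⟩ := Submodule.mem_inf.mp hz
    have hwz : polar Q w z = 0 := LinearMap.mem_ker.mp hzw
    apply hX z hzX
    intro u hu
    have hu' : u - ((polar Q w w)⁻¹ * polar Q w u) • w ∈
        X ⊓ LinearMap.ker (polarBilin Q w) := by
      refine Submodule.mem_inf.mpr ⟨X.sub_mem hu (X.smul_mem _ hw), ?_⟩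
      rw [LinearMap.mem_ker]
      change polar Q w (u - ((polar Q w w)⁻¹ * polar Q w u) • w) = 0
      have : ((polar Q w w)⁻¹ * polar Q w u) * polar Q w w = polar Q w u := by
        rw [mul_comm, ← mul_assoc, mul_inv_cancel₀ hww, one_mul]
      rw [polar_sub_right, polar_smul_right, smul_eq_mul, this, sub_self]
    have := hzy _ hu'
    rw [polar_sub_right, polar_smul_right, polar_comm Q z w, hwz, smul_zero, sub_zero] at this
    exact this
  · exact Cfsg.Agent.Lib.Helper6.finrank_inf_ker_add_one X (polarBilin Q w) w hw hww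

omit [FiniteDimensional F V] in
theorem exists_smul_of_finrank_one (L : Submodule F V) (hL : finrank F L = 1) (x y : V)
    (hx : x ∈ L) (hy : y ∈ L) (hx0 : x ≠ 0) : ∃ r : F, y = r • x := by
  have h := (finrank_eq_one_iff_of_nonzero' (⟨x, hx⟩ : L)
    (fun h => hx0 (congrArg Subtype.val h))).mp hL ⟨y, hy⟩
  obtain ⟨r, hr⟩ := h
  exact ⟨r, (congrArg Subtype.val hr).symm⟩

omit [AddCommGroup V] [Module F V] [FiniteDimensional F V] in
theorem two_ne_zero_of_three (h3 : (3 : F) = 0) : (2 : F) ≠ 0 := by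
  intro h
  have : (1 : F) = 0 := by linear_combination h3 - h
  exact one_ne_zero this

omit [AddCommGroup V] [Module F V] [FiniteDimensional F V] in
theorem pm_one_of_sq (a : F) (h : a * a = 1) : a = 1 ∨ a = -1 := by
  have : (a - 1) * (a + 1) = 0 := by linear_combination h
  rcases mul_eq_zero.mp this with h | h
  · left; linear_combination h
  · right; linear_combination h

variable (hF : ∀ x : F, x ≠ 0 → x * x = 1) (h3 : (3 : F) = 0)
include hF h3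

/-- in a nondegenerate plane, two vectors of the same nonzero norm are orthogonal or equal up to
sign -/
theorem frame_two_P (X : Submodule F V) (hX : NondegOn Q X) (hdim : finrank F X = 2) (c : F)
    (hc : c ≠ 0) :
    ∀ x ∈ X, ∀ y ∈ X, Q x = c → Q y = c → polar Q x y = 0 ∨ x = y ∨ x = -y := by
  intro x hx y hy hQx hQy
  by_cases hxy : polar Q x y = 0
  · left; exact hxy
  right
  have hx0 : x ≠ 0 := by
    rintro rfl
    rw [QuadraticMap.map_zero] at hQx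
    exact hc hQx.symm
  obtain ⟨ε, hεdef⟩ : ∃ ε, ε = c⁻¹ * polar Q x y := ⟨_, rfl⟩
  have hε0 : ε ≠ 0 := by
    rw [hεdef]
    exact mul_ne_zero (inv_ne_zero hc) hxy
  have hε := hF ε hε0
  have hB : polar Q x y = ε * c := by
    rw [hεdef, mul_comm, ← mul_assoc, mul_inv_cancel₀ hc, one_mul]
  have hxx : polar Q x x = 2 * c := by rw [polar_self, hQx, nsmul_eq_mul, Nat.cast_ofNat]
  have hyy : polar Q y y = 2 * c := by rw [polar_self, hQy, nsmul_eq_mul, Nat.cast_ofNat]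
  have hzx : polar Q (x + ε • y) x = 0 := by
    rw [polar_add_left, polar_smul_left, hxx, polar_comm Q y x, hB, smul_eq_mul]
    linear_combination c * h3 + c * hε
  have hzy : polar Q (x + ε • y) y = 0 := by
    rw [polar_add_left, polar_smul_left, hyy, hB, smul_eq_mul]
    linear_combination (ε * c) * h3
  by_cases hz : x + ε • y = 0
  · rcases pm_one_of_sq ε hε with h | h
    · right
      rw [h, one_smul] at hz
      exact eq_neg_of_add_eq_zero_left hz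
    · left
      rw [h, neg_smul, one_smul, ← sub_eq_add_neg] at hz
      exact sub_eq_zero.mp hz
  · have hzX : x + ε • y ∈ X := X.add_mem hx (X.smul_mem _ hy)
    have hex : ∃ u ∈ X, polar Q (x + ε • y) u ≠ 0 := by
      by_contra hne
      push Not at hne
      exact hz (hX _ hzX hne)
    obtain ⟨u, huX, hu⟩ := hex
    have hfr := Cfsg.Agent.Lib.Helper6.finrank_inf_ker_add_one X (polarBilin Q (x + ε • y)) u huX hu
    have hL : finrank F ↥(X ⊓ LinearMap.ker (polarBilin Q (x + ε • y))) = 1 := by omega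
    obtain ⟨r, hr⟩ := exists_smul_of_finrank_one _ hL x y
      (Submodule.mem_inf.mpr ⟨hx, LinearMap.mem_ker.mpr hzx⟩)
      (Submodule.mem_inf.mpr ⟨hy, LinearMap.mem_ker.mpr hzy⟩) hx0
    have hrr : r * r = 1 := by
      have h1 : Q y = r * r * c := by rw [hr, QuadraticMap.map_smul, hQx, smul_eq_mul]
      rw [hQy] at h1
      have : (r * r - 1) * c = 0 := by linear_combination -h1
      rcases mul_eq_zero.mp this with h | h
      · linear_combination h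
      · exact absurd h hc
    rcases pm_one_of_sq r hrr with h | h
    · left
      rw [hr, h, one_smul]
    · right
      rw [hr, h, neg_smul, one_smul, neg_neg]

/-- frame data of a nondegenerate plane -/
theorem frame_two (X : Submodule F V) (hX : NondegOn Q X) (hdim : finrank F X = 2) :
    ∃ c : F, c ≠ 0 ∧ (∃ w ∈ X, ∃ w' ∈ X, Q w = c ∧ w' ≠ 0 ∧ polar Q w w' = 0) ∧
      ∀ x ∈ X, ∀ y ∈ X, Q x = c → Q y = c → polar Q x y = 0 ∨ x = y ∨ x = -y := by
  have h2 : (2 : F) ≠ 0 := two_ne_zero_of_three h3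
  obtain ⟨w, hwX, hQw⟩ := exists_nonsingular_of_nondegOn Q X hX (by omega)
  obtain ⟨-, hfr⟩ := nondegOn_inf_ker Q h2 X hX w hwX hQw
  have hpos : 0 < finrank F ↥(X ⊓ LinearMap.ker (polarBilin Q w)) := by omega
  obtain ⟨⟨w', hw'X⟩, hw'⟩ := Module.finrank_pos_iff_exists_ne_zero.mp hpos
  have hw'0 : w' ≠ 0 := fun h => hw' (Subtype.ext h)
  exact ⟨Q w, hQw, ⟨w, hwX, w', (Submodule.mem_inf.mp hw'X).1, rfl, hw'0,
    LinearMap.mem_ker.mp (Submodule.mem_inf.mp hw'X).2⟩, frame_two_P Q hF h3 X hX hdim (Q w) hQw⟩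

omit hF in
/-- three mutually orthogonal nonsingular vectors in a nondegenerate 3-space -/
theorem exists_orth_triple (X : Submodule F V) (hX : NondegOn Q X) (hdim : finrank F X = 3) :
    ∃ u₁ ∈ X, ∃ u₂ ∈ X, ∃ u₃ ∈ X, Q u₁ ≠ 0 ∧ Q u₂ ≠ 0 ∧ Q u₃ ≠ 0 ∧ polar Q u₁ u₂ = 0 ∧
      polar Q u₁ u₃ = 0 ∧ polar Q u₂ u₃ = 0 := by
  have h2 : (2 : F) ≠ 0 := two_ne_zero_of_three h3
  obtain ⟨u₁, hu₁X, hQ₁⟩ := exists_nonsingular_of_nondegOn Q X hX (by omega)
  obtain ⟨hX₁, hfr₁⟩ := nondegOn_inf_ker Q h2 X hX u₁ hu₁X hQ₁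
  obtain ⟨u₂, hu₂X, hQ₂⟩ := exists_nonsingular_of_nondegOn Q _ hX₁ (by omega)
  obtain ⟨hX₂, hfr₂⟩ := nondegOn_inf_ker Q h2 _ hX₁ u₂ hu₂X hQ₂
  obtain ⟨u₃, hu₃X, hQ₃⟩ := exists_nonsingular_of_nondegOn Q _ hX₂ (by omega)
  obtain ⟨hu₂X', hu₂1⟩ := Submodule.mem_inf.mp hu₂X
  obtain ⟨hu₃X₁, hu₃2⟩ := Submodule.mem_inf.mp hu₃X
  obtain ⟨hu₃X', hu₃1⟩ := Submodule.mem_inf.mp hu₃X₁
  exact ⟨u₁, hu₁X, u₂, hu₂X', u₃, hu₃X', hQ₁, hQ₂, hQ₃, LinearMap.mem_ker.mp hu₂1,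
    LinearMap.mem_ker.mp hu₃1, LinearMap.mem_ker.mp hu₃2⟩

omit hF [FiniteDimensional F V] in
theorem orth_triple_adjust (X : Submodule F V) (u₁ u₂ u₃ : V) (h₁ : u₁ ∈ X) (h₂ : u₂ ∈ X)
    (h₃ : u₃ ∈ X) (a : F) (ha : a ≠ 0) (hQ₁ : Q u₁ = a) (hQ₂ : Q u₂ = a) (hQ₃ : Q u₃ = -a)
    (h12 : polar Q u₁ u₂ = 0) (h13 : polar Q u₁ u₃ = 0) (h23 : polar Q u₂ u₃ = 0) :
    ∃ c : F, c ≠ 0 ∧ ∃ w₁ ∈ X, ∃ w₂ ∈ X, ∃ w₃ ∈ X, Q w₁ = c ∧ Q w₂ = c ∧ Q w₃ = c ∧
      polar Q w₁ w₂ = 0 ∧ polar Q w₁ w₃ = 0 ∧ polar Q w₂ w₃ = 0 := by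
  refine ⟨-a, neg_ne_zero.mpr ha, u₁ + u₂, X.add_mem h₁ h₂, u₁ - u₂, X.sub_mem h₁ h₂, u₃, h₃,
    ?_, ?_, hQ₃, ?_, ?_, ?_⟩
  · rw [QuadraticMap.map_add Q, hQ₁, hQ₂, h12]
    linear_combination a * h3
  · rw [sub_eq_add_neg, QuadraticMap.map_add Q, QuadraticMap.map_neg, polar_neg_right, hQ₁, hQ₂,
      h12]
    linear_combination a * h3
  · rw [polar_add_left, polar_sub_right, polar_sub_right, polar_self, polar_self, hQ₁, hQ₂,
      polar_comm Q u₂ u₁, h12]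
    simp
  · rw [polar_add_left, h13, h23, add_zero]
  · rw [polar_sub_left, h13, h23, sub_zero]

/-- three mutually orthogonal vectors of the same norm in a nondegenerate 3-space -/
theorem exists_orth_triple_eq (X : Submodule F V) (hX : NondegOn Q X) (hdim : finrank F X = 3) :
    ∃ c : F, c ≠ 0 ∧ ∃ w₁ ∈ X, ∃ w₂ ∈ X, ∃ w₃ ∈ X, Q w₁ = c ∧ Q w₂ = c ∧ Q w₃ = c ∧
      polar Q w₁ w₂ = 0 ∧ polar Q w₁ w₃ = 0 ∧ polar Q w₂ w₃ = 0 := by
  obtain ⟨u₁, h₁, u₂, h₂, u₃, h₃, hQ₁, hQ₂, hQ₃, h12, h13, h23⟩ :=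
    exists_orth_triple Q h3 X hX hdim
  have hpm : ∀ a b : F, a ≠ 0 → b ≠ 0 → b = a ∨ b = -a := by
    intro a b ha hb
    have h := hF a ha
    have h' := hF b hb
    have : (b - a) * (b + a) = 0 := by linear_combination h' - h
    rcases mul_eq_zero.mp this with h | h
    · left; linear_combination h
    · right; linear_combination h
  have h21 : polar Q u₂ u₁ = 0 := by rw [polar_comm]; exact h12
  have h31 : polar Q u₃ u₁ = 0 := by rw [polar_comm]; exact h13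
  have h32 : polar Q u₃ u₂ = 0 := by rw [polar_comm]; exact h23
  rcases hpm (Q u₁) (Q u₂) hQ₁ hQ₂ with e12 | e12
  · rcases hpm (Q u₁) (Q u₃) hQ₁ hQ₃ with e13 | e13
    · exact ⟨Q u₁, hQ₁, u₁, h₁, u₂, h₂, u₃, h₃, rfl, e12, e13, h12, h13, h23⟩
    · exact orth_triple_adjust Q h3 X u₁ u₂ u₃ h₁ h₂ h₃ (Q u₁) hQ₁ rfl e12 e13 h12 h13 h23
  · rcases hpm (Q u₁) (Q u₃) hQ₁ hQ₃ with e13 | e13
    · exact orth_triple_adjust Q h3 X u₁ u₃ u₂ h₁ h₃ h₂ (Q u₁) hQ₁ rfl e13 e12 h13 h12 h32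
    · exact orth_triple_adjust Q h3 X u₂ u₃ u₁ h₂ h₃ h₁ (Q u₂) hQ₂ rfl (by rw [e13, e12])
        (by rw [e12, neg_neg]) h23 h21 h31

/-- the vectors of norm `c` in a 3-space with an orthogonal basis of vectors of norm `c` -/
theorem eq_of_orth_triple (X : Submodule F V) (hdim : finrank F X = 3) (c : F) (hc : c ≠ 0)
    (u₁ u₂ u₃ : V) (h₁ : u₁ ∈ X) (h₂ : u₂ ∈ X) (h₃ : u₃ ∈ X) (hQ₁ : Q u₁ = c) (hQ₂ : Q u₂ = c)
    (hQ₃ : Q u₃ = c) (h12 : polar Q u₁ u₂ = 0) (h13 : polar Q u₁ u₃ = 0)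
    (h23 : polar Q u₂ u₃ = 0) (x : V) (hx : x ∈ X) (hQx : Q x = c) :
    (x = u₁ ∨ x = -u₁) ∨ (x = u₂ ∨ x = -u₂) ∨ (x = u₃ ∨ x = -u₃) := by
  have h2 : (2 : F) ≠ 0 := two_ne_zero_of_three h3
  have h2c : (2 : F) * c ≠ 0 := mul_ne_zero h2 hc
  have hs : ∀ u, Q u = c → polar Q u u = 2 * c := fun u hu => by
    rw [polar_self, hu, nsmul_eq_mul, Nat.cast_ofNat]
  have h21 : polar Q u₂ u₁ = 0 := by rw [polar_comm]; exact h12
  have h31 : polar Q u₃ u₁ = 0 := by rw [polar_comm]; exact h13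
  have h32 : polar Q u₃ u₂ = 0 := by rw [polar_comm]; exact h23
  have f1 := Cfsg.Agent.Lib.Helper6.finrank_inf_ker_add_one X (polarBilin Q u₁) u₁ h₁ (by
    change polar Q u₁ u₁ ≠ 0
    rw [hs u₁ hQ₁]; exact h2c)
  have m2 : u₂ ∈ X ⊓ LinearMap.ker (polarBilin Q u₁) :=
    Submodule.mem_inf.mpr ⟨h₂, LinearMap.mem_ker.mpr h12⟩
  have f2 := Cfsg.Agent.Lib.Helper6.finrank_inf_ker_add_one _ (polarBilin Q u₂) u₂ m2 (by
    change polar Q u₂ u₂ ≠ 0
    rw [hs u₂ hQ₂]; exact h2c)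
  have m3 : u₃ ∈ (X ⊓ LinearMap.ker (polarBilin Q u₁)) ⊓ LinearMap.ker (polarBilin Q u₂) :=
    Submodule.mem_inf.mpr ⟨Submodule.mem_inf.mpr ⟨h₃, LinearMap.mem_ker.mpr h13⟩,
      LinearMap.mem_ker.mpr h23⟩
  have f3 := Cfsg.Agent.Lib.Helper6.finrank_inf_ker_add_one _ (polarBilin Q u₃) u₃ m3 (by
    change polar Q u₃ u₃ ≠ 0
    rw [hs u₃ hQ₃]; exact h2c)
  have f0 : finrank F ↥(((X ⊓ LinearMap.ker (polarBilin Q u₁)) ⊓
      LinearMap.ker (polarBilin Q u₂)) ⊓ LinearMap.ker (polarBilin Q u₃)) = 0 := by omega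
  have hbot := Submodule.finrank_eq_zero.mp f0
  obtain ⟨a₁, ha₁⟩ : ∃ a₁, a₁ = (2 * c)⁻¹ * polar Q u₁ x := ⟨_, rfl⟩
  obtain ⟨a₂, ha₂⟩ : ∃ a₂, a₂ = (2 * c)⁻¹ * polar Q u₂ x := ⟨_, rfl⟩
  obtain ⟨a₃, ha₃⟩ : ∃ a₃, a₃ = (2 * c)⁻¹ * polar Q u₃ x := ⟨_, rfl⟩
  have hp : ∀ (a : F) (u : V), a = (2 * c)⁻¹ * polar Q u x → a * (2 * c) = polar Q u x := by
    intro a u h
    rw [h, mul_comm, ← mul_assoc, mul_inv_cancel₀ h2c, one_mul]
  have hz : x - a₁ • u₁ - a₂ • u₂ - a₃ • u₃ ∈ ((X ⊓ LinearMap.ker (polarBilin Q u₁)) ⊓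
      LinearMap.ker (polarBilin Q u₂)) ⊓ LinearMap.ker (polarBilin Q u₃) := by
    refine Submodule.mem_inf.mpr ⟨Submodule.mem_inf.mpr ⟨Submodule.mem_inf.mpr ⟨?_, ?_⟩, ?_⟩, ?_⟩
    · exact X.sub_mem (X.sub_mem (X.sub_mem hx (X.smul_mem _ h₁)) (X.smul_mem _ h₂))
        (X.smul_mem _ h₃)
    · rw [LinearMap.mem_ker]
      change polar Q u₁ (x - a₁ • u₁ - a₂ • u₂ - a₃ • u₃) = 0
      have : polar Q u₁ (x - a₁ • u₁ - a₂ • u₂ - a₃ • u₃) = polar Q u₁ x - a₁ * (2 * c) := by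
        simp only [polar_sub_right, polar_smul_right, hs u₁ hQ₁, h12, h13, smul_eq_mul, mul_zero,
          sub_zero]
      rw [this, hp a₁ u₁ ha₁, sub_self]
    · rw [LinearMap.mem_ker]
      change polar Q u₂ (x - a₁ • u₁ - a₂ • u₂ - a₃ • u₃) = 0
      have : polar Q u₂ (x - a₁ • u₁ - a₂ • u₂ - a₃ • u₃) = polar Q u₂ x - a₂ * (2 * c) := by
        simp only [polar_sub_right, polar_smul_right, hs u₂ hQ₂, h21, h23, smul_eq_mul, mul_zero,
          sub_zero]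
      rw [this, hp a₂ u₂ ha₂, sub_self]
    · rw [LinearMap.mem_ker]
      change polar Q u₃ (x - a₁ • u₁ - a₂ • u₂ - a₃ • u₃) = 0
      have : polar Q u₃ (x - a₁ • u₁ - a₂ • u₂ - a₃ • u₃) = polar Q u₃ x - a₃ * (2 * c) := by
        simp only [polar_sub_right, polar_smul_right, hs u₃ hQ₃, h31, h32, smul_eq_mul, mul_zero,
          sub_zero]
      rw [this, hp a₃ u₃ ha₃, sub_self]
  rw [hbot] at hz
  have hz0 := (Submodule.mem_bot F).mp hz
  have hxe : x = a₁ • u₁ + a₂ • u₂ + a₃ • u₃ := by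
    rw [sub_sub, sub_sub, sub_eq_zero] at hz0
    rw [add_assoc]
    exact hz0
  have hQe : Q (a₁ • u₁ + a₂ • u₂ + a₃ • u₃) = (a₁ * a₁ + a₂ * a₂ + a₃ * a₃) * c := by
    simp only [QuadraticMap.map_add Q, QuadraticMap.map_smul, polar_add_left, polar_smul_left,
      polar_smul_right, hQ₁, hQ₂, hQ₃, h12, h13, h23, smul_eq_mul, mul_zero, add_zero]
    ring
  have E : a₁ * a₁ + a₂ * a₂ + a₃ * a₃ = 1 := by
    rw [hxe, hQe] at hQx
    have : (a₁ * a₁ + a₂ * a₂ + a₃ * a₃ - 1) * c = 0 := by linear_combination hQx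
    rcases mul_eq_zero.mp this with h | h
    · linear_combination h
    · exact absurd h hc
  have hsq : ∀ a : F, a = 0 ∨ a * a = 1 := fun a => by
    by_cases h : a = 0
    · left; exact h
    · right; exact hF a h
  rcases hsq a₁ with e1 | e1 <;> rcases hsq a₂ with e2 | e2 <;> rcases hsq a₃ with e3 | e3
  · exfalso
    rw [e1, e2, e3] at E
    simp at E
  · right; right
    rw [hxe, e1, e2, zero_smul, zero_smul, zero_add, zero_add]
    rcases pm_one_of_sq a₃ e3 with h | h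
    · left; rw [h, one_smul]
    · right; rw [h, neg_smul, one_smul]
  · right; left
    rw [hxe, e1, e3, zero_smul, zero_smul, zero_add, add_zero]
    rcases pm_one_of_sq a₂ e2 with h | h
    · left; rw [h, one_smul]
    · right; rw [h, neg_smul, one_smul]
  · exfalso
    rw [e1, e2, e3] at E
    exact one_ne_zero (by linear_combination E : (1 : F) = 0)
  · left
    rw [hxe, e2, e3, zero_smul, zero_smul, add_zero, add_zero]
    rcases pm_one_of_sq a₁ e1 with h | h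
    · left; rw [h, one_smul]
    · right; rw [h, neg_smul, one_smul]
  · exfalso
    rw [e1, e2, e3] at E
    exact one_ne_zero (by linear_combination E : (1 : F) = 0)
  · exfalso
    rw [e1, e2, e3] at E
    exact one_ne_zero (by linear_combination E : (1 : F) = 0)
  · exfalso
    rw [e1, e2, e3] at E
    exact one_ne_zero (by linear_combination h3 - E : (1 : F) = 0)

/-- frame data of a nondegenerate 3-space -/
theorem frame_three (X : Submodule F V) (hX : NondegOn Q X) (hdim : finrank F X = 3) :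
    ∃ c : F, c ≠ 0 ∧ (∃ w ∈ X, ∃ w' ∈ X, Q w = c ∧ w' ≠ 0 ∧ polar Q w w' = 0) ∧
      ∀ x ∈ X, ∀ y ∈ X, Q x = c → Q y = c → polar Q x y = 0 ∨ x = y ∨ x = -y := by
  obtain ⟨c, hc, u₁, h₁, u₂, h₂, u₃, h₃, hQ₁, hQ₂, hQ₃, h12, h13, h23⟩ :=
    exists_orth_triple_eq Q hF h3 X hX hdim
  have hu₂0 : u₂ ≠ 0 := by
    rintro rfl
    rw [QuadraticMap.map_zero] at hQ₂
    exact hc hQ₂.symm
  refine ⟨c, hc, ⟨u₁, h₁, u₂, h₂, hQ₁, hu₂0, h12⟩, ?_⟩
  intro x hx y hy hQx hQy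
  have h21 : polar Q u₂ u₁ = 0 := by rw [polar_comm]; exact h12
  have h31 : polar Q u₃ u₁ = 0 := by rw [polar_comm]; exact h13
  have h32 : polar Q u₃ u₂ = 0 := by rw [polar_comm]; exact h23
  have cx := eq_of_orth_triple Q hF h3 X hdim c hc u₁ u₂ u₃ h₁ h₂ h₃ hQ₁ hQ₂ hQ₃ h12 h13 h23 x hx
    hQx
  have cy := eq_of_orth_triple Q hF h3 X hdim c hc u₁ u₂ u₃ h₁ h₂ h₃ hQ₁ hQ₂ hQ₃ h12 h13 h23 y hy
    hQy
  rcases cx with (hx1 | hx1) | (hx1 | hx1) | (hx1 | hx1) <;>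
    rcases cy with (hy1 | hy1) | (hy1 | hy1) | (hy1 | hy1) <;>
    (rw [hx1, hy1]; simp [polar_neg_left, polar_neg_right, h12, h13, h23, h21, h31, h32])

end sub

end Cfsg.Agent.Lib.Helper13
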