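import Mathlib
import Cfsg.Agent.Lib.Helper13.OrthFrame2

/-!
# Imprimitive subgroups `O_2(3) ≀ S_t`, `O_3(3) ≀ S_t` of orthogonal groups are not maximal in `Ω`
-/

set_option autoImplicit false

namespace Cfsg.Agent.Lib.Helper13

open Module QuadraticMap

section sup
variable {F V : Type*} [Field F] [AddCommGroup V] [Module F V] [FiniteDimensional F V]

theorem finrank_biSup_le {ι : Type*} (s : Finset ι) (D : ι → Submodule F V) (k : ℕ)
    (hk : ∀ i, finrank F (D i) ≤ k) : finrank F ↥(⨆ i ∈ s, D i) ≤ s.card * k := by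
  classical
  induction s using Finset.induction_on with
  | empty => simp
  | insert a s ha ih =>
    rw [Finset.iSup_insert, Finset.card_insert_of_notMem ha, add_mul, one_mul]
    have h1 := Submodule.finrank_add_le_finrank_add_finrank (D a) (⨆ i ∈ s, D i)
    have h2 := hk a
    omega

theorem finrank_iSup_fin_le {t : ℕ} (D : Fin t → Submodule F V) (k : ℕ)
    (hk : ∀ i, finrank F (D i) ≤ k) : finrank F ↥(⨆ i, D i) ≤ t * k := by
  have := finrank_biSup_le Finset.univ D k hk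
  have e : (⨆ i ∈ (Finset.univ : Finset (Fin t)), D i) = ⨆ i, D i := by simp
  rw [e, Finset.card_univ, Fintype.card_fin] at this
  exact this

omit [FiniteDimensional F V] in
/-- an isometry between subspaces preserves the polar form -/
theorem polar_of_isometry (Q : QuadraticForm F V) (X Y : Submodule F V) (e : X ≃ₗ[F] Y)
    (he : ∀ w : X, Q ((e w : Y) : V) = Q (w : V)) (u v : X) :
    polar Q ((e u : Y) : V) ((e v : Y) : V) = polar Q (u : V) (v : V) := by
  unfold polar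
  have : ((e u : Y) : V) + ((e v : Y) : V) = ((e (u + v) : Y) : V) := by
    rw [map_add]
    rfl
  rw [this, he, he, he]
  rfl

end sup

section geoframe
universe u
variable {F : Type u} [Field F] [Fintype F] {ι : Type} [Fintype ι] [DecidableEq ι]

open Cfsg.Geo Matrix

omit [Fintype F] in
theorem mem_stabilizing_symm_iff (Q : QuadraticForm F (ι → F)) (S : Set (ι → F))
    (g : isoGroup Q) :
    (((isoEquiv ⇑Q Q (fun _ => rfl)).symm g : ↥(Cfsg.isometryGroup F ⇑Q)) : GL ι F) ∈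
      Cfsg.stabilizing (Cfsg.glToMat ι F) S ↔ ∀ x, g.1 x ∈ S ↔ x ∈ S := by
  have key : ∀ y : ↥(Cfsg.isometryGroup F ⇑Q),
      (y : GL ι F) ∈ Cfsg.stabilizing (Cfsg.glToMat ι F) S ↔
        ∀ x, (isoEquiv ⇑Q Q (fun _ => rfl) y).1 x ∈ S ↔ x ∈ S := by
    intro y
    constructor
    · intro h x
      exact (h x).symm
    · intro h x
      exact (h x).symm
  rw [key, MulEquiv.apply_symm_apply]

/-- **Stabilisers of orthogonal decompositions into isometric nondegenerate subspaces of dimension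
`2` or `3` over the field with three elements are not maximal in `Ω`.** -/
theorem frame_not_maximal (Q : QuadraticForm F (ι → F)) (hQ : (polarBilin Q).Nondegenerate)
    (hq : Fintype.card F = 3) (hcard : 13 ≤ Fintype.card ι) {t : ℕ} (k : ℕ)
    (hk : k = 2 ∨ k = 3) (D : Fin t → Submodule F (ι → F))
    (hD : IsOrthogonalMDecomposition ⇑Q k D) :
    ∃ K : Subgroup (GL ι F), decompositionStabilizer D ⊓ omegaGL ⇑Q < K ∧ K < omegaGL ⇑Q := by
  have h3 : (3 : F) = 0 := by
    have := Nat.cast_card_eq_zero F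
    rw [hq] at this
    exact_mod_cast this
  have hF : ∀ x : F, x ≠ 0 → x * x = 1 := by
    intro x hx
    have h1 := FiniteField.pow_card_sub_one_eq_one x hx
    rw [hq] at h1
    rw [← pow_two]
    exact h1
  have hkfr := hD.decomp.decomp.finrank_eq
  have htop := hD.decomp.decomp.iSup_eq_top
  have ht5 : 5 ≤ t := by
    have h1 := finrank_iSup_fin_le D k (fun i => (hkfr i).le)
    rw [htop, finrank_top, Module.finrank_fintype_fun_eq_card] at h1
    rcases hk with rfl | rfl <;> omega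
  have horth : ∀ i j, i ≠ j → ∀ x ∈ D i, ∀ y ∈ D j, polar Q x y = 0 :=
    fun i j hij x hx y hy => hD.decomp.orthogonal i j hij x hx y hy
  have hnd : ∀ i, NondegOn Q (D i) := by
    intro i x hx hxy
    by_contra hne
    obtain ⟨y, hy, hyx⟩ := (hD.decomp.nondegenerate i x hx hne).2
    exact hyx (hxy y hy)
  let ix : Fin 5 → Fin t := Fin.castLE ht5
  have hix : Function.Injective ix := Fin.castLE_injective ht5
  obtain ⟨c, hc, ⟨w, hwX, w', hw'X, hQw, hw'0, hww'⟩, hP0⟩ : ∃ c : F, c ≠ 0 ∧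
      (∃ w ∈ D (ix 0), ∃ w' ∈ D (ix 0), Q w = c ∧ w' ≠ 0 ∧ polar Q w w' = 0) ∧
      ∀ x ∈ D (ix 0), ∀ y ∈ D (ix 0), Q x = c → Q y = c →
        polar Q x y = 0 ∨ x = y ∨ x = -y := by
    rcases hk with rfl | rfl
    · exact frame_two Q hF h3 (D (ix 0)) (hnd _) (hkfr _)
    · exact frame_three Q hF h3 (D (ix 0)) (hnd _) (hkfr _)
  have hiso : ∀ i, ∃ e : D (ix 0) ≃ₗ[F] D i,
      ∀ w : D (ix 0), Q ((e w : D i) : ι → F) = Q (w : ι → F) :=
    fun i => hD.isometric (ix 0) i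
  choose e he using hiso
  have hP : ∀ i, ∀ x ∈ D i, ∀ y ∈ D i, Q x = c → Q y = c →
      polar Q x y = 0 ∨ x = y ∨ x = -y := by
    intro i x hx y hy hQx hQy
    obtain ⟨x₀, hx₀⟩ : ∃ x₀ : D (ix 0), ((e i x₀ : D i) : ι → F) = x :=
      ⟨(e i).symm ⟨x, hx⟩, by rw [LinearEquiv.apply_symm_apply]⟩
    obtain ⟨y₀, hy₀⟩ : ∃ y₀ : D (ix 0), ((e i y₀ : D i) : ι → F) = y :=
      ⟨(e i).symm ⟨y, hy⟩, by rw [LinearEquiv.apply_symm_apply]⟩
    have h1 : Q (x₀ : ι → F) = c := by
      rw [← he i x₀, hx₀]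
      exact hQx
    have h2 : Q (y₀ : ι → F) = c := by
      rw [← he i y₀, hy₀]
      exact hQy
    have hpol := polar_of_isometry Q (D (ix 0)) (D i) (e i) (he i) x₀ y₀
    rw [hx₀, hy₀] at hpol
    rcases hP0 x₀ x₀.2 y₀ y₀.2 h1 h2 with h | h | h
    · left
      rw [hpol]
      exact h
    · right; left
      have : x₀ = y₀ := Subtype.ext h
      rw [← hx₀, ← hy₀, this]
    · right; right
      have : x₀ = -y₀ := Subtype.ext (by rw [h]; rfl)
      rw [← hx₀, ← hy₀, this, map_neg]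
      rfl
  let v : Fin 5 → (ι → F) := fun j => ((e (ix j) ⟨w, hwX⟩ : D (ix j)) : ι → F)
  have hv : ∀ j, v j ∈ D (ix j) := fun j => (e (ix j) ⟨w, hwX⟩).2
  have hvc : ∀ j, Q (v j) = c := fun j => by
    rw [← hQw]
    exact he (ix j) ⟨w, hwX⟩
  have hv' : ((e (ix 0) ⟨w', hw'X⟩ : D (ix 0)) : ι → F) ∈ D (ix 0) := (e (ix 0) ⟨w', hw'X⟩).2
  have hv'0 : ((e (ix 0) ⟨w', hw'X⟩ : D (ix 0)) : ι → F) ≠ 0 := by
    intro h
    have : e (ix 0) ⟨w', hw'X⟩ = 0 := Subtype.ext h
    rw [LinearEquiv.map_eq_zero_iff] at this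
    exact hw'0 (congrArg Subtype.val this)
  have hvv' : polar Q (v 0) ((e (ix 0) ⟨w', hw'X⟩ : D (ix 0)) : ι → F) = 0 :=
    (polar_of_isometry Q (D (ix 0)) (D (ix 0)) (e (ix 0)) (he (ix 0)) ⟨w, hwX⟩
      ⟨w', hw'X⟩).trans hww'
  have hdisj : D (ix 0) ⊓ D (ix 1) = ⊥ := by
    have h01 : ix 0 ≠ ix 1 := fun h => absurd (hix h) (by decide)
    exact disjoint_iff.mp (hD.decomp.decomp.indep.pairwiseDisjoint h01)
  obtain ⟨h1, h2, h3'⟩ := frame_core Q hQ h3 D c hc horth hP ix hix v hv hvc _ hv' hv'0 hvv' hdisj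
  exact exists_between_pred Q (decompositionStabilizer D)
    (Cfsg.stabilizing (Cfsg.glToMat ι F) (frameSet Q D c)) _ _
    (mem_decompositionStabilizer_symm_iff Q D) (mem_stabilizing_symm_iff Q (frameSet Q D c))
    h1 h2 h3'

end geoframe

end Cfsg.Agent.Lib.Helper13
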