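import Mathlib
import Cfsg.Agent.Lib.Helper2.SympCenter
import Cfsg.Agent.Lib.Helper6.Dickson
import Cfsg.Agent.Lib.Helper13.OrthFrameGeo
import Cfsg.Prelude.Def_GeometricClasses

/-!
# `Sp_2(2) ≀ S_m` is not maximal in `Sp_{2m}(2)`

The stabiliser of an orthogonal decomposition into nondegenerate planes over the field with two
elements preserves the quadratic form which is the orthogonal sum of the anisotropic forms on the
planes; so it lies in an orthogonal group.
-/

set_option autoImplicit false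

namespace Cfsg.Agent.Lib.Helper13

open Matrix Module Cfsg.Agent.Lib.Helper6

section basics
variable {m : ℕ} {F : Type*} [Field F]

/-- `x ↦ f(x, e)` as a linear functional -/
def sympL (e : Fin m ⊕ Fin m → F) : (Fin m ⊕ Fin m → F) →ₗ[F] F where
  toFun x := Cfsg.sympForm m F x e
  map_add' x y := sympForm_add_left x y e
  map_smul' c x := sympForm_smul_left c x e

theorem sympL_apply (e x : Fin m ⊕ Fin m → F) : sympL e x = Cfsg.sympForm m F x e := rfl

/-- `y ↦ f(x, y)` as a linear functional -/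
def sympR (x : Fin m ⊕ Fin m → F) : (Fin m ⊕ Fin m → F) →ₗ[F] F where
  toFun y := Cfsg.sympForm m F x y
  map_add' y y' := sympForm_add_right x y y'
  map_smul' c y := sympForm_smul_right c x y

theorem sympR_apply (x y : Fin m ⊕ Fin m → F) : sympR x y = Cfsg.sympForm m F x y := rfl

theorem transvection_zero (v : Fin m ⊕ Fin m → F) : Cfsg.sympTransvection m v (0 : F) = 1 := by
  unfold Cfsg.sympTransvection
  rw [zero_smul, add_zero]

/-- symplectic transvections as invertible matrices -/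
def sympTransvGL (v : Fin m ⊕ Fin m → F) (c : F) : GL (Fin m ⊕ Fin m) F :=
  ⟨Cfsg.sympTransvection m v c, Cfsg.sympTransvection m v (-c),
    by rw [sympTransvection_mul, add_neg_cancel, transvection_zero],
    by rw [sympTransvection_mul, neg_add_cancel, transvection_zero]⟩

theorem sympTransvGL_mulVec (v : Fin m ⊕ Fin m → F) (c : F) (x : Fin m ⊕ Fin m → F) :
    ((sympTransvGL v c : GL (Fin m ⊕ Fin m) F) : Matrix (Fin m ⊕ Fin m) (Fin m ⊕ Fin m) F) *ᵥ x =
      x + (c * Cfsg.sympForm m F x v) • v :=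
  sympTransvection_mulVec v c x

theorem sympTransvGL_mem (v : Fin m ⊕ Fin m → F) (c : F) : sympTransvGL v c ∈ Cfsg.spGL m F := by
  intro x y
  exact (mem_symplecticGroup_iff_preserves _).mp (sympTransvection_mem v c) x y

/-- the quadratic form attached to hyperbolic bases of the members -/
def spQ {t : ℕ} (e f : Fin t → (Fin m ⊕ Fin m → F)) (x : Fin m ⊕ Fin m → F) : F :=
  ∑ i, (Cfsg.sympForm m F x (f i) * Cfsg.sympForm m F x (f i) +
    Cfsg.sympForm m F x (f i) * Cfsg.sympForm m F x (e i) +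
    Cfsg.sympForm m F x (e i) * Cfsg.sympForm m F x (e i))

end basics

section core
variable {m : ℕ} {F : Type*} [Field F] [Fintype F] {t : ℕ}

/-- hyperbolic bases of the members of an orthogonal decomposition into planes over the field with
two elements -/
structure SpFrame (D : Fin t → Submodule F (Fin m ⊕ Fin m → F))
    (e f : Fin t → (Fin m ⊕ Fin m → F)) : Prop where
  card : Fintype.card F = 2
  he : ∀ i, e i ∈ D i
  hf : ∀ i, f i ∈ D i
  hef : ∀ i, Cfsg.sympForm m F (e i) (f i) = 1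
  hspan : ∀ i, ∀ y ∈ D i,
    y = Cfsg.sympForm m F y (f i) • e i + Cfsg.sympForm m F y (e i) • f i
  horth : ∀ i j, i ≠ j → ∀ u ∈ D i, ∀ v ∈ D j, Cfsg.sympForm m F u v = 0
  htop : ⨆ i, D i = ⊤

variable {D : Fin t → Submodule F (Fin m ⊕ Fin m → F)} {e f : Fin t → (Fin m ⊕ Fin m → F)}

theorem SpFrame.two (h : SpFrame D e f) : (2 : F) = 0 := by
  have := Nat.cast_card_eq_zero F
  rw [h.card] at this
  exact_mod_cast this

theorem SpFrame.neg (h : SpFrame D e f) (a : F) : -a = a := by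
  have : a + a = 0 := by linear_combination a * h.two
  exact neg_eq_of_add_eq_zero_left this

theorem SpFrame.zero_or_one (h : SpFrame D e f) (a : F) : a = 0 ∨ a = 1 := by
  by_cases h0 : a = 0
  · left; exact h0
  · right
    have := FiniteField.pow_card_sub_one_eq_one a h0
    rw [h.card] at this
    simpa using this

theorem SpFrame.symm (h : SpFrame D e f) (x y : Fin m ⊕ Fin m → F) :
    Cfsg.sympForm m F x y = Cfsg.sympForm m F y x := by
  rw [sympForm_swap, h.neg]

theorem SpFrame.hfe (h : SpFrame D e f) (i : Fin t) : Cfsg.sympForm m F (f i) (e i) = 1 := by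
  rw [h.symm, h.hef]

theorem SpFrame.eq_zero_of_forall (h : SpFrame D e f) (z : Fin m ⊕ Fin m → F)
    (hz : ∀ j, Cfsg.sympForm m F z (e j) = 0 ∧ Cfsg.sympForm m F z (f j) = 0) : z = 0 := by
  by_contra hne
  obtain ⟨x, hx⟩ := Cfsg.Agent.Lib.Helper2.exists_sympForm_ne_zero hne
  have hker : (⨆ i, D i) ≤ LinearMap.ker (sympR z) := by
    apply iSup_le
    intro j w hw
    have hw' := h.hspan j w hw
    rw [LinearMap.mem_ker, sympR_apply, hw', sympForm_add_right, sympForm_smul_right,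
      sympForm_smul_right, (hz j).1, (hz j).2, mul_zero, mul_zero, add_zero]
  rw [h.htop] at hker
  have : Cfsg.sympForm m F z x = 0 := hker (Submodule.mem_top)
  apply hx
  rw [sympForm_swap, this, neg_zero]

theorem SpFrame.term_e (h : SpFrame D e f) (y : Fin m ⊕ Fin m → F) (k j : Fin t) :
    Cfsg.sympForm m F (Cfsg.sympForm m F y (f k) • e k + Cfsg.sympForm m F y (e k) • f k) (e j) =
      if k = j then Cfsg.sympForm m F y (e j) else 0 := by
  rw [sympForm_add_left, sympForm_smul_left, sympForm_smul_left]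
  by_cases hkj : k = j
  · rw [if_pos hkj, hkj, sympForm_self, h.hfe, mul_zero, zero_add, mul_one]
  · rw [if_neg hkj, h.horth k j hkj _ (h.he k) _ (h.he j), h.horth k j hkj _ (h.hf k) _ (h.he j),
      mul_zero, mul_zero, add_zero]

theorem SpFrame.term_f (h : SpFrame D e f) (y : Fin m ⊕ Fin m → F) (k j : Fin t) :
    Cfsg.sympForm m F (Cfsg.sympForm m F y (f k) • e k + Cfsg.sympForm m F y (e k) • f k) (f j) =
      if k = j then Cfsg.sympForm m F y (f j) else 0 := by
  rw [sympForm_add_left, sympForm_smul_left, sympForm_smul_left]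
  by_cases hkj : k = j
  · rw [if_pos hkj, hkj, sympForm_self, h.hef, mul_zero, add_zero, mul_one]
  · rw [if_neg hkj, h.horth k j hkj _ (h.he k) _ (h.hf j), h.horth k j hkj _ (h.hf k) _ (h.hf j),
      mul_zero, mul_zero, add_zero]

/-- expansion of a vector in the hyperbolic bases -/
theorem SpFrame.expand (h : SpFrame D e f) (y : Fin m ⊕ Fin m → F) :
    y = ∑ j, (Cfsg.sympForm m F y (f j) • e j + Cfsg.sympForm m F y (e j) • f j) := by
  have : y - ∑ j, (Cfsg.sympForm m F y (f j) • e j + Cfsg.sympForm m F y (e j) • f j) = 0 := by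
    apply h.eq_zero_of_forall
    intro j
    constructor
    · rw [sympForm_sub_left, ← sympL_apply (e j) (∑ j, _), map_sum]
      simp only [sympL_apply, h.term_e, Finset.sum_ite_eq', Finset.mem_univ, if_true, sub_self]
    · rw [sympForm_sub_left, ← sympL_apply (f j) (∑ j, _), map_sum]
      simp only [sympL_apply, h.term_f, Finset.sum_ite_eq', Finset.mem_univ, if_true, sub_self]
  exact sub_eq_zero.mp this

theorem SpFrame.form_eq (h : SpFrame D e f) (x y : Fin m ⊕ Fin m → F) :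
    Cfsg.sympForm m F x y = ∑ j, (Cfsg.sympForm m F y (f j) * Cfsg.sympForm m F x (e j) +
      Cfsg.sympForm m F y (e j) * Cfsg.sympForm m F x (f j)) := by
  have := congrArg (sympR x) (h.expand y)
  rw [map_sum] at this
  simp only [map_add, map_smul, sympR_apply, smul_eq_mul] at this
  exact this

/-- the quadratic identity -/
theorem SpFrame.spQ_add (h : SpFrame D e f) (x y : Fin m ⊕ Fin m → F) :
    spQ e f (x + y) = spQ e f x + spQ e f y + Cfsg.sympForm m F x y := by
  rw [h.form_eq x y]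
  unfold spQ
  rw [← Finset.sum_add_distrib, ← Finset.sum_add_distrib]
  apply Finset.sum_congr rfl
  intro i _
  rw [sympForm_add_left, sympForm_add_left]
  linear_combination (Cfsg.sympForm m F x (f i) * Cfsg.sympForm m F y (f i) +
    Cfsg.sympForm m F x (e i) * Cfsg.sympForm m F y (e i)) * h.two

theorem SpFrame.spQ_e (h : SpFrame D e f) (i : Fin t) : spQ e f (e i) = 1 := by
  unfold spQ
  rw [Finset.sum_eq_single i]
  · rw [h.hef, sympForm_self]
    ring
  · intro k _ hki
    rw [h.horth i k (Ne.symm hki) _ (h.he i) _ (h.hf k), h.horth i k (Ne.symm hki) _ (h.he i) _ (h.he k)]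
    ring
  · intro hi
    exact absurd (Finset.mem_univ i) hi

theorem SpFrame.spQ_f (h : SpFrame D e f) (i : Fin t) : spQ e f (f i) = 1 := by
  unfold spQ
  rw [Finset.sum_eq_single i]
  · rw [h.hfe, sympForm_self]
    ring
  · intro k _ hki
    rw [h.horth i k (Ne.symm hki) _ (h.hf i) _ (h.hf k), h.horth i k (Ne.symm hki) _ (h.hf i) _ (h.he k)]
    ring
  · intro hi
    exact absurd (Finset.mem_univ i) hi

open Classical in
/-- the summands of the quadratic form are the indicators of the nonzero components -/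
theorem SpFrame.term_eq_ite (h : SpFrame D e f) (x : Fin m ⊕ Fin m → F) (i : Fin t) :
    Cfsg.sympForm m F x (f i) * Cfsg.sympForm m F x (f i) +
      Cfsg.sympForm m F x (f i) * Cfsg.sympForm m F x (e i) +
      Cfsg.sympForm m F x (e i) * Cfsg.sympForm m F x (e i) =
    if ∃ w ∈ D i, Cfsg.sympForm m F x w ≠ 0 then 1 else 0 := by
  rcases h.zero_or_one (Cfsg.sympForm m F x (f i)) with ha | ha <;>
    rcases h.zero_or_one (Cfsg.sympForm m F x (e i)) with hb | hb
  · rw [if_neg, ha, hb]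
    · ring
    · rintro ⟨w, hw, hxw⟩
      apply hxw
      have hw' := h.hspan i w hw
      rw [hw', sympForm_add_right, sympForm_smul_right, sympForm_smul_right, ha, hb, mul_zero,
        mul_zero, add_zero]
  · rw [if_pos ⟨e i, h.he i, by rw [hb]; exact one_ne_zero⟩, ha, hb]
    ring
  · rw [if_pos ⟨f i, h.hf i, by rw [ha]; exact one_ne_zero⟩, ha, hb]
    ring
  · rw [if_pos ⟨f i, h.hf i, by rw [ha]; exact one_ne_zero⟩, ha, hb]
    linear_combination h.two

open Classical in
theorem SpFrame.spQ_eq_sum_ite (h : SpFrame D e f) (x : Fin m ⊕ Fin m → F) :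
    spQ e f x = ∑ i, if ∃ w ∈ D i, Cfsg.sympForm m F x w ≠ 0 then (1 : F) else 0 := by
  unfold spQ
  apply Finset.sum_congr rfl
  intro i _
  exact h.term_eq_ite x i

/-- invariance of the quadratic form under the stabiliser of the decomposition -/
theorem SpFrame.spQ_invariant (h : SpFrame D e f) (g : GL (Fin m ⊕ Fin m) F)
    (hg : g ∈ Cfsg.spGL m F) (hgD : g ∈ Cfsg.Geo.decompositionStabilizer D)
    (x : Fin m ⊕ Fin m → F) :
    spQ e f ((g : Matrix (Fin m ⊕ Fin m) (Fin m ⊕ Fin m) F) *ᵥ x) = spQ e f x := by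
  classical
  obtain ⟨σ, hσ⟩ := hgD
  rw [h.spQ_eq_sum_ite, h.spQ_eq_sum_ite, ← Equiv.sum_comp σ]
  apply Finset.sum_congr rfl
  intro i _
  have hiff : (∃ w ∈ D (σ i), Cfsg.sympForm m F
      ((g : Matrix (Fin m ⊕ Fin m) (Fin m ⊕ Fin m) F) *ᵥ x) w ≠ 0) ↔
      ∃ w ∈ D i, Cfsg.sympForm m F x w ≠ 0 := by
    constructor
    · rintro ⟨w, hw, hxw⟩
      rw [← hσ i] at hw
      obtain ⟨w', hw', rfl⟩ := hw
      refine ⟨w', hw', ?_⟩
      rw [Matrix.toLin'_apply] at hxw
      have e1 : Cfsg.sympForm m F ((g : Matrix (Fin m ⊕ Fin m) (Fin m ⊕ Fin m) F) *ᵥ x)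
          ((g : Matrix (Fin m ⊕ Fin m) (Fin m ⊕ Fin m) F) *ᵥ w') = Cfsg.sympForm m F x w' :=
        hg x w'
      rwa [e1] at hxw
    · rintro ⟨w', hw', hxw⟩
      refine ⟨(g : Matrix (Fin m ⊕ Fin m) (Fin m ⊕ Fin m) F) *ᵥ w', ?_, ?_⟩
      · rw [← hσ i]
        exact ⟨w', hw', Matrix.toLin'_apply _ _⟩
      · have e1 : Cfsg.sympForm m F ((g : Matrix (Fin m ⊕ Fin m) (Fin m ⊕ Fin m) F) *ᵥ x)
            ((g : Matrix (Fin m ⊕ Fin m) (Fin m ⊕ Fin m) F) *ᵥ w') = Cfsg.sympForm m F x w' :=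
          hg x w'
        rw [e1]
        exact hxw
  by_cases hc : ∃ w ∈ D i, Cfsg.sympForm m F x w ≠ 0
  · rw [if_pos hc, if_pos (hiff.mpr hc)]
  · rw [if_neg hc, if_neg (fun h' => hc (hiff.mp h'))]

end core

section main
variable {m : ℕ} {F : Type*} [Field F] [Fintype F] {t : ℕ}
  {D : Fin t → Submodule F (Fin m ⊕ Fin m → F)} {e f : Fin t → (Fin m ⊕ Fin m → F)}

open Cfsg.Geo

/-- the transvection in a nonsingular vector preserves the quadratic form -/
theorem SpFrame.spQ_transv (h : SpFrame D e f) (a : Fin m ⊕ Fin m → F) (ha : spQ e f a = 1)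
    (x : Fin m ⊕ Fin m → F) :
    spQ e f (((sympTransvGL a 1 : GL (Fin m ⊕ Fin m) F) :
      Matrix (Fin m ⊕ Fin m) (Fin m ⊕ Fin m) F) *ᵥ x) = spQ e f x := by
  rw [sympTransvGL_mulVec, one_mul]
  rcases h.zero_or_one (Cfsg.sympForm m F x a) with h0 | h1
  · rw [h0, zero_smul, add_zero]
  · rw [h1, one_smul, h.spQ_add, ha, h1]
    linear_combination h.two

/-- **The stabiliser of the decomposition is not maximal.** -/
theorem SpFrame.not_maximal (h : SpFrame D e f) (i₁ i₂ i₃ : Fin t) (h12 : i₁ ≠ i₂)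
    (h13 : i₁ ≠ i₃) (h23 : i₂ ≠ i₃) :
    ∃ K : Subgroup (GL (Fin m ⊕ Fin m) F),
      decompositionStabilizer D ⊓ Cfsg.spGL m F < K ∧ K < Cfsg.spGL m F := by
  have hee : ∀ i j, i ≠ j → Cfsg.sympForm m F (e i) (e j) = 0 :=
    fun i j hij => h.horth i j hij _ (h.he i) _ (h.he j)
  have hfF : ∀ i j, i ≠ j → Cfsg.sympForm m F (f i) (f j) = 0 :=
    fun i j hij => h.horth i j hij _ (h.hf i) _ (h.hf j)
  have heF : ∀ i j, i ≠ j → Cfsg.sympForm m F (e i) (f j) = 0 :=
    fun i j hij => h.horth i j hij _ (h.he i) _ (h.hf j)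
  have hFe : ∀ i j, i ≠ j → Cfsg.sympForm m F (f i) (e j) = 0 :=
    fun i j hij => h.horth i j hij _ (h.hf i) _ (h.he j)
  refine ⟨Cfsg.stabilizing (Cfsg.glToMat (Fin m ⊕ Fin m) F) {x | spQ e f x = 1} ⊓
    Cfsg.spGL m F, ?_, ?_⟩
  · rw [SetLike.lt_iff_le_and_exists]
    constructor
    · rintro g ⟨hgD, hgS⟩
      refine ⟨?_, hgS⟩
      intro v
      change spQ e f v = 1 ↔
        spQ e f ((g : Matrix (Fin m ⊕ Fin m) (Fin m ⊕ Fin m) F) *ᵥ v) = 1
      rw [h.spQ_invariant g hgS hgD v]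
    · have ha : spQ e f (e i₁ + e i₂ + e i₃) = 1 := by
        rw [h.spQ_add, h.spQ_add, h.spQ_e, h.spQ_e, h.spQ_e, sympForm_add_left, hee i₁ i₂ h12,
          hee i₁ i₃ h13, hee i₂ i₃ h23]
        linear_combination h.two
      refine ⟨sympTransvGL (e i₁ + e i₂ + e i₃) 1, ⟨?_, sympTransvGL_mem _ _⟩, ?_⟩
      · intro v
        change spQ e f v = 1 ↔ spQ e f (((sympTransvGL (e i₁ + e i₂ + e i₃) 1 :
          GL (Fin m ⊕ Fin m) F) : Matrix (Fin m ⊕ Fin m) (Fin m ⊕ Fin m) F) *ᵥ v) = 1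
        rw [h.spQ_transv _ ha v]
      · rintro ⟨⟨σ, hσ⟩, -⟩
        have hmem : ((sympTransvGL (e i₁ + e i₂ + e i₃) 1 : GL (Fin m ⊕ Fin m) F) :
            Matrix (Fin m ⊕ Fin m) (Fin m ⊕ Fin m) F) *ᵥ (f i₁) ∈ D (σ i₁) := by
          rw [← hσ i₁]
          exact ⟨f i₁, h.hf i₁, Matrix.toLin'_apply _ _⟩
        have hfa : Cfsg.sympForm m F (f i₁) (e i₁ + e i₂ + e i₃) = 1 := by
          rw [sympForm_add_right, sympForm_add_right, h.hfe, hFe i₁ i₂ h12, hFe i₁ i₃ h13,
            add_zero, add_zero]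
        rw [sympTransvGL_mulVec, one_mul, hfa, one_smul] at hmem
        by_cases hj : σ i₁ = i₂
        · have := h.horth (σ i₁) i₃ (by rw [hj]; exact h23) _ hmem _ (h.hf i₃)
          simp only [sympForm_add_left, hfF i₁ i₃ h13, heF i₁ i₃ h13, heF i₂ i₃ h23, h.hef] at this
          exact one_ne_zero (by linear_combination this)
        · have := h.horth (σ i₁) i₂ hj _ hmem _ (h.hf i₂)
          simp only [sympForm_add_left, hfF i₁ i₂ h12, heF i₁ i₂ h12, heF i₃ i₂ (Ne.symm h23),
            h.hef] at this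
          exact one_ne_zero (by linear_combination this)
  · rw [SetLike.lt_iff_le_and_exists]
    refine ⟨inf_le_right, sympTransvGL (e i₁ + e i₂) 1, sympTransvGL_mem _ _, ?_⟩
    rintro ⟨hS, -⟩
    have h1 := (hS (f i₁)).mp (h.spQ_f i₁)
    change spQ e f (((sympTransvGL (e i₁ + e i₂) 1 : GL (Fin m ⊕ Fin m) F) :
      Matrix (Fin m ⊕ Fin m) (Fin m ⊕ Fin m) F) *ᵥ f i₁) = 1 at h1
    have hfb : Cfsg.sympForm m F (f i₁) (e i₁ + e i₂) = 1 := by
      rw [sympForm_add_right, h.hfe, hFe i₁ i₂ h12, add_zero]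
    rw [sympTransvGL_mulVec, one_mul, hfb, one_smul, h.spQ_add, h.spQ_f, h.spQ_add, h.spQ_e,
      h.spQ_e, hee i₁ i₂ h12, hfb] at h1
    exact one_ne_zero (by linear_combination h1 - h.two : (1 : F) = 0)

/-- **Stabilisers of orthogonal decompositions into nondegenerate planes are not maximal in
`Sp_{2m}(2)`.** -/
theorem sp_decomp_not_maximal (hm : 3 ≤ m) (hq : Fintype.card F = 2)
    (D : Fin t → Submodule F (Fin m ⊕ Fin m → F))
    (hD : IsNondegenerateMDecomposition (Cfsg.sympForm m F) 2 D) :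
    ∃ K : Subgroup (GL (Fin m ⊕ Fin m) F),
      decompositionStabilizer D ⊓ Cfsg.spGL m F < K ∧ K < Cfsg.spGL m F := by
  have hkfr := hD.decomp.finrank_eq
  have ht3 : 3 ≤ t := by
    have h1 := finrank_iSup_fin_le D 2 (fun i => (hkfr i).le)
    rw [hD.decomp.iSup_eq_top, finrank_top, Module.finrank_fintype_fun_eq_card, Fintype.card_sum,
      Fintype.card_fin] at h1
    omega
  have h01 : ∀ a : F, a = 0 ∨ a = 1 := by
    intro a
    by_cases h0 : a = 0
    · left; exact h0
    · right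
      have := FiniteField.pow_card_sub_one_eq_one a h0
      rw [hq] at this
      simpa using this
  have h2 : (2 : F) = 0 := by
    have := Nat.cast_card_eq_zero F
    rw [hq] at this
    exact_mod_cast this
  have hneg : ∀ a : F, -a = a := by
    intro a
    have : a + a = 0 := by linear_combination a * h2
    exact neg_eq_of_add_eq_zero_left this
  have hbasis : ∀ i, ∃ ei fi : Fin m ⊕ Fin m → F, ei ∈ D i ∧ fi ∈ D i ∧
      Cfsg.sympForm m F ei fi = 1 ∧ ∀ y ∈ D i,
        y = Cfsg.sympForm m F y fi • ei + Cfsg.sympForm m F y ei • fi := by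
    intro i
    have hpos : 0 < finrank F (D i) := by rw [hkfr i]; norm_num
    obtain ⟨⟨e₀, he₀D⟩, he₀⟩ := Module.finrank_pos_iff_exists_ne_zero.mp hpos
    have he₀0 : e₀ ≠ 0 := fun h => he₀ (Subtype.ext h)
    obtain ⟨f₀, hf₀D, hef₀⟩ := (hD.nondegenerate i e₀ he₀D he₀0).2
    have hef1 : Cfsg.sympForm m F e₀ f₀ = 1 := (h01 _).resolve_left hef₀
    have hfe1 : Cfsg.sympForm m F f₀ e₀ = 1 := by rw [sympForm_swap, hef1, hneg]
    refine ⟨e₀, f₀, he₀D, hf₀D, hef1, ?_⟩
    intro y hy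
    have k1 := finrank_inf_ker_add_one (D i) (sympL e₀) f₀ hf₀D (by
      rw [sympL_apply, hfe1]; exact one_ne_zero)
    have me : e₀ ∈ D i ⊓ LinearMap.ker (sympL e₀) := Submodule.mem_inf.mpr ⟨he₀D, by
      rw [LinearMap.mem_ker, sympL_apply, sympForm_self]⟩
    have k2 := finrank_inf_ker_add_one _ (sympL f₀) e₀ me (by
      rw [sympL_apply, hef1]; exact one_ne_zero)
    have k0 : finrank F ↥((D i ⊓ LinearMap.ker (sympL e₀)) ⊓ LinearMap.ker (sympL f₀)) = 0 := by
      rw [hkfr i] at k1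
      omega
    have hbot := Submodule.finrank_eq_zero.mp k0
    have hz : y - (Cfsg.sympForm m F y f₀ • e₀ + Cfsg.sympForm m F y e₀ • f₀) ∈
        (D i ⊓ LinearMap.ker (sympL e₀)) ⊓ LinearMap.ker (sympL f₀) := by
      refine Submodule.mem_inf.mpr ⟨Submodule.mem_inf.mpr ⟨?_, ?_⟩, ?_⟩
      · exact (D i).sub_mem hy ((D i).add_mem ((D i).smul_mem _ he₀D) ((D i).smul_mem _ hf₀D))
      · rw [LinearMap.mem_ker, sympL_apply, sympForm_sub_left, sympForm_add_left,
          sympForm_smul_left, sympForm_smul_left, sympForm_self, hfe1]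
        ring
      · rw [LinearMap.mem_ker, sympL_apply, sympForm_sub_left, sympForm_add_left,
          sympForm_smul_left, sympForm_smul_left, sympForm_self, hef1]
        ring
    rw [hbot] at hz
    exact sub_eq_zero.mp ((Submodule.mem_bot F).mp hz)
  choose e f he hf hef hspan using hbasis
  have h : SpFrame D e f := ⟨hq, he, hf, hef, hspan,
    fun i j hij u hu v hv => hD.orthogonal i j hij u hu v hv, hD.decomp.iSup_eq_top⟩
  exact h.not_maximal ⟨0, by omega⟩ ⟨1, by omega⟩ ⟨2, by omega⟩ (by simp [Fin.ext_iff])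
    (by simp [Fin.ext_iff]) (by simp [Fin.ext_iff])

end main

end Cfsg.Agent.Lib.Helper13
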