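import Mathlib
import Cfsg.Agent.S0765
import Cfsg.Agent.Lib.Helper15.SympOrder
import Cfsg.Agent.Lib.Helper13.SpDecomp

/-!
# Stabilisers of totally singular subspaces are maximal in `Sp_{2m}`

If `M` properly contains the stabiliser `H` of a totally singular `W`, the set `X` of vectors all of
whose transvections lie in `M` contains `W^⊥`, is `M`-invariant and closed under
`a ↦ a + l b` for non-orthogonal `a, b ∈ X`.  Since `M` does not stabilise `W` (double perp),
`X` contains a vector outside `W^⊥`; the Siegel elements of `H` then spread `X` over the whole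
space, and transvections generate the symplectic group.
-/

set_option autoImplicit false

namespace Cfsg.Agent.Lib.Helper13

open Matrix Module Cfsg.Agent.Lib.Helper6

section spmax
variable {m : ℕ} {F : Type*} [Field F]

local notation "ff" => Cfsg.sympForm m F

theorem conj_sympTransvGL (k : GL (Fin m ⊕ Fin m) F) (hk : k ∈ Cfsg.spGL m F)
    (a : Fin m ⊕ Fin m → F) (c : F) :
    k * sympTransvGL a c * k⁻¹ =
      sympTransvGL ((k : Matrix (Fin m ⊕ Fin m) (Fin m ⊕ Fin m) F) *ᵥ a) c := by
  apply Units.ext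
  apply matrix_ext_mulVec
  intro x
  have h1 : ff (((k⁻¹ : GL (Fin m ⊕ Fin m) F) : Matrix (Fin m ⊕ Fin m) (Fin m ⊕ Fin m) F) *ᵥ x) a =
      ff x ((k : Matrix (Fin m ⊕ Fin m) (Fin m ⊕ Fin m) F) *ᵥ a) := by
    have e : ff ((k : Matrix (Fin m ⊕ Fin m) (Fin m ⊕ Fin m) F) *ᵥ
        (((k⁻¹ : GL (Fin m ⊕ Fin m) F) : Matrix (Fin m ⊕ Fin m) (Fin m ⊕ Fin m) F) *ᵥ x))
        ((k : Matrix (Fin m ⊕ Fin m) (Fin m ⊕ Fin m) F) *ᵥ a) =
        ff (((k⁻¹ : GL (Fin m ⊕ Fin m) F) : Matrix (Fin m ⊕ Fin m) (Fin m ⊕ Fin m) F) *ᵥ x) a :=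
      hk _ _
    rw [← e, mulVec_mulVec, ← Units.val_mul, mul_inv_cancel, Units.val_one, one_mulVec]
  rw [Units.val_mul, Units.val_mul, ← mulVec_mulVec, ← mulVec_mulVec, sympTransvGL_mulVec,
    sympTransvGL_mulVec, mulVec_add, mulVec_smul, mulVec_mulVec, ← Units.val_mul, mul_inv_cancel,
    Units.val_one, one_mulVec, h1]

/-- symplectic matrices as invertible matrices -/
def spToGL (A : Matrix.symplecticGroup (Fin m) F) : GL (Fin m ⊕ Fin m) F :=
  ⟨A.val, (A⁻¹).val, congrArg Subtype.val (mul_inv_cancel A),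
    congrArg Subtype.val (inv_mul_cancel A)⟩

theorem spGL_le_of_transvections (M : Subgroup (GL (Fin m ⊕ Fin m) F))
    (hM : ∀ a c, sympTransvGL a c ∈ M) : Cfsg.spGL m F ≤ M := by
  intro g hg
  have hA : (g : Matrix (Fin m ⊕ Fin m) (Fin m ⊕ Fin m) F) ∈ Matrix.symplecticGroup (Fin m) F :=
    (mem_symplecticGroup_iff_preserves _).mpr (fun x y => hg x y)
  have htop := Cfsg.Agent.S0765.result (F := F) m
  have key : ∀ A : Matrix.symplecticGroup (Fin m) F,
      A ∈ Subgroup.closure {A : Matrix.symplecticGroup (Fin m) F |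
        ∃ (w : Fin m ⊕ Fin m → F) (c : F),
          (A : Matrix (Fin m ⊕ Fin m) (Fin m ⊕ Fin m) F) = Cfsg.sympTransvection m w c} →
      ∀ g : GL (Fin m ⊕ Fin m) F,
        (g : Matrix (Fin m ⊕ Fin m) (Fin m ⊕ Fin m) F) = A.val → g ∈ M := by
    intro A hA
    refine Subgroup.closure_induction (p := fun A _ => ∀ g : GL (Fin m ⊕ Fin m) F,
      (g : Matrix (Fin m ⊕ Fin m) (Fin m ⊕ Fin m) F) = A.val → g ∈ M) ?_ ?_ ?_ ?_ hA
    · rintro A ⟨w, c, hAw⟩ g hg
      have : g = sympTransvGL w c := Units.ext (hg.trans hAw)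
      rw [this]
      exact hM w c
    · intro g hg
      have : g = 1 := Units.ext hg
      rw [this]
      exact M.one_mem
    · intro A B _ _ ihA ihB g hg
      have : g = spToGL A * spToGL B := Units.ext hg
      rw [this]
      exact M.mul_mem (ihA _ rfl) (ihB _ rfl)
    · intro A _ ih g hg
      have h1 : g * spToGL A = 1 :=
        Units.ext (by
          rw [Units.val_mul, hg]
          exact congrArg Subtype.val (inv_mul_cancel A))
      have : g = (spToGL A)⁻¹ := eq_inv_of_mul_eq_one_left h1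
      rw [this]
      exact M.inv_mem (ih _ rfl)
  refine key ⟨(g : Matrix (Fin m ⊕ Fin m) (Fin m ⊕ Fin m) F), hA⟩ ?_ g rfl
  rw [htop]
  exact Subgroup.mem_top _

/-- the double perpendicular of a subspace is the subspace -/
theorem symp_double_perp (W : Submodule F (Fin m ⊕ Fin m → F)) (u : Fin m ⊕ Fin m → F)
    (hu : ∀ y, (∀ w ∈ W, ff w y = 0) → ff y u = 0) : u ∈ W := by
  have hrefl : (Cfsg.Agent.Lib.Helper15.stdSymp m F).IsRefl := by
    intro x y hxy
    rw [Cfsg.Agent.Lib.Helper15.stdSymp_apply] at hxy ⊢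
    rw [sympForm_swap, hxy, neg_zero]
  have hnd : LinearMap.BilinForm.Nondegenerate (Cfsg.Agent.Lib.Helper15.stdSymp m F) :=
    (LinearMap.IsRefl.nondegenerate_iff_separatingLeft hrefl).mpr
      (fun x hx => Cfsg.Agent.Lib.Helper15.stdSymp_nondeg x hx)
  have h2 := LinearMap.BilinForm.orthogonal_orthogonal hnd hrefl W
  rw [← h2, LinearMap.BilinForm.mem_orthogonal_iff]
  intro y hy
  rw [LinearMap.BilinForm.mem_orthogonal_iff] at hy
  exact hu y (fun w hw => hy w hw)

/-- the Siegel element `x ↦ x + f(x,w) v + f(x,v) w` for orthogonal `w`, `v` -/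
def sieg (w v : Fin m ⊕ Fin m → F) : GL (Fin m ⊕ Fin m) F :=
  sympTransvGL (w + v) 1 * sympTransvGL w (-1) * sympTransvGL v (-1)

theorem sieg_mem (w v : Fin m ⊕ Fin m → F) : sieg w v ∈ Cfsg.spGL m F :=
  (Cfsg.spGL m F).mul_mem ((Cfsg.spGL m F).mul_mem (sympTransvGL_mem _ _) (sympTransvGL_mem _ _))
    (sympTransvGL_mem _ _)

theorem sieg_mulVec (w v : Fin m ⊕ Fin m → F) (hwv : ff w v = 0) (x : Fin m ⊕ Fin m → F) :
    ((sieg w v : GL (Fin m ⊕ Fin m) F) : Matrix (Fin m ⊕ Fin m) (Fin m ⊕ Fin m) F) *ᵥ x =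
      x + ff x w • v + ff x v • w := by
  have hvw : ff v w = 0 := by rw [sympForm_swap, hwv, neg_zero]
  rw [sieg, Units.val_mul, Units.val_mul, ← mulVec_mulVec, ← mulVec_mulVec, sympTransvGL_mulVec,
    sympTransvGL_mulVec, sympTransvGL_mulVec]
  simp only [sympForm_add_left, sympForm_add_right, sympForm_smul_left, sympForm_self, hwv, hvw]
  module

theorem sympTransvGL_mem_stab (W : Submodule F (Fin m ⊕ Fin m → F)) (a : Fin m ⊕ Fin m → F)
    (c : F) (ha : ∀ w ∈ W, ff w a = 0) : sympTransvGL a c ∈ Cfsg.Geo.subspaceStabilizer W := by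
  intro x
  change x ∈ W ↔ ((sympTransvGL a c : GL (Fin m ⊕ Fin m) F) :
    Matrix (Fin m ⊕ Fin m) (Fin m ⊕ Fin m) F) *ᵥ x ∈ W
  rw [sympTransvGL_mulVec]
  constructor
  · intro hx
    rw [ha x hx, mul_zero, zero_smul, add_zero]
    exact hx
  · intro hx
    have h1 := ha _ hx
    rw [sympForm_add_left, sympForm_smul_left, sympForm_self, mul_zero, add_zero] at h1
    rw [h1, mul_zero, zero_smul, add_zero] at hx
    exact hx

theorem sieg_mem_stab (W : Submodule F (Fin m ⊕ Fin m → F))
    (hW : Cfsg.Geo.IsTotallySingularFor (Cfsg.sympForm m F) W) (w v : Fin m ⊕ Fin m → F)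
    (hw : w ∈ W) (hwv : ff w v = 0) : sieg w v ∈ Cfsg.Geo.subspaceStabilizer W := by
  have hvw : ff v w = 0 := by rw [sympForm_swap, hwv, neg_zero]
  intro x
  change x ∈ W ↔ ((sieg w v : GL (Fin m ⊕ Fin m) F) :
    Matrix (Fin m ⊕ Fin m) (Fin m ⊕ Fin m) F) *ᵥ x ∈ W
  rw [sieg_mulVec w v hwv]
  constructor
  · intro hx
    rw [hW x hx w hw, zero_smul, add_zero]
    exact W.add_mem hx (W.smul_mem _ hw)
  · intro hx
    have h1 := hW _ hx w hw
    rw [sympForm_add_left, sympForm_add_left, sympForm_smul_left, sympForm_smul_left, hvw,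
      sympForm_self, mul_zero, mul_zero, add_zero, add_zero] at h1
    rw [h1, zero_smul, add_zero] at hx
    have := W.sub_mem hx (W.smul_mem (ff x v) hw)
    rwa [add_sub_cancel_right] at this

/-- **The stabiliser of a nonzero totally singular subspace is maximal in `Sp_{2m}(F)`.** -/
theorem sp_ts_stabilizer_maximal (W : Submodule F (Fin m ⊕ Fin m → F)) (hW0 : W ≠ ⊥)
    (hW : Cfsg.Geo.IsTotallySingularFor (Cfsg.sympForm m F) W) :
    Cfsg.Geo.IsMaximalIn (Cfsg.spGL m F) (Cfsg.Geo.subspaceStabilizer W ⊓ Cfsg.spGL m F) := by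
  obtain ⟨w₀, hw₀W, hw₀0⟩ := (Submodule.ne_bot_iff W).mp hW0
  constructor
  · rw [SetLike.lt_iff_le_and_exists]
    refine ⟨inf_le_right, ?_⟩
    obtain ⟨x, hx⟩ := Cfsg.Agent.Lib.Helper2.exists_sympForm_ne_zero hw₀0
    refine ⟨sympTransvGL x 1, sympTransvGL_mem _ _, ?_⟩
    rintro ⟨hs, -⟩
    have h1 := (hs w₀).mp hw₀W
    change ((sympTransvGL x 1 : GL (Fin m ⊕ Fin m) F) :
      Matrix (Fin m ⊕ Fin m) (Fin m ⊕ Fin m) F) *ᵥ w₀ ∈ W at h1
    rw [sympTransvGL_mulVec, one_mul] at h1
    have h2 := W.sub_mem h1 hw₀W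
    rw [add_sub_cancel_left] at h2
    have hwx : ff w₀ x ≠ 0 := by
      rw [sympForm_swap]
      exact neg_ne_zero.mpr hx
    have h3 : x ∈ W := by
      have := W.smul_mem (ff w₀ x)⁻¹ h2
      rwa [smul_smul, inv_mul_cancel₀ hwx, one_smul] at this
    exact hx (hW x h3 w₀ hw₀W)
  · intro M hHM hMS
    by_cases hMH : M ≤ Cfsg.Geo.subspaceStabilizer W ⊓ Cfsg.spGL m F
    · left
      exact le_antisymm hMH hHM
    · right
      apply le_antisymm hMS
      obtain ⟨g, hgM, hgH⟩ := SetLike.not_le_iff_exists.mp hMH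
      have hgW : g ∉ Cfsg.Geo.subspaceStabilizer W := fun h => hgH ⟨h, hMS hgM⟩
      have hpres : ∀ k ∈ M, ∀ x y, ff ((k : Matrix (Fin m ⊕ Fin m) (Fin m ⊕ Fin m) F) *ᵥ x)
          ((k : Matrix (Fin m ⊕ Fin m) (Fin m ⊕ Fin m) F) *ᵥ y) = ff x y :=
        fun k hk x y => hMS hk x y
      have hperp : ∀ a, (∀ w ∈ W, ff w a = 0) → ∀ c, sympTransvGL a c ∈ M :=
        fun a ha c => hHM ⟨sympTransvGL_mem_stab W a c ha, sympTransvGL_mem a c⟩
      have hmap : ∀ a, (∀ c, sympTransvGL a c ∈ M) → ∀ k ∈ M, ∀ c,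
          sympTransvGL ((k : Matrix (Fin m ⊕ Fin m) (Fin m ⊕ Fin m) F) *ᵥ a) c ∈ M := by
        intro a ha k hk c
        rw [← conj_sympTransvGL k (hMS hk) a c]
        exact M.mul_mem (M.mul_mem hk (ha c)) (M.inv_mem hk)
      have hsmul : ∀ a, (∀ c, sympTransvGL a c ∈ M) → ∀ l : F, ∀ c,
          sympTransvGL (l • a) c ∈ M := by
        intro a ha l c
        have : sympTransvGL (l • a) c = sympTransvGL a (l * l * c) := by
          apply Units.ext
          apply matrix_ext_mulVec
          intro x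
          rw [sympTransvGL_mulVec, sympTransvGL_mulVec, sympForm_smul_right, smul_smul]
          congr 2
          ring
        rw [this]
        exact ha _
      have hrule : ∀ a b, (∀ c, sympTransvGL a c ∈ M) → (∀ c, sympTransvGL b c ∈ M) →
          ff a b ≠ 0 → ∀ l : F, ∀ c, sympTransvGL (a + l • b) c ∈ M := by
        intro a b ha hb hab l
        have := hmap a ha (sympTransvGL b (l / ff a b)) (hb _)
        rwa [sympTransvGL_mulVec, div_mul_cancel₀ _ hab] at this
      obtain ⟨a, haX, w, hwW, haw⟩ : ∃ a, (∀ c, sympTransvGL a c ∈ M) ∧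
          ∃ w ∈ W, ff a w ≠ 0 := by
        by_contra hcon
        push Not at hcon
        have hkW : ∀ k ∈ M, ∀ x ∈ W,
            (k : Matrix (Fin m ⊕ Fin m) (Fin m ⊕ Fin m) F) *ᵥ x ∈ W := by
          intro k hk x hx
          apply symp_double_perp W
          intro y hy
          have h1 := hmap y (hperp y hy) k⁻¹ (M.inv_mem hk)
          have h2 := hcon _ h1 x hx
          have h3 := hpres k hk (((k⁻¹ : GL (Fin m ⊕ Fin m) F) :
            Matrix (Fin m ⊕ Fin m) (Fin m ⊕ Fin m) F) *ᵥ y) x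
          rw [mulVec_mulVec, ← Units.val_mul, mul_inv_cancel, Units.val_one, one_mulVec] at h3
          rw [h3]
          exact h2
        apply hgW
        intro x
        change x ∈ W ↔ (g : Matrix (Fin m ⊕ Fin m) (Fin m ⊕ Fin m) F) *ᵥ x ∈ W
        constructor
        · exact hkW g hgM x
        · intro hx
          have := hkW g⁻¹ (M.inv_mem hgM) _ hx
          rwa [mulVec_mulVec, ← Units.val_mul, inv_mul_cancel, Units.val_one, one_mulVec] at this
      obtain ⟨w₁, hw₁W, haw₁⟩ : ∃ w₁ ∈ W, ff a w₁ = 1 :=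
        ⟨(ff a w)⁻¹ • w, W.smul_mem _ hwW, by rw [sympForm_smul_right, inv_mul_cancel₀ haw]⟩
      have hw₁a : ff w₁ a = -1 := by rw [sympForm_swap, haw₁]
      have hw₁X : ∀ c, sympTransvGL w₁ c ∈ M := hperp w₁ (fun w hw => hW w hw w₁ hw₁W)
      have hstep : ∀ v, ff w₁ v = 0 → ∀ c, sympTransvGL (a + v) c ∈ M := by
        intro v hv
        have hvw : ff v w₁ = 0 := by rw [sympForm_swap, hv, neg_zero]
        have hsM : sieg w₁ v ∈ M := hHM ⟨sieg_mem_stab W hW w₁ v hw₁W hv, sieg_mem w₁ v⟩
        have h1 := hmap a haX _ hsM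
        rw [sieg_mulVec w₁ v hv, haw₁, one_smul] at h1
        have h2 : ff (a + v + ff a v • w₁) w₁ ≠ 0 := by
          rw [sympForm_add_left, sympForm_add_left, sympForm_smul_left, sympForm_self, haw₁, hvw,
            mul_zero, add_zero, add_zero]
          exact one_ne_zero
        have h3 := hrule _ _ h1 hw₁X h2 (-(ff a v))
        have e : a + v + ff a v • w₁ + -(ff a v) • w₁ = a + v := by
          rw [neg_smul]; abel
        rwa [e] at h3
      have hall : ∀ x, ∀ c, sympTransvGL x c ∈ M := by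
        intro x
        by_cases hμ : ff x w₁ = 0
        · have hw₁x : ff w₁ x = 0 := by rw [sympForm_swap, hμ, neg_zero]
          have hax := hstep x hw₁x
          by_cases hxa : ff x a = 0
          · by_cases hx0 : x = 0
            · rw [hx0]
              exact hperp 0 (fun w _ => sympForm_zero_right w)
            · obtain ⟨y, hy⟩ := Cfsg.Agent.Lib.Helper2.exists_sympForm_ne_zero hx0
              have hxy : ff x y ≠ 0 := by
                rw [sympForm_swap]
                exact neg_ne_zero.mpr hy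
              have hv₂ : ff w₁ (y - ff y w₁ • a) = 0 := by
                rw [sympForm_sub_right, sympForm_smul_right, hw₁a, sympForm_swap w₁ y]
                ring
              have hxv₂ : ff x (y - ff y w₁ • a) = ff x y := by
                rw [sympForm_sub_right, sympForm_smul_right, hxa, mul_zero, sub_zero]
              have hb := hstep _ hv₂
              have hv₃ : ff w₁ (y - ff y w₁ • a + x) = 0 := by
                rw [sympForm_add_right, hv₂, hw₁x, add_zero]
              have ha' := hstep _ hv₃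
              have hne : ff (a + (y - ff y w₁ • a + x)) (a + (y - ff y w₁ • a)) ≠ 0 := by
                have : ff (a + (y - ff y w₁ • a + x)) (a + (y - ff y w₁ • a)) = ff x y := by
                  have e : a + (y - ff y w₁ • a + x) = (a + (y - ff y w₁ • a)) + x := by abel
                  rw [e, sympForm_add_left, sympForm_self, zero_add, sympForm_add_right, hxa,
                    zero_add, hxv₂]
                rw [this]
                exact hxy
              have h3 := hrule _ _ ha' hb hne (-1)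
              have e : a + (y - ff y w₁ • a + x) + (-1 : F) • (a + (y - ff y w₁ • a)) = x := by
                rw [neg_one_smul]; abel
              rwa [e] at h3
          · have h3 := hrule _ _ hax haX (by
              rw [sympForm_add_left, sympForm_self, zero_add]; exact hxa) (-1)
            have e : a + x + (-1 : F) • a = x := by rw [neg_one_smul]; abel
            rwa [e] at h3
        · have hv : ff w₁ ((ff x w₁)⁻¹ • x - a) = 0 := by
            rw [sympForm_sub_right, sympForm_smul_right, hw₁a, sympForm_swap w₁ x, mul_neg,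
              inv_mul_cancel₀ hμ]
            ring
          have h1 := hstep _ hv
          have h2 := hsmul _ h1 (ff x w₁)
          have e : ff x w₁ • (a + ((ff x w₁)⁻¹ • x - a)) = x := by
            rw [add_sub_cancel, smul_smul, mul_inv_cancel₀ hμ, one_smul]
          rwa [e] at h2
      exact spGL_le_of_transvections M hall

end spmax

end Cfsg.Agent.Lib.Helper13
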