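import Mathlib
import Cfsg.Agent.Lib.Helper13.SpMax

/-!
# Stabilisers of nondegenerate subspaces of dimension `< m` are maximal in `Sp_{2m}`

Same closure technique as for parabolics: the set `X` of directions of transvections of an
overgroup `M` contains `W ∪ W^⊥`; if it contains a vector with nonzero components in both, it is
everything; otherwise `M` maps `W^⊥` into `W^⊥` (it cannot map it into `W` by dimension), hence
stabilises `W`.
-/

set_option autoImplicit false

namespace Cfsg.Agent.Lib.Helper13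

open Matrix Module Cfsg.Agent.Lib.Helper6

section spmax2
variable {m : ℕ} {F : Type*} [Field F]

local notation "ff" => Cfsg.sympForm m F

/-- all transvections in direction `a` belong to `M` -/
def SpX (M : Subgroup (GL (Fin m ⊕ Fin m) F)) (a : Fin m ⊕ Fin m → F) : Prop :=
  ∀ c : F, sympTransvGL a c ∈ M

variable {M : Subgroup (GL (Fin m ⊕ Fin m) F)}

theorem SpX.map (hMS : M ≤ Cfsg.spGL m F) {a : Fin m ⊕ Fin m → F} (ha : SpX M a)
    {k : GL (Fin m ⊕ Fin m) F} (hk : k ∈ M) :
    SpX M ((k : Matrix (Fin m ⊕ Fin m) (Fin m ⊕ Fin m) F) *ᵥ a) := by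
  intro c
  rw [← conj_sympTransvGL k (hMS hk) a c]
  exact M.mul_mem (M.mul_mem hk (ha c)) (M.inv_mem hk)

theorem SpX.smul {a : Fin m ⊕ Fin m → F} (ha : SpX M a) (l : F) : SpX M (l • a) := by
  intro c
  have : sympTransvGL (l • a) c = sympTransvGL a (l * l * c) := by
    apply Units.ext
    apply matrix_ext_mulVec
    intro x
    rw [sympTransvGL_mulVec, sympTransvGL_mulVec, sympForm_smul_right, smul_smul]
    congr 2
    ring
  rw [this]
  exact ha _

theorem SpX.rule (hMS : M ≤ Cfsg.spGL m F) {a b : Fin m ⊕ Fin m → F} (ha : SpX M a)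
    (hb : SpX M b) (hab : ff a b ≠ 0) (l : F) : SpX M (a + l • b) := by
  have := ha.map hMS (hb (l / ff a b))
  rwa [sympTransvGL_mulVec, div_mul_cancel₀ _ hab] at this

theorem sympTransvGL_mem_stab_of_mem (W : Submodule F (Fin m ⊕ Fin m → F))
    (a : Fin m ⊕ Fin m → F) (c : F) (ha : a ∈ W) :
    sympTransvGL a c ∈ Cfsg.Geo.subspaceStabilizer W := by
  intro x
  change x ∈ W ↔ ((sympTransvGL a c : GL (Fin m ⊕ Fin m) F) :
    Matrix (Fin m ⊕ Fin m) (Fin m ⊕ Fin m) F) *ᵥ x ∈ W
  rw [sympTransvGL_mulVec]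
  constructor
  · intro hx
    exact W.add_mem hx (W.smul_mem _ ha)
  · intro hx
    have := W.sub_mem hx (W.smul_mem (c * ff x a) ha)
    rwa [add_sub_cancel_right] at this

theorem stdSymp_isRefl :
    LinearMap.BilinForm.IsRefl (Cfsg.Agent.Lib.Helper15.stdSymp m F) := by
  intro x y hxy
  rw [Cfsg.Agent.Lib.Helper15.stdSymp_apply] at hxy ⊢
  rw [sympForm_swap, hxy, neg_zero]

/-- connectivity of the non-orthogonality graph on a nondegenerate subspace -/
theorem exists_link (W : Submodule F (Fin m ⊕ Fin m → F))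
    (hW : ∀ w ∈ W, w ≠ 0 → ∃ x ∈ W, ff w x ≠ 0) (w w' : Fin m ⊕ Fin m → F) (hw : w ∈ W)
    (hw' : w' ∈ W) (hw0 : w ≠ 0) (hw'0 : w' ≠ 0) :
    ∃ z ∈ W, ff w z ≠ 0 ∧ ff z w' ≠ 0 := by
  obtain ⟨z₁, hz₁W, hz₁⟩ := hW w hw hw0
  obtain ⟨z₂, hz₂W, hz₂'⟩ := hW w' hw' hw'0
  have hz₂ : ff z₂ w' ≠ 0 := by
    rw [sympForm_swap]
    exact neg_ne_zero.mpr hz₂'
  by_cases h1 : ff z₁ w' = 0
  · by_cases h2 : ff w z₂ = 0
    · refine ⟨z₁ + z₂, W.add_mem hz₁W hz₂W, ?_, ?_⟩
      · rw [sympForm_add_right, h2, add_zero]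
        exact hz₁
      · rw [sympForm_add_left, h1, zero_add]
        exact hz₂
    · exact ⟨z₂, hz₂W, h2, hz₂⟩
  · exact ⟨z₁, hz₁W, hz₁, h1⟩

/-- **The stabiliser of a nondegenerate subspace of dimension less than `m` is maximal in
`Sp_{2m}(F)`.** -/
theorem sp_nondeg_stabilizer_maximal (W : Submodule F (Fin m ⊕ Fin m → F)) (hW0 : W ≠ ⊥)
    (hW : Cfsg.Geo.IsNondegenerateOn (Cfsg.sympForm m F) W) (hdim : finrank F W < m) :
    Cfsg.Geo.IsMaximalIn (Cfsg.spGL m F) (Cfsg.Geo.subspaceStabilizer W ⊓ Cfsg.spGL m F) := by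
  -- the orthogonal complement
  have hUdef : ∀ y, y ∈ LinearMap.BilinForm.orthogonal (Cfsg.Agent.Lib.Helper15.stdSymp m F) W ↔
      ∀ w ∈ W, ff w y = 0 := fun y => Iff.rfl
  have hdisj : Disjoint W (LinearMap.BilinForm.orthogonal (Cfsg.Agent.Lib.Helper15.stdSymp m F) W) := by
    rw [Submodule.disjoint_def]
    intro x hxW hxU
    by_contra hx0
    obtain ⟨y, hyW, hy⟩ := (hW x hxW hx0).1
    exact hy ((hUdef x).mp hxU y hyW)
  have hcompl : IsCompl W (LinearMap.BilinForm.orthogonal (Cfsg.Agent.Lib.Helper15.stdSymp m F) W) :=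
    (LinearMap.BilinForm.isCompl_orthogonal_iff_disjoint stdSymp_isRefl).mpr hdisj
  have hfr := Submodule.finrank_add_eq_of_isCompl hcompl
  rw [Module.finrank_fintype_fun_eq_card, Fintype.card_sum, Fintype.card_fin] at hfr
  generalize LinearMap.BilinForm.orthogonal (Cfsg.Agent.Lib.Helper15.stdSymp m F) W = U at hUdef hdisj hcompl hfr
  have hdec : ∀ x : Fin m ⊕ Fin m → F, ∃ w ∈ W, ∃ u ∈ U, w + u = x := by
    intro x
    have : x ∈ W ⊔ U := by rw [hcompl.sup_eq_top]; exact Submodule.mem_top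
    exact Submodule.mem_sup.mp this
  have hWU : ∀ w ∈ W, ∀ u ∈ U, ff w u = 0 := fun w hw u hu => (hUdef u).mp hu w hw
  have hUW : ∀ w ∈ W, ∀ u ∈ U, ff u w = 0 := fun w hw u hu => by
    rw [sympForm_swap, hWU w hw u hu, neg_zero]
  have hWnd : ∀ w ∈ W, w ≠ 0 → ∃ x ∈ W, ff w x ≠ 0 := fun w hw hw0 => (hW w hw hw0).2
  have hUnd : ∀ u ∈ U, u ≠ 0 → ∃ x ∈ U, ff u x ≠ 0 := by
    intro u hu hu0
    obtain ⟨y, hy⟩ := Cfsg.Agent.Lib.Helper2.exists_sympForm_ne_zero hu0
    obtain ⟨wy, hwy, uy, huy, rfl⟩ := hdec y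
    refine ⟨uy, huy, ?_⟩
    rw [sympForm_add_left, hWU wy hwy u hu, zero_add] at hy
    rw [sympForm_swap]
    exact neg_ne_zero.mpr hy
  have hinter : ∀ x, x ∈ W → x ∈ U → x = 0 := fun x hxW hxU =>
    (Submodule.disjoint_def.mp hdisj) x hxW hxU
  obtain ⟨w₀, hw₀W, hw₀0⟩ := (Submodule.ne_bot_iff W).mp hW0
  obtain ⟨u₀, hu₀U, hu₀0⟩ : ∃ u₀ ∈ U, u₀ ≠ 0 := by
    have hpos : 0 < finrank F U := by omega
    obtain ⟨⟨u, hu⟩, hu0⟩ := Module.finrank_pos_iff_exists_ne_zero.mp hpos
    exact ⟨u, hu, fun h => hu0 (Subtype.ext h)⟩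
  constructor
  · rw [SetLike.lt_iff_le_and_exists]
    refine ⟨inf_le_right, ?_⟩
    obtain ⟨w', hw'W, hw'⟩ := (hW w₀ hw₀W hw₀0).1
    refine ⟨sympTransvGL (w₀ + u₀) 1, sympTransvGL_mem _ _, ?_⟩
    rintro ⟨hs, -⟩
    have h1 := (hs w').mp hw'W
    change ((sympTransvGL (w₀ + u₀) 1 : GL (Fin m ⊕ Fin m) F) :
      Matrix (Fin m ⊕ Fin m) (Fin m ⊕ Fin m) F) *ᵥ w' ∈ W at h1
    rw [sympTransvGL_mulVec, one_mul, sympForm_add_right, hWU w' hw'W u₀ hu₀U, add_zero] at h1
    have h2 := W.sub_mem h1 hw'W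
    rw [add_sub_cancel_left] at h2
    have h3 : w₀ + u₀ ∈ W := by
      have := W.smul_mem (ff w' w₀)⁻¹ h2
      rwa [smul_smul, inv_mul_cancel₀ hw', one_smul] at this
    have h4 : u₀ ∈ W := by
      have := W.sub_mem h3 hw₀W
      rwa [add_sub_cancel_left] at this
    exact hu₀0 (hinter u₀ h4 hu₀U)
  · intro M hHM hMS
    by_cases hMH : M ≤ Cfsg.Geo.subspaceStabilizer W ⊓ Cfsg.spGL m F
    · left
      exact le_antisymm hMH hHM
    · right
      apply le_antisymm hMS
      obtain ⟨g, hgM, hgH⟩ := SetLike.not_le_iff_exists.mp hMH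
      have hgW : g ∉ Cfsg.Geo.subspaceStabilizer W := fun h => hgH ⟨h, hMS hgM⟩
      have hpres : ∀ k ∈ M, ∀ x y, ff ((k : Matrix (Fin m ⊕ Fin m) (Fin m ⊕ Fin m) F) *ᵥ x)
          ((k : Matrix (Fin m ⊕ Fin m) (Fin m ⊕ Fin m) F) *ᵥ y) = ff x y :=
        fun k hk x y => hMS hk x y
      have hXW : ∀ w ∈ W, SpX M w := fun w hw c =>
        hHM ⟨sympTransvGL_mem_stab_of_mem W w c hw, sympTransvGL_mem w c⟩
      have hXU : ∀ u ∈ U, SpX M u := fun u hu c =>
        hHM ⟨sympTransvGL_mem_stab W u c ((hUdef u).mp hu), sympTransvGL_mem u c⟩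
      -- a mixed vector
      obtain ⟨w, hwW, u, huU, hw0, hu0, hwu⟩ : ∃ w ∈ W, ∃ u ∈ U, w ≠ 0 ∧ u ≠ 0 ∧ SpX M (w + u) := by
        by_contra hcon
        push Not at hcon
        have hno : ∀ a, SpX M a → a ∈ W ∨ a ∈ U := by
          intro a ha
          obtain ⟨w, hw, u, hu, rfl⟩ := hdec a
          by_cases hw0 : w = 0
          · right
            rw [hw0, zero_add]
            exact hu
          · by_cases hu0 : u = 0
            · left
              rw [hu0, add_zero]
              exact hw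
            · exact absurd ha (hcon w hw u hu hw0 hu0)
        have hnotW : ∀ k : GL (Fin m ⊕ Fin m) F,
            ¬ ∀ u ∈ U, (k : Matrix (Fin m ⊕ Fin m) (Fin m ⊕ Fin m) F) *ᵥ u ∈ W := by
          intro k hk
          have hle : U ≤ W.map (Matrix.toLin' ((k⁻¹ : GL (Fin m ⊕ Fin m) F) :
              Matrix (Fin m ⊕ Fin m) (Fin m ⊕ Fin m) F)) := by
            intro u hu
            refine ⟨(k : Matrix (Fin m ⊕ Fin m) (Fin m ⊕ Fin m) F) *ᵥ u, hk u hu, ?_⟩
            rw [Matrix.toLin'_apply, mulVec_mulVec, ← Units.val_mul, inv_mul_cancel, Units.val_one,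
              one_mulVec]
          have h1 := Submodule.finrank_mono hle
          have h2 := Submodule.finrank_map_le (Matrix.toLin' ((k⁻¹ : GL (Fin m ⊕ Fin m) F) :
              Matrix (Fin m ⊕ Fin m) (Fin m ⊕ Fin m) F)) W
          omega
        have hkU : ∀ k ∈ M, ∀ u ∈ U,
            (k : Matrix (Fin m ⊕ Fin m) (Fin m ⊕ Fin m) F) *ᵥ u ∈ U := by
          intro k hk
          by_contra hcon2
          push Not at hcon2
          obtain ⟨u₁, hu₁, hku₁⟩ := hcon2
          have hnW := hnotW k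
          push Not at hnW
          obtain ⟨u₂, hu₂, hku₂⟩ := hnW
          have h1 : (k : Matrix (Fin m ⊕ Fin m) (Fin m ⊕ Fin m) F) *ᵥ u₁ ∈ W :=
            (hno _ ((hXU u₁ hu₁).map hMS hk)).resolve_right hku₁
          have h2 : (k : Matrix (Fin m ⊕ Fin m) (Fin m ⊕ Fin m) F) *ᵥ u₂ ∈ U :=
            (hno _ ((hXU u₂ hu₂).map hMS hk)).resolve_left hku₂
          have h3 := hno _ ((hXU (u₁ + u₂) (U.add_mem hu₁ hu₂)).map hMS hk)
          rw [mulVec_add] at h3
          rcases h3 with h3 | h3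
          · apply hku₂
            have := W.sub_mem h3 h1
            rwa [add_sub_cancel_left] at this
          · apply hku₁
            have := U.sub_mem h3 h2
            rwa [add_sub_cancel_right] at this
        have hkW : ∀ k ∈ M, ∀ x ∈ W,
            (k : Matrix (Fin m ⊕ Fin m) (Fin m ⊕ Fin m) F) *ᵥ x ∈ W := by
          intro k hk x hx
          apply symp_double_perp W
          intro y hy
          have hyU : y ∈ U := (hUdef y).mpr hy
          have h1 := hkU k⁻¹ (M.inv_mem hk) y hyU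
          have h2 := hUW x hx _ h1
          have h3 := hpres k hk (((k⁻¹ : GL (Fin m ⊕ Fin m) F) :
            Matrix (Fin m ⊕ Fin m) (Fin m ⊕ Fin m) F) *ᵥ y) x
          rw [mulVec_mulVec, ← Units.val_mul, mul_inv_cancel, Units.val_one, one_mulVec] at h3
          rw [h3]
          exact h2
        apply hgW
        intro x
        change x ∈ W ↔ (g : Matrix (Fin m ⊕ Fin m) (Fin m ⊕ Fin m) F) *ᵥ x ∈ W
        constructor
        · exact hkW g hgM x
        · intro hx
          have := hkW g⁻¹ (M.inv_mem hgM) _ hx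
          rwa [mulVec_mulVec, ← Units.val_mul, inv_mul_cancel, Units.val_one, one_mulVec] at this
      -- moving the components
      have stepW : ∀ w z u, w ∈ W → z ∈ W → u ∈ U → SpX M (w + u) → ff w z ≠ 0 →
          SpX M (z + u) := by
        intro w z u hw hz hu hX hwz
        have hb : SpX M (z - w) := hXW _ (W.sub_mem hz hw)
        have hne : ff (w + u) (z - w) ≠ 0 := by
          rw [sympForm_add_left, sympForm_sub_right, sympForm_sub_right, sympForm_self,
            hUW z hz u hu, hUW w hw u hu]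
          simpa using hwz
        have h3 := hX.rule hMS hb hne 1
        have e : w + u + (1 : F) • (z - w) = z + u := by rw [one_smul]; abel
        rwa [e] at h3
      have stepU : ∀ w u z, w ∈ W → u ∈ U → z ∈ U → SpX M (w + u) → ff u z ≠ 0 →
          SpX M (w + z) := by
        intro w u z hw hu hz hX huz
        have hb : SpX M (z - u) := hXU _ (U.sub_mem hz hu)
        have hne : ff (w + u) (z - u) ≠ 0 := by
          rw [sympForm_add_left, sympForm_sub_right, sympForm_sub_right, sympForm_self,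
            hWU w hw z hz, hWU w hw u hu]
          simpa using huz
        have h3 := hX.rule hMS hb hne 1
        have e : w + u + (1 : F) • (z - u) = w + z := by rw [one_smul]; abel
        rwa [e] at h3
      have hall : ∀ x, SpX M x := by
        intro x
        obtain ⟨w', hw', u', hu', rfl⟩ := hdec x
        by_cases hw'0 : w' = 0
        · rw [hw'0, zero_add]
          exact hXU u' hu'
        · by_cases hu'0 : u' = 0
          · rw [hu'0, add_zero]
            exact hXW w' hw'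
          · obtain ⟨z, hzW, hwz, hzw'⟩ := exists_link W hWnd w w' hwW hw' hw0 hw'0
            have h1 := stepW w z u hwW hzW huU hwu hwz
            have h2 := stepW z w' u hzW hw' huU h1 hzw'
            obtain ⟨y, hyU, huy, hyu'⟩ := exists_link U hUnd u u' huU hu' hu0 hu'0
            have h3 := stepU w' u y hw' huU hyU h2 huy
            exact stepU w' y u' hw' hyU hu' h3 hyu'
      exact spGL_le_of_transvections M hall

end spmax2

end Cfsg.Agent.Lib.Helper13
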