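import Mathlib

/-!
# Transitivity of symplectic transvections on orthogonal pairs

For an alternating nondegenerate form `f` (given as a function) on a vector space, a set of pairs
closed under the diagonal action of the transvections `x ↦ x + c f(x,u) u` and containing one
pair `(a, b)` of independent orthogonal vectors contains all such pairs.
-/

set_option autoImplicit false

namespace Cfsg.Agent.Lib.Helper13

section altpairs
variable {K V : Type*} [Field K] [AddCommGroup V] [Module K V]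

/-- an alternating nondegenerate bilinear form given as a function -/
structure AltF (f : V → V → K) : Prop where
  add_left : ∀ x y z, f (x + y) z = f x z + f y z
  smul_left : ∀ (c : K) x z, f (c • x) z = c * f x z
  self : ∀ x, f x x = 0
  swap : ∀ x y, f x y = - f y x
  nd : ∀ x, x ≠ 0 → ∃ y, f y x ≠ 0

variable {f : V → V → K}

theorem AltF.add_right (h : AltF f) (x y z : V) : f x (y + z) = f x y + f x z := by
  rw [h.swap, h.add_left, h.swap y x, h.swap z x]
  ring

theorem AltF.smul_right (h : AltF f) (c : K) (x z : V) : f x (c • z) = c * f x z := by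
  rw [h.swap, h.smul_left, h.swap z x]
  ring

theorem AltF.zero_left (h : AltF f) (z : V) : f 0 z = 0 := by
  have := h.smul_left 0 0 z
  simpa using this

theorem AltF.zero_right (h : AltF f) (z : V) : f z 0 = 0 := by
  rw [h.swap, h.zero_left, neg_zero]

theorem AltF.sub_left (h : AltF f) (x y z : V) : f (x - y) z = f x z - f y z := by
  have e : x - y = x + (-1 : K) • y := by rw [neg_one_smul, sub_eq_add_neg]
  rw [e, h.add_left, h.smul_left]
  ring

theorem AltF.sub_right (h : AltF f) (x y z : V) : f x (y - z) = f x y - f x z := by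
  have e : y - z = y + (-1 : K) • z := by rw [neg_one_smul, sub_eq_add_neg]
  rw [e, h.add_right, h.smul_right]
  ring

/-- the symplectic transvection -/
def altT (f : V → V → K) (u : V) (c : K) (x : V) : V := x + (c * f x u) • u

theorem AltF.altT_form (h : AltF f) (u : V) (c : K) (x y : V) :
    f (altT f u c x) (altT f u c y) = f x y := by
  unfold altT
  simp only [h.add_left, h.add_right, h.smul_left, h.smul_right, h.self]
  rw [h.swap u y]
  ring

theorem AltF.altT_zero (h : AltF f) (u : V) (c : K) : altT f u c 0 = 0 := by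
  unfold altT
  rw [h.zero_left, mul_zero, zero_smul, add_zero]

theorem AltF.altT_smul (h : AltF f) (u : V) (c k : K) (x : V) :
    altT f u c (k • x) = k • altT f u c x := by
  unfold altT
  rw [h.smul_left, smul_add, smul_smul]
  congr 2
  ring

theorem AltF.altT_neg_altT (h : AltF f) (u : V) (c : K) (x : V) :
    altT f u (-c) (altT f u c x) = x := by
  unfold altT
  rw [h.add_left, h.smul_left, h.self, mul_zero, add_zero, neg_mul, neg_smul,
    add_neg_cancel_right]

theorem AltF.altT_inj (h : AltF f) (u : V) (c : K) {x y : V}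
    (hxy : altT f u c x = altT f u c y) : x = y := by
  have := congrArg (altT f u (-c)) hxy
  rwa [h.altT_neg_altT, h.altT_neg_altT] at this

theorem AltF.exists_link (h : AltF f) {a a' : V} (ha : a ≠ 0) (ha' : a' ≠ 0) :
    ∃ z, f a z ≠ 0 ∧ f z a' ≠ 0 := by
  obtain ⟨y₁, h₁⟩ := h.nd a ha
  obtain ⟨y₂, h₂⟩ := h.nd a' ha'
  have h₁' : f a y₁ ≠ 0 := by
    rw [h.swap]
    exact neg_ne_zero.mpr h₁
  by_cases h3 : f y₁ a' = 0
  · by_cases h4 : f a y₂ = 0
    · refine ⟨y₁ + y₂, ?_, ?_⟩
      · rw [h.add_right, h4, add_zero]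
        exact h₁'
      · rw [h.add_left, h3, zero_add]
        exact h₂
    · exact ⟨y₂, h4, h₂⟩
  · exact ⟨y₁, h₁', h3⟩

theorem AltF.exists_perp_ne (h : AltF f) {a b : V} (hb : ∀ k : K, b ≠ k • a) :
    ∃ x, f a x = 0 ∧ f b x ≠ 0 := by
  have hb0 : b ≠ 0 := by
    have := hb 0
    rwa [zero_smul] at this
  obtain ⟨y, hy⟩ := h.nd b hb0
  have hy' : f b y ≠ 0 := by
    rw [h.swap]
    exact neg_ne_zero.mpr hy
  by_cases h1 : f a y = 0
  · exact ⟨y, h1, hy'⟩
  · have hne : b - (f b y / f a y) • a ≠ 0 := fun h0 => hb _ (sub_eq_zero.mp h0)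
    obtain ⟨x₂, hx₂⟩ := h.nd _ hne
    have hx₂' : f (b - (f b y / f a y) • a) x₂ ≠ 0 := by
      rw [h.swap]
      exact neg_ne_zero.mpr hx₂
    refine ⟨x₂ - (f a x₂ / f a y) • y, ?_, ?_⟩
    · rw [h.sub_right, h.smul_right, div_mul_cancel₀ _ h1, sub_self]
    · intro h0
      apply hx₂'
      rw [h.sub_left, h.smul_left]
      rw [h.sub_right, h.smul_right] at h0
      linear_combination h0

/-- good pairs: in the set, independent and orthogonal -/
def GoodP (f : V → V → K) (PP : V → V → Prop) (a b : V) : Prop :=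
  PP a b ∧ a ≠ 0 ∧ (∀ k : K, b ≠ k • a) ∧ f a b = 0

variable {PP : V → V → Prop}

theorem GoodP.map (h : AltF f)
    (hcl : ∀ u c a b, PP a b → PP (altT f u c a) (altT f u c b)) {a b : V}
    (hg : GoodP f PP a b) (u : V) (c : K) : GoodP f PP (altT f u c a) (altT f u c b) := by
  obtain ⟨h1, h2, h3, h4⟩ := hg
  refine ⟨hcl u c a b h1, ?_, ?_, ?_⟩
  · intro h0
    apply h2
    apply h.altT_inj u c
    rw [h0, h.altT_zero]
  · intro k hk
    apply h3 k
    apply h.altT_inj u c
    rw [hk, h.altT_smul]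
  · rw [h.altT_form]
    exact h4

theorem GoodP.moveA1 (h : AltF f)
    (hcl : ∀ u c a b, PP a b → PP (altT f u c a) (altT f u c b)) {a b a' : V}
    (hg : GoodP f PP a b) (hne : f a a' ≠ 0) : ∃ b₁, GoodP f PP a' b₁ := by
  have := hg.map h hcl (a - a') (f a a')⁻¹
  have e : altT f (a - a') (f a a')⁻¹ a = a' := by
    unfold altT
    rw [h.sub_right, h.self, zero_sub, mul_neg, inv_mul_cancel₀ hne, neg_smul, one_smul]
    abel
  rw [e] at this
  exact ⟨_, this⟩

theorem GoodP.moveA (h : AltF f)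
    (hcl : ∀ u c a b, PP a b → PP (altT f u c a) (altT f u c b)) {a b a' : V}
    (hg : GoodP f PP a b) (ha' : a' ≠ 0) : ∃ b₁, GoodP f PP a' b₁ := by
  by_cases hne : f a a' = 0
  · obtain ⟨z, hz1, hz2⟩ := h.exists_link hg.2.1 ha'
    obtain ⟨b₂, hg₂⟩ := hg.moveA1 h hcl hz1
    exact hg₂.moveA1 h hcl hz2
  · exact hg.moveA1 h hcl hne

theorem GoodP.moveB1 (h : AltF f)
    (hcl : ∀ u c a b, PP a b → PP (altT f u c a) (altT f u c b)) {a b b' : V}
    (hg : GoodP f PP a b) (hab' : f a b' = 0) (hne : f b b' ≠ 0) : GoodP f PP a b' := by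
  have := hg.map h hcl (b - b') (f b b')⁻¹
  have e1 : altT f (b - b') (f b b')⁻¹ a = a := by
    unfold altT
    rw [h.sub_right, hg.2.2.2, hab', sub_zero, mul_zero, zero_smul, add_zero]
  have e2 : altT f (b - b') (f b b')⁻¹ b = b' := by
    unfold altT
    rw [h.sub_right, h.self, zero_sub, mul_neg, inv_mul_cancel₀ hne, neg_smul, one_smul]
    abel
  rwa [e1, e2] at this

theorem GoodP.moveB (h : AltF f)
    (hcl : ∀ u c a b, PP a b → PP (altT f u c a) (altT f u c b)) {a b b' : V}
    (hg : GoodP f PP a b) (hb' : ∀ k : K, b' ≠ k • a) (hab' : f a b' = 0) :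
    GoodP f PP a b' := by
  by_cases hne : f b b' = 0
  · obtain ⟨x₁, hx₁a, hx₁b⟩ := h.exists_perp_ne hg.2.2.1
    obtain ⟨x₂, hx₂a, hx₂b⟩ := h.exists_perp_ne hb'
    have hx : ∃ x, f a x = 0 ∧ f b x ≠ 0 ∧ f b' x ≠ 0 := by
      by_cases h3 : f b' x₁ = 0
      · by_cases h4 : f b x₂ = 0
        · refine ⟨x₁ + x₂, ?_, ?_, ?_⟩
          · rw [h.add_right, hx₁a, hx₂a, add_zero]
          · rw [h.add_right, h4, add_zero]
            exact hx₁b
          · rw [h.add_right, h3, zero_add]
            exact hx₂b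
        · exact ⟨x₂, hx₂a, h4, hx₂b⟩
      · exact ⟨x₁, hx₁a, hx₁b, h3⟩
    obtain ⟨x, hxa, hxb, hxb'⟩ := hx
    have hg₂ : GoodP f PP a x := hg.moveB1 h hcl hxa hxb
    refine hg₂.moveB1 h hcl hab' ?_
    rw [h.swap]
    exact neg_ne_zero.mpr hxb'
  · exact hg.moveB1 h hcl hab' hne

/-- a transvection-closed set of pairs containing one independent orthogonal pair contains all -/
theorem pairs_all (h : AltF f)
    (hcl : ∀ u c a b, PP a b → PP (altT f u c a) (altT f u c b)) {a b : V} (hP : PP a b)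
    (ha : a ≠ 0) (hb : ∀ k : K, b ≠ k • a) (hab : f a b = 0) {a' b' : V} (ha' : a' ≠ 0)
    (hb' : ∀ k : K, b' ≠ k • a') (hab' : f a' b' = 0) : PP a' b' := by
  have hg : GoodP f PP a b := ⟨hP, ha, hb, hab⟩
  obtain ⟨b₁, hg₁⟩ := hg.moveA h hcl ha'
  exact (hg₁.moveB h hcl hb' hab').1

end altpairs

end Cfsg.Agent.Lib.Helper13
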