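import Mathlib
import Cfsg.Agent.Lib.Helper13.TransvSL

/-!
# The similarity group of a symplectic form is maximal in `SL_n`

Let `B` be a nondegenerate alternating form on `F^n` and `H = GSp(B) ∩ SL_n`.  `H` contains the
symplectic transvections `x ↦ x + c B(x,a) a`.  If `H < M ≤ SL_n`, an element `g ∈ M` which is
not a similarity conjugates some symplectic transvection to a transvection `x ↦ x + B(x,u₀) b`
with `u₀ ∈ b^⊥ \ F b`.  The set of `u ∈ b^⊥` whose transvection lies in `M` is an additive
subgroup stable under the symplectic transvections fixing `b`, hence all of `b^⊥`; so all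
transvections in the direction `b` lie in `M`, and the directions of this kind form an
invariant subspace, hence everything.
-/

set_option autoImplicit false

namespace Cfsg.Agent.Lib.Helper13

open Matrix

section gspmax
variable {n : ℕ} {F : Type*} [Field F]

theorem mat_ext' {A C : Matrix (Fin n) (Fin n) F} (h : ∀ x, A *ᵥ x = C *ᵥ x) : A = C := by
  ext i j
  have := congrFun (h (Pi.single j 1)) i
  rwa [mulVec_single_one, mulVec_single_one] at this

theorem covec_ext {φ φ' : Fin n → F} (h : ∀ x, φ ⬝ᵥ x = φ' ⬝ᵥ x) : φ = φ' := by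
  ext i
  have := h (Pi.single i 1)
  rwa [dotProduct_single_one, dotProduct_single_one] at this

/-- a subgroup containing all transvections contains `SL_n` -/
theorem SL_le_of_forall_TvIn (hn : 2 ≤ n) (M : Subgroup (GL (Fin n) F)) (hall : ∀ x, TvIn M x) :
    Cfsg.Geo.specialLinear (Fin n) F ≤ M := by
  have : Nontrivial (Fin n) := Fin.nontrivial_iff_two_le.mpr hn
  intro s hs
  have hdet : (s : Matrix (Fin n) (Fin n) F).det = 1 := by
    have h1 : Matrix.GeneralLinearGroup.det s = 1 := hs
    have h2 := congrArg Units.val h1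
    rwa [Matrix.GeneralLinearGroup.val_det_apply, Units.val_one] at h2
  have key : ∀ A : Matrix.SpecialLinearGroup (Fin n) F, ∀ g : GL (Fin n) F,
      (g : Matrix (Fin n) (Fin n) F) = (A : Matrix (Fin n) (Fin n) F) → g ∈ M := by
    intro A
    refine Cfsg.Agent.Lib.Helper15.SLn_transvection_induction
      (fun A : Matrix.SpecialLinearGroup (Fin n) F => ∀ g : GL (Fin n) F,
        (g : Matrix (Fin n) (Fin n) F) = (A : Matrix (Fin n) (Fin n) F) → g ∈ M) ?_ ?_ A
    · intro i j hij c g hg
      apply hall (Pi.single i c) (Pi.single j 1) _ g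
      · rw [hg, Matrix.SpecialLinearGroup.transvection_coe, tv]
        congr 1
        ext x y
        simp only [Matrix.single_apply, vecMulVec_apply, Pi.single_apply]
        by_cases hx : i = x
        · subst hx
          by_cases hy : j = y
          · subst hy; simp
          · simp [hy, Ne.symm hy]
        · simp [hx, Ne.symm hx]
      · rw [single_dotProduct, one_mul, Pi.single_apply, if_neg (Ne.symm hij)]
    · intro A B hA hB g hg
      have : g = Matrix.SpecialLinearGroup.toGL A * Matrix.SpecialLinearGroup.toGL B :=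
        Units.ext (by rw [Units.val_mul, hg, Matrix.SpecialLinearGroup.coe_mul]; rfl)
      rw [this]
      exact M.mul_mem (hA _ rfl) (hB _ rfl)
  exact key ⟨(s : Matrix (Fin n) (Fin n) F), hdet⟩ s rfl

theorem tv_mul_tv (a φ φ' : Fin n → F) (h : φ ⬝ᵥ a = 0) :
    tv a φ * tv a φ' = tv a (φ + φ') := by
  apply mat_ext'
  intro x
  rw [← mulVec_mulVec, tv_mulVec, tv_mulVec, tv_mulVec, dotProduct_add, dotProduct_smul, h,
    smul_zero, add_zero, add_dotProduct, add_smul]
  abel

theorem tv_zero (a : Fin n → F) : tv a 0 = 1 := by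
  apply mat_ext'
  intro x
  rw [tv_mulVec, zero_dotProduct, zero_smul, add_zero, one_mulVec]

variable (B : LinearMap.BilinForm F (Fin n → F))

/-- the covector of `x ↦ B x a` -/
def covec (a : Fin n → F) : Fin n → F := fun i => B (Pi.single i 1) a

theorem covec_dot (a x : Fin n → F) : covec B a ⬝ᵥ x = B x a := by
  have h := LinearMap.pi_apply_eq_sum_univ (LinearMap.flip B a) x
  simp only [LinearMap.flip_apply] at h
  rw [h]
  simp only [dotProduct, covec, smul_eq_mul]
  apply Finset.sum_congr rfl
  intro i _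
  have e : (fun j => if i = j then (1 : F) else 0) = Pi.single i 1 := by
    ext j
    by_cases h : i = j
    · subst h; simp
    · simp [h, Ne.symm h]
  rw [e]
  ring

theorem covec_eq_of_forall {u φ : Fin n → F} (h : ∀ x, B x u = φ ⬝ᵥ x) : covec B u = φ :=
  covec_ext (fun x => by rw [covec_dot, h])

theorem covec_add (u u' : Fin n → F) : covec B (u + u') = covec B u + covec B u' :=
  covec_ext (fun x => by rw [add_dotProduct, covec_dot, covec_dot, covec_dot, map_add])

theorem covec_neg (u : Fin n → F) : covec B (-u) = -covec B u :=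
  covec_ext (fun x => by rw [neg_dotProduct, covec_dot, covec_dot, map_neg])

/-- the matrix of the symplectic transvection `x ↦ x + c B(x,a) a` -/
def stv (a : Fin n → F) (c : F) : Matrix (Fin n) (Fin n) F := tv a (c • covec B a)

theorem stv_mulVec (a : Fin n → F) (c : F) (x : Fin n → F) :
    stv B a c *ᵥ x = x + (c * B x a) • a := by
  rw [stv, tv_mulVec, smul_dotProduct, covec_dot, smul_eq_mul]

theorem stv_dot (halt : ∀ v, B v v = 0) (a : Fin n → F) (c : F) :
    (c • covec B a) ⬝ᵥ a = 0 := by
  rw [smul_dotProduct, covec_dot, halt, smul_zero]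

/-- the symplectic transvection as an invertible matrix -/
noncomputable def stvGL (halt : ∀ v, B v v = 0) (a : Fin n → F) (c : F) : GL (Fin n) F :=
  (exists_tvGL a (c • covec B a) (stv_dot B halt a c)).choose

theorem stvGL_val (halt : ∀ v, B v v = 0) (a : Fin n → F) (c : F) :
    (stvGL B halt a c : Matrix (Fin n) (Fin n) F) = stv B a c :=
  (exists_tvGL a (c • covec B a) (stv_dot B halt a c)).choose_spec.1

theorem stvGL_SL (halt : ∀ v, B v v = 0) (a : Fin n → F) (c : F) :
    stvGL B halt a c ∈ Cfsg.Geo.specialLinear (Fin n) F :=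
  (exists_tvGL a (c • covec B a) (stv_dot B halt a c)).choose_spec.2

theorem stvGL_mulVec (halt : ∀ v, B v v = 0) (a : Fin n → F) (c : F) (x : Fin n → F) :
    (stvGL B halt a c : Matrix (Fin n) (Fin n) F) *ᵥ x = x + (c * B x a) • a := by
  rw [stvGL_val, stv_mulVec]

theorem stvGL_pres (hskew : ∀ v w, B v w = -B w v) (halt : ∀ v, B v v = 0) (a : Fin n → F)
    (c : F) (x y : Fin n → F) :
    B ((stvGL B halt a c : Matrix (Fin n) (Fin n) F) *ᵥ x)
      ((stvGL B halt a c : Matrix (Fin n) (Fin n) F) *ᵥ y) = B x y := by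
  rw [stvGL_mulVec, stvGL_mulVec]
  simp only [map_add, map_smul, LinearMap.add_apply, LinearMap.smul_apply, smul_eq_mul, halt a,
    hskew a y]
  ring

theorem stvGL_mem_sim (hskew : ∀ v w, B v w = -B w v) (halt : ∀ v, B v v = 0) (a : Fin n → F)
    (c : F) : stvGL B halt a c ∈ Cfsg.Geo.similarityGroup (fun x y => B x y) := by
  refine ⟨1, fun u v => ?_⟩
  change B _ _ = ((1 : Fˣ) : F) * B u v
  rw [stvGL_pres B hskew halt, Units.val_one, one_mul]

theorem exists_riesz (hnd : ∀ v, v ≠ 0 → ∃ x, B x v ≠ 0) (φ : Fin n → F) :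
    ∃ u, ∀ x, B x u = φ ⬝ᵥ x := by
  let R : (Fin n → F) →ₗ[F] (Fin n → F) :=
    { toFun := fun u => covec B u
      map_add' := fun u v => covec_add B u v
      map_smul' := fun c u => covec_ext (fun x => by
        rw [RingHom.id_apply, smul_dotProduct, covec_dot, covec_dot, map_smul, smul_eq_mul]) }
  have hR : ∀ u, R u = covec B u := fun u => rfl
  have hinj : Function.Injective R := by
    rw [← LinearMap.ker_eq_bot, LinearMap.ker_eq_bot']
    intro u hu
    by_contra hu0
    obtain ⟨x, hx⟩ := hnd u hu0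
    apply hx
    rw [← covec_dot, ← hR, hu, zero_dotProduct]
  obtain ⟨u, hu⟩ := (LinearMap.injective_iff_surjective.mp hinj) φ
  refine ⟨u, fun x => ?_⟩
  rw [← covec_dot, ← hR, hu]

theorem exists_link_B (hnd : ∀ v, v ≠ 0 → ∃ x, B x v ≠ 0) (a a' : Fin n → F) (ha : a ≠ 0)
    (ha' : a' ≠ 0) : ∃ y, B y a ≠ 0 ∧ B y a' ≠ 0 := by
  obtain ⟨y₁, h₁⟩ := hnd a ha
  obtain ⟨y₂, h₂⟩ := hnd a' ha'
  by_cases h3 : B y₁ a' = 0
  · by_cases h4 : B y₂ a = 0
    · refine ⟨y₁ + y₂, ?_, ?_⟩
      · rw [map_add, LinearMap.add_apply, h4, add_zero]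
        exact h₁
      · rw [map_add, LinearMap.add_apply, h3, zero_add]
        exact h₂
    · exact ⟨y₂, h4, h₂⟩
  · exact ⟨y₁, h₁, h3⟩

/-- **The similarity group of a nondegenerate alternating form is maximal in `SL_n`.** -/
theorem gsp_maximal (hn : 3 ≤ n) (hskew : ∀ v w, B v w = -B w v) (halt : ∀ v, B v v = 0)
    (hnd : ∀ v, v ≠ 0 → ∃ x, B x v ≠ 0) :
    Cfsg.Geo.IsMaximalIn (Cfsg.Geo.specialLinear (Fin n) F)
      (Cfsg.Geo.similarityGroup (fun x y => B x y) ⊓ Cfsg.Geo.specialLinear (Fin n) F) := by
  classical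
  have hnd' : ∀ v, v ≠ 0 → ∃ x, B v x ≠ 0 := fun v hv => by
    obtain ⟨x, hx⟩ := hnd v hv
    exact ⟨x, by rw [hskew]; exact neg_ne_zero.mpr hx⟩
  have he0 : (Pi.single (⟨0, by omega⟩ : Fin n) (1 : F) : Fin n → F) ≠ 0 := by
    intro h
    have := congrFun h ⟨0, by omega⟩
    simp at this
  constructor
  · rw [SetLike.lt_iff_le_and_exists]
    refine ⟨inf_le_right, ?_⟩
    obtain ⟨a, ha0⟩ : ∃ a : Fin n → F, a ≠ 0 := ⟨_, he0⟩
    obtain ⟨y, hy⟩ := hnd a ha0
    have hay : B a y ≠ 0 := by rw [hskew]; exact neg_ne_zero.mpr hy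
    obtain ⟨z, hz⟩ : ∃ z, z ∉ Submodule.span F (({a, y} : Finset (Fin n → F)) : Set (Fin n → F)) := by
      by_contra hcon
      push Not at hcon
      have htop : Submodule.span F (({a, y} : Finset (Fin n → F)) : Set (Fin n → F)) = ⊤ :=
        eq_top_iff.mpr fun x _ => hcon x
      have h1 := finrank_span_finset_le_card (R := F) ({a, y} : Finset (Fin n → F))
      rw [Set.finrank, htop, finrank_top, Module.finrank_fintype_fun_eq_card, Fintype.card_fin] at h1
      have h2 : ({a, y} : Finset (Fin n → F)).card ≤ 2 := Finset.card_le_two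
      omega
    obtain ⟨φ, hφz, hφP⟩ := exists_dual_vec _ z hz
    have hφa : φ ⬝ᵥ a = 0 := hφP a (Submodule.subset_span (by simp))
    have hφy : φ ⬝ᵥ y = 0 := hφP y (Submodule.subset_span (by simp))
    obtain ⟨t, ht, htSL⟩ := exists_tvGL a φ hφa
    refine ⟨t, htSL, ?_⟩
    rintro ⟨⟨c, hc⟩, -⟩
    have hc' : ∀ u v, B ((t : Matrix (Fin n) (Fin n) F) *ᵥ u)
        ((t : Matrix (Fin n) (Fin n) F) *ᵥ v) = (c : F) * B u v := hc
    have hta : (t : Matrix (Fin n) (Fin n) F) *ᵥ a = a := by
      rw [ht, tv_mulVec, hφa, zero_smul, add_zero]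
    have hty : (t : Matrix (Fin n) (Fin n) F) *ᵥ y = y := by
      rw [ht, tv_mulVec, hφy, zero_smul, add_zero]
    have hc1 : (c : F) = 1 := by
      have h1 := hc' a y
      rw [hta, hty] at h1
      have h2 : ((c : F) - 1) * B a y = 0 := by linear_combination -h1
      rcases mul_eq_zero.mp h2 with h3 | h3
      · exact sub_eq_zero.mp h3
      · exact absurd h3 hay
    have h1 := hc' z y
    rw [hty, ht, tv_mulVec, hφz, one_smul, hc1, one_mul, map_add, LinearMap.add_apply] at h1
    apply hay
    linear_combination h1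
  · intro M hHM hMS
    by_cases hMH : M ≤ Cfsg.Geo.similarityGroup (fun x y => B x y) ⊓
        Cfsg.Geo.specialLinear (Fin n) F
    · left
      exact le_antisymm hMH hHM
    · right
      apply le_antisymm hMS
      obtain ⟨g, hgM, hgH⟩ := SetLike.not_le_iff_exists.mp hMH
      have hgsim : g ∉ Cfsg.Geo.similarityGroup (fun x y => B x y) := fun h => hgH ⟨h, hMS hgM⟩
      have hTM : ∀ a c, stvGL B halt a c ∈ M := fun a c =>
        hHM ⟨stvGL_mem_sim B hskew halt a c, stvGL_SL B halt a c⟩
      have hginv : ∀ x, ((g⁻¹ : GL (Fin n) F) : Matrix (Fin n) (Fin n) F) *ᵥ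
          ((g : Matrix (Fin n) (Fin n) F) *ᵥ x) = x := by
        intro x
        rw [mulVec_mulVec, ← Units.val_mul, inv_mul_cancel, Units.val_one, one_mulVec]
      have hginv' : ∀ x, (g : Matrix (Fin n) (Fin n) F) *ᵥ
          (((g⁻¹ : GL (Fin n) F) : Matrix (Fin n) (Fin n) F) *ᵥ x) = x := by
        intro x
        rw [mulVec_mulVec, ← Units.val_mul, mul_inv_cancel, Units.val_one, one_mulVec]
      -- (1) a symplectic transvection whose conjugate is not symplectic
      obtain ⟨a, ha⟩ : ∃ a, ∀ l : F, ¬ ∀ x,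
          B (((g⁻¹ : GL (Fin n) F) : Matrix (Fin n) (Fin n) F) *ᵥ x) a =
            l * B x ((g : Matrix (Fin n) (Fin n) F) *ᵥ a) := by
        by_contra hcon
        push Not at hcon
        choose lam hlam using hcon
        have h1 : ∀ a y, B y a = lam a * B ((g : Matrix (Fin n) (Fin n) F) *ᵥ y)
            ((g : Matrix (Fin n) (Fin n) F) *ᵥ a) := by
          intro a y
          have := hlam a ((g : Matrix (Fin n) (Fin n) F) *ᵥ y)
          rwa [hginv] at this
        have h2 : ∀ a, a ≠ 0 → lam a ≠ 0 := by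
          intro a ha0 h
          obtain ⟨x, hx⟩ := hnd a ha0
          apply hx
          rw [h1 a x, h, zero_mul]
        have h3 : ∀ a y, B y a ≠ 0 → lam a = lam y := by
          intro a y hya
          have e1 := h1 a y
          have e2 := h1 y a
          rw [hskew a y, hskew ((g : Matrix (Fin n) (Fin n) F) *ᵥ a)] at e2
          have hX : B ((g : Matrix (Fin n) (Fin n) F) *ᵥ y)
              ((g : Matrix (Fin n) (Fin n) F) *ᵥ a) ≠ 0 := by
            intro h
            apply hya
            rw [e1, h, mul_zero]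
          have h4 : lam a * B ((g : Matrix (Fin n) (Fin n) F) *ᵥ y)
              ((g : Matrix (Fin n) (Fin n) F) *ᵥ a) =
              lam y * B ((g : Matrix (Fin n) (Fin n) F) *ᵥ y)
              ((g : Matrix (Fin n) (Fin n) F) *ᵥ a) := by
            linear_combination -e1 - e2
          exact mul_right_cancel₀ hX h4
        apply hgsim
        refine ⟨Units.mk0 (lam (Pi.single (⟨0, by omega⟩ : Fin n) (1 : F)))⁻¹
          (inv_ne_zero (h2 _ he0)), fun u v => ?_⟩
        change B ((g : Matrix (Fin n) (Fin n) F) *ᵥ u) ((g : Matrix (Fin n) (Fin n) F) *ᵥ v) =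
          (lam (Pi.single (⟨0, by omega⟩ : Fin n) (1 : F)))⁻¹ * B u v
        by_cases hv : v = 0
        · subst hv
          simp
        · obtain ⟨y, hy1, hy2⟩ := exists_link_B B hnd _ v he0 hv
          have e3 : lam v = lam (Pi.single (⟨0, by omega⟩ : Fin n) (1 : F)) :=
            (h3 v y hy2).trans (h3 _ y hy1).symm
          have e := h1 v u
          rw [e3] at e
          rw [e, ← mul_assoc, inv_mul_cancel₀ (h2 _ he0), one_mul]
      have ha0 : a ≠ 0 := by
        rintro rfl
        apply ha 0
        intro x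
        simp
      obtain ⟨b, hb⟩ : ∃ b, b = (g : Matrix (Fin n) (Fin n) F) *ᵥ a := ⟨_, rfl⟩
      have hgb : ((g⁻¹ : GL (Fin n) F) : Matrix (Fin n) (Fin n) F) *ᵥ b = a := by
        rw [hb, hginv]
      have hb0 : b ≠ 0 := by
        intro h
        apply ha0
        rw [← hgb, h, mulVec_zero]
      rw [← hb] at ha
      obtain ⟨u₀, hu₀⟩ := exists_riesz B hnd
        (covec B a ᵥ* ((g⁻¹ : GL (Fin n) F) : Matrix (Fin n) (Fin n) F))
      have hu₀' : ∀ x, B x u₀ =
          B (((g⁻¹ : GL (Fin n) F) : Matrix (Fin n) (Fin n) F) *ᵥ x) a := by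
        intro x
        rw [hu₀, ← dotProduct_mulVec, covec_dot]
      have hu₀b : ∀ l : F, u₀ ≠ l • b := by
        intro l h
        apply ha l
        intro x
        rw [← hu₀', h, map_smul, smul_eq_mul]
      -- (2) the set `U`
      have hUdef : ∀ u, B b u = 0 → covec B u ⬝ᵥ b = 0 := fun u hu => by rw [covec_dot, hu]
      obtain ⟨InU, hInU⟩ : ∃ InU : (Fin n → F) → Prop, ∀ u, InU u ↔
          (B b u = 0 ∧ ∀ k : GL (Fin n) F,
            (k : Matrix (Fin n) (Fin n) F) = tv b (covec B u) → k ∈ M) := ⟨_, fun u => Iff.rfl⟩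
      have hU0 : InU u₀ := by
        rw [hInU]
        have h1 : B b u₀ = 0 := by rw [hu₀', hgb, halt]
        refine ⟨h1, fun k hk => ?_⟩
        have h2 : k = g * stvGL B halt a 1 * g⁻¹ := by
          apply Units.ext
          rw [Units.val_mul, Units.val_mul, hk, stvGL_val, stv, one_smul, covec_eq_of_forall B hu₀,
            hb, ← conj_tv, vecMul_vecMul, ← Units.val_mul, inv_mul_cancel, Units.val_one, vecMul_one]
        rw [h2]
        exact M.mul_mem (M.mul_mem hgM (hTM a 1)) (M.inv_mem hgM)
      have hUadd : ∀ u u', InU u → InU u' → InU (u + u') := by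
        intro u u' hu hu'
        rw [hInU] at hu hu' ⊢
        refine ⟨by rw [map_add, hu.1, hu'.1, add_zero], fun k hk => ?_⟩
        obtain ⟨k₁, hk₁, -⟩ := exists_tvGL b (covec B u) (hUdef u hu.1)
        obtain ⟨k₂, hk₂, -⟩ := exists_tvGL b (covec B u') (hUdef u' hu'.1)
        have h2 : k = k₁ * k₂ := by
          apply Units.ext
          rw [Units.val_mul, hk, hk₁, hk₂, tv_mul_tv _ _ _ (hUdef u hu.1), covec_add]
        rw [h2]
        exact M.mul_mem (hu.2 k₁ hk₁) (hu'.2 k₂ hk₂)
      have hUneg : ∀ u, InU u → InU (-u) := by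
        intro u hu
        rw [hInU] at hu ⊢
        refine ⟨by rw [map_neg, hu.1, neg_zero], fun k hk => ?_⟩
        obtain ⟨k₁, hk₁, -⟩ := exists_tvGL b (covec B u) (hUdef u hu.1)
        have h2 : k * k₁ = 1 := by
          apply Units.ext
          rw [Units.val_mul, hk, hk₁, covec_neg, tv_mul_tv, neg_add_cancel, tv_zero, Units.val_one]
          rw [neg_dotProduct, hUdef u hu.1, neg_zero]
        rw [eq_inv_of_mul_eq_one_left h2]
        exact M.inv_mem (hu.2 k₁ hk₁)
      have hUT : ∀ u v c, InU u → B b v = 0 → InU (u + (c * B u v) • v) := by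
        intro u v c hu hv
        rw [hInU] at hu ⊢
        refine ⟨by rw [map_add, map_smul, hu.1, hv, smul_zero, add_zero], fun k hk => ?_⟩
        obtain ⟨k₁, hk₁, -⟩ := exists_tvGL b (covec B u) (hUdef u hu.1)
        have hTb : (stvGL B halt v c : Matrix (Fin n) (Fin n) F) *ᵥ b = b := by
          rw [stvGL_mulVec, hv, mul_zero, zero_smul, add_zero]
        have hcov : covec B (u + (c * B u v) • v) ᵥ*
            (stvGL B halt v c : Matrix (Fin n) (Fin n) F) = covec B u := by
          apply covec_ext
          intro x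
          rw [← dotProduct_mulVec, covec_dot, covec_dot, ← stvGL_mulVec B halt v c u,
            stvGL_pres B hskew halt]
        have h2 : k = stvGL B halt v c * k₁ * (stvGL B halt v c)⁻¹ := by
          apply Units.ext
          rw [Units.val_mul, Units.val_mul, hk, hk₁, ← hcov, conj_tv, hTb]
        rw [h2]
        exact M.mul_mem (M.mul_mem (hTM v c) (hu.2 k₁ hk₁)) (M.inv_mem (hTM v c))
      have hstepA : ∀ v, B b v = 0 → B u₀ v ≠ 0 → ∀ l : F, InU (l • v) := by
        intro v hv hu₀v l
        have h1 := hUT u₀ v (l / B u₀ v) hU0 hv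
        rw [div_mul_cancel₀ _ hu₀v] at h1
        have h2 := hUadd _ _ h1 (hUneg _ hU0)
        have e : u₀ + l • v + -u₀ = l • v := by abel
        rwa [e] at h2
      obtain ⟨v', hv'b, hv'u⟩ : ∃ v', B b v' = 0 ∧ B u₀ v' ≠ 0 := by
        by_contra hcon
        push Not at hcon
        obtain ⟨y, hy⟩ := hnd' b hb0
        have h1 : ∀ x, B (u₀ - (B u₀ y / B b y) • b) x = 0 := by
          intro x
          have h2 := hcon (x - (B b x / B b y) • y) (by
            rw [map_sub, map_smul, smul_eq_mul, div_mul_cancel₀ _ hy, sub_self])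
          rw [map_sub, map_smul, smul_eq_mul] at h2
          rw [map_sub, LinearMap.sub_apply, map_smul, LinearMap.smul_apply, smul_eq_mul]
          field_simp
          field_simp at h2
          linear_combination h2
        have h3 : u₀ - (B u₀ y / B b y) • b = 0 := by
          by_contra h4
          obtain ⟨x, hx⟩ := hnd' _ h4
          exact hx (h1 x)
        exact hu₀b _ (sub_eq_zero.mp h3)
      have hUall : ∀ v, B b v = 0 → InU v := by
        intro v hv
        by_cases hv0 : B u₀ v = 0
        · have h1 := hstepA (v + v') (by rw [map_add, hv, hv'b, add_zero])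
            (by rw [map_add, hv0, zero_add]; exact hv'u) 1
          have h2 := hstepA v' hv'b hv'u (-1)
          have h3 := hUadd _ _ h1 h2
          have e : (1 : F) • (v + v') + (-1 : F) • v' = v := by
            rw [one_smul, neg_one_smul]; abel
          rwa [e] at h3
        · have h1 := hstepA v hv hv0 1
          rwa [one_smul] at h1
      -- (3) all transvections in the direction `b`, then in all directions
      have hbX : TvIn M b := by
        intro φ hφ k hk
        obtain ⟨u, hu⟩ := exists_riesz B hnd φ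
        have h1 : InU u := hUall u (by rw [hu, hφ])
        rw [hInU] at h1
        apply h1.2 k
        rw [hk, covec_eq_of_forall B hu]
      have hS1 : ∀ v, B b v ≠ 0 → TvIn M v := by
        intro v hv
        have h1 := hbX.map (hTM v 1)
        rw [stvGL_mulVec, one_mul] at h1
        have h2 := h1.add (hbX.smul (-1))
        have e : b + B b v • v + (-1 : F) • b = B b v • v := by rw [neg_one_smul]; abel
        rw [e] at h2
        have h3 := h2.smul (B b v)⁻¹
        rwa [smul_smul, inv_mul_cancel₀ hv, one_smul] at h3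
      have hS : ∀ v, TvIn M v := by
        intro v
        by_cases hv : B b v = 0
        · obtain ⟨y, hy⟩ := hnd' b hb0
          have h1 := hS1 (v + y) (by rw [map_add, hv, zero_add]; exact hy)
          have h2 := (hS1 y hy).smul (-1)
          have h3 := h1.add h2
          have e : v + y + (-1 : F) • y = v := by rw [neg_one_smul]; abel
          rwa [e] at h3
        · exact hS1 v hv
      exact SL_le_of_forall_TvIn (by omega) M hS

end gspmax

end Cfsg.Agent.Lib.Helper13
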