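import Mathlib
import Cfsg.Agent.Lib.Helper6.Unitary
import Cfsg.Prelude.Def_GeometricClasses

/-!
# Subfields of index two and rational matrices

Vectors and matrices over a subfield `K` of `F` embedded coordinatewise, the decomposition
`F = K ⊕ θ K` for a field with `q^2` elements and its subfield with `q` elements, membership
criteria for the subfield subgroups, and the lemma that an invertible matrix mapping every
`K`-rational vector to a multiple of a `K`-rational vector is a scalar multiple of a `K`-rational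
matrix.
-/

set_option autoImplicit false

namespace Cfsg.Agent.Lib.Helper13

open Matrix Cfsg.Agent.S0779 Cfsg.Agent.Lib.Helper6
open scoped Pointwise

section subf
variable {F : Type*} [Field F]

/-- coordinatewise embedding of vectors over a subfield -/
def rvec {n : ℕ} (K : Subfield F) (u : Fin n → K) : Fin n → F := fun i => (u i : F)

theorem rvec_add {n : ℕ} (K : Subfield F) (u v : Fin n → K) :
    rvec K (u + v) = rvec K u + rvec K v := by
  ext i
  simp [rvec]

theorem rvec_sub {n : ℕ} (K : Subfield F) (u v : Fin n → K) :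
    rvec K (u - v) = rvec K u - rvec K v := by
  ext i
  simp [rvec]

theorem rvec_smul {n : ℕ} (K : Subfield F) (k : K) (u : Fin n → K) :
    rvec K (k • u) = (k : F) • rvec K u := by
  ext i
  simp [rvec]

theorem rvec_zero {n : ℕ} (K : Subfield F) : rvec K (0 : Fin n → K) = 0 := by
  ext i
  simp [rvec]

theorem rvec_inj {n : ℕ} (K : Subfield F) {u v : Fin n → K} (h : rvec K u = rvec K v) :
    u = v :=
  funext fun i => Subtype.ext (congrFun h i)

theorem rvec_single {n : ℕ} (K : Subfield F) (j : Fin n) :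
    rvec K (Pi.single j (1 : K)) = (Pi.single j (1 : F) : Fin n → F) := by
  ext k
  by_cases hk : k = j
  · subst hk
    simp [rvec]
  · simp [rvec, hk]

/-- matrices over a subfield, embedded -/
def rmat {n : ℕ} (K : Subfield F) (B : Matrix (Fin n) (Fin n) K) : Matrix (Fin n) (Fin n) F :=
  B.map K.subtype

theorem rmat_mulVec {n : ℕ} (K : Subfield F) (B : Matrix (Fin n) (Fin n) K) (u : Fin n → K) :
    rmat K B *ᵥ rvec K u = rvec K (B *ᵥ u) := by
  ext i
  change ∑ j, K.subtype (B i j) * K.subtype (u j) = K.subtype (∑ j, B i j * u j)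
  rw [map_sum]
  simp only [map_mul]

/-- the decomposition data of a quadratic extension `F = K ⊕ θ K` with conjugation `x ↦ x^q` -/
structure SubfData (q : ℕ) (K : Subfield F) (θ : F) : Prop where
  fixK : ∀ x : K, (x : F) ^ q = x
  θq : θ ^ q ≠ θ
  dec : ∀ x : F, ∃ a b : K, x = a + θ * b

theorem subf_uniq_aux {q : ℕ} {K : Subfield F} {θ : F} (fixK : ∀ x : K, (x : F) ^ q = x)
    (θq : θ ^ q ≠ θ) {a b a' b' : K} (e : (a : F) + θ * b = a' + θ * b') : a = a' ∧ b = b' := by
  by_cases hb : b = b'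
  · subst hb
    exact ⟨Subtype.ext (add_right_cancel e), rfl⟩
  · exfalso
    apply θq
    have hne : ((b - b' : K) : F) ≠ 0 := by
      intro h0
      apply hb
      have : b - b' = 0 := by exact_mod_cast h0
      exact sub_eq_zero.mp this
    have e2 : θ * ((b - b' : K) : F) = ((a' - a : K) : F) := by
      push_cast
      linear_combination e
    have hθ : θ = (((a' - a) / (b - b') : K) : F) := by
      rw [Subfield.coe_div, eq_div_iff hne]
      exact e2
    rw [hθ]
    exact fixK _

theorem SubfData.uniq {q : ℕ} {K : Subfield F} {θ : F} (h : SubfData q K θ) {a b a' b' : K}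
    (e : (a : F) + θ * b = a' + θ * b') : a = a' ∧ b = b' :=
  subf_uniq_aux h.fixK h.θq e

theorem SubfData.mem_of_pow [Fintype F] {q : ℕ} (hF : Fintype.card F = q ^ 2) {K : Subfield F}
    {θ : F} (h : SubfData q K θ) (x : F) (hx : x ^ q = x) : ∃ k : K, x = k := by
  obtain ⟨a, b, rfl⟩ := h.dec x
  rw [add_pow_q hF, mul_pow, h.fixK, h.fixK] at hx
  have h1 : (θ ^ q - θ) * (b : F) = 0 := by linear_combination hx
  rcases mul_eq_zero.mp h1 with h2 | h2
  · exact absurd (sub_eq_zero.mp h2) h.θq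
  · exact ⟨a, by rw [h2, mul_zero, add_zero]⟩

theorem exists_subfData [Fintype F] {q : ℕ} (hF : Fintype.card F = q ^ 2) (K : Subfield F)
    (hcard : Fintype.card F = Nat.card K ^ 2) : ∃ θ, SubfData q K θ := by
  classical
  have : Fintype K := Fintype.ofFinite K
  have hq : Fintype.card K = q := by
    have h1 : Nat.card K ^ 2 = q ^ 2 := hcard.symm.trans hF
    rw [Nat.card_eq_fintype_card] at h1
    exact Nat.pow_left_injective two_ne_zero h1
  have fixK : ∀ x : K, (x : F) ^ q = x := by
    intro x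
    have h1 := FiniteField.pow_card x
    rw [hq] at h1
    have h2 := congrArg (fun y : K => (y : F)) h1
    simpa using h2
  obtain ⟨θ, hθ⟩ : ∃ θ : F, θ ^ q ≠ θ := by
    by_contra hne
    push Not at hne
    exact conjQ_ne_id hF (RingHom.ext (fun x => by rw [conjQ_apply, hne, RingHom.id_apply]))
  refine ⟨θ, fixK, hθ, ?_⟩
  have hinj : Function.Injective (fun p : K × K => (p.1 : F) + θ * p.2) := by
    rintro ⟨a, b⟩ ⟨a', b'⟩ e
    obtain ⟨h1, h2⟩ := subf_uniq_aux fixK hθ e
    exact Prod.ext h1 h2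
  have hcardeq : Fintype.card (K × K) = Fintype.card F := by
    rw [Fintype.card_prod, hq, hF, pow_two]
  have hbij := (Fintype.bijective_iff_injective_and_card _).mpr ⟨hinj, hcardeq⟩
  intro x
  obtain ⟨⟨a, b⟩, hab⟩ := hbij.2 x
  exact ⟨a, b, hab.symm⟩

theorem mem_subfieldSubgroup_of_eq {n : ℕ} (K : Subfield F) (P g : GL (Fin n) F) (l : F)
    (hl : l ≠ 0) (B : Matrix (Fin n) (Fin n) K)
    (h : ((P⁻¹ * g * P : GL (Fin n) F) : Matrix (Fin n) (Fin n) F) = l • rmat K B) :
    g ∈ Cfsg.Geo.subfieldSubgroup K P := by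
  have hx : ((P⁻¹ * g * P : GL (Fin n) F) : Matrix (Fin n) (Fin n) F).det ≠ 0 := by
    have := (Matrix.GeneralLinearGroup.det (P⁻¹ * g * P)).ne_zero
    rwa [Matrix.GeneralLinearGroup.val_det_apply] at this
  have hdet : B.det ≠ 0 := by
    intro h0
    apply hx
    have h1 : (rmat K B).det = K.subtype B.det := by
      unfold rmat
      rw [RingHom.map_det]
      rfl
    rw [h, det_smul, h1, h0, map_zero, mul_zero]
  let B' : GL (Fin n) K := Matrix.GeneralLinearGroup.mkOfDetNeZero B hdet
  have hB' : ((Matrix.GeneralLinearGroup.map K.subtype B' : GL (Fin n) F) :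
      Matrix (Fin n) (Fin n) F) = rmat K B := rfl
  have hs : (Matrix.GeneralLinearGroup.map K.subtype B')⁻¹ * (P⁻¹ * g * P) ∈
      Cfsg.Geo.scalars (Fin n) F := by
    rw [Cfsg.Geo.mem_scalars_iff]
    refine ⟨Units.mk0 l hl, ?_⟩
    rw [Units.val_mul, h, ← hB', Matrix.mul_smul, ← Units.val_mul, inv_mul_cancel, Units.val_one]
    rfl
  have hx2 : P⁻¹ * g * P ∈
      (Matrix.GeneralLinearGroup.map (K.subtype : K →+* F)).range ⊔ Cfsg.Geo.scalars (Fin n) F := by
    have hr : Matrix.GeneralLinearGroup.map (K.subtype : K →+* F) B' ∈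
        (Matrix.GeneralLinearGroup.map (K.subtype : K →+* F)).range :=
      MonoidHom.mem_range.mpr ⟨B', rfl⟩
    have := Subgroup.mul_mem_sup hr hs
    rwa [mul_inv_cancel_left] at this
  refine Subgroup.mem_map.mpr ⟨P⁻¹ * g * P, hx2, ?_⟩
  rw [MulEquiv.coe_toMonoidHom, MulAut.conj_apply]
  group

theorem exists_eq_of_mem_subfieldSubgroup {n : ℕ} (K : Subfield F) (P g : GL (Fin n) F)
    (hg : g ∈ Cfsg.Geo.subfieldSubgroup K P) :
    ∃ (l : F) (B : Matrix (Fin n) (Fin n) K),
      ((P⁻¹ * g * P : GL (Fin n) F) : Matrix (Fin n) (Fin n) F) = l • rmat K B := by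
  unfold Cfsg.Geo.subfieldSubgroup at hg
  obtain ⟨x, hx, hxg⟩ := Subgroup.mem_map.mp hg
  have hx' : x ∈ (((Matrix.GeneralLinearGroup.map (K.subtype : K →+* F)).range :
      Subgroup (GL (Fin n) F)) : Set (GL (Fin n) F)) *
      ((Cfsg.Geo.scalars (Fin n) F : Subgroup (GL (Fin n) F)) : Set (GL (Fin n) F)) := by
    rw [← Subgroup.mul_normal]
    exact hx
  obtain ⟨y, hy, z, hz, hyz⟩ := Set.mem_mul.mp hx'
  obtain ⟨B', hB'⟩ := MonoidHom.mem_range.mp hy
  obtain ⟨c, hc⟩ := (Cfsg.Geo.mem_scalars_iff z).mp hz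
  refine ⟨c, B'.val, ?_⟩
  have e : P⁻¹ * g * P = y * z := by
    rw [← hxg, MulEquiv.coe_toMonoidHom, MulAut.conj_apply, hyz]
    group
  rw [e, Units.val_mul, hc, Matrix.mul_smul, Matrix.mul_one, ← hB']
  rfl

theorem exists_rational_of_pure {n : ℕ} (hn : 0 < n) (K : Subfield F) (A : GL (Fin n) F)
    (hA : ∀ u : Fin n → K, ∃ (l : F) (r : Fin n → K),
      (A : Matrix (Fin n) (Fin n) F) *ᵥ rvec K u = l • rvec K r) :
    ∃ (l : F) (B : Matrix (Fin n) (Fin n) K), l ≠ 0 ∧
      (A : Matrix (Fin n) (Fin n) F) = l • rmat K B := by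
  classical
  obtain ⟨i₀, hi₀⟩ : ∃ i₀ : Fin n, i₀ = ⟨0, hn⟩ := ⟨_, rfl⟩
  obtain ⟨e₀, he₀def⟩ : ∃ e₀ : Fin n → K, e₀ = Pi.single i₀ 1 := ⟨_, rfl⟩
  have hinjA : ∀ x y : Fin n → F, A.val *ᵥ x = A.val *ᵥ y → x = y := by
    intro x y hxy
    have := congrArg (fun v => (A⁻¹ : GL (Fin n) F).val *ᵥ v) hxy
    simpa [mulVec_mulVec, ← Units.val_mul] using this
  obtain ⟨l₀, r₀, h₀⟩ := hA e₀
  have he₀ : rvec K e₀ ≠ 0 := by
    intro h0
    have := congrFun h0 i₀
    rw [he₀def, rvec_single] at this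
    simp at this
  have hl₀ : l₀ ≠ 0 := by
    intro h0
    rw [h0, zero_smul] at h₀
    apply he₀
    apply hinjA
    rw [h₀, mulVec_zero]
  have key : ∀ u : Fin n → K, ∃ r : Fin n → K, A.val *ᵥ rvec K u = l₀ • rvec K r := by
    intro u
    obtain ⟨μ, r, hu⟩ := hA u
    obtain ⟨ν, s, hus⟩ := hA (u + e₀)
    rw [rvec_add, mulVec_add, hu, h₀] at hus
    by_cases hD : ∃ k l : Fin n, r k * r₀ l - r l * r₀ k ≠ 0
    · obtain ⟨k, l, hkl⟩ := hD
      have hk := congrFun hus k
      have hl := congrFun hus l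
      simp only [Pi.add_apply, Pi.smul_apply, smul_eq_mul, rvec] at hk hl
      obtain ⟨d, hd⟩ : ∃ d : K, d = r₀ k * r l - r₀ l * r k := ⟨_, rfl⟩
      obtain ⟨X, hX⟩ : ∃ X : K, X = s k * r l - s l * r k := ⟨_, rfl⟩
      have hkey : ν * (X : F) = l₀ * (d : F) := by
        rw [hX, hd]
        push_cast
        linear_combination (r k : F) * hl - (r l : F) * hk
      have hd0 : d ≠ 0 := by
        rw [hd]
        intro h0
        apply hkl
        linear_combination -h0
      have hX0 : (X : F) ≠ 0 := by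
        intro h0
        rw [h0, mul_zero] at hkey
        have h1 : (d : F) = 0 := by
          rcases mul_eq_zero.mp hkey.symm with h1 | h1
          · exact absurd h1 hl₀
          · exact h1
        exact hd0 (by exact_mod_cast h1)
      have hν : ν = l₀ * ((d / X : K) : F) := by
        rw [Subfield.coe_div, mul_div_assoc', eq_div_iff hX0]
        exact hkey
      refine ⟨(d / X) • s - r₀, ?_⟩
      rw [hu]
      have h3 : μ • rvec K r = ν • rvec K s - l₀ • rvec K r₀ := eq_sub_of_add_eq hus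
      rw [h3, hν, rvec_sub, rvec_smul, smul_sub, smul_smul]
    · push Not at hD
      have hr₀ : ∃ l₁, r₀ l₁ ≠ 0 := by
        by_contra hne
        push Not at hne
        have h1 : r₀ = 0 := funext hne
        rw [h1, rvec_zero, smul_zero] at h₀
        apply he₀
        apply hinjA
        rw [h₀, mulVec_zero]
      obtain ⟨l₁, hl₁⟩ := hr₀
      obtain ⟨κ, hκ⟩ : ∃ κ : K, κ = r l₁ / r₀ l₁ := ⟨_, rfl⟩
      have hr : r = κ • r₀ := by
        funext k
        have h1 := hD k l₁
        rw [Pi.smul_apply, smul_eq_mul, hκ, div_mul_eq_mul_div, eq_div_iff hl₁]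
        linear_combination h1
      have hu2 : A.val *ᵥ rvec K u = A.val *ᵥ ((μ * (κ : F) / l₀) • rvec K e₀) := by
        rw [mulVec_smul, h₀, hu, hr, rvec_smul, smul_smul, smul_smul]
        congr 1
        field_simp
      have hu3 := hinjA _ _ hu2
      have hc : μ * (κ : F) / l₀ = (u i₀ : F) := by
        have h1 := congrFun hu3 i₀
        rw [he₀def, rvec_single] at h1
        simp [rvec] at h1
        exact h1.symm
      refine ⟨(u i₀) • r₀, ?_⟩
      rw [hu, hr, rvec_smul, rvec_smul, smul_smul, smul_smul, ← hc]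
      congr 1
      field_simp
  choose R hR using key
  refine ⟨l₀, fun i j => R (Pi.single j 1) i, hl₀, ?_⟩
  ext i j
  have h2 := congrFun (hR (Pi.single j 1)) i
  rw [rvec_single, Matrix.mulVec_single_one] at h2
  rw [Matrix.smul_apply, smul_eq_mul]
  exact h2

end subf

end Cfsg.Agent.Lib.Helper13
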