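import Mathlib
import Cfsg.Prelude.Def_GeometricClasses
import Cfsg.Agent.Lib.Helper13.TensorNM

set_option autoImplicit false

namespace Cfsg.Agent.Lib.Helper13.TNM

open scoped Matrix
open Cfsg Cfsg.Geo

section coords
variable {ι κ : Type} [Fintype ι] [DecidableEq ι] [Fintype κ] [DecidableEq κ] {F : Type*} [Field F]

theorem psi_surjective (e : ι ≃ κ) (P : GL ι F) : Function.Surjective (psi (F := F) e P) := by
  intro g
  refine ⟨(glReindex e.symm).symm (P⁻¹ * g * P), ?_⟩
  show P * glReindex e.symm ((glReindex e.symm).symm (P⁻¹ * g * P)) * P⁻¹ = g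
  rw [MulEquiv.apply_symm_apply]
  group

/-- the decomposition stabiliser in adapted coordinates -/
theorem psi_mem_decStab_iff {t : ℕ} (e : ι ≃ κ) (P : GL ι F) (D : Fin t → Submodule F (ι → F))
    (col : κ → Fin t) (hD : ∀ i x, TT e P x ∈ D i ↔ x ∈ blk (F := F) col i) (M : GL κ F) :
    psi e P M ∈ decompositionStabilizer D ↔ M ∈ decompositionStabilizer (blk (F := F) col) := by
  have key : ∀ (σ : Equiv.Perm (Fin t)) (i : Fin t),
      (D i).map (Matrix.toLin' ((psi e P M : GL ι F) : Matrix ι ι F)) = D (σ i) ↔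
      (blk (F := F) col i).map (Matrix.toLin' (M : Matrix κ κ F)) = blk (F := F) col (σ i) := by
    intro σ i
    constructor
    · intro h
      apply le_antisymm
      · rintro _ ⟨x, hx, rfl⟩
        rw [Matrix.toLin'_apply, ← hD, ← psi_mulVec, ← h]
        exact ⟨TT e P x, (hD i x).mpr hx, Matrix.toLin'_apply _ _⟩
      · intro y hy
        have h1 : TT e P y ∈ D (σ i) := (hD _ y).mpr hy
        rw [← h] at h1
        obtain ⟨v, hv, hvy⟩ := h1
        obtain ⟨x, rfl⟩ := TT_surj e P v
        rw [Matrix.toLin'_apply, psi_mulVec] at hvy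
        refine ⟨x, (hD i x).mp hv, ?_⟩
        rw [Matrix.toLin'_apply]
        exact TT_injective e P hvy
    · intro h
      apply le_antisymm
      · rintro _ ⟨v, hv, rfl⟩
        obtain ⟨x, rfl⟩ := TT_surj e P v
        rw [Matrix.toLin'_apply, psi_mulVec, hD, ← h]
        exact ⟨x, (hD i x).mp hv, Matrix.toLin'_apply _ _⟩
      · intro w hw
        obtain ⟨y, rfl⟩ := TT_surj e P w
        have h1 : y ∈ blk (F := F) col (σ i) := (hD _ y).mp hw
        rw [← h] at h1
        obtain ⟨x, hx, hxy⟩ := h1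
        rw [Matrix.toLin'_apply] at hxy
        refine ⟨TT e P x, (hD i x).mpr hx, ?_⟩
        rw [Matrix.toLin'_apply, psi_mulVec, hxy]
  constructor
  · rintro ⟨σ, hσ⟩
    exact ⟨σ, fun i => (key σ i).mp (hσ i)⟩
  · rintro ⟨σ, hσ⟩
    exact ⟨σ, fun i => (key σ i).mpr (hσ i)⟩

/-- block monomial shape of an element of the block stabiliser together with its inverse -/
theorem exists_perm_inv_of_mem_decStab {t : ℕ} (col : κ → Fin t) (M : GL κ F)
    (hM : M ∈ decompositionStabilizer (blk (F := F) col)) :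
    ∃ π : Equiv.Perm (Fin t), (∀ a a', col a ≠ π (col a') → (M : Matrix κ κ F) a a' = 0) ∧
      (∀ a a', col a ≠ π.symm (col a') → ((M⁻¹ : GL κ F) : Matrix κ κ F) a a' = 0) := by
  obtain ⟨π, hπ⟩ := hM
  have hπ' : ∀ i, (blk (F := F) col i).map (Matrix.toLin' ((M⁻¹ : GL κ F) : Matrix κ κ F))
      = blk (F := F) col (π.symm i) := by
    intro i
    have h := hπ (π.symm i)
    rw [Equiv.apply_symm_apply] at h
    rw [← h, ← Submodule.map_comp, ← Matrix.toLin'_mul, ← Units.val_mul, inv_mul_cancel, Units.val_one,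
      Matrix.toLin'_one, Submodule.map_id]
  have hsingle : ∀ a' : κ, (Pi.single a' 1 : κ → F) ∈ blk (F := F) col (col a') := by
    intro a'
    rw [mem_blk]
    intro b hb
    rw [Pi.single_apply, if_neg]
    rintro rfl; exact hb rfl
  refine ⟨π, fun a a' ha => ?_, fun a a' ha => ?_⟩
  · have h2 : Matrix.toLin' (M : Matrix κ κ F) (Pi.single a' 1) ∈ blk (F := F) col (π (col a')) := by
      rw [← hπ]; exact Submodule.mem_map_of_mem (hsingle a')
    have h3 := (mem_blk col _ _).mp h2 a ha
    rw [Matrix.toLin'_apply, Matrix.mulVec_single_one] at h3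
    exact h3
  · have h2 : Matrix.toLin' ((M⁻¹ : GL κ F) : Matrix κ κ F) (Pi.single a' 1)
        ∈ blk (F := F) col (π.symm (col a')) := by
      rw [← hπ']; exact Submodule.mem_map_of_mem (hsingle a')
    have h3 := (mem_blk col _ _).mp h2 a ha
    rw [Matrix.toLin'_apply, Matrix.mulVec_single_one] at h3
    exact h3

end coords

section exist
variable {F : Type*} [Field F]

/-- adapted coordinates for a decomposition into subspaces of equal dimension -/
theorem exists_coords_of_decomposition {n t m : ℕ} (D : Fin t → Submodule F (Fin n → F))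
    (hD : IsMDecomposition m D) :
    ∃ (e : Fin n ≃ Fin t × Fin m) (P : GL (Fin n) F),
      ∀ i x, TT e P x ∈ D i ↔ x ∈ blk (F := F) (Prod.fst : Fin t × Fin m → Fin t) i := by
  classical
  have hint : DirectSum.IsInternal D :=
    DirectSum.isInternal_submodule_of_iSupIndep_of_iSup_eq_top hD.indep hD.iSup_eq_top
  obtain ⟨b, hb⟩ : ∃ b : ∀ i, Module.Basis (Fin m) F (D i),
      b = fun i => Module.finBasisOfFinrankEq F (D i) (hD.finrank_eq i) := ⟨_, rfl⟩
  obtain ⟨B, hB⟩ : ∃ B : Module.Basis (Fin t × Fin m) F (Fin n → F),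
      B = (hint.collectedBasis b).reindex (Equiv.sigmaEquivProd (Fin t) (Fin m)) := ⟨_, rfl⟩
  have hBmem : ∀ k : Fin t × Fin m, B k ∈ D k.1 := by
    intro k
    rw [hB, Module.Basis.reindex_apply]
    exact hint.collectedBasis_mem b ((Equiv.sigmaEquivProd (Fin t) (Fin m)).symm k)
  have hcard : Fintype.card (Fin n) = Fintype.card (Fin t × Fin m) := by
    rw [← Module.finrank_eq_card_basis B, Module.finrank_fin_fun F, Fintype.card_fin]
  obtain ⟨e⟩ : Nonempty (Fin n ≃ Fin t × Fin m) := ⟨Fintype.equivOfCardEq hcard⟩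
  obtain ⟨B', hB'⟩ : ∃ B' : Module.Basis (Fin n) F (Fin n → F), B' = B.reindex e.symm := ⟨_, rfl⟩
  obtain ⟨P, hP⟩ : ∃ P : GL (Fin n) F,
      (P : Matrix (Fin n) (Fin n) F) = (Pi.basisFun F (Fin n)).toMatrix B' :=
    ⟨⟨(Pi.basisFun F (Fin n)).toMatrix B', B'.toMatrix (Pi.basisFun F (Fin n)),
      Module.Basis.toMatrix_mul_toMatrix_flip _ _, Module.Basis.toMatrix_mul_toMatrix_flip _ _⟩, rfl⟩
  have hTT : ∀ x : Fin t × Fin m → F, TT e P x = ∑ k, x k • B k := by
    intro x
    unfold TT
    rw [hP]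
    funext i
    simp only [Matrix.mulVec, dotProduct, Module.Basis.toMatrix_apply, Pi.basisFun_repr,
      Function.comp_apply, Finset.sum_apply, Pi.smul_apply, smul_eq_mul]
    rw [← Equiv.sum_comp e (fun k => x k * B k i)]
    apply Finset.sum_congr rfl
    intro j _
    rw [hB', Module.Basis.reindex_apply, Equiv.symm_symm, mul_comm]
  refine ⟨e, P, fun i x => ?_⟩
  rw [hTT, mem_blk]
  constructor
  · intro hmem k hk
    have h1 : B.repr (∑ k, x k • B k) k = x k := by
      rw [Module.Basis.repr_sum_self]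
    rw [← h1]
    rw [hB] at hmem ⊢
    rw [Module.Basis.repr_reindex_apply]
    obtain ⟨k1, k2⟩ := k
    exact hint.collectedBasis_repr_of_mem_ne b (Ne.symm hk) hmem
  · intro hx
    apply Submodule.sum_mem
    intro k _
    by_cases hk : k.1 = i
    · apply Submodule.smul_mem
      rw [← hk]
      exact hBmem k
    · rw [hx k hk, zero_smul]
      exact Submodule.zero_mem _

end exist

end Cfsg.Agent.Lib.Helper13.TNM
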