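import Mathlib
import Cfsg.Agent.Lib.Helper6.SUGen6
import Cfsg.Agent.Lib.Helper13.TransvSL

/-!
# Maximal subgroups of `SU_n(q)` via unitary transvections

`SU_n(q)` is generated by its transvections (`Helper6.SUG.TT_eq_top`).  For a subgroup `M` of
`GL_n` we consider the set `X` of isotropic vectors all of whose transvections lie in `M`; it is
`M`-invariant, closed under scalars and under `a ↦ a + μ b` inside hyperbolic planes.  We also
construct the Eichler transformations `x ↦ x + h(x,u)(v - c u) - h(x,v) u` and prove that the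
stabiliser of a nonzero totally isotropic subspace is maximal in `SU_n(q)`.
-/

set_option autoImplicit false

namespace Cfsg.Agent.Lib.Helper13

open Matrix Module Cfsg.Agent.Lib.Helper6 Cfsg.Agent.S0779 Cfsg.Agent.S0781
open Cfsg.Agent.Lib.Helper6.SUG

section sumax
variable {F : Type*} [Field F] [Fintype F] {q n : ℕ}

local notation "hh" => Cfsg.hermForm n F q

/-- `SU` inside `GL` -/
def suGL (n : ℕ) (F : Type*) [Field F] (q : ℕ) : ↥(Cfsg.SU n F q) →* GL (Fin n) F :=
  Matrix.SpecialLinearGroup.toGL.comp (Cfsg.SU n F q).subtype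

theorem suGL_mulVec (g : ↥(Cfsg.SU n F q)) (x : Fin n → F) :
    ((suGL n F q g : GL (Fin n) F) : Matrix (Fin n) (Fin n) F) *ᵥ x = av g x := rfl

theorem suGL_mem (g : ↥(Cfsg.SU n F q)) :
    suGL n F q g ∈ Cfsg.GU n F q ⊓ Cfsg.Geo.specialLinear (Fin n) F := by
  refine ⟨fun x y => g.2 x y, ?_⟩
  change suGL n F q g ∈ (Matrix.GeneralLinearGroup.det : GL (Fin n) F →* Fˣ).ker
  rw [MonoidHom.mem_ker]
  apply Units.ext
  rw [Matrix.GeneralLinearGroup.val_det_apply]
  exact (g : Matrix.SpecialLinearGroup (Fin n) F).2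

theorem exists_suGL_eq (g : GL (Fin n) F)
    (hg : g ∈ Cfsg.GU n F q ⊓ Cfsg.Geo.specialLinear (Fin n) F) :
    ∃ g' : ↥(Cfsg.SU n F q), suGL n F q g' = g := by
  obtain ⟨h1, h2⟩ := hg
  have hdet : (g : Matrix (Fin n) (Fin n) F).det = 1 := by
    have h3 : Matrix.GeneralLinearGroup.det g = 1 := MonoidHom.mem_ker.mp h2
    have h4 := congrArg Units.val h3
    rwa [Matrix.GeneralLinearGroup.val_det_apply] at h4
  refine ⟨mkSU (g : Matrix (Fin n) (Fin n) F) hdet (fun x y => h1 x y), ?_⟩
  apply Units.ext
  rfl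

/-- a matrix mapping a subspace into itself stabilises it -/
theorem mem_subspaceStabilizer_of_forall (g : GL (Fin n) F) (W : Submodule F (Fin n → F))
    (h : ∀ x ∈ W, (g : Matrix (Fin n) (Fin n) F) *ᵥ x ∈ W) :
    g ∈ Cfsg.Geo.subspaceStabilizer W := by
  intro x
  change x ∈ W ↔ (g : Matrix (Fin n) (Fin n) F) *ᵥ x ∈ W
  refine ⟨h x, fun hx => ?_⟩
  have hle : W.map (Matrix.toLin' (g : Matrix (Fin n) (Fin n) F)) ≤ W := by
    rintro _ ⟨y, hy, rfl⟩
    rw [Matrix.toLin'_apply]
    exact h y hy
  have hinj : Function.Injective (Matrix.toLin' (g : Matrix (Fin n) (Fin n) F)) := by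
    intro a b hab
    rw [Matrix.toLin'_apply, Matrix.toLin'_apply] at hab
    have h2 := congrArg (fun z => ((g⁻¹ : GL (Fin n) F) : Matrix (Fin n) (Fin n) F) *ᵥ z) hab
    simp only [mulVec_mulVec, ← Units.val_mul, inv_mul_cancel, Units.val_one, one_mulVec] at h2
    exact h2
  have heq : W.map (Matrix.toLin' (g : Matrix (Fin n) (Fin n) F)) = W :=
    Submodule.eq_of_le_of_finrank_eq hle
      (Submodule.equivMapOfInjective _ hinj W).finrank_eq.symm
  rw [← heq] at hx
  obtain ⟨y, hy, hyx⟩ := hx
  rw [Matrix.toLin'_apply] at hyx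
  have h3 : y = x := by
    have h2 := congrArg (fun z => ((g⁻¹ : GL (Fin n) F) : Matrix (Fin n) (Fin n) F) *ᵥ z) hyx
    simp only [mulVec_mulVec, ← Units.val_mul, inv_mul_cancel, Units.val_one, one_mulVec] at h2
    exact h2
  rwa [← h3]

/-- `X`: the isotropic vectors all of whose transvections lie in `M` -/
def SuX (q : ℕ) (M : Subgroup (GL (Fin n) F)) (a : Fin n → F) : Prop :=
  Cfsg.hermForm n F q a a = 0 ∧ ∀ (A : ↥(Cfsg.SU n F q)) (c : F),
    ((A : Matrix.SpecialLinearGroup (Fin n) F) : Matrix (Fin n) (Fin n) F) =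
      Cfsg.unitaryTransvection n q a c → suGL n F q A ∈ M

theorem suGL_le_of_forall (hF : Fintype.card F = q ^ 2) (hn : 1 ≤ n) (h32 : ¬ (n = 3 ∧ q = 2))
    (M : Subgroup (GL (Fin n) F)) (hall : ∀ a, hh a a = 0 → SuX q M a) :
    Cfsg.GU n F q ⊓ Cfsg.Geo.specialLinear (Fin n) F ≤ M := by
  intro g hg
  obtain ⟨g', rfl⟩ := exists_suGL_eq g hg
  have htop := TT_eq_top hF n hn h32
  have hle : TT n F q ≤ M.comap (suGL n F q) := by
    unfold TT
    rw [Subgroup.closure_le]
    rintro A ⟨v, c, hv, hA⟩
    exact (hall v hv).2 A c hA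
  have : g' ∈ M.comap (suGL n F q) := hle (by rw [htop]; exact Subgroup.mem_top g')
  exact this

theorem SuX.zero (M : Subgroup (GL (Fin n) F)) : SuX q M (0 : Fin n → F) := by
  refine ⟨herm_zero_left 0, ?_⟩
  intro A c hA
  have : A = 1 := ext_av (fun x => by
    rw [av_one]
    change ((A : Matrix.SpecialLinearGroup (Fin n) F) : Matrix (Fin n) (Fin n) F) *ᵥ x = x
    rw [hA, transvection_mulVec, smul_zero, add_zero])
  rw [this, map_one]
  exact M.one_mem

theorem SuX.map {M : Subgroup (GL (Fin n) F)} {a : Fin n → F} (ha : SuX q M a)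
    (g : ↥(Cfsg.SU n F q)) (hg : suGL n F q g ∈ M) : SuX q M (av g a) := by
  refine ⟨by rw [herm_av]; exact ha.1, ?_⟩
  intro A c hA
  have hB : (((g⁻¹ * A * g : ↥(Cfsg.SU n F q)) : Matrix.SpecialLinearGroup (Fin n) F) :
      Matrix (Fin n) (Fin n) F) = Cfsg.unitaryTransvection n q a c := by
    apply mat_ext
    intro x
    change av (g⁻¹ * A * g) x = _
    have h1 : av A (av g x) = av g x + (c * hh (av g x) (av g a)) • av g a := by
      change ((A : Matrix.SpecialLinearGroup (Fin n) F) : Matrix (Fin n) (Fin n) F) *ᵥ (av g x) = _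
      rw [hA, transvection_mulVec]
    rw [av_mul, av_mul, h1, herm_av, av_add, av_smul, av_inv_av, av_inv_av, transvection_mulVec]
  have h2 := ha.2 _ c hB
  have h3 : suGL n F q A = suGL n F q g * suGL n F q (g⁻¹ * A * g) * (suGL n F q g)⁻¹ := by
    rw [map_mul, map_mul, map_inv]
    group
  rw [h3]
  exact M.mul_mem (M.mul_mem hg h2) (M.inv_mem hg)

theorem SuX.smul {M : Subgroup (GL (Fin n) F)} {a : Fin n → F} (ha : SuX q M a) (l : F) :
    SuX q M (l • a) := by
  refine ⟨by rw [herm_smul_left, herm_smul_right, ha.1, mul_zero, mul_zero], ?_⟩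
  intro A c hA
  apply ha.2 A (l * l ^ q * c)
  rw [hA]
  apply mat_ext
  intro x
  rw [transvection_mulVec, transvection_mulVec, herm_smul_right, smul_smul]
  congr 2
  ring

theorem SuX.rule (hF : Fintype.card F = q ^ 2) {M : Subgroup (GL (Fin n) F)} {a b : Fin n → F}
    (ha : SuX q M a) (hb : SuX q M b) (hab : hh a b ≠ 0) (μ : F)
    (hiso : hh (a + μ • b) (a + μ • b) = 0) : SuX q M (a + μ • b) := by
  have hba : hh b a = (hh a b) ^ q := (herm_conj hF a b).symm
  have hexp : hh (a + μ • b) (a + μ • b) = μ ^ q * hh a b + μ * (hh a b) ^ q := by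
    rw [herm_add_left, herm_add_right hF, herm_add_right hF, herm_smul_left, herm_smul_left,
      herm_smul_right, herm_smul_right, ha.1, hb.1, hba]
    ring
  have hc : (μ / hh a b) ^ q = -(μ / hh a b) := by
    rw [div_pow]
    have hne : (hh a b) ^ q ≠ 0 := pow_ne_zero _ hab
    rw [hexp] at hiso
    field_simp
    linear_combination hiso
  have h1 := ha.map (SUG.tv hF b (μ / hh a b) hb.1 hc) (hb.2 _ _ rfl)
  rwa [av_tv, div_mul_cancel₀ _ hab] at h1

/-- the matrix of the Eichler transformation `x ↦ x + h(x,u) (v - c u) - h(x,v) u` -/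
def eichM (q : ℕ) (u v : Fin n → F) (c : F) : Matrix (Fin n) (Fin n) F :=
  P q 1 (v - c • u) u * P q (-1) u v

theorem eichM_mulVec (u v : Fin n → F) (c : F) (huu : hh u u = 0) (x : Fin n → F) :
    eichM q u v c *ᵥ x = x + hh x u • (v - c • u) - hh x v • u := by
  unfold eichM
  rw [← mulVec_mulVec, P_mulVec, P_mulVec, herm_add_left, herm_smul_left, huu, mul_zero, add_zero,
    one_mul, neg_one_mul, neg_smul]
  abel

theorem eichM_det (u v : Fin n → F) (c : F) (huu : hh u u = 0) (huv : hh u v = 0)
    (hvu : hh v u = 0) : (eichM q u v c).det = 1 := by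
  unfold eichM
  rw [det_mul, P_det, P_det, herm_sub_left', herm_smul_left, huu, huv, hvu]
  ring

theorem eichM_pres (hF : Fintype.card F = q ^ 2) (u v : Fin n → F) (c : F) (huu : hh u u = 0)
    (huv : hh u v = 0) (hc : c + c ^ q = hh v v) (x y : Fin n → F) :
    hh (eichM q u v c *ᵥ x) (eichM q u v c *ᵥ y) = hh x y := by
  have hvu : hh v u = 0 := herm_swap_zero hF huv
  have e1 : hh u y = (hh y u) ^ q := (herm_conj hF y u).symm
  have e2 : hh v y = (hh y v) ^ q := (herm_conj hF y v).symm
  rw [eichM_mulVec u v c huu, eichM_mulVec u v c huu]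
  simp only [herm_add_left, herm_add_right hF, herm_sub_left', herm_sub_right hF, herm_smul_left,
    herm_smul_right, huu, huv, hvu, e1, e2, mul_zero, add_zero, sub_zero]
  linear_combination (-(hh x u * (hh y u) ^ q)) * hc

/-- the Eichler transformation as an element of `SU` -/
def eich (hF : Fintype.card F = q ^ 2) (u v : Fin n → F) (c : F) (huu : hh u u = 0)
    (huv : hh u v = 0) (hc : c + c ^ q = hh v v) : ↥(Cfsg.SU n F q) :=
  mkSU (eichM q u v c) (eichM_det u v c huu huv (herm_swap_zero hF huv))
    (eichM_pres hF u v c huu huv hc)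

theorem av_eich (hF : Fintype.card F = q ^ 2) (u v : Fin n → F) (c : F) (huu : hh u u = 0)
    (huv : hh u v = 0) (hc : c + c ^ q = hh v v) (x : Fin n → F) :
    av (eich hF u v c huu huv hc) x = x + hh x u • (v - c • u) - hh x v • u :=
  eichM_mulVec u v c huu x

/-- double orthogonal complement for the Hermitian form -/
theorem herm_double_perp (hF : Fintype.card F = q ^ 2) (W : Submodule F (Fin n → F))
    (u : Fin n → F) (h : ∀ y, (∀ w ∈ W, hh w y = 0) → hh u y = 0) : u ∈ W := by
  by_contra hu
  obtain ⟨φ, hφu, hφW⟩ := exists_dual_vec W u hu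
  have hy : ∀ x, hh x (fun i => (φ i) ^ q) = φ ⬝ᵥ x := by
    intro x
    simp only [Cfsg.hermForm, dotProduct, pow_q_q hF]
    apply Finset.sum_congr rfl
    intro i _
    ring
  have h1 := h (fun i => (φ i) ^ q) (fun w hw => by rw [hy]; exact hφW w hw)
  rw [hy, hφu] at h1
  exact one_ne_zero h1

/-- completing an isotropic vector to a hyperbolic pair -/
theorem exists_iso_partner (hF : Fintype.card F = q ^ 2) (z y : Fin n → F) (hzz : hh z z = 0)
    (hzy : hh z y ≠ 0) : ∃ l : F, hh (y + l • z) (y + l • z) = 0 := by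
  have hyz : hh y z = (hh z y) ^ q := (herm_conj hF z y).symm
  have hyy : (-(hh y y)) ^ q = -(hh y y) := by rw [neg_pow_q hF, herm_conj hF]
  obtain ⟨t, ht⟩ := exists_trace (conjQ hF) (conjQ_ne_id hF) (conjQ_conjQ hF) (-(hh y y)) hyy
  rw [conjQ_apply] at ht
  refine ⟨t / hh z y, ?_⟩
  have hne : (hh z y) ^ q ≠ 0 := pow_ne_zero _ hzy
  rw [herm_add_left, herm_add_right hF, herm_add_right hF, herm_smul_left, herm_smul_left,
    herm_smul_right, herm_smul_right, hzz, hyz, div_pow]
  field_simp
  linear_combination (hh z y * hh z y ^ q) * ht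

theorem exists_herm_ne_zero (hF : Fintype.card F = q ^ 2) (x : Fin n → F) (hx : x ≠ 0) :
    ∃ y, hh x y ≠ 0 := by
  by_contra hcon
  push Not at hcon
  exact hx (herm_nondeg hF x hcon)

/-- **The stabiliser of a nonzero totally isotropic subspace is maximal in `SU_n(q)`.** -/
theorem su_ts_stabilizer_maximal (hF : Fintype.card F = q ^ 2) (hn : 1 ≤ n)
    (h32 : ¬ (n = 3 ∧ q = 2)) (W : Submodule F (Fin n → F)) (hW0 : W ≠ ⊥)
    (hW : Cfsg.Geo.IsTotallySingularFor (Cfsg.hermForm n F q) W) :
    Cfsg.Geo.IsMaximalIn (Cfsg.GU n F q ⊓ Cfsg.Geo.specialLinear (Fin n) F)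
      (Cfsg.Geo.subspaceStabilizer W ⊓ (Cfsg.GU n F q ⊓ Cfsg.Geo.specialLinear (Fin n) F)) := by
  obtain ⟨w₀, hw₀W, hw₀0⟩ := (Submodule.ne_bot_iff W).mp hW0
  obtain ⟨k₀, hk₀0, hk₀⟩ := exists_trace_zero hF
  constructor
  · rw [SetLike.lt_iff_le_and_exists]
    refine ⟨inf_le_right, ?_⟩
    obtain ⟨y₀, hy₀⟩ := exists_herm_ne_zero hF w₀ hw₀0
    obtain ⟨l, hl⟩ := exists_iso_partner hF w₀ y₀ (hW w₀ hw₀W w₀ hw₀W) hy₀
    have hw₀x : hh w₀ (y₀ + l • w₀) ≠ 0 := by
      rw [herm_add_right hF, herm_smul_right, hW w₀ hw₀W w₀ hw₀W, mul_zero, add_zero]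
      exact hy₀
    refine ⟨suGL n F q (SUG.tv hF (y₀ + l • w₀) k₀ hl hk₀), suGL_mem _, ?_⟩
    rintro ⟨hs, -⟩
    have h1 := (hs w₀).mp hw₀W
    change av (SUG.tv hF (y₀ + l • w₀) k₀ hl hk₀) w₀ ∈ W at h1
    rw [av_tv] at h1
    have h2 := W.sub_mem h1 hw₀W
    rw [add_sub_cancel_left] at h2
    have h3 : y₀ + l • w₀ ∈ W := by
      have := W.smul_mem (k₀ * hh w₀ (y₀ + l • w₀))⁻¹ h2
      rwa [smul_smul, inv_mul_cancel₀ (mul_ne_zero hk₀0 hw₀x), one_smul] at this
    exact hw₀x (hW w₀ hw₀W _ h3)
  · intro M hHM hMS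
    by_cases hMH : M ≤ Cfsg.Geo.subspaceStabilizer W ⊓
        (Cfsg.GU n F q ⊓ Cfsg.Geo.specialLinear (Fin n) F)
    · left
      exact le_antisymm hMH hHM
    · right
      apply le_antisymm hMS
      obtain ⟨g, hgM, hgH⟩ := SetLike.not_le_iff_exists.mp hMH
      have hgW : g ∉ Cfsg.Geo.subspaceStabilizer W := fun h => hgH ⟨h, hMS hgM⟩
      obtain ⟨g', rfl⟩ := exists_suGL_eq g (hMS hgM)
      have hperp : ∀ a, hh a a = 0 → (∀ w ∈ W, hh w a = 0) → SuX q M a := by
        intro a haa ha
        refine ⟨haa, fun A c hA => hHM ⟨?_, suGL_mem A⟩⟩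
        apply mem_subspaceStabilizer_of_forall
        intro x hx
        rw [suGL_mulVec]
        change ((A : Matrix.SpecialLinearGroup (Fin n) F) : Matrix (Fin n) (Fin n) F) *ᵥ x ∈ W
        rw [hA, transvection_mulVec, ha x hx, mul_zero, zero_smul, add_zero]
        exact hx
      have hWX : ∀ w ∈ W, SuX q M w := fun w hw =>
        hperp w (hW w hw w hw) (fun w' hw' => hW w' hw' w hw)
      -- some member of `X` is not orthogonal to `W`
      obtain ⟨a, haX, w, hwW, haw⟩ : ∃ a, SuX q M a ∧ ∃ w ∈ W, hh a w ≠ 0 := by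
        by_contra hcon
        push Not at hcon
        have hkW : ∀ k : ↥(Cfsg.SU n F q), suGL n F q k ∈ M → ∀ x ∈ W, av k x ∈ W := by
          intro k hk x hx
          have hkx : SuX q M (av k x) := (hWX x hx).map k hk
          by_contra hnot
          obtain ⟨y, hyW, hy⟩ : ∃ y, (∀ w ∈ W, hh w y = 0) ∧ hh (av k x) y ≠ 0 := by
            by_contra h2
            push Not at h2
            exact hnot (herm_double_perp hF W _ h2)
          obtain ⟨l, hl⟩ := exists_iso_partner hF (av k x) y hkx.1 hy
          have hy'W : ∀ w ∈ W, hh w (y + l • av k x) = 0 := by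
            intro w hw
            rw [herm_add_right hF, herm_smul_right, hyW w hw,
              herm_swap_zero hF (hcon _ hkx w hw), mul_zero, add_zero]
          have hy'X : SuX q M (y + l • av k x) := hperp _ hl hy'W
          have h3 := hcon _ (hy'X.map k⁻¹ (by rw [map_inv]; exact M.inv_mem hk)) x hx
          have h4 : hh (av k⁻¹ (y + l • av k x)) x = hh (y + l • av k x) (av k x) := by
            rw [← herm_av k, av_av_inv]
          rw [h4, herm_add_left, herm_smul_left, hkx.1, mul_zero, add_zero] at h3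
          exact hy (herm_swap_zero hF h3)
        apply hgW
        apply mem_subspaceStabilizer_of_forall
        intro x hx
        rw [suGL_mulVec]
        exact hkW g' hgM x hx
      obtain ⟨w₁, hw₁W, haw₁⟩ : ∃ w₁ ∈ W, hh a w₁ = 1 :=
        ⟨((hh a w)⁻¹ ^ q) • w, W.smul_mem _ hwW, by
          rw [herm_smul_right, pow_q_q hF, inv_mul_cancel₀ haw]⟩
      have hw₁a : hh w₁ a = 1 := by rw [← herm_conj hF, haw₁, one_pow]
      have hw₁w₁ : hh w₁ w₁ = 0 := hW _ hw₁W _ hw₁W
      have hw₁X := hWX w₁ hw₁W
      have haa := haX.1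
      have hstep : ∀ v, hh v w₁ = 0 → hh (a + v) (a + v) = 0 → SuX q M (a + v) := by
        intro v hv hiso
        have hw₁v : hh w₁ v = 0 := herm_swap_zero hF hv
        obtain ⟨c, hc⟩ := exists_trace (conjQ hF) (conjQ_ne_id hF) (conjQ_conjQ hF) (hh v v)
          (herm_conj hF v v)
        rw [conjQ_apply] at hc
        have hρM : suGL n F q (eich hF w₁ v c hw₁w₁ hw₁v hc) ∈ M := by
          apply hHM
          refine ⟨?_, suGL_mem _⟩
          apply mem_subspaceStabilizer_of_forall
          intro x hx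
          rw [suGL_mulVec, av_eich, hW x hx w₁ hw₁W, zero_smul, add_zero]
          exact W.sub_mem hx (W.smul_mem _ hw₁W)
        have h1 := haX.map _ hρM
        rw [av_eich, haw₁, one_smul] at h1
        have e : a + (v - c • w₁) - hh a v • w₁ + (c + hh a v) • w₁ = a + v := by
          rw [add_smul]; abel
        have h2 : hh (a + (v - c • w₁) - hh a v • w₁) w₁ ≠ 0 := by
          rw [herm_sub_left', herm_add_left, herm_sub_left', herm_smul_left, herm_smul_left, haw₁,
            hv, hw₁w₁]
          simp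
        have h3 := h1.rule hF hw₁X h2 (c + hh a v) (by rw [e]; exact hiso)
        rwa [e] at h3
      have hall : ∀ x, hh x x = 0 → SuX q M x := by
        intro x hxx
        by_cases hμ : hh x w₁ = 0
        · have hw₁x : hh w₁ x = 0 := herm_swap_zero hF hμ
          by_cases hxa : hh x a = 0
          · have hax : hh a x = 0 := herm_swap_zero hF hxa
            by_cases hx0 : x = 0
            · rw [hx0]
              exact SuX.zero M
            · obtain ⟨y₀, hy₀⟩ := exists_herm_ne_zero hF x hx0
              -- project `y₀` into `⟨a, w₁⟩^⊥` and scale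
              obtain ⟨y₁, hy₁⟩ : ∃ y₁, y₁ = y₀ - hh y₀ w₁ • a - hh y₀ a • w₁ := ⟨_, rfl⟩
              have hy₁w₁ : hh y₁ w₁ = 0 := by
                rw [hy₁, herm_sub_left', herm_sub_left', herm_smul_left, herm_smul_left, haw₁,
                  hw₁w₁]
                ring
              have hy₁a : hh y₁ a = 0 := by
                rw [hy₁, herm_sub_left', herm_sub_left', herm_smul_left, herm_smul_left, haa,
                  hw₁a]
                ring
              have hxy₁ : hh x y₁ = hh x y₀ := by
                rw [hy₁, herm_sub_right hF, herm_sub_right hF, herm_smul_right, herm_smul_right,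
                  hxa, hμ]
                ring
              have hxy₁0 : hh x y₁ ≠ 0 := by rw [hxy₁]; exact hy₀
              obtain ⟨y, hy⟩ : ∃ y, y = ((k₀ / hh x y₁) ^ q) • y₁ := ⟨_, rfl⟩
              have hyw₁ : hh y w₁ = 0 := by rw [hy, herm_smul_left, hy₁w₁, mul_zero]
              have hya : hh y a = 0 := by rw [hy, herm_smul_left, hy₁a, mul_zero]
              have hw₁y : hh w₁ y = 0 := herm_swap_zero hF hyw₁
              have hay : hh a y = 0 := herm_swap_zero hF hya
              have hxy : hh x y = k₀ := by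
                rw [hy, herm_smul_right, pow_q_q hF, div_mul_cancel₀ _ hxy₁0]
              have hyx : hh y x = -k₀ := by rw [← herm_conj hF, hxy, hk₀]
              have hyyq : (-(hh y y)) ^ q = -(hh y y) := by rw [neg_pow_q hF, herm_conj hF]
              obtain ⟨β, hβ⟩ := exists_trace (conjQ hF) (conjQ_ne_id hF) (conjQ_conjQ hF)
                (-(hh y y)) hyyq
              rw [conjQ_apply] at hβ
              have hv₂w₁ : hh (y + β • w₁) w₁ = 0 := by
                rw [herm_add_left, herm_smul_left, hyw₁, hw₁w₁]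
                ring
              have hiso₂ : hh (a + (y + β • w₁)) (a + (y + β • w₁)) = 0 := by
                simp only [herm_add_left, herm_add_right hF, herm_smul_left, herm_smul_right, haa,
                  hay, hya, haw₁, hw₁a, hyw₁, hw₁y, hw₁w₁]
                linear_combination hβ
              have hbX := hstep _ hv₂w₁ hiso₂
              have hv₃w₁ : hh (y + β • w₁ + x) w₁ = 0 := by
                rw [herm_add_left, hv₂w₁, hμ, add_zero]
              have hxb0 : hh x (a + (y + β • w₁)) = k₀ := by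
                rw [herm_add_right hF, herm_add_right hF, herm_smul_right, hxa, hxy, hμ]
                ring
              obtain ⟨b, hbdef⟩ : ∃ b, b = a + (y + β • w₁) := ⟨_, rfl⟩
              rw [← hbdef] at hiso₂ hbX hxb0
              have hbx : hh b x = -k₀ := by
                rw [← herm_conj hF, hxb0, hk₀]
              have e₃ : a + (y + β • w₁ + x) = b + x := by rw [hbdef]; abel
              have hiso₃ : hh (a + (y + β • w₁ + x)) (a + (y + β • w₁ + x)) = 0 := by
                rw [e₃, herm_add_left, herm_add_right hF, herm_add_right hF, hiso₂, hxb0, hbx, hxx]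
                ring
              have ha'X := hstep _ hv₃w₁ hiso₃
              rw [e₃] at ha'X
              have hne : hh (b + x) b ≠ 0 := by
                rw [herm_add_left, hiso₂, hxb0, zero_add]
                exact hk₀0
              have e : b + x + (-1 : F) • b = x := by
                rw [neg_one_smul]; abel
              have h3 := ha'X.rule hF hbX hne (-1) (by rw [e]; exact hxx)
              rwa [e] at h3
          · -- `x ⊥ w₁`, `x` not orthogonal to `a`
            have hax : hh a x = (hh x a) ^ q := (herm_conj hF x a).symm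
            have hv : hh ((k₀ / hh x a) • x) w₁ = 0 := by
              rw [herm_smul_left, hμ, mul_zero]
            have hiso : hh (a + (k₀ / hh x a) • x) (a + (k₀ / hh x a) • x) = 0 := by
              have hne : (hh x a) ^ q ≠ 0 := pow_ne_zero _ hxa
              simp only [herm_add_left, herm_add_right hF, herm_smul_left, herm_smul_right, haa,
                hxx, hax, div_pow, hk₀]
              field_simp
              ring
            have hyX := hstep _ hv hiso
            have hne : hh (a + (k₀ / hh x a) • x) a ≠ 0 := by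
              rw [herm_add_left, herm_smul_left, haa, zero_add, div_mul_cancel₀ _ hxa]
              exact hk₀0
            have e : a + (k₀ / hh x a) • x + (-1 : F) • a = (k₀ / hh x a) • x := by
              rw [neg_one_smul]; abel
            have h3 := hyX.rule hF haX hne (-1) (by
              rw [e, herm_smul_left, herm_smul_right, hxx, mul_zero, mul_zero])
            rw [e] at h3
            have h4 := h3.smul (k₀ / hh x a)⁻¹
            rwa [smul_smul, inv_mul_cancel₀ (div_ne_zero hk₀0 hxa), one_smul] at h4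
        · -- `x` not orthogonal to `w₁`
          have hv : hh ((hh x w₁)⁻¹ • x - a) w₁ = 0 := by
            rw [herm_sub_left', herm_smul_left, haw₁, inv_mul_cancel₀ hμ, sub_self]
          have e : a + ((hh x w₁)⁻¹ • x - a) = (hh x w₁)⁻¹ • x := by abel
          have h1 := hstep _ hv (by
            rw [e, herm_smul_left, herm_smul_right, hxx, mul_zero, mul_zero])
          rw [e] at h1
          have h2 := h1.smul (hh x w₁)
          rwa [smul_smul, mul_inv_cancel₀ hμ, one_smul] at h2
      exact suGL_le_of_forall hF hn h32 M hall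

end sumax

end Cfsg.Agent.Lib.Helper13
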