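import Mathlib
import Cfsg.Agent.Lib.Helper13.TensorNM

set_option autoImplicit false

namespace Cfsg.Agent.Lib.Helper13.TNM

open scoped Matrix Kronecker
open Cfsg Cfsg.Geo

section expand
variable {κ : Type} [Fintype κ] [DecidableEq κ] {F : Type*} [Field F]

theorem bilin_expand (B : (κ → F) →ₗ[F] (κ → F) →ₗ[F] F) (x y : κ → F) :
    B x y = ∑ a, ∑ b, x a * B (Pi.single a 1) (Pi.single b 1) * y b := by
  have hx : x = ∑ a, x a • (Pi.single a 1 : κ → F) := by
    funext k
    simp [Finset.sum_apply, Pi.single_apply]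
  have hy : y = ∑ b, y b • (Pi.single b 1 : κ → F) := by
    funext k
    simp [Finset.sum_apply, Pi.single_apply]
  conv_lhs => rw [hx, hy]
  simp only [map_sum, LinearMap.sum_apply, map_smul, LinearMap.smul_apply, smul_eq_mul, Finset.mul_sum]
  rw [Finset.sum_comm]
  apply Finset.sum_congr rfl
  intro a _
  apply Finset.sum_congr rfl
  intro b _
  ring

/-- the bilinear map attached to a bilinear form given as a function -/
noncomputable def toBilin {f : (κ → F) → (κ → F) → F} (hf : IsBilinearForm f) :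
    (κ → F) →ₗ[F] (κ → F) →ₗ[F] F :=
  LinearMap.mk₂ F f hf.add_left (fun c x v => by rw [hf.smul_left, smul_eq_mul])
    hf.add_right (fun c v x => by rw [hf.smul_right, smul_eq_mul])

theorem toBilin_apply {f : (κ → F) → (κ → F) → F} (hf : IsBilinearForm f) (x y : κ → F) :
    toBilin hf x y = f x y := rfl

theorem bilin_eq_formOfGram {f : (κ → F) → (κ → F) → F} (hf : IsBilinearForm f) (x y : κ → F) :
    f x y = formOfGram id (gramMatrix f) x y := by
  rw [← toBilin_apply hf, bilin_expand]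
  rfl

theorem formOfGram_smul (σ : F → F) (c : F) (G : Matrix κ κ F) (x y : κ → F) :
    formOfGram σ (c • G) x y = c * formOfGram σ G x y := by
  unfold formOfGram
  rw [Finset.mul_sum]
  apply Finset.sum_congr rfl
  intro a _
  rw [Finset.mul_sum]
  apply Finset.sum_congr rfl
  intro b _
  rw [Matrix.smul_apply, smul_eq_mul]
  ring

end expand

section F3
variable {F : Type*} [Field F] [Fintype F]

theorem F3_two_ne (hq : Fintype.card F = 3) : (2 : F) ≠ 0 := by
  intro h
  have hc : ringChar F = 2 := CharP.ringChar_of_prime_eq_zero Nat.prime_two (by exact_mod_cast h)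
  have := FiniteField.even_card_iff_char_two.mp hc
  omega

theorem F3_cases (hq : Fintype.card F = 3) (x : F) : x = 0 ∨ x = 1 ∨ x = -1 := by
  classical
  by_contra h
  push Not at h
  have h2 := F3_two_ne hq
  have h1 : (1 : F) ≠ -1 := by
    intro h'
    apply h2
    linear_combination h'
  have h4 : ({0, 1, -1, x} : Finset F).card = 4 := by
    rw [Finset.card_insert_of_notMem, Finset.card_insert_of_notMem, Finset.card_insert_of_notMem,
      Finset.card_singleton]
    · simp only [Finset.mem_singleton]; exact fun e => h.2.2 e.symm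
    · simp only [Finset.mem_insert, Finset.mem_singleton, not_or]; exact ⟨h1, fun e => h.2.1 e.symm⟩
    · simp only [Finset.mem_insert, Finset.mem_singleton, not_or]
      refine ⟨zero_ne_one, fun e => ?_, fun e => h.1 e.symm⟩
      exact one_ne_zero (neg_eq_zero.mp e.symm)
  have := Finset.card_le_univ ({0, 1, -1, x} : Finset F)
  omega

theorem F3_sq (hq : Fintype.card F = 3) (x : F) : (x = 0 ∧ x * x = 0) ∨ (x ≠ 0 ∧ x * x = 1) := by
  rcases F3_cases hq x with rfl | rfl | rfl
  · left; exact ⟨rfl, mul_zero _⟩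
  · right; exact ⟨one_ne_zero, mul_one _⟩
  · right; exact ⟨neg_ne_zero.mpr one_ne_zero, by ring⟩

theorem F3_sum3 (hq : Fintype.card F = 3) (s₁ s₂ s₃ : F) (h1 : s₁ = 0 ∨ s₁ = 1) (h2 : s₂ = 0 ∨ s₂ = 1)
    (h3 : s₃ = 0 ∨ s₃ = 1) (h : s₁ + s₂ + s₃ = 1) :
    (s₂ = 0 ∧ s₃ = 0) ∨ (s₁ = 0 ∧ s₃ = 0) ∨ (s₁ = 0 ∧ s₂ = 0) := by
  have h20 := F3_two_ne hq
  rcases h1 with rfl | rfl <;> rcases h2 with rfl | rfl <;> rcases h3 with rfl | rfl
  · exfalso
    apply one_ne_zero (α := F)
    linear_combination (-1 : F) * h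
  · right; right; exact ⟨rfl, rfl⟩
  · right; left; exact ⟨rfl, rfl⟩
  · exfalso
    apply one_ne_zero (α := F)
    linear_combination h
  · left; exact ⟨rfl, rfl⟩
  · exfalso
    apply one_ne_zero (α := F)
    linear_combination h
  · exfalso
    apply one_ne_zero (α := F)
    linear_combination h
  · exfalso
    apply h20
    linear_combination h

/-- a vector of `F_3^3` with `x² + y² + z² = 1` has exactly one non-zero coordinate -/
theorem F3_col (hq : Fintype.card F = 3) (v : Fin 3 → F) (h : ∑ i, v i * v i = 1) :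
    ∃ i, v i ≠ 0 ∧ ∀ j, j ≠ i → v j = 0 := by
  rw [Fin.sum_univ_three] at h
  have c0 := F3_sq hq (v 0)
  have c1 := F3_sq hq (v 1)
  have c2 := F3_sq hq (v 2)
  have e0 : v 0 * v 0 = 0 ∨ v 0 * v 0 = 1 := by rcases c0 with c | c; exact Or.inl c.2; exact Or.inr c.2
  have e1 : v 1 * v 1 = 0 ∨ v 1 * v 1 = 1 := by rcases c1 with c | c; exact Or.inl c.2; exact Or.inr c.2
  have e2 : v 2 * v 2 = 0 ∨ v 2 * v 2 = 1 := by rcases c2 with c | c; exact Or.inl c.2; exact Or.inr c.2
  have z : ∀ i, v i * v i = 0 → v i = 0 := fun i hi => mul_self_eq_zero.mp hi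
  rcases F3_sum3 hq _ _ _ e0 e1 e2 h with ⟨a, b⟩ | ⟨a, b⟩ | ⟨a, b⟩
  · refine ⟨0, ?_, ?_⟩
    · intro h0
      rw [a, b, h0, mul_zero, add_zero, add_zero] at h
      exact zero_ne_one h
    · intro j hj
      fin_cases j
      · exact absurd rfl hj
      · exact z 1 a
      · exact z 2 b
  · refine ⟨1, ?_, ?_⟩
    · intro h0
      rw [a, b, h0, mul_zero, add_zero, add_zero] at h
      exact zero_ne_one h
    · intro j hj
      fin_cases j
      · exact z 0 a
      · exact absurd rfl hj
      · exact z 2 b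
  · refine ⟨2, ?_, ?_⟩
    · intro h0
      rw [a, b, h0, mul_zero, add_zero, add_zero] at h
      exact zero_ne_one h
    · intro j hj
      fin_cases j
      · exact z 0 a
      · exact z 1 b
      · exact absurd rfl hj

/-- over `F_3`, a `3 × 3` matrix with `bᵀ b = μ` is monomial -/
theorem monomial_of_orth_F3 (hq : Fintype.card F = 3) (b : GL (Fin 3) F) (μ : F) (hμ : μ ≠ 0)
    (hb : (b : Matrix (Fin 3) (Fin 3) F)ᵀ * (b : Matrix (Fin 3) (Fin 3) F) = μ • (1 : Matrix (Fin 3) (Fin 3) F)) :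
    ∃ π : Equiv.Perm (Fin 3), (∀ j j', j ≠ π j' → (b : Matrix (Fin 3) (Fin 3) F) j j' = 0) ∧
      (∀ j j', j ≠ π.symm j' → ((b⁻¹ : GL (Fin 3) F) : Matrix (Fin 3) (Fin 3) F) j j' = 0) := by
  obtain ⟨B, hB⟩ : ∃ B : Matrix (Fin 3) (Fin 3) F, B = (b : Matrix (Fin 3) (Fin 3) F) := ⟨_, rfl⟩
  rw [← hB] at hb
  -- μ = 1
  have hdet : B.det * B.det = μ ^ 3 := by
    have := congrArg Matrix.det hb
    rw [Matrix.det_mul, Matrix.det_transpose, Matrix.det_smul, Matrix.det_one, mul_one, Fintype.card_fin] at this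
    exact this
  have hμ1 : μ = 1 := by
    have hd0 : B.det ≠ 0 := by
      intro h0
      rw [h0, mul_zero] at hdet
      exact hμ (pow_eq_zero_iff (by norm_num) |>.mp hdet.symm)
    have hdd : B.det * B.det = 1 := by
      rcases F3_sq hq B.det with c | c
      · exact absurd c.1 hd0
      · exact c.2
    rw [hdd] at hdet
    rcases F3_cases hq μ with h | h | h
    · exact absurd h hμ
    · exact h
    · exfalso
      rw [h] at hdet
      have h2 := F3_two_ne hq
      apply h2
      linear_combination hdet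
  rw [hμ1, one_smul] at hb
  have hent : ∀ k l, ∑ i, B i k * B i l = if k = l then 1 else 0 := by
    intro k l
    have := congrFun (congrFun hb k) l
    rw [Matrix.mul_apply, Matrix.one_apply] at this
    simpa [Matrix.transpose_apply] using this
  have hcol : ∀ k, ∃ i, B i k ≠ 0 ∧ ∀ j, j ≠ i → B j k = 0 := by
    intro k
    apply F3_col hq (fun i => B i k)
    have := hent k k
    rw [if_pos rfl] at this
    exact this
  choose π hπ0 hπ using hcol
  have hinj : Function.Injective π := by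
    intro k l hkl
    by_contra hne
    have h1 := hent k l
    rw [if_neg hne] at h1
    rw [Finset.sum_eq_single (π k)] at h1
    · rcases mul_eq_zero.mp h1 with h | h
      · exact hπ0 k h
      · rw [hkl] at h; exact hπ0 l h
    · intro i _ hi
      rw [hπ k i hi, zero_mul]
    · intro h; exact absurd (Finset.mem_univ _) h
  have hinv : ((b⁻¹ : GL (Fin 3) F) : Matrix (Fin 3) (Fin 3) F) = Bᵀ := by
    apply Units.inv_eq_of_mul_eq_one_left
    rw [← hB]
    exact hb
  refine ⟨Equiv.ofBijective π (Finite.injective_iff_bijective.mp hinj), ?_, ?_⟩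
  · intro j j' h
    rw [← hB]
    exact hπ j' j h
  · intro j j' h
    rw [hinv, Matrix.transpose_apply]
    apply hπ j j'
    intro h'
    apply h
    rw [Equiv.eq_symm_apply, Equiv.ofBijective_apply]
    exact h'.symm

theorem F3_three (hq : Fintype.card F = 3) : (3 : F) = 0 := by
  have := FiniteField.cast_card_eq_zero F
  rw [hq] at this
  exact_mod_cast this

theorem fix_signs {V : Type*} [AddCommGroup V] [Module F V] (hq : Fintype.card F = 3)
    (B : V →ₗ[F] V →ₗ[F] F) (hs : ∀ x y, B x y = B y x)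
    (a b c : V) (ν : F) (hab : B a b = 0) (hac : B a c = 0) (hbc : B b c = 0) (ha : B a a = ν)
    (hb : B b b = ν) (hc : B c c = -ν) :
    ∃ u : Fin 3 → V, ∀ i j, B (u i) (u j) = if i = j then -ν else 0 := by
  refine ⟨![a + b, a - b, c], ?_⟩
  have h3 : (3 : F) = 0 := F3_three hq
  have hba : B b a = 0 := by rw [hs, hab]
  have hca : B c a = 0 := by rw [hs, hac]
  have hcb : B c b = 0 := by rw [hs, hbc]
  intro i j
  fin_cases i <;> fin_cases j <;>
    simp [map_add, map_sub, LinearMap.add_apply, LinearMap.sub_apply, hab, hac, hbc, ha, hb, hc, hba, hca, hcb]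
  all_goals linear_combination ν * h3

/-- a non-degenerate symmetric form on `F_3^3` has a basis that is orthonormal up to a common sign -/
theorem exists_orthonormal_F3 (hq : Fintype.card F = 3) {f : (Fin 3 → F) → (Fin 3 → F) → F}
    (hf : IsSymmetricForm f) :
    ∃ (C : GL (Fin 3) F) (ε : F), ε ≠ 0 ∧
      (C : Matrix (Fin 3) (Fin 3) F)ᵀ * gramMatrix f * (C : Matrix (Fin 3) (Fin 3) F)
        = ε • (1 : Matrix (Fin 3) (Fin 3) F) := by
  obtain ⟨B, hBdef⟩ : ∃ B : (Fin 3 → F) →ₗ[F] (Fin 3 → F) →ₗ[F] F, B = toBilin hf.bilinear := ⟨_, rfl⟩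
  have hBf : ∀ x y, B x y = f x y := by intro x y; rw [hBdef]; rfl
  have hs : ∀ x y, B x y = B y x := by intro x y; rw [hBf, hBf, hf.symm]
  have hsymm : LinearMap.IsSymm B :=
    LinearMap.isSymm_def.mpr (fun x y => by rw [RingHom.id_apply]; exact hs x y)
  have hnd : LinearMap.BilinForm.Nondegenerate B := by
    constructor
    · intro x hx
      by_contra hx0
      obtain ⟨y, hy⟩ := (hf.nondegenerate x hx0).2
      exact hy (by rw [← hBf]; exact hx y)
    · intro x hx
      by_contra hx0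
      obtain ⟨y, hy⟩ := (hf.nondegenerate x hx0).1
      exact hy (by rw [← hBf]; exact hx y)
  letI : Invertible (2 : F) := invertibleOfNonzero (F3_two_ne hq)
  obtain ⟨v, hv⟩ := LinearMap.BilinForm.exists_orthogonal_basis hsymm
  have h3 : Module.finrank F (Fin 3 → F) = 3 := Module.finrank_fin_fun F
  obtain ⟨w, hw⟩ : ∃ w : Fin 3 → (Fin 3 → F), w = fun i => v (Fin.cast h3.symm i) := ⟨_, rfl⟩
  have o : ∀ i j, i ≠ j → B (w i) (w j) = 0 := by
    intro i j hij
    rw [hw]
    apply LinearMap.isOrthoᵢ_def.mp hv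
    intro h
    apply hij
    have := congrArg Fin.val h
    exact Fin.ext (by simpa using this)
  have nz : ∀ i, B (w i) (w i) ≠ 0 := by
    intro i
    rw [hw]
    exact LinearMap.BilinForm.iIsOrtho.not_isOrtho_basis_self_of_nondegenerate hv hnd _
  -- an orthonormal (up to sign) family
  obtain ⟨u, ε, hε, hu⟩ : ∃ (u : Fin 3 → (Fin 3 → F)) (ε : F), ε ≠ 0 ∧
      ∀ i j, B (u i) (u j) = if i = j then ε else 0 := by
    have c : ∀ i, B (w i) (w i) = 1 ∨ B (w i) (w i) = -1 := by
      intro i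
      rcases F3_cases hq (B (w i) (w i)) with h | h | h
      · exact absurd h (nz i)
      · exact Or.inl h
      · exact Or.inr h
    have hm1 : (-1 : F) ≠ 0 := neg_ne_zero.mpr one_ne_zero
    have eqcase : ∀ ν : F, ν ≠ 0 → (∀ i, B (w i) (w i) = ν) →
        ∃ (u : Fin 3 → (Fin 3 → F)) (ε : F), ε ≠ 0 ∧ ∀ i j, B (u i) (u j) = if i = j then ε else 0 := by
      intro ν hν hall
      refine ⟨w, ν, hν, fun i j => ?_⟩
      by_cases hij : i = j
      · rw [if_pos hij, ← hij, hall]
      · rw [if_neg hij, o i j hij]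
    have mixed : ∀ (i₀ i₁ i₂ : Fin 3) (ν : F), ν ≠ 0 → i₀ ≠ i₁ → i₀ ≠ i₂ → i₁ ≠ i₂ →
        B (w i₀) (w i₀) = ν → B (w i₁) (w i₁) = ν → B (w i₂) (w i₂) = -ν →
        ∃ (u : Fin 3 → (Fin 3 → F)) (ε : F), ε ≠ 0 ∧ ∀ i j, B (u i) (u j) = if i = j then ε else 0 := by
      intro i₀ i₁ i₂ ν hν h01 h02 h12 e0 e1 e2
      obtain ⟨u, hu⟩ := fix_signs hq B hs (w i₀) (w i₁) (w i₂) ν (o _ _ h01) (o _ _ h02) (o _ _ h12) e0 e1 e2
      exact ⟨u, -ν, neg_ne_zero.mpr hν, hu⟩
    rcases c 0 with h0 | h0 <;> rcases c 1 with h1 | h1 <;> rcases c 2 with h2 | h2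
    · apply eqcase 1 one_ne_zero
      intro i; fin_cases i
      · exact h0
      · exact h1
      · exact h2
    · exact mixed 0 1 2 1 one_ne_zero (by decide) (by decide) (by decide) h0 h1 h2
    · exact mixed 0 2 1 1 one_ne_zero (by decide) (by decide) (by decide) h0 h2 h1
    · exact mixed 1 2 0 (-1) hm1 (by decide) (by decide) (by decide) h1 h2 (by rw [neg_neg]; exact h0)
    · exact mixed 1 2 0 1 one_ne_zero (by decide) (by decide) (by decide) h1 h2 h0
    · exact mixed 0 2 1 (-1) hm1 (by decide) (by decide) (by decide) h0 h2 (by rw [neg_neg]; exact h1)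
    · exact mixed 0 1 2 (-1) hm1 (by decide) (by decide) (by decide) h0 h1 (by rw [neg_neg]; exact h2)
    · apply eqcase (-1) hm1
      intro i; fin_cases i
      · exact h0
      · exact h1
      · exact h2
  obtain ⟨C₀, hC₀⟩ : ∃ C₀ : Matrix (Fin 3) (Fin 3) F, C₀ = Matrix.of (fun i k => u k i) := ⟨_, rfl⟩
  have hCGC : C₀ᵀ * gramMatrix f * C₀ = ε • (1 : Matrix (Fin 3) (Fin 3) F) := by
    ext k l
    rw [Matrix.smul_apply, Matrix.one_apply, smul_eq_mul, mul_ite, mul_one, mul_zero, ← hu k l, hBf,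
      bilin_eq_formOfGram hf.bilinear]
    unfold formOfGram
    rw [Matrix.mul_apply]
    simp only [Matrix.mul_apply, Matrix.transpose_apply, hC₀, Matrix.of_apply, id, Finset.sum_mul]
    rw [Finset.sum_comm]
  have hdet : C₀.det ≠ 0 := by
    intro h0
    have := congrArg Matrix.det hCGC
    rw [Matrix.det_mul, Matrix.det_mul, Matrix.det_transpose, h0, zero_mul, zero_mul, Matrix.det_smul,
      Matrix.det_one, mul_one] at this
    exact hε (pow_eq_zero_iff (by simp) |>.mp this.symm)
  refine ⟨Matrix.GeneralLinearGroup.mkOfDetNeZero C₀ hdet, ε, hε, ?_⟩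
  exact hCGC

end F3

end Cfsg.Agent.Lib.Helper13.TNM
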