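import Mathlib
import Cfsg.Agent.Lib.Helper13.TensorNM

set_option autoImplicit false

namespace Cfsg.Agent.Lib.Helper13.TNM

open scoped Matrix Kronecker
open Cfsg Cfsg.Geo

section skew
variable {κ : Type} [Fintype κ] [DecidableEq κ] {F : Type*} [Field F]

/-- the rank one matrix `x ↦ ((G u) ⬝ x) u` -/
def NN (G : Matrix κ κ F) (u : κ → F) : Matrix κ κ F := Matrix.vecMulVec u (G *ᵥ u)

theorem NN_apply (G : Matrix κ κ F) (u : κ → F) (a a' : κ) : NN G u a a' = u a * (G *ᵥ u) a' :=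
  Matrix.vecMulVec_apply _ _ _ _

theorem vecMulVec_zero_right (u : κ → F) : Matrix.vecMulVec u (0 : κ → F) = 0 := by
  ext a b
  simp [Matrix.vecMulVec_apply]

theorem skew_self (G : Matrix κ κ F) (hG : Gᵀ = -G) (h2 : (2 : F) ≠ 0) (u : κ → F) :
    (G *ᵥ u) ⬝ᵥ u = 0 := by
  have h1 : (G *ᵥ u) ⬝ᵥ u = - ((G *ᵥ u) ⬝ᵥ u) := by
    calc (G *ᵥ u) ⬝ᵥ u = u ⬝ᵥ (G *ᵥ u) := dotProduct_comm _ _
      _ = (u ᵥ* G) ⬝ᵥ u := Matrix.dotProduct_mulVec _ _ _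
      _ = (Gᵀ *ᵥ u) ⬝ᵥ u := by rw [Matrix.mulVec_transpose]
      _ = - ((G *ᵥ u) ⬝ᵥ u) := by rw [hG, Matrix.neg_mulVec, neg_dotProduct]
  have h3 : (2 : F) * ((G *ᵥ u) ⬝ᵥ u) = 0 := by linear_combination h1
  rcases mul_eq_zero.mp h3 with h | h
  · exact absurd h h2
  · exact h

theorem NN_sq (G : Matrix κ κ F) (u : κ → F) (h : (G *ᵥ u) ⬝ᵥ u = 0) : NN G u * NN G u = 0 := by
  unfold NN
  rw [Matrix.vecMulVec_mul_vecMulVec, h, zero_smul, vecMulVec_zero_right]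

theorem NN_preserve (G : Matrix κ κ F) (hG : Gᵀ = -G) (u : κ → F) (h : (G *ᵥ u) ⬝ᵥ u = 0) :
    (1 + NN G u)ᵀ * G * (1 + NN G u) = G := by
  have hT : (NN G u)ᵀ = Matrix.vecMulVec (G *ᵥ u) u := by
    unfold NN; rw [Matrix.transpose_vecMulVec]
  have hu : u ᵥ* G = -(G *ᵥ u) := by
    rw [← Matrix.mulVec_transpose, hG, Matrix.neg_mulVec]
  have h1 : (NN G u)ᵀ * G = - Matrix.vecMulVec (G *ᵥ u) (G *ᵥ u) := by
    rw [hT, Matrix.vecMulVec_mul, hu]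
    ext a b
    simp [Matrix.vecMulVec_apply]
  have h2 : G * NN G u = Matrix.vecMulVec (G *ᵥ u) (G *ᵥ u) := by
    unfold NN; rw [Matrix.mul_vecMulVec]
  have h3 : (NN G u)ᵀ * G * NN G u = 0 := by
    rw [h1]
    unfold NN
    rw [Matrix.neg_mul, Matrix.vecMulVec_mul_vecMulVec, h, zero_smul, vecMulVec_zero_right, neg_zero]
  rw [Matrix.transpose_add, Matrix.transpose_one, add_mul, one_mul, mul_add, mul_one, add_mul, h2, h3, h1]
  abel

/-- the transvection attached to `G` and `u` as an invertible matrix -/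
def tvG (G : Matrix κ κ F) (u : κ → F) (h : (G *ᵥ u) ⬝ᵥ u = 0) : GL κ F :=
  ⟨1 + NN G u, 1 - NN G u,
    by
      have : (1 + NN G u) * (1 - NN G u) = 1 - NN G u * NN G u := by noncomm_ring
      rw [this, NN_sq G u h, sub_zero],
    by
      have : (1 - NN G u) * (1 + NN G u) = 1 - NN G u * NN G u := by noncomm_ring
      rw [this, NN_sq G u h, sub_zero]⟩

theorem tvG_val (G : Matrix κ κ F) (u : κ → F) (h : (G *ᵥ u) ⬝ᵥ u = 0) :
    ((tvG G u h : GL κ F) : Matrix κ κ F) = 1 + NN G u := rfl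

theorem tvG_inv_val (G : Matrix κ κ F) (u : κ → F) (h : (G *ᵥ u) ⬝ᵥ u = 0) :
    (((tvG G u h)⁻¹ : GL κ F) : Matrix κ κ F) = 1 - NN G u := rfl

theorem tvG_apply (G : Matrix κ κ F) (u : κ → F) (h : (G *ᵥ u) ⬝ᵥ u = 0) (a a' : κ) :
    ((tvG G u h : GL κ F) : Matrix κ κ F) a a' = (1 : Matrix κ κ F) a a' + u a * (G *ᵥ u) a' := by
  rw [tvG_val, Matrix.add_apply, NN_apply]

theorem tvG_inv_apply (G : Matrix κ κ F) (u : κ → F) (h : (G *ᵥ u) ⬝ᵥ u = 0) (a a' : κ) :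
    (((tvG G u h)⁻¹ : GL κ F) : Matrix κ κ F) a a' = (1 : Matrix κ κ F) a a' - u a * (G *ᵥ u) a' := by
  rw [tvG_inv_val, Matrix.sub_apply, NN_apply]

theorem mulVec_single_one' (G : Matrix κ κ F) (c a' : κ) :
    (G *ᵥ (Pi.single c 1 : κ → F)) a' = G a' c := by
  rw [Matrix.mulVec_single_one]
  rfl

end skew

end Cfsg.Agent.Lib.Helper13.TNM
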