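import Mathlib
import Cfsg.Agent.S1965
import Cfsg.Agent.Lib.Helper17.SylowNormal

/-!
# Alperin–Goldschmidt refinement

Starting from a conjugation family `𝓕` of fully normalized subgroups of a Sylow subgroup `S` (as in
`Cfsg.Agent.S1965.main`), every fusion map is, up to an element centralizing the source, a chain of
normalizer steps in members `U` of `𝓕` with `C_S(U) ≤ U`.
-/

set_option autoImplicit false

namespace Cfsg.Agent.Lib.Helper13

open Cfsg.Agent.S1965

variable {G : Type*} [Group G]

/-- `g` is reached from `A` by an element centralizing `A` followed by a valid `𝓕`-chain -/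
def CReach (𝓕 : Set (Subgroup G)) (A : Set G) (g : G) : Prop :=
  ∃ c ∈ Subgroup.centralizer A, ∃ g' : G, Reach 𝓕 A g' ∧ g = c * g'

theorem creach_mono (𝓕 : Set (Subgroup G)) {A A' : Set G} (h : A' ⊆ A) {g : G} :
    CReach 𝓕 A g → CReach 𝓕 A' g := by
  rintro ⟨c, hc, g', hg', rfl⟩
  exact ⟨c, Subgroup.centralizer_le h hc, g', reach_mono 𝓕 h hg', rfl⟩

theorem creach_of_reach (𝓕 : Set (Subgroup G)) {A : Set G} {g : G} (h : Reach 𝓕 A g) : CReach 𝓕 A g :=
  ⟨1, Subgroup.one_mem _, g, h, by simp⟩

theorem rconj_eq_of_mem_centralizer (A : Set G) {c : G} (hc : c ∈ Subgroup.centralizer A) (g' : G) :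
    (fun a => (c * g')⁻¹ * a * (c * g')) '' A = (fun a => g'⁻¹ * a * g') '' A := by
  apply Set.image_congr
  intro a ha
  have h1 : a * c = c * a := Subgroup.mem_centralizer_iff.mp hc a ha
  calc (c * g')⁻¹ * a * (c * g') = g'⁻¹ * (c⁻¹ * (a * c)) * g' := by group
    _ = g'⁻¹ * (c⁻¹ * (c * a)) * g' := by rw [h1]
    _ = g'⁻¹ * a * g' := by group

theorem creach_mul (𝓕 : Set (Subgroup G)) {A : Set G} {g h : G}
    (h1 : CReach 𝓕 A g) (h2 : CReach 𝓕 ((fun a => g⁻¹ * a * g) '' A) h) : CReach 𝓕 A (g * h) := by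
  obtain ⟨c, hc, g', hg', rfl⟩ := h1
  obtain ⟨d, hd, h', hh', rfl⟩ := h2
  rw [rconj_eq_of_mem_centralizer A hc g'] at hd hh'
  refine ⟨c * (g' * d * g'⁻¹), ?_, g' * h', reach_mul 𝓕 hg' hh', by group⟩
  apply Subgroup.mul_mem _ hc
  rw [Subgroup.mem_centralizer_iff]
  intro a ha
  have h3 := Subgroup.mem_centralizer_iff.mp hd (g'⁻¹ * a * g') ⟨a, ha, rfl⟩
  calc a * (g' * d * g'⁻¹) = g' * ((g'⁻¹ * a * g') * d) * g'⁻¹ := by group
    _ = g' * (d * (g'⁻¹ * a * g')) * g'⁻¹ := by rw [h3]
    _ = g' * d * g'⁻¹ * a := by group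

section Frattini

variable [Finite G] {p : ℕ} [Fact p.Prime]

/-- Frattini step: an element of `N_G(U)`, `U` fully normalized in `S`, is a product of an element of
`C_G(U)` and an element normalizing both `U` and `C_S(U)`. -/
theorem exists_centralizer_mul_normalizer (S : Sylow p G) (U : Subgroup G)
    (hU : ¬ p ∣ ((S : Subgroup G) ⊓ Subgroup.normalizer (U : Set G)).relIndex (Subgroup.normalizer (U : Set G)))
    (x : G) (hx : x ∈ Subgroup.normalizer (U : Set G)) :
    ∃ c ∈ Subgroup.centralizer (U : Set G), ∃ x' ∈ Subgroup.normalizer (U : Set G) ⊓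
      Subgroup.normalizer (((S : Subgroup G) ⊓ Subgroup.centralizer (U : Set G) : Subgroup G) : Set G),
      x = c * x' := by
  set N : Subgroup G := Subgroup.normalizer (U : Set G) with hN
  set C : Subgroup G := Subgroup.centralizer (U : Set G) with hC
  set D : Subgroup G := (S : Subgroup G) ⊓ C with hD
  have hCN : C ≤ N := Subgroup.centralizer_le_normalizer _
  -- `x` normalizes `C`
  have hxC : ∀ c ∈ C, x * c * x⁻¹ ∈ C := by
    intro c hc
    show x * c * x⁻¹ ∈ Subgroup.centralizer (U : Set G)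
    rw [Subgroup.mem_centralizer_iff]
    intro u hu
    have hu' : x⁻¹ * u * x ∈ U := by
      have := (Subgroup.mem_normalizer_iff.mp (Subgroup.inv_mem _ hx) u).mp hu
      simpa using this
    have h1 := Subgroup.mem_centralizer_iff.mp hc _ hu'
    calc u * (x * c * x⁻¹) = x * ((x⁻¹ * u * x) * c) * x⁻¹ := by group
      _ = x * (c * (x⁻¹ * u * x)) * x⁻¹ := by rw [h1]
      _ = x * c * x⁻¹ * u := by group
  -- `D` has index prime to `p` in `C`
  have hDC : ¬ p ∣ D.relIndex C := by
    have hCn : (C.subgroupOf N).Normal := by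
      constructor
      intro c hc n
      rw [Subgroup.mem_subgroupOf] at hc ⊢
      have hn : (n : G) ∈ N := n.2
      show (n : G) * (c : G) * (n : G)⁻¹ ∈ Subgroup.centralizer (U : Set G)
      rw [Subgroup.mem_centralizer_iff]
      intro u hu
      have hu' : (n : G)⁻¹ * u * (n : G) ∈ U := by
        have := (Subgroup.mem_normalizer_iff.mp (Subgroup.inv_mem _ hn) u).mp hu
        simpa using this
      have h1 := Subgroup.mem_centralizer_iff.mp hc _ hu'
      calc u * ((n : G) * (c : G) * (n : G)⁻¹) = (n : G) * (((n : G)⁻¹ * u * (n : G)) * (c : G)) * (n : G)⁻¹ := by group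
        _ = (n : G) * ((c : G) * ((n : G)⁻¹ * u * (n : G))) * (n : G)⁻¹ := by rw [h1]
        _ = (n : G) * (c : G) * (n : G)⁻¹ * u := by group
    have h1 := Cfsg.Agent.Lib.Helper17.relIndex_dvd_index_of_normal_right
      (((S : Subgroup G) ⊓ N).subgroupOf N) (C.subgroupOf N)
    rw [Subgroup.relIndex_subgroupOf hCN] at h1
    have h2 : (((S : Subgroup G) ⊓ N).subgroupOf N).index = ((S : Subgroup G) ⊓ N).relIndex N := rfl
    rw [h2] at h1
    have h3 : D.relIndex C = ((S : Subgroup G) ⊓ N).relIndex C := by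
      rw [hD, ← Subgroup.inf_relIndex_right ((S : Subgroup G) ⊓ N) C]
      congr 1
      rw [inf_assoc, inf_eq_right.mpr hCN]
    rw [h3]
    exact fun h => hU (dvd_trans h h1)
  have hDp : IsPGroup p D := S.isPGroup'.to_le inf_le_left
  have hDx : D.map (MulAut.conj x).toMonoidHom ≤ C := by
    rw [map_conj_le_iff]
    intro d hd
    exact hxC d (Subgroup.mem_inf.mp hd).2
  obtain ⟨h, hhC, hh⟩ := exists_conj_le_of_relIndex C D (D.map (MulAut.conj x).toMonoidHom) hDp hDC hDx
    (hDp.map _)
  -- `h * x` normalizes `D`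
  have hle : D.map (MulAut.conj (h * x)).toMonoidHom ≤ D := by
    rw [map_conj_mul, map_conj_le_iff]
    exact hh
  have heq : D.map (MulAut.conj (h * x)).toMonoidHom = D := by
    apply Subgroup.eq_of_le_of_card_ge hle
    rw [card_map_conj]
  refine ⟨h⁻¹, C.inv_mem hhC, h * x, ?_, by group⟩
  refine Subgroup.mem_inf.mpr ⟨N.mul_mem (hCN hhC) hx, ?_⟩
  exact (map_conj_eq_self_iff_mem_normalizer D (h * x)).mp heq

/-- **Alperin–Goldschmidt refinement.** -/
theorem creach_main (S : Sylow p G) (𝓕 : Set (Subgroup G)) (h𝓕 : ∀ U ∈ 𝓕, U ≤ (S : Subgroup G))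
    (h𝓕t : ∀ U ∈ 𝓕, ¬ p ∣ ((S : Subgroup G) ⊓ Subgroup.normalizer ((U : Subgroup G) : Set G)).relIndex
      (Subgroup.normalizer ((U : Subgroup G) : Set G)))
    (h : ∀ T : Subgroup G, T ≤ (S : Subgroup G) → ∃ U ∈ 𝓕, (∃ g : G, T.map (MulAut.conj g).toMonoidHom = U) ∧
      ¬ p ∣ ((S : Subgroup G) ⊓ Subgroup.normalizer ((U : Subgroup G) : Set G)).relIndex (Subgroup.normalizer ((U : Subgroup G) : Set G))) :
    ∀ (m : ℕ) (T : Subgroup G) (g : G), T ≤ (S : Subgroup G) → (∀ t ∈ T, g⁻¹ * t * g ∈ (S : Subgroup G)) →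
      Nat.card (S : Subgroup G) - Nat.card T = m →
      CReach {U | U ∈ 𝓕 ∧ (S : Subgroup G) ⊓ Subgroup.centralizer (U : Set G) ≤ U} (T : Set G) g := by
  intro m
  induction m using Nat.strong_induction_on with
  | _ m ih =>
  intro T g hTS hTg hm
  set 𝓕' : Set (Subgroup G) := {U | U ∈ 𝓕 ∧ (S : Subgroup G) ⊓ Subgroup.centralizer (U : Set G) ≤ U} with h𝓕'
  obtain ⟨L, hL, hLg⟩ := Cfsg.Agent.S1965.main S 𝓕 h𝓕 h _ T g hTS hTg rfl
  -- process the list, keeping track of the cardinality of the current set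
  have key : ∀ (L : List (Subgroup G × G)) (A : Set G), Valid 𝓕 A L → Nat.card T ≤ A.ncard →
      CReach 𝓕' A (L.map Prod.snd).prod := by
    intro L
    induction L with
    | nil =>
      intro A _ _
      exact creach_of_reach 𝓕' ⟨[], trivial, by simp⟩
    | cons Ux L ihL =>
      obtain ⟨U, x⟩ := Ux
      rintro A ⟨hU, hx, hAU, hrest⟩ hcard
      have hcard' : Nat.card T ≤ ((fun a => x⁻¹ * a * x) '' A).ncard := by
        rw [Set.ncard_image_of_injective]
        · exact hcard
        · intro a b hab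
          simpa using hab
      have hstep : CReach 𝓕' A x := by
        by_cases hCU : (S : Subgroup G) ⊓ Subgroup.centralizer (U : Set G) ≤ U
        · exact creach_of_reach 𝓕' (reach_single 𝓕' ⟨hU, hCU⟩ hx hAU)
        · obtain ⟨c, hc, x', hx', rfl⟩ := exists_centralizer_mul_normalizer S U (h𝓕t U hU) x hx
          set D : Subgroup G := (S : Subgroup G) ⊓ Subgroup.centralizer (U : Set G) with hD
          set U' : Subgroup G := U ⊔ D with hU'
          have hU'S : U' ≤ (S : Subgroup G) := sup_le (h𝓕 U hU) inf_le_left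
          have hUlt : U < U' := by
            refine lt_of_le_of_ne le_sup_left ?_
            intro heq
            apply hCU
            rw [heq]
            exact le_sup_right
          -- `x'` normalizes `U'`
          have hx'U' : x' ∈ Subgroup.normalizer (U' : Set G) := by
            rw [← map_conj_eq_self_iff_mem_normalizer, hU', Subgroup.map_sup]
            rw [(map_conj_eq_self_iff_mem_normalizer U x').mpr (Subgroup.mem_inf.mp hx').1,
              (map_conj_eq_self_iff_mem_normalizer D x').mpr (Subgroup.mem_inf.mp hx').2]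
          have hcardU' : Nat.card (S : Subgroup G) - Nat.card U' < m := by
            have h1 : Nat.card U < Nat.card U' := card_lt_card_of_lt hUlt
            have h2 : A.ncard ≤ (U : Set G).ncard := Set.ncard_le_ncard hAU (Set.toFinite _)
            have h3 : (U : Set G).ncard = Nat.card U := (Nat.card_coe_set_eq (U : Set G)).symm
            have h4 : Nat.card U' ≤ Nat.card (S : Subgroup G) := Subgroup.card_le_of_le hU'S
            have h5 : Nat.card T ≤ Nat.card (S : Subgroup G) := Subgroup.card_le_of_le hTS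
            omega
          have hx'conj : ∀ t ∈ U', x'⁻¹ * t * x' ∈ (S : Subgroup G) := by
            intro t ht
            apply hU'S
            have := (Subgroup.mem_normalizer_iff.mp (Subgroup.inv_mem _ hx'U') t).mp ht
            simpa using this
          have h6 := ih _ hcardU' U' x' hU'S hx'conj rfl
          have h7 : CReach 𝓕' A x' := creach_mono 𝓕' (hAU.trans (SetLike.coe_subset_coe.mpr le_sup_left)) h6
          obtain ⟨c', hc', g', hg', rfl⟩ := h7
          refine ⟨c * c', ?_, g', hg', by group⟩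
          exact Subgroup.mul_mem _ (Subgroup.centralizer_le hAU hc) hc'
      have hrest' := ihL _ hrest hcard'
      simp only [List.map_cons, List.prod_cons]
      exact creach_mul 𝓕' hstep hrest'
  have := key L (T : Set G) hL (by rw [← Nat.card_coe_set_eq]; exact le_rfl)
  rw [hLg] at this
  exact this

end Frattini

end Cfsg.Agent.Lib.Helper13
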