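import Mathlib

/-!
FO-B of helper5's Zassenhaus farm-out (helper13): a strongly regular graph with parameters
`k = 3λ`, `λ' = λ + 1`, `μ = 4` and `λ ≥ 2` has `λ = 2` (integrality of eigenvalue multiplicities,
via the trace of an idempotent).
-/

set_option autoImplicit false

namespace Cfsg.Agent.Lib.Helper13.ZassB

open Matrix

/-- the trace of an idempotent real matrix is a natural number -/
theorem trace_idem_nat {ι : Type*} [Fintype ι] [DecidableEq ι] (E : Matrix ι ι ℝ)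
    (hE : E * E = E) : ∃ m : ℕ, E.trace = m := by
  have hf : IsIdempotentElem (Matrix.toLin' E) := by
    show Matrix.toLin' E * Matrix.toLin' E = Matrix.toLin' E
    rw [Module.End.mul_eq_comp, ← Matrix.toLin'_mul, hE]
  refine ⟨Module.finrank ℝ (LinearMap.range (Matrix.toLin' E)), ?_⟩
  rw [← Matrix.trace_toLin'_eq, (LinearMap.IsIdempotentElem.isProj_range _ hf).trace]

/-- multiplication in the span of `1, A, J` -/
theorem lin_mul {ι : Type*} [Fintype ι] [DecidableEq ι] (A J : Matrix ι ι ℝ) (c p k v : ℝ)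
    (hAA : A * A = c • (1 : Matrix ι ι ℝ) + p • A + (4 : ℝ) • J)
    (hAJ : A * J = k • J) (hJA : J * A = k • J) (hJJ : J * J = v • J)
    (a1 a2 a3 b1 b2 b3 : ℝ) :
    (a1 • (1 : Matrix ι ι ℝ) + a2 • A + a3 • J) * (b1 • (1 : Matrix ι ι ℝ) + b2 • A + b3 • J) =
      (a1 * b1 + a2 * b2 * c) • (1 : Matrix ι ι ℝ) + (a1 * b2 + a2 * b1 + a2 * b2 * p) • A +
      (a1 * b3 + a3 * b1 + 4 * (a2 * b2) + a2 * b3 * k + a3 * b2 * k + a3 * b3 * v) • J := by
  simp only [add_mul, mul_add, smul_mul_assoc, mul_smul_comm, one_mul, mul_one, hAA, hAJ, hJA,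
    hJJ, smul_add, smul_smul]
  module

theorem not_square (n e : ℕ) (he : (n + 2) * (n + 10) = e * e) : False := by
  have h1 : e < n + 6 := by nlinarith
  have h2 : n ≤ 2 := by nlinarith
  have h3 : e ≤ 7 := by omega
  interval_cases n <;> interval_cases e <;> omega

/-- FO-B -/
theorem srg_lambda_eq_two {ι : Type*} [Fintype ι] [DecidableEq ι] [Nonempty ι]
    (A : Matrix ι ι ℝ) (hA : A.IsSymm) (lam : ℕ) (hlam : 2 ≤ lam)
    (h01 : ∀ i j, A i j = 0 ∨ A i j = 1) (hdiag : ∀ i, A i i = 0)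
    (hsq : A * A = (3 * lam : ℝ) • (1 : Matrix ι ι ℝ) + (lam + 1 : ℝ) • A +
      (4 : ℝ) • (Matrix.of (fun _ _ => (1 : ℝ)) - 1 - A)) : lam = 2 := by
  by_contra hne
  have h3 : 3 ≤ lam := by omega
  obtain ⟨n, rfl⟩ := Nat.exists_eq_add_of_le h3
  obtain ⟨J, hJ⟩ : ∃ J : Matrix ι ι ℝ, J = Matrix.of (fun _ _ => (1 : ℝ)) := ⟨_, rfl⟩
  rw [← hJ] at hsq
  obtain ⟨v, hv⟩ : ∃ v : ℝ, v = (Fintype.card ι : ℝ) := ⟨_, rfl⟩
  have hv1 : 1 ≤ v := by
    rw [hv]
    exact_mod_cast Fintype.card_pos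
  have hJapp : ∀ i j, J i j = 1 := fun i j => by rw [hJ]; rfl
  have hAA : A * A = (3 * (n : ℝ) + 5) • (1 : Matrix ι ι ℝ) + (n : ℝ) • A + (4 : ℝ) • J := by
    rw [hsq]
    push_cast
    module
  have hrow : ∀ i, ∑ j, A i j = 3 * (n : ℝ) + 9 := by
    intro i
    have h := congrFun (congrFun hAA i) i
    rw [Matrix.mul_apply] at h
    simp only [Matrix.add_apply, Matrix.smul_apply, Matrix.one_apply_eq, smul_eq_mul, hdiag,
      hJapp] at h
    have hsum : ∑ j, A i j * A j i = ∑ j, A i j := by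
      apply Finset.sum_congr rfl
      intro j _
      rw [hA.apply i j]
      rcases h01 i j with h0 | h1
      · rw [h0]; ring
      · rw [h1]; ring
    rw [hsum] at h
    linarith
  have hAJ : A * J = (3 * (n : ℝ) + 9) • J := by
    ext i j
    rw [Matrix.mul_apply, Matrix.smul_apply, hJapp, smul_eq_mul, mul_one, ← hrow i]
    apply Finset.sum_congr rfl
    intro l _
    rw [hJapp, mul_one]
  have hJA : J * A = (3 * (n : ℝ) + 9) • J := by
    ext i j
    rw [Matrix.mul_apply, Matrix.smul_apply, hJapp, smul_eq_mul, mul_one, ← hrow j]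
    apply Finset.sum_congr rfl
    intro l _
    rw [hJapp, one_mul, hA.apply j l]
  have hJJ : J * J = v • J := by
    ext i j
    rw [Matrix.mul_apply, Matrix.smul_apply, hJapp, smul_eq_mul, mul_one, hv]
    simp [hJapp]
  have hv4 : 4 * v = (3 * (n : ℝ) + 9) ^ 2 - n * (3 * (n : ℝ) + 9) - (3 * (n : ℝ) + 5) := by
    have h1 : (A * A) * J = ((3 * (n : ℝ) + 9) ^ 2) • J := by
      rw [Matrix.mul_assoc, hAJ, Matrix.mul_smul, hAJ, smul_smul, ← pow_two]
    have h2 : (A * A) * J = ((3 * (n : ℝ) + 5) + n * (3 * (n : ℝ) + 9) + 4 * v) • J := by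
      rw [hAA, add_mul, add_mul, smul_mul_assoc, smul_mul_assoc, smul_mul_assoc, one_mul, hAJ,
        hJJ, smul_smul, smul_smul, ← add_smul, ← add_smul]
    obtain ⟨i⟩ := ‹Nonempty ι›
    have h3 := congrFun (congrFun (h1.symm.trans h2) i) i
    simp only [Matrix.smul_apply, hJapp, smul_eq_mul, mul_one] at h3
    linarith
  -- the square root
  obtain ⟨sd, hsddef⟩ : ∃ sd : ℝ, sd = Real.sqrt (((n + 2) * (n + 10) : ℕ) : ℝ) := ⟨_, rfl⟩
  have hsd : sd * sd = ((n : ℝ) + 2) * ((n : ℝ) + 10) := by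
    rw [hsddef, Real.mul_self_sqrt (by positivity)]
    push_cast
    ring
  have hsdpos : 0 < sd := by
    rw [hsddef]
    apply Real.sqrt_pos.mpr
    have : (0 : ℝ) < (((n + 2) * (n + 10) : ℕ) : ℝ) := by
      exact_mod_cast Nat.mul_pos (by omega) (by omega)
    exact this
  -- coefficients
  obtain ⟨s, hs⟩ : ∃ s : ℝ, s = ((n : ℝ) - sd) / 2 := ⟨_, rfl⟩
  obtain ⟨a1, ha1⟩ : ∃ a1 : ℝ, a1 = -(s * v) := ⟨_, rfl⟩
  obtain ⟨a3, ha3⟩ : ∃ a3 : ℝ, a3 = -((3 * (n : ℝ) + 9) - s) := ⟨_, rfl⟩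
  obtain ⟨N, hN⟩ : ∃ N : Matrix ι ι ℝ, N = a1 • (1 : Matrix ι ι ℝ) + v • A + a3 • J := ⟨_, rfl⟩
  have hNN : N * N = (v * sd) • N := by
    rw [hN, lin_mul A J _ _ _ _ hAA hAJ hJA hJJ]
    have e1 : a1 * a1 + v * v * (3 * (n : ℝ) + 5) = (v * sd) * a1 := by
      rw [ha1, hs]
      linear_combination (-(v * v) / 4) * hsd
    have e2 : a1 * v + v * a1 + v * v * (n : ℝ) = (v * sd) * v := by
      rw [ha1, hs]
      ring
    have e3 : a1 * a3 + a3 * a1 + 4 * (v * v) + v * a3 * (3 * (n : ℝ) + 9) +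
        a3 * v * (3 * (n : ℝ) + 9) + a3 * a3 * v = (v * sd) * a3 := by
      rw [ha1, ha3, hs]
      linear_combination v * hv4 + (v / 4) * hsd
    rw [e1, e2, e3]
    module
  have hvsd : v * sd ≠ 0 := by positivity
  have hE : ((1 / (v * sd)) • N) * ((1 / (v * sd)) • N) = (1 / (v * sd)) • N := by
    rw [smul_mul_assoc, mul_smul_comm, hNN, smul_smul, smul_smul]
    congr 1
    field_simp
  obtain ⟨m, hm⟩ := trace_idem_nat _ hE
  have htrA : A.trace = 0 := by
    simp [Matrix.trace, hdiag]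
  have htrJ : J.trace = v := by
    rw [hv]
    simp [Matrix.trace, hJapp]
  have htr : ((1 / (v * sd)) • N).trace = (1 / (v * sd)) * (a1 * v + a3 * v) := by
    rw [Matrix.trace_smul, hN, Matrix.trace_add, Matrix.trace_add, Matrix.trace_smul,
      Matrix.trace_smul, Matrix.trace_smul, htrA, htrJ, Matrix.trace_one, ← hv]
    simp only [smul_eq_mul]
    ring
  rw [htr] at hm
  -- hm : (1/(v sd)) (a1 v + a3 v) = m
  have hkey : sd * (v - 1 - 2 * (m : ℝ)) = (n : ℝ) * (v - 1) + 2 * (3 * (n : ℝ) + 9) := by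
    have hv0 : v ≠ 0 := by positivity
    have hsd0 : sd ≠ 0 := hsdpos.ne'
    rw [ha1, ha3, hs] at hm
    field_simp at hm
    linear_combination hm
  have hrhs : 0 < (n : ℝ) * (v - 1) + 2 * (3 * (n : ℝ) + 9) := by
    have hn0 : (0 : ℝ) ≤ n := Nat.cast_nonneg n
    nlinarith
  have hfac : v - 1 - 2 * (m : ℝ) ≠ 0 := by
    intro h0
    rw [h0, mul_zero] at hkey
    linarith
  have hnotirr : ¬ Irrational (Real.sqrt (((n + 2) * (n + 10) : ℕ) : ℝ)) := by
    intro hirr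
    unfold Irrational at hirr
    apply hirr
    refine ⟨((n : ℚ) * ((Fintype.card ι : ℚ) - 1) + 2 * (3 * (n : ℚ) + 9)) /
      ((Fintype.card ι : ℚ) - 1 - 2 * (m : ℚ)), ?_⟩
    rw [← hsddef]
    push_cast
    rw [← hv, div_eq_iff hfac]
    linarith
  have hsquare : IsSquare ((n + 2) * (n + 10)) := by
    by_contra h
    exact hnotirr (irrational_sqrt_natCast_iff.mpr h)
  obtain ⟨e, he⟩ := hsquare
  exact not_square n e he

end Cfsg.Agent.Lib.Helper13.ZassB
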