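import Mathlib
import Cfsg.Prelude
import Cfsg.Agent.Lib.Helper1.Cores
import Cfsg.Agent.Lib.Helper12.PiCore
import Cfsg.Agent.Lib.Helper10.BGBase

/-!
# The `β`-kernel of a group with normal `p`-complements outside `β`

For a finite group `D` and a set `β` of primes such that, for every prime `p ∉ β`, every subgroup of
`D` of order prime to `p` lies in `O_{p'}(D)`: the intersection `K` of the `O_{p'}(D)`, `p ∉ β`, is a
characteristic Hall `β`-subgroup containing every `q`-subgroup (`q ∈ β`), and every subgroup meeting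
`K` trivially is nilpotent.  Then the structure of a group `X` whose derived group is such a `D`.
-/

set_option autoImplicit false
open Cfsg

namespace Cfsg.Agent.Lib.Helper13.BGBeta

open Cfsg.Agent.Lib.Helper1 Cfsg.Agent.Lib.Helper12

section TypeD

variable {D : Type*} [Group D]

/-- the intersection of the `p'`-cores for the primes `p` outside `β`. -/
def betaKer (β : Set ℕ) (D : Type*) [Group D] : Subgroup D :=
  ⨅ p : {p : ℕ // p.Prime ∧ p ∉ β}, pPrimeCore p.1 D

theorem betaKer_le (β : Set ℕ) {p : ℕ} (hp : p.Prime) (hpβ : p ∉ β) :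
    betaKer β D ≤ pPrimeCore p D :=
  iInf_le (fun p : {p : ℕ // p.Prime ∧ p ∉ β} => pPrimeCore p.1 D) ⟨p, hp, hpβ⟩

instance betaKer_characteristic (β : Set ℕ) : (betaKer β D).Characteristic := by
  rw [Subgroup.characteristic_iff_comap_eq]
  intro φ
  unfold betaKer
  rw [Subgroup.comap_iInf]
  congr 1
  funext p
  exact Subgroup.characteristic_iff_comap_eq.mp (pPrimeCore_characteristic p.1) φ

variable [Finite D]

theorem betaKer_coprime (β : Set ℕ) {r : ℕ} (hr : r.Prime) (hrβ : r ∉ β) :
    (Nat.card (betaKer β D)).Coprime r :=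
  Nat.Coprime.coprime_dvd_left (Subgroup.card_dvd_of_le (betaKer_le β hr hrβ)) (pPrimeCore_coprime r)

theorem isPiNat_betaKer (β : Set ℕ) : IsPiNat β (Nat.card (betaKer β D)) := by
  intro r hr hd
  by_contra hrβ
  have h1 := betaKer_coprime (D := D) β hr hrβ
  have h2 : r ∣ 1 := by
    rw [← Nat.Coprime.gcd_eq_one h1]
    exact Nat.dvd_gcd hd dvd_rfl
  exact hr.one_lt.ne' (Nat.dvd_one.mp h2)

/-- the standing hypothesis: for `p ∉ β`, the subgroups of order prime to `p` lie in `O_{p'}`. -/
def BetaHyp (β : Set ℕ) (D : Type*) [Group D] : Prop :=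
  ∀ p : ℕ, p.Prime → p ∉ β → ∀ L : Subgroup D, (Nat.card L).Coprime p → L ≤ pPrimeCore p D

theorem pgroup_le_betaKer {β : Set ℕ} (h1 : BetaHyp β D) {q : ℕ} (hq : q.Prime) (hqβ : q ∈ β)
    {Q : Subgroup D} (hQ : IsPGroup q Q) : Q ≤ betaKer β D := by
  have : Fact q.Prime := ⟨hq⟩
  unfold betaKer
  apply le_iInf
  rintro ⟨p, hp, hpβ⟩
  apply h1 p hp hpβ
  obtain ⟨k, hk⟩ := hQ.exists_card_eq
  rw [hk]
  apply Nat.Coprime.pow_left
  rw [Nat.coprime_primes hq hp]
  rintro rfl
  exact hpβ hqβ

theorem betaKer_coprime_index {β : Set ℕ} (h1 : BetaHyp β D) :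
    (Nat.card (betaKer β D)).Coprime (betaKer β D).index := by
  apply Nat.coprime_of_dvd
  intro r hr hd1 hd2
  have hrβ : r ∈ β := isPiNat_betaKer β r hr hd1
  have : Fact r.Prime := ⟨hr⟩
  obtain ⟨P⟩ : Nonempty (Sylow r D) := inferInstance
  have hP : (P : Subgroup D) ≤ betaKer β D := pgroup_le_betaKer h1 hr hrβ P.isPGroup'
  exact P.not_dvd_index (hd2.trans (Subgroup.index_dvd_of_le hP))

theorem not_dvd_index_betaKer {β : Set ℕ} (h1 : BetaHyp β D) {r : ℕ} (hr : r.Prime) (hrβ : r ∈ β) :
    ¬ r ∣ (betaKer β D).index := by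
  intro hd2
  have : Fact r.Prime := ⟨hr⟩
  obtain ⟨P⟩ : Nonempty (Sylow r D) := inferInstance
  have hP : (P : Subgroup D) ≤ betaKer β D := pgroup_le_betaKer h1 hr hrβ P.isPGroup'
  exact P.not_dvd_index (hd2.trans (Subgroup.index_dvd_of_le hP))

/-- a subgroup meeting the `β`-kernel trivially has order prime to the primes of `β`. -/
theorem not_dvd_card_of_inf_betaKer {β : Set ℕ} (h1 : BetaHyp β D) {Y : Subgroup D}
    (hY : Y ⊓ betaKer β D = ⊥) {r : ℕ} (hr : r.Prime) (hrβ : r ∈ β) : ¬ r ∣ Nat.card Y := by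
  intro hd
  have : Fact r.Prime := ⟨hr⟩
  obtain ⟨y, hy⟩ := exists_prime_orderOf_dvd_card' (G := ↥Y) r hd
  have hyo : orderOf (y : D) = r := by rw [Subgroup.orderOf_coe]; exact hy
  have hz : IsPGroup r (Subgroup.zpowers (y : D)) := by
    apply IsPGroup.of_card (n := 1)
    rw [Nat.card_zpowers, hyo, pow_one]
  have h2 : (y : D) ∈ Y ⊓ betaKer β D :=
    ⟨y.2, pgroup_le_betaKer h1 hr hrβ hz (Subgroup.mem_zpowers _)⟩
  rw [hY, Subgroup.mem_bot] at h2
  rw [h2, orderOf_one] at hyo
  exact hr.one_lt.ne hyo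

/-- the other `p'`-cores. -/
def betaKerAway (β : Set ℕ) (p : ℕ) (D : Type*) [Group D] : Subgroup D :=
  ⨅ r : {r : ℕ // r.Prime ∧ r ∉ β ∧ r ≠ p}, pPrimeCore r.1 D

instance betaKerAway_normal (β : Set ℕ) (p : ℕ) : (betaKerAway β p D).Normal :=
  Subgroup.normal_iInf_normal (fun r => pPrimeCore_normal r.1 D)

/-- **nilpotency**: a subgroup meeting the `β`-kernel trivially is nilpotent. -/
theorem isNilpotent_of_inf_betaKer {β : Set ℕ} (h1 : BetaHyp β D) {Y : Subgroup D}
    (hY : Y ⊓ betaKer β D = ⊥) : Group.IsNilpotent ↥Y := by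
  refine ((Group.isNilpotent_of_finite_tfae (G := ↥Y)).out 0 3 rfl rfl).mpr ?_
  intro p hp P
  have hpp : p.Prime := hp.out
  -- the candidate normal Sylow subgroup
  have hQp : IsPGroup p ↥((betaKerAway β p D).subgroupOf Y) := by
    rw [IsPGroup.iff_orderOf]
    rintro ⟨g, hg⟩
    rw [Subgroup.mem_subgroupOf] at hg
    have ho : orderOf (⟨g, hg⟩ : (betaKerAway β p D).subgroupOf Y) = orderOf (g : D) := by
      rw [← Subgroup.orderOf_coe, ← Subgroup.orderOf_coe]
    rw [ho]
    have hpos : orderOf (g : D) ≠ 0 := (orderOf_pos _).ne'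
    refine ⟨_, Nat.eq_prime_pow_of_unique_prime_dvd hpos ?_⟩
    intro r hr hrd
    by_contra hrp
    by_cases hrβ : r ∈ β
    · apply not_dvd_card_of_inf_betaKer h1 hY hr hrβ
      have h2 : orderOf (g : D) = orderOf g := Subgroup.orderOf_coe g
      rw [h2] at hrd
      exact hrd.trans (orderOf_dvd_natCard g)
    · have h3 : (g : D) ∈ pPrimeCore r D :=
        (iInf_le (fun r : {r : ℕ // r.Prime ∧ r ∉ β ∧ r ≠ p} => pPrimeCore r.1 D)
          ⟨r, hr, hrβ, hrp⟩) hg
      have h4 : orderOf (g : D) ∣ Nat.card (pPrimeCore r D) := by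
        have := orderOf_dvd_natCard (⟨(g : D), h3⟩ : pPrimeCore r D)
        rwa [← Subgroup.orderOf_coe] at this
      have h5 := pPrimeCore_coprime (G := D) r
      have h6 : r ∣ 1 := by
        rw [← Nat.Coprime.gcd_eq_one h5]
        exact Nat.dvd_gcd (hrd.trans h4) dvd_rfl
      exact hr.one_lt.ne' (Nat.dvd_one.mp h6)
  have hPQ : (P : Subgroup ↥Y) ≤ (betaKerAway β p D).subgroupOf Y := by
    intro g hg
    rw [Subgroup.mem_subgroupOf]
    unfold betaKerAway
    rw [Subgroup.mem_iInf]
    rintro ⟨r, hr, hrβ, hrp⟩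
    have hgo : ∃ k, orderOf g = p ^ k := by
      have h2 := (IsPGroup.iff_orderOf.mp P.isPGroup') ⟨g, hg⟩
      obtain ⟨k, hk⟩ := h2
      refine ⟨k, ?_⟩
      rw [← hk]
      exact Subgroup.orderOf_coe (⟨g, hg⟩ : ↥(P : Subgroup ↥Y))
    obtain ⟨k, hk⟩ := hgo
    have hL : (Nat.card (Subgroup.zpowers (g : D))).Coprime r := by
      rw [Nat.card_zpowers, Subgroup.orderOf_coe, hk]
      apply Nat.Coprime.pow_left
      rw [Nat.coprime_primes hpp hr]
      exact fun h => hrp h.symm
    exact h1 r hr hrβ _ hL (Subgroup.mem_zpowers _)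
  have hQP := P.is_maximal' hQp hPQ
  rw [← hQP]
  infer_instance

end TypeD

section TypeX

variable {X : Type*} [Group X] [Finite X]

omit [Finite X] in
/-- a subgroup whose order is prime to the index of a normal subgroup lies in it. -/
theorem le_of_coprime_index {N A : Subgroup X} [N.Normal] (h : (Nat.card A).Coprime N.index) :
    A ≤ N := by
  intro a ha
  have h1 : (QuotientGroup.mk' N a) ^ (Nat.card A) = 1 := by
    rw [← map_pow]
    have : a ^ Nat.card A = 1 := by
      have h2 : orderOf a ∣ Nat.card A := by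
        have h3 := orderOf_dvd_natCard (⟨a, ha⟩ : ↥A)
        rwa [← Subgroup.orderOf_coe] at h3
      exact orderOf_dvd_iff_pow_eq_one.mp h2
    rw [this, map_one]
  have h2 : (QuotientGroup.mk' N a) ^ N.index = 1 := by
    rw [Subgroup.index_eq_card]
    exact pow_card_eq_one'
  have h3 := Cfsg.Agent.Lib.Helper10.BG.eq_one_of_pow_eq_one_of_coprime h1 h2 h
  rwa [QuotientGroup.mk'_apply, QuotientGroup.eq_one_iff] at h3

/-- **the structure theorem**, for a group `X` in which the Sylow subgroups for the primes of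
`σ ⊇ β` lie in the derived group `X'`, and `X'` satisfies the `β`-hypothesis. -/
theorem beta_structure (β σ : Set ℕ) (hβσ : β ⊆ σ)
    (hder : ∀ (p : ℕ) [Fact p.Prime], p ∈ σ → ∀ P : Sylow p X, (P : Subgroup X) ≤ commutator X)
    (hcomp : BetaHyp β ↥(commutator X)) :
    (∀ q : ℕ, q.Prime → q ∈ β → ¬ q ∣ (piCore β X).index) ∧
    piCore σ X ≤ commutator X ∧
    (∃ H : Subgroup X, H ≤ commutator X ∧ (∀ r : ℕ, r.Prime → r ∣ Nat.card H → r ∉ β) ∧
        (∀ r : ℕ, r.Prime → r ∉ β → ¬ r ∣ H.relIndex (commutator X)) ∧ Group.IsNilpotent ↥H) ∧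
    (∃ H : Subgroup X, H ≤ piCore σ X ∧ (∀ r : ℕ, r.Prime → r ∣ Nat.card H → r ∉ β) ∧
        (∀ r : ℕ, r.Prime → r ∉ β → ¬ r ∣ H.relIndex (piCore σ X)) ∧ Group.IsNilpotent ↥H) := by
  have hDn : (commutator X).Normal := inferInstance
  have hKXn : ((betaKer β ↥(commutator X)).map (commutator X).subtype).Normal := inferInstance
  have hKXcard : Nat.card ((betaKer β ↥(commutator X)).map (commutator X).subtype) =
      Nat.card (betaKer β ↥(commutator X)) :=
    Subgroup.card_map_of_injective (Subgroup.subtype_injective _)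
  have hKXle : (betaKer β ↥(commutator X)).map (commutator X).subtype ≤ commutator X :=
    Subgroup.map_subtype_le _
  have hKXpi : IsPiNat β (Nat.card ((betaKer β ↥(commutator X)).map (commutator X).subtype)) := by
    rw [hKXcard]; exact isPiNat_betaKer β
  -- Sylow subgroups for primes in `β` lie in `K_X`
  have hsyl : ∀ q : ℕ, q.Prime → q ∈ β → ∀ Q : Sylow q X,
      (Q : Subgroup X) ≤ (betaKer β ↥(commutator X)).map (commutator X).subtype := by
    intro q hq hqβ Q
    have : Fact q.Prime := ⟨hq⟩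
    have hQD : (Q : Subgroup X) ≤ commutator X := hder q (hβσ hqβ) Q
    have hQp : IsPGroup q ↥((Q : Subgroup X).subgroupOf (commutator X)) :=
      Q.isPGroup'.comap_subtype
    have h2 := pgroup_le_betaKer hcomp hq hqβ hQp
    intro g hg
    exact ⟨⟨g, hQD hg⟩, h2 (Subgroup.mem_subgroupOf.mpr hg), rfl⟩
  have hKXidx : ∀ q : ℕ, q.Prime → q ∈ β →
      ¬ q ∣ ((betaKer β ↥(commutator X)).map (commutator X).subtype).index := by
    intro q hq hqβ hd
    have : Fact q.Prime := ⟨hq⟩
    obtain ⟨Q⟩ : Nonempty (Sylow q X) := inferInstance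
    exact Q.not_dvd_index (hd.trans (Subgroup.index_dvd_of_le (hsyl q hq hqβ Q)))
  have hKXβ : (betaKer β ↥(commutator X)).map (commutator X).subtype ≤ piCore β X :=
    le_sSup ⟨hKXn, hKXpi⟩
  have hKXσ : (betaKer β ↥(commutator X)).map (commutator X).subtype ≤ piCore σ X :=
    le_sSup ⟨hKXn, fun r hr hd => hβσ (hKXpi r hr hd)⟩
  -- `M_σ ≤ X'`
  have hσD : piCore σ X ≤ commutator X := by
    apply le_of_coprime_index
    apply Nat.coprime_of_dvd
    intro r hr hd1 hd2
    have hrσ : r ∈ σ := piCore_isPiNat σ r hr hd1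
    have : Fact r.Prime := ⟨hr⟩
    obtain ⟨P⟩ : Nonempty (Sylow r X) := inferInstance
    exact P.not_dvd_index (hd2.trans (Subgroup.index_dvd_of_le (hder r hrσ P)))
  have hndvd : ∀ r : ℕ, r.Prime → r ∉ β → ¬ r ∣ Nat.card (betaKer β ↥(commutator X)) := by
    intro r hr hrβ hd
    have h1 := betaKer_coprime (D := ↥(commutator X)) β hr hrβ
    have h2 : r ∣ 1 := by
      rw [← Nat.Coprime.gcd_eq_one h1]
      exact Nat.dvd_gcd hd dvd_rfl
    exact hr.one_lt.ne' (Nat.dvd_one.mp h2)
  refine ⟨?_, hσD, ?_, ?_⟩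
  · intro q hq hqβ hd
    have : Fact q.Prime := ⟨hq⟩
    obtain ⟨Q⟩ : Nonempty (Sylow q X) := inferInstance
    exact Q.not_dvd_index
      (hd.trans (Subgroup.index_dvd_of_le ((hsyl q hq hqβ Q).trans hKXβ)))
  · -- the complement in `X'`
    obtain ⟨H', hH'⟩ := Subgroup.exists_right_complement'_of_coprime (betaKer_coprime_index hcomp)
    refine ⟨H'.map (commutator X).subtype, Subgroup.map_subtype_le _, ?_, ?_, ?_⟩
    · intro r hr hd hrβ
      rw [Subgroup.card_map_of_injective (Subgroup.subtype_injective _),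
        ← hH'.symm.index_eq_card] at hd
      exact not_dvd_index_betaKer hcomp hr hrβ hd
    · intro r hr hrβ hd
      have h1 : (H'.map (commutator X).subtype).relIndex (commutator X) = H'.index := by
        unfold Subgroup.relIndex Subgroup.subgroupOf
        rw [Subgroup.comap_map_eq_self_of_injective (Subgroup.subtype_injective _)]
      rw [h1, hH'.index_eq_card] at hd
      exact hndvd r hr hrβ hd
    · have h1 : H' ⊓ betaKer β ↥(commutator X) = ⊥ := by
        rw [inf_comm]
        exact disjoint_iff.mp hH'.disjoint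
      have h2 := isNilpotent_of_inf_betaKer hcomp h1
      exact Group.nilpotent_of_mulEquiv
        (Subgroup.equivMapOfInjective H' (commutator X).subtype (Subgroup.subtype_injective _))
  · -- the complement in `M_σ`
    have hK₂n : (((betaKer β ↥(commutator X)).map (commutator X).subtype).subgroupOf
        (piCore σ X)).Normal := inferInstance
    have hK₂card : Nat.card (((betaKer β ↥(commutator X)).map (commutator X).subtype).subgroupOf
        (piCore σ X)) = Nat.card (betaKer β ↥(commutator X)) := by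
      rw [Nat.card_congr (Subgroup.subgroupOfEquivOfLe hKXσ).toEquiv, hKXcard]
    have hK₂idx : ∀ r : ℕ, r.Prime → r ∈ β →
        ¬ r ∣ (((betaKer β ↥(commutator X)).map (commutator X).subtype).subgroupOf
          (piCore σ X)).index := by
      intro r hr hrβ hd
      apply hKXidx r hr hrβ
      exact hd.trans (Subgroup.relIndex_dvd_index_of_le hKXσ)
    have hcop : (Nat.card (((betaKer β ↥(commutator X)).map (commutator X).subtype).subgroupOf
        (piCore σ X))).Coprime
        (((betaKer β ↥(commutator X)).map (commutator X).subtype).subgroupOf (piCore σ X)).index := by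
      apply Nat.coprime_of_dvd
      intro r hr hd1 hd2
      rw [hK₂card] at hd1
      exact hK₂idx r hr (isPiNat_betaKer β r hr hd1) hd2
    obtain ⟨H', hH'⟩ := Subgroup.exists_right_complement'_of_coprime hcop
    refine ⟨H'.map (piCore σ X).subtype, Subgroup.map_subtype_le _, ?_, ?_, ?_⟩
    · intro r hr hd hrβ
      rw [Subgroup.card_map_of_injective (Subgroup.subtype_injective _),
        ← hH'.symm.index_eq_card] at hd
      exact hK₂idx r hr hrβ hd
    · intro r hr hrβ hd
      have h1 : (H'.map (piCore σ X).subtype).relIndex (piCore σ X) = H'.index := by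
        unfold Subgroup.relIndex Subgroup.subgroupOf
        rw [Subgroup.comap_map_eq_self_of_injective (Subgroup.subtype_injective _)]
      rw [h1, hH'.index_eq_card, hK₂card] at hd
      exact hndvd r hr hrβ hd
    · have hHD : H'.map (piCore σ X).subtype ≤ commutator X :=
        (Subgroup.map_subtype_le _).trans hσD
      have h1 : (H'.map (piCore σ X).subtype).subgroupOf (commutator X) ⊓
          betaKer β ↥(commutator X) = ⊥ := by
        rw [eq_bot_iff]
        rintro ⟨g, hgD⟩ ⟨hg1', hg2'⟩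
        have hg1 : (⟨g, hgD⟩ : ↥(commutator X)) ∈
            (H'.map (piCore σ X).subtype).subgroupOf (commutator X) := hg1'
        have hg2 : (⟨g, hgD⟩ : ↥(commutator X)) ∈ betaKer β ↥(commutator X) := hg2'
        rw [Subgroup.mem_subgroupOf] at hg1
        obtain ⟨h, hh, hhg⟩ := hg1
        have hgK : g ∈ (betaKer β ↥(commutator X)).map (commutator X).subtype :=
          ⟨⟨g, hgD⟩, hg2, rfl⟩
        have hh2 : h ∈ ((betaKer β ↥(commutator X)).map (commutator X).subtype).subgroupOf
            (piCore σ X) := by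
          rw [Subgroup.mem_subgroupOf]
          have : ((h : ↥(piCore σ X)) : X) = g := hhg
          rw [this]
          exact hgK
        have h3 : h ∈ (((betaKer β ↥(commutator X)).map (commutator X).subtype).subgroupOf
            (piCore σ X)) ⊓ H' := ⟨hh2, hh⟩
        rw [disjoint_iff.mp hH'.disjoint, Subgroup.mem_bot] at h3
        rw [Subgroup.mem_bot]
        apply Subtype.ext
        show g = 1
        have : ((h : ↥(piCore σ X)) : X) = g := hhg
        rw [← this, h3]
        rfl
      have h2 := isNilpotent_of_inf_betaKer hcomp h1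
      exact Group.nilpotent_of_mulEquiv (Subgroup.subgroupOfEquivOfLe hHD)

end TypeX

end Cfsg.Agent.Lib.Helper13.BGBeta
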