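import Mathlib
import Cfsg.Prelude
import Cfsg.Agent.S1453
import Cfsg.Agent.Lib.Helper10.BGTen3

/-!
# Narrow `p`-groups from a maximal elementary abelian subgroup of order `p ^ 2`

If a `p`-group `R` (`p` odd) of rank at least three has an elementary abelian subgroup `E` of order
`p ^ 2` contained in no larger elementary abelian subgroup, then `R` is narrow.  Also: narrowness is
invariant under isomorphism.
-/

set_option autoImplicit false
open Cfsg

namespace Cfsg.Agent.Lib.Helper13.BGNarrow

open Cfsg.Agent.Lib.Helper10.BG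

/-- transport of the `p`-rank bound along an isomorphism. -/
theorem pRankLE_of_mulEquiv {R R' : Type*} [Group R] [Group R'] (e : R ≃* R') {p k : ℕ}
    (h : PRankLE p k R) : PRankLE p k R' := by
  intro A hAc hAe
  have hc : IsMulCommutative ↥(A.map e.symm.toMonoidHom) := by
    refine ⟨⟨?_⟩⟩
    rintro ⟨a, ha⟩ ⟨b, hb⟩
    apply Subtype.ext
    show a * b = b * a
    obtain ⟨a', ha', rfl⟩ := ha
    obtain ⟨b', hb', rfl⟩ := hb
    have h1 : a' * b' = b' * a' := congrArg Subtype.val (hAc.is_comm.comm ⟨a', ha'⟩ ⟨b', hb'⟩)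
    rw [← map_mul, ← map_mul, h1]
  have he : ∀ a ∈ A.map e.symm.toMonoidHom, a ^ p = 1 := by
    rintro a ⟨a', ha', rfl⟩
    rw [← map_pow, hAe a' ha', map_one]
  have := h (A.map e.symm.toMonoidHom) hc he
  rwa [Subgroup.card_map_of_injective e.symm.injective] at this

/-- narrowness is invariant under isomorphism. -/
theorem isNarrow_of_mulEquiv {R R' : Type*} [Group R] [Group R'] (e : R ≃* R') {p : ℕ}
    (h : IsNarrow p R) : IsNarrow p R' := by
  rcases h with h | ⟨R₀, R₁, hcard, hcyc, hinf, hcomm, hsup⟩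
  · exact Or.inl (pRankLE_of_mulEquiv e h)
  · right
    refine ⟨R₀.map e.toMonoidHom, R₁.map e.toMonoidHom, ?_, ?_, ?_, ?_, ?_⟩
    · rw [Subgroup.card_map_of_injective e.injective]; exact hcard
    · exact isCyclic_of_surjective ((e.toMonoidHom).subgroupMap R₁)
        ((e.toMonoidHom).subgroupMap_surjective R₁)
    · rw [← Subgroup.map_inf _ _ _ e.injective, hinf, Subgroup.map_bot]
    · rintro a ⟨a', ha', rfl⟩ b ⟨b', hb', rfl⟩
      show e a' * e b' = e b' * e a'
      rw [← map_mul, ← map_mul, hcomm a' ha' b' hb']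
    · rw [← Subgroup.map_sup, hsup]
      ext g
      constructor
      · rintro ⟨g', hg', rfl⟩
        rw [Subgroup.mem_centralizer_iff]
        rintro _ ⟨a', ha', rfl⟩
        show e a' * e g' = e g' * e a'
        rw [← map_mul, ← map_mul, Subgroup.mem_centralizer_iff.mp hg' a' ha']
      · intro hg
        refine ⟨e.symm g, ?_, by simp⟩
        show e.symm g ∈ Subgroup.centralizer (R₀ : Set R)
        rw [Subgroup.mem_centralizer_iff]
        intro a' ha'
        have h1 := Subgroup.mem_centralizer_iff.mp hg (e a') ⟨a', ha', rfl⟩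
        apply e.injective
        rw [map_mul, map_mul, MulEquiv.apply_symm_apply]
        exact h1

/-- **the narrowness criterion**: a `p`-group of rank at least three, `p` odd, with a maximal
elementary abelian subgroup of order `p ^ 2`, is narrow. -/
theorem isNarrow_of_max_elementary {R : Type*} [Group R] [Finite R] (p : ℕ) [Fact p.Prime]
    (hp2 : p ≠ 2) (hR : IsPGroup p R) (hr : ¬ PRankLE p 2 R) (E : Subgroup R)
    (hE : IsElementaryAbelian p E) (hE2 : Nat.card E = p ^ 2)
    (hEmax : ∀ B : Subgroup R, IsElementaryAbelian p B → E ≤ B → B = E) : IsNarrow p R := by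
  have hp : p.Prime := Fact.out
  obtain ⟨hET, hZcard, -, hTchar, hTidx⟩ := Cfsg.Agent.S1453.result p hp2 hR hr E hE hE2 hEmax
  generalize (Subgroup.closure {x : R | x ∈ Subgroup.upperCentralSeries R 2 ∧ x ^ p = 1}) = W at *
  generalize hTdef : Subgroup.centralizer (W : Set R) = T at *
  generalize hZdef : Subgroup.closure {x : R | x ∈ Subgroup.center R ∧ x ^ p = 1} = Z at *
  have hTn : T.Normal := inferInstance
  -- `Z` is central
  have hZcen : Z ≤ Subgroup.center R := by
    rw [← hZdef, Subgroup.closure_le]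
    rintro x ⟨hx, -⟩
    exact hx
  have hZT : Z ≤ T := by
    rw [← hTdef]
    exact hZcen.trans (Subgroup.center_le_centralizer _)
  have hZE : Z ≤ E := by
    rw [← hZdef, Subgroup.closure_le]
    rintro x ⟨hxc, hxp⟩
    have h1 : IsElementaryAbelian p (E ⊔ Subgroup.zpowers x) :=
      isElementaryAbelian_sup_zpowers hE hxp (fun b _ => (Subgroup.mem_center_iff.mp hxc b))
    have h2 := hEmax _ h1 le_sup_left
    have h3 : x ∈ E ⊔ Subgroup.zpowers x :=
      (le_sup_right : Subgroup.zpowers x ≤ E ⊔ Subgroup.zpowers x) (Subgroup.mem_zpowers x)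
    rw [h2] at h3
    exact h3
  -- choose `x ∈ E ∖ T`
  obtain ⟨x, hxE, hxT⟩ := SetLike.not_le_iff_exists.mp hET
  have hxp : x ^ p = 1 := hE.2 x hxE
  have hx1 : x ≠ 1 := by
    rintro rfl
    exact hxT (one_mem T)
  have hox : orderOf x = p := orderOf_eq_prime hxp hx1
  have hR₀card : Nat.card (Subgroup.zpowers x) = p := by rw [Nat.card_zpowers, hox]
  -- `E ⊓ T = Z`
  have hETZ : E ⊓ T = Z := by
    symm
    apply Subgroup.eq_of_le_of_card_ge (le_inf hZE hZT)
    have h1 : Nat.card (E ⊓ T : Subgroup R) ∣ p ^ 2 := by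
      rw [← hE2]; exact Subgroup.card_dvd_of_le inf_le_left
    obtain ⟨k, hk2, hk⟩ := (Nat.dvd_prime_pow hp).mp h1
    have hk2' : k ≠ 2 := by
      rintro rfl
      apply hxT
      have h3 : E ⊓ T = E :=
        Subgroup.eq_of_le_of_card_ge inf_le_left (by rw [hk, hE2])
      have : x ∈ E ⊓ T := by rw [h3]; exact hxE
      exact this.2
    have hk1 : k ≤ 1 := by omega
    rw [hk, hZcard]
    calc p ^ k ≤ p ^ 1 := Nat.pow_le_pow_right hp.pos hk1
      _ = p := pow_one p
  -- `E = ⟨x⟩ ⊔ Z`
  have hEsup : Subgroup.zpowers x ⊔ Z = E := by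
    have hle : Subgroup.zpowers x ⊔ Z ≤ E := sup_le (Subgroup.zpowers_le.mpr hxE) hZE
    apply Subgroup.eq_of_le_of_card_ge hle
    have h1 : Nat.card (Subgroup.zpowers x ⊔ Z : Subgroup R) ∣ p ^ 2 := by
      rw [← hE2]; exact Subgroup.card_dvd_of_le hle
    obtain ⟨k, hk2, hk⟩ := (Nat.dvd_prime_pow hp).mp h1
    have hne : Subgroup.zpowers x ≠ Subgroup.zpowers x ⊔ Z := by
      intro h
      have hZle : Z ≤ Subgroup.zpowers x := by rw [h]; exact le_sup_right
      have hZeq : Z = Subgroup.zpowers x :=
        Subgroup.eq_of_le_of_card_ge hZle (by rw [hZcard, hR₀card])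
      apply hxT
      apply hZT
      rw [hZeq]
      exact Subgroup.mem_zpowers x
    have hlt := card_lt_of_le_of_ne (le_sup_left : Subgroup.zpowers x ≤ Subgroup.zpowers x ⊔ Z) hne
    rw [hR₀card, hk] at hlt
    have hk' : k = 2 := by
      have h1k : 1 < k := by
        by_contra hcon
        push Not at hcon
        have : p ^ k ≤ p ^ 1 := Nat.pow_le_pow_right hp.pos hcon
        rw [pow_one] at this
        omega
      omega
    rw [hE2, hk, hk']
  -- the subgroup `R₁ = C_T(x)`
  have hR₁Z : ∀ y ∈ T ⊓ Subgroup.centralizer ({x} : Set R), y ^ p = 1 → y ∈ Z := by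
    rintro y ⟨hyT, hyx⟩ hyp
    have hyx' : y ∈ Subgroup.centralizer ({x} : Set R) := hyx
    have hxy : x * y = y * x := (Subgroup.mem_centralizer_singleton_iff.mp hyx').symm
    have hEy : E ≤ Subgroup.centralizer ({y} : Set R) := by
      rw [← hEsup]
      apply sup_le
      · rw [Subgroup.zpowers_le, Subgroup.mem_centralizer_singleton_iff]
        exact hxy
      · intro z hz
        rw [Subgroup.mem_centralizer_singleton_iff]
        exact (Subgroup.mem_center_iff.mp (hZcen hz) y).symm
    have h1 : IsElementaryAbelian p (E ⊔ Subgroup.zpowers y) :=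
      isElementaryAbelian_sup_zpowers hE hyp
        (fun b hb => (Subgroup.mem_centralizer_singleton_iff.mp (hEy hb)))
    have h2 := hEmax _ h1 le_sup_left
    have h3 : y ∈ E ⊔ Subgroup.zpowers y :=
      (le_sup_right : Subgroup.zpowers y ≤ E ⊔ Subgroup.zpowers y) (Subgroup.mem_zpowers y)
    rw [h2] at h3
    rw [← hETZ]
    exact ⟨h3, hyT⟩
  right
  refine ⟨Subgroup.zpowers x, T ⊓ Subgroup.centralizer ({x} : Set R), hR₀card, ?_, ?_, ?_, ?_⟩
  · -- cyclic
    by_contra hnc
    have hP : IsPGroup p ↥(T ⊓ Subgroup.centralizer ({x} : Set R)) := hR.to_subgroup _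
    have h1 := not_pRankLE_one_of_not_isCyclic hp2 hP hnc
    apply h1
    intro A hAc hAe
    have h2 : A.map (T ⊓ Subgroup.centralizer ({x} : Set R)).subtype ≤ Z := by
      rintro _ ⟨a, ha, rfl⟩
      apply hR₁Z _ a.2
      have := hAe a ha
      have h3 := congrArg Subtype.val this
      simpa using h3
    have h3 := Subgroup.card_le_of_le h2
    rw [Subgroup.card_map_of_injective (Subgroup.subtype_injective _), hZcard] at h3
    rw [pow_one]
    exact h3
  · -- trivial intersection
    rw [eq_bot_iff]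
    rintro g ⟨hg0, hgT, -⟩
    rw [Subgroup.mem_bot]
    by_contra hg1
    apply hxT
    have h1 : (⟨x, Subgroup.mem_zpowers x⟩ : Subgroup.zpowers x) ∈
        Subgroup.zpowers (⟨g, hg0⟩ : Subgroup.zpowers x) := by
      apply mem_zpowers_of_prime_card hR₀card
      intro h
      exact hg1 (congrArg Subtype.val h)
    obtain ⟨k, hk⟩ := Subgroup.mem_zpowers_iff.mp h1
    have h2 : g ^ k = x := by
      have := congrArg Subtype.val hk
      simpa using this
    rw [← h2]
    exact T.zpow_mem hgT k
  · -- commute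
    rintro a ha b ⟨-, hbx⟩
    obtain ⟨k, rfl⟩ := Subgroup.mem_zpowers_iff.mp ha
    have hbx' : b ∈ Subgroup.centralizer ({x} : Set R) := hbx
    have hxb : Commute x b := (Subgroup.mem_centralizer_singleton_iff.mp hbx').symm
    exact (hxb.zpow_left k).eq
  · -- the centralizer
    apply le_antisymm
    · apply sup_le
      · intro a ha
        rw [Subgroup.mem_centralizer_iff]
        intro b hb
        obtain ⟨k, rfl⟩ := Subgroup.mem_zpowers_iff.mp ha
        obtain ⟨l, rfl⟩ := Subgroup.mem_zpowers_iff.mp hb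
        rw [← zpow_add, ← zpow_add, add_comm]
      · rintro b ⟨-, hbx⟩
        rw [Subgroup.mem_centralizer_iff]
        intro a ha
        obtain ⟨k, rfl⟩ := Subgroup.mem_zpowers_iff.mp ha
        have hbx' : b ∈ Subgroup.centralizer ({x} : Set R) := hbx
        have hxb : Commute x b := (Subgroup.mem_centralizer_singleton_iff.mp hbx').symm
        exact (hxb.zpow_left k).eq
    · intro g hg
      have hxg : x * g = g * x :=
        Subgroup.mem_centralizer_iff.mp hg x (Subgroup.mem_zpowers x)
      have hcardQ : Nat.card (R ⧸ T) = p := by rw [← Subgroup.index_eq_card, hTidx]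
      have hxbar : (QuotientGroup.mk' T x) ≠ 1 := by
        intro h
        rw [QuotientGroup.mk'_apply, QuotientGroup.eq_one_iff] at h
        exact hxT h
      have h1 : QuotientGroup.mk' T g ∈ Subgroup.zpowers (QuotientGroup.mk' T x) :=
        mem_zpowers_of_prime_card hcardQ hxbar
      obtain ⟨k, hk⟩ := Subgroup.mem_zpowers_iff.mp h1
      have h2 : (x ^ k)⁻¹ * g ∈ T := by
        rw [← map_zpow] at hk
        rw [QuotientGroup.mk'_apply, QuotientGroup.mk'_apply] at hk
        exact QuotientGroup.eq.mp hk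
      have h3 : (x ^ k)⁻¹ * g ∈ Subgroup.centralizer ({x} : Set R) := by
        rw [Subgroup.mem_centralizer_singleton_iff]
        have hc : Commute x g := hxg
        have hc2 : Commute x ((x ^ k)⁻¹) := ((Commute.refl x).zpow_right k).inv_right
        exact (hc2.mul_right hc).eq.symm
      have h4 : g = x ^ k * ((x ^ k)⁻¹ * g) := by group
      rw [h4]
      exact Subgroup.mul_mem_sup (zpow_mem (Subgroup.mem_zpowers x) k) ⟨h2, h3⟩

end Cfsg.Agent.Lib.Helper13.BGNarrow
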