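import Mathlib
import Cfsg.Prelude
import Cfsg.Agent.Lib.Helper13.BGNarrow
import Cfsg.Agent.Lib.Helper13.BGBeta
import Cfsg.Agent.Lib.Helper13.PNilpotent
import Cfsg.Agent.Lib.Helper10.BGTwelve
import Cfsg.Agent.Lib.Helper10.NarrowSylow
import Cfsg.Agent.S1450
import Cfsg.Agent.S1455

/-!
# `M_β` is a Hall subgroup; normal `p`-complements of `M'` and `M_σ` for `p ∉ β(M)`

Conditional on the `p`-length-one property of proper subgroups (given as the hypothesis `hpl`).
-/

set_option autoImplicit false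
open Cfsg

namespace Cfsg.Agent.Lib.Helper13.BGBetaMain

open Cfsg.Agent.Lib.Helper10.BG Cfsg.Agent.Lib.Helper10 Cfsg.Agent.Lib.Helper12
open Cfsg.Agent.Lib.Helper13.BGNarrow Cfsg.Agent.Lib.Helper13.BGBeta Cfsg.Agent.Lib.Helper13
open Cfsg.Agent.Lib.Helper1
open scoped commutatorElement

variable {G : Type*} [Group G] [Finite G]

/-- **Step 1**: for a prime `p` dividing `#M` outside `β(M)`, the conclusions of BG 5.5/5.6 for `M`. -/
theorem step1 (hG : IsMinSimpleOddOrder G) {M : Subgroup G} (hM : IsCoatom M)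
    (hpl : ∀ (q : ℕ) [Fact q.Prime] (H : Subgroup G), H ≠ ⊤ → PLengthLE q 1 H)
    {p : ℕ} (hp : p.Prime) (hpM : p ∣ Nat.card M) (hpβ : p ∉ beta M) :
    (∀ q : ℕ, q.Prime → q ∣ (pPrimeCore p ↥M).index → q ≤ p) ∧
      HasNormalPComplement p ↥(commutator ↥M) ∧
      (∀ L : Subgroup ↥(commutator ↥M), (Nat.card L).Coprime p →
        L ≤ pPrimeCore p ↥(commutator ↥M)) := by
  have : Fact p.Prime := ⟨hp⟩
  have hMsolv : Group.IsSolvable M := isSolvable_of_ne_top hG hM.1
  have hodd := odd_card_subgroup hG M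
  by_cases hr : PRankLE p 2 ↥M
  · obtain ⟨h1, -, h3, h4, -, -⟩ := Cfsg.Agent.S1450.result hodd p hpM hr
    exact ⟨h1, h3, h4⟩
  · have hpα : p ∈ alpha M := ⟨hp, hr⟩
    have hpσ : p ∈ sigma M := alpha_subset_sigma hG hM hpα
    have hnid : ¬ IsIdealPrime p G := fun h => hpβ ⟨hpα, h⟩
    have hrG : ¬ PRankLE p 2 G := fun h =>
      hr (Cfsg.Agent.Lib.Helper9.pRankLE_of_injective M.subtype M.subtype_injective h)
    have hp2 : p ≠ 2 :=
      prime_ne_two hG (hpM.trans (Subgroup.card_subgroup_dvd_card M))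
    unfold IsIdealPrime at hnid
    push Not at hnid
    obtain ⟨P1, A, hAP, hAe, hAcard, hAmax⟩ := hnid hp hrG
    -- the Sylow subgroup `P1` is narrow
    have hP1n : IsNarrow p ↥(P1 : Subgroup G) := by
      have hr1 : ¬ PRankLE p 2 ↥(P1 : Subgroup G) := fun h => hrG (pRankLE_of_sylow P1 h)
      have hE : IsElementaryAbelian p (A.subgroupOf (P1 : Subgroup G)) := by
        constructor
        · refine ⟨⟨?_⟩⟩
          rintro ⟨a, ha⟩ ⟨b, hb⟩
          apply Subtype.ext
          apply Subtype.ext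
          have h1 := hAe.1.is_comm.comm ⟨(a : G), Subgroup.mem_subgroupOf.mp ha⟩
            ⟨(b : G), Subgroup.mem_subgroupOf.mp hb⟩
          show (a : G) * (b : G) = (b : G) * (a : G)
          exact congrArg Subtype.val h1
        · intro a ha
          apply Subtype.ext
          have h1 := hAe.2 (a : G) (Subgroup.mem_subgroupOf.mp ha)
          simpa using h1
      have hE2 : Nat.card (A.subgroupOf (P1 : Subgroup G)) = p ^ 2 := by
        rw [Nat.card_congr (Subgroup.subgroupOfEquivOfLe hAP).toEquiv, hAcard]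
      apply isNarrow_of_max_elementary p hp2 P1.isPGroup' hr1 _ hE hE2
      intro B' hB' hEB'
      apply le_antisymm _ hEB'
      have hBe : IsElementaryAbelian p (B'.map (P1 : Subgroup G).subtype) := by
        constructor
        · refine ⟨⟨?_⟩⟩
          rintro ⟨a, ha⟩ ⟨b, hb⟩
          apply Subtype.ext
          show a * b = b * a
          obtain ⟨a', ha', rfl⟩ := ha
          obtain ⟨b', hb', rfl⟩ := hb
          have h1 := hB'.1.is_comm.comm ⟨a', ha'⟩ ⟨b', hb'⟩
          have h2 : a' * b' = b' * a' := congrArg Subtype.val h1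
          rw [← map_mul, ← map_mul, h2]
        · rintro _ ⟨a', ha', rfl⟩
          rw [← map_pow, hB'.2 a' ha', map_one]
      have hAB : A ≤ B'.map (P1 : Subgroup G).subtype := by
        intro a ha
        exact ⟨⟨a, hAP ha⟩, hEB' (Subgroup.mem_subgroupOf.mpr ha), rfl⟩
      have h3 := hAmax (B'.map (P1 : Subgroup G).subtype) (Subgroup.map_subtype_le _) hBe
      have hBA : B'.map (P1 : Subgroup G).subtype ≤ A := by
        by_contra hcon
        exact h3 (lt_of_le_not_ge hAB hcon)
      intro b hb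
      rw [Subgroup.mem_subgroupOf]
      exact hBA ⟨b, hb, rfl⟩
    -- transport to a Sylow subgroup of `M`
    obtain ⟨S⟩ : Nonempty (Sylow p ↥M) := inferInstance
    have hσ := sigmaProp_of_mem_sigma hM hpσ
    have hStop := hσ.isSylowIn_top (isSylowIn_of_sylow S)
    have e1 : ↥(P1 : Subgroup G) ≃* ↥((hStop.toSylowTop : Sylow p G) : Subgroup G) :=
      Sylow.equiv P1 hStop.toSylowTop
    have e2 : ↥((hStop.toSylowTop : Sylow p G) : Subgroup G) ≃*
        ↥((S : Subgroup ↥M).map M.subtype) := MulEquiv.subgroupCongr hStop.coe_toSylowTop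
    have e3 : ↥(S : Subgroup ↥M) ≃* ↥((S : Subgroup ↥M).map M.subtype) :=
      Subgroup.equivMapOfInjective _ M.subtype M.subtype_injective
    have hS : IsNarrow p ↥(S : Subgroup ↥M) :=
      isNarrow_of_mulEquiv ((e1.trans e2).trans e3.symm) hP1n
    obtain ⟨h1, -, h3, h4, -, -⟩ := Cfsg.Agent.S1455.result hodd p hpM S hS
      (fun _ => hpl p M hM.1)
    exact ⟨h1, h3, h4⟩

/-- **BG: `M_β` is a Hall subgroup, normal `p`-complements of `M'` and `M_σ` outside `β(M)`**,
conditional on the `p`-length-one property `hpl` of proper subgroups. -/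
theorem beta_main (hG : IsMinSimpleOddOrder G)
    (hpl : ∀ (q : ℕ) [Fact q.Prime] (H : Subgroup G), H ≠ ⊤ → PLengthLE q 1 H)
    (M : Subgroup G) (hM : IsCoatom M) :
    IsPiHallOf (beta M) (piCoreOf (beta M) M) M ∧ IsPiHall (beta M) (piCoreOf (beta M) M) ∧
      (∃ H : Subgroup G, IsPiHallOf {q | q.Prime ∧ q ∉ beta M} H ⁅M, M⁆ ∧ Group.IsNilpotent H) ∧
      (∃ H : Subgroup G, IsPiHallOf {q | q.Prime ∧ q ∉ beta M} H (sigmaCore M) ∧
        Group.IsNilpotent H) ∧
      ∀ p : ℕ, p.Prime → p ∣ Nat.card M → p ∉ beta M →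
        HasNormalPComplement p ↥⁅M, M⁆ ∧ HasNormalPComplement p ↥(sigmaCore M) ∧
        ∀ q : ℕ, q.Prime → q ∣ (pPrimeCore p ↥M).index → q ≤ p := by
  have hβσ : beta M ⊆ sigma M := fun p hp => alpha_subset_sigma hG hM hp.1
  have hder : ∀ (p : ℕ) [Fact p.Prime], p ∈ sigma M → ∀ P : Sylow p ↥M,
      (P : Subgroup ↥M) ≤ commutator ↥M :=
    fun p _ hp P => sylow_le_commutator_of_mem_sigma hG hM hp P
  have hcomp : BetaHyp (beta M) ↥(commutator ↥M) := by
    intro p hp hpβ L hL
    by_cases hpM : p ∣ Nat.card M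
    · exact (step1 hG hM hpl hp hpM hpβ).2.2 L hL
    · have h1 : (Nat.card (⊤ : Subgroup ↥(commutator ↥M))).Coprime p := by
        rw [Subgroup.card_top, Nat.coprime_comm, Nat.Prime.coprime_iff_not_dvd hp]
        intro hd
        exact hpM (hd.trans (Subgroup.card_subgroup_dvd_card _))
      exact le_top.trans (le_pPrimeCore inferInstance h1)
  obtain ⟨h1, hσD, ⟨H, hHD, hHβ, hHrel, hHnil⟩, ⟨Hσ, hHσle, hHσβ, hHσrel, hHσnil⟩⟩ :=
    beta_structure (beta M) (sigma M) hβσ hder hcomp
  have hcomm : (commutator ↥M).map M.subtype = ⁅M, M⁆ := Subgroup.map_subtype_commutator M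
  have hσle : sigmaCore M ≤ ⁅M, M⁆ := by
    unfold sigmaCore
    rw [← hcomm]
    exact Subgroup.map_mono hσD
  -- the Hall property of `M_β`
  have hpi := piCore_isPiNat (G := ↥M) (beta M)
  have hcard : Nat.card (piCoreOf (beta M) M) = Nat.card (piCore (beta M) ↥M) := by
    unfold piCoreOf
    exact Subgroup.card_map_of_injective M.subtype_injective
  have hle : piCoreOf (beta M) M ≤ M := by
    unfold piCoreOf
    exact Subgroup.map_subtype_le _
  have hrel : (piCoreOf (beta M) M).relIndex M = (piCore (beta M) ↥M).index := by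
    unfold piCoreOf Subgroup.relIndex Subgroup.subgroupOf
    rw [Subgroup.comap_map_eq_self_of_injective M.subtype_injective]
  have hrelnd : ∀ p : ℕ, p.Prime → p ∈ beta M → ¬ p ∣ (piCoreOf (beta M) M).relIndex M := by
    intro p hp hpβ
    rw [hrel]
    exact h1 p hp hpβ
  have hcardpi : ∀ p : ℕ, p.Prime → p ∣ Nat.card (piCoreOf (beta M) M) → p ∈ beta M := by
    intro p hp hd
    rw [hcard] at hd
    exact hpi p hp hd
  refine ⟨⟨hle, hcardpi, hrelnd⟩, ⟨hcardpi, ?_⟩, ?_, ?_, ?_⟩
  · intro p hp hpβ hd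
    have : Fact p.Prime := ⟨hp⟩
    rw [← Subgroup.relIndex_mul_index hle] at hd
    rcases (Nat.Prime.dvd_mul hp).mp hd with h | h
    · exact hrelnd p hp hpβ h
    · exact not_dvd_index_of_mem_sigma hM (hβσ hpβ) h
  · refine ⟨H.map M.subtype, ⟨?_, ?_, ?_⟩, ?_⟩
    · rw [← hcomm]
      exact Subgroup.map_mono hHD
    · intro r hr hd
      rw [Subgroup.card_map_of_injective M.subtype_injective] at hd
      exact ⟨hr, hHβ r hr hd⟩
    · rintro r hr ⟨-, hrβ⟩
      rw [← hcomm, Subgroup.relIndex_map_map_of_injective _ _ M.subtype_injective]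
      exact hHrel r hr hrβ
    · exact Group.nilpotent_of_mulEquiv
        (Subgroup.equivMapOfInjective H M.subtype M.subtype_injective)
  · refine ⟨Hσ.map M.subtype, ⟨?_, ?_, ?_⟩, ?_⟩
    · unfold sigmaCore
      exact Subgroup.map_mono hHσle
    · intro r hr hd
      rw [Subgroup.card_map_of_injective M.subtype_injective] at hd
      exact ⟨hr, hHσβ r hr hd⟩
    · rintro r hr ⟨-, hrβ⟩
      unfold sigmaCore
      rw [Subgroup.relIndex_map_map_of_injective _ _ M.subtype_injective]
      exact hHσrel r hr hrβ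
    · exact Group.nilpotent_of_mulEquiv
        (Subgroup.equivMapOfInjective Hσ M.subtype M.subtype_injective)
  · intro p hp hpM hpβ
    have : Fact p.Prime := ⟨hp⟩
    obtain ⟨ha, hb, -⟩ := step1 hG hM hpl hp hpM hpβ
    have e : ↥(commutator ↥M) ≃* ↥⁅M, M⁆ :=
      (Subgroup.equivMapOfInjective (commutator ↥M) M.subtype M.subtype_injective).trans
        (MulEquiv.subgroupCongr hcomm)
    have hc : HasNormalPComplement p ↥⁅M, M⁆ := hasNormalPComplement_of_equiv e hb
    refine ⟨hc, ?_, ha⟩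
    exact hasNormalPComplement_of_injective (Subgroup.inclusion hσle)
      (Subgroup.inclusion_injective hσle) hc

end Cfsg.Agent.Lib.Helper13.BGBetaMain
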