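import Mathlib
import Cfsg.Prelude.Def_Classical
import Cfsg.Prelude.Def_ClassicalGeometry
import Cfsg.Agent.Lib.Helper6.Symp
import Cfsg.Agent.Lib.Helper15.OddSp

/-!
# Explicit involutions of the orthogonal group of plus type in characteristic two

Models of every rank and type, with their ranks computed.
-/

set_option autoImplicit false

namespace Cfsg.Agent.Lib.Helper13

open Matrix

section
variable (F : Type*) [Field F] (m : ℕ)

local notation "MM" => Matrix (Fin m ⊕ Fin m) (Fin m ⊕ Fin m) F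
local notation "Qp" => Cfsg.quadFormPlus m F

/-- the indicator of the first `s` indices -/
def ind (s : ℕ) : Fin m → F := fun i => if i.val < s then 1 else 0

theorem ind_ne_zero_iff (s : ℕ) (i : Fin m) : ind F m s i ≠ 0 ↔ i.val < s := by
  unfold ind
  split_ifs with h
  · simp [h]
  · simp [h]

theorem card_ind [DecidableEq F] (s : ℕ) (hs : s ≤ m) :
    Fintype.card {k : Fin m ⊕ Fin m // Sum.elim (ind F m s) 0 k ≠ 0} = s := by
  rw [Fintype.card_subtype, Finset.card_filter, Fintype.sum_sum_type]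
  simp only [Sum.elim_inl, Sum.elim_inr, Pi.zero_apply, ne_eq, not_true_eq_false, if_false,
    Finset.sum_const_zero, add_zero, ind_ne_zero_iff]
  rw [← Finset.card_filter, Fin.card_filter_val_lt, min_eq_right hs]

theorem rank_of_factor (X Xi Y Yi : MM) (hX : Xi * X = 1) (hY : Yi * Y = 1) (s : ℕ)
    (hs : s ≤ m) : (X * diagonal (Sum.elim (ind F m s) 0) * Y).rank = s := by
  classical
  rw [rank_mul_eq_left_of_isUnit_det _ _ (isUnit_det_of_left_inverse hY),
    rank_mul_eq_right_of_isUnit_det _ _ (isUnit_det_of_left_inverse hX), rank_diagonal,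
    card_ind F m s hs]

/-! ### the model of non-alternating type -/

/-- swap the first `s` hyperbolic pairs -/
def swapMat (s : ℕ) : MM :=
  fromBlocks (diagonal (fun i => 1 - ind F m s i)) (diagonal (ind F m s)) (diagonal (ind F m s))
    (diagonal (fun i => 1 - ind F m s i))

theorem swapMat_mulVec_inl (s : ℕ) (v : Fin m ⊕ Fin m → F) (i : Fin m) :
    (swapMat F m s *ᵥ v) (Sum.inl i) = if i.val < s then v (Sum.inr i) else v (Sum.inl i) := by
  rw [swapMat, fromBlocks_mulVec]
  simp only [Sum.elim_inl, Pi.add_apply, mulVec_diagonal, Function.comp]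
  unfold ind
  split_ifs <;> simp

theorem swapMat_mulVec_inr (s : ℕ) (v : Fin m ⊕ Fin m → F) (i : Fin m) :
    (swapMat F m s *ᵥ v) (Sum.inr i) = if i.val < s then v (Sum.inl i) else v (Sum.inr i) := by
  rw [swapMat, fromBlocks_mulVec]
  simp only [Sum.elim_inr, Pi.add_apply, mulVec_diagonal, Function.comp]
  unfold ind
  split_ifs <;> simp

theorem swapMat_mul_self (s : ℕ) : swapMat F m s * swapMat F m s = 1 := by
  apply Cfsg.Agent.Lib.Helper6.matrix_ext_mulVec
  intro v
  rw [← mulVec_mulVec, one_mulVec]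
  funext k
  rcases k with i | i
  · rw [swapMat_mulVec_inl, swapMat_mulVec_inr, swapMat_mulVec_inl]
    split_ifs <;> rfl
  · rw [swapMat_mulVec_inr, swapMat_mulVec_inl, swapMat_mulVec_inr]
    split_ifs <;> rfl

theorem swapMat_pres (s : ℕ) (v : Fin m ⊕ Fin m → F) : Qp (swapMat F m s *ᵥ v) = Qp v := by
  unfold Cfsg.quadFormPlus
  refine Finset.sum_congr rfl fun i _ => ?_
  rw [swapMat_mulVec_inl, swapMat_mulVec_inr]
  split_ifs
  · exact mul_comm _ _
  · rfl

theorem swapMat_rank (s : ℕ) (hs : s ≤ m) : (swapMat F m s - 1).rank = s := by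
  have h0 : (diagonal (0 : Fin m → F)) = 0 := diagonal_zero
  have h1 : swapMat F m s - 1 =
      fromBlocks 1 0 (-1) 1 * diagonal (Sum.elim (ind F m s) 0) * fromBlocks (-1) 1 0 1 := by
    rw [← fromBlocks_diagonal, h0, fromBlocks_multiply, fromBlocks_multiply, swapMat,
      ← fromBlocks_one, sub_eq_add_neg, fromBlocks_neg, fromBlocks_add]
    have e : (diagonal fun i => 1 - ind F m s i) + -1 = -diagonal (ind F m s) := by
      ext i j
      by_cases hij : i = j
      · subst hij; simp; ring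
      · simp [hij]
    rw [e]
    simp
  rw [h1]
  refine rank_of_factor F m _ (fromBlocks 1 0 1 1) _ (fromBlocks (-1) 1 0 1) ?_ ?_ s hs
  · rw [fromBlocks_multiply, ← fromBlocks_one]
    simp
  · rw [fromBlocks_multiply, ← fromBlocks_one]
    simp

theorem swapMat_nonalt [CharP F 2] (s : ℕ) (hs1 : 1 ≤ s) (hs : s ≤ m) :
    ¬ ∀ v : Fin m ⊕ Fin m → F, Cfsg.sympForm m F v (swapMat F m s *ᵥ v) = 0 := by
  intro h
  let i0 : Fin m := ⟨0, by omega⟩
  have h1 := h (Pi.single (Sum.inl i0) 1)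
  rw [← Cfsg.Agent.Lib.Helper15.polar_quadFormPlus, swapMat_pres] at h1
  have hcol : swapMat F m s *ᵥ Pi.single (Sum.inl i0) 1 = Pi.single (Sum.inr i0) 1 := by
    funext k
    rcases k with i | i
    · rw [swapMat_mulVec_inl]
      by_cases hi : i.val < s
      · simp [hi]
      · have : i ≠ i0 := fun hh => hi (by rw [hh]; exact hs1)
        simp [hi, this]
    · rw [swapMat_mulVec_inr]
      by_cases hi : i.val < s
      · by_cases hii : i = i0
        · subst hii; simp [hi]
        · simp [hi, hii]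
      · have : i ≠ i0 := fun hh => hi (by rw [hh]; exact hs1)
        simp [hi, this]
  rw [hcol] at h1
  have e1 : Qp (Pi.single (Sum.inl i0) 1) = 0 := by
    unfold Cfsg.quadFormPlus; simp
  have e2 : Qp (Pi.single (Sum.inl i0) 1 + Pi.single (Sum.inr i0) 1) = 1 := by
    unfold Cfsg.quadFormPlus
    simp [Pi.single_apply, Finset.sum_ite_eq']
  rw [e1, e2, sub_zero, sub_zero] at h1
  exact one_ne_zero h1

/-! ### the model of alternating type -/

/-- the reversal of the first `2k` indices -/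
def revIdx (k : ℕ) (hk : 2 * k ≤ m) (a : Fin m) : Fin m :=
  if h : a.val < 2 * k then ⟨2 * k - 1 - a.val, by omega⟩ else a

theorem revIdx_val (k : ℕ) (hk : 2 * k ≤ m) (a : Fin m) :
    (revIdx m k hk a).val = if a.val < 2 * k then 2 * k - 1 - a.val else a.val := by
  unfold revIdx
  split_ifs <;> rfl

theorem revIdx_revIdx (k : ℕ) (hk : 2 * k ≤ m) (a : Fin m) :
    revIdx m k hk (revIdx m k hk a) = a := by
  apply Fin.ext
  rw [revIdx_val, revIdx_val]
  split_ifs <;> omega

theorem revIdx_lt_iff (k : ℕ) (hk : 2 * k ≤ m) (a : Fin m) :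
    (revIdx m k hk a).val < 2 * k ↔ a.val < 2 * k := by
  rw [revIdx_val]
  split_ifs <;> omega

theorem revIdx_ne (k : ℕ) (hk : 2 * k ≤ m) (a : Fin m) (ha : a.val < 2 * k) :
    revIdx m k hk a ≠ a := by
  intro h
  have := congrArg Fin.val h
  rw [revIdx_val, if_pos ha] at this
  omega

/-- the permutation matrix of the reversal -/
def revMat (k : ℕ) (hk : 2 * k ≤ m) : Matrix (Fin m) (Fin m) F :=
  Matrix.of fun a b => if revIdx m k hk a = b then 1 else 0

theorem revMat_mulVec (k : ℕ) (hk : 2 * k ≤ m) (y : Fin m → F) (a : Fin m) :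
    (revMat F m k hk *ᵥ y) a = y (revIdx m k hk a) := by
  simp [revMat, Matrix.mulVec, dotProduct]

theorem revMat_mul_self (k : ℕ) (hk : 2 * k ≤ m) : revMat F m k hk * revMat F m k hk = 1 := by
  apply Cfsg.Agent.Lib.Helper6.matrix_ext_mulVec
  intro v
  rw [← mulVec_mulVec, one_mulVec]
  funext a
  rw [revMat_mulVec, revMat_mulVec, revIdx_revIdx]

/-- the unipotent model `[[1, B], [0, 1]]` with `B` alternating of rank `2k` -/
def altMat (k : ℕ) (hk : 2 * k ≤ m) : MM :=
  fromBlocks 1 (diagonal (ind F m (2 * k)) * revMat F m k hk) 0 1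

theorem altMat_mulVec_inl (k : ℕ) (hk : 2 * k ≤ m) (v : Fin m ⊕ Fin m → F) (i : Fin m) :
    (altMat F m k hk *ᵥ v) (Sum.inl i) =
      v (Sum.inl i) + (if i.val < 2 * k then v (Sum.inr (revIdx m k hk i)) else 0) := by
  rw [altMat, fromBlocks_mulVec]
  simp only [Sum.elim_inl, Pi.add_apply, one_mulVec, Function.comp]
  rw [← mulVec_mulVec, mulVec_diagonal, revMat_mulVec]
  unfold ind
  split_ifs <;> simp

theorem altMat_mulVec_inr (k : ℕ) (hk : 2 * k ≤ m) (v : Fin m ⊕ Fin m → F) (i : Fin m) :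
    (altMat F m k hk *ᵥ v) (Sum.inr i) = v (Sum.inr i) := by
  rw [altMat, fromBlocks_mulVec]
  simp

theorem altMat_mul_self [CharP F 2] (k : ℕ) (hk : 2 * k ≤ m) :
    altMat F m k hk * altMat F m k hk = 1 := by
  apply Cfsg.Agent.Lib.Helper6.matrix_ext_mulVec
  intro v
  rw [← mulVec_mulVec, one_mulVec]
  funext j
  rcases j with i | i
  · rw [altMat_mulVec_inl, altMat_mulVec_inl]
    simp only [altMat_mulVec_inr]
    rw [add_assoc, CharTwo.add_self_eq_zero, add_zero]
  · rw [altMat_mulVec_inr, altMat_mulVec_inr]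

theorem rev_sum_zero [CharP F 2] (k : ℕ) (hk : 2 * k ≤ m) (y : Fin m → F) :
    ∑ i : Fin m, (if i.val < 2 * k then y (revIdx m k hk i) else 0) * y i = 0 := by
  apply Finset.sum_ninvolution (revIdx m k hk)
  · intro a
    rw [revIdx_revIdx]
    by_cases ha : a.val < 2 * k
    · rw [if_pos ha, if_pos ((revIdx_lt_iff m k hk a).mpr ha), mul_comm (y a)]
      exact CharTwo.add_self_eq_zero _
    · rw [if_neg ha, if_neg (fun h => ha ((revIdx_lt_iff m k hk a).mp h))]
      simp
  · intro a ha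
    by_cases h : a.val < 2 * k
    · exact revIdx_ne m k hk a h
    · rw [if_neg h, zero_mul] at ha
      exact absurd rfl ha
  · intro a; exact Finset.mem_univ _
  · intro a; exact revIdx_revIdx m k hk a

theorem altMat_pres [CharP F 2] (k : ℕ) (hk : 2 * k ≤ m) (v : Fin m ⊕ Fin m → F) :
    Qp (altMat F m k hk *ᵥ v) = Qp v := by
  unfold Cfsg.quadFormPlus
  have : ∀ i : Fin m, (altMat F m k hk *ᵥ v) (Sum.inl i) * (altMat F m k hk *ᵥ v) (Sum.inr i) =
      v (Sum.inl i) * v (Sum.inr i) +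
        (if i.val < 2 * k then v (Sum.inr (revIdx m k hk i)) else 0) * v (Sum.inr i) := by
    intro i
    rw [altMat_mulVec_inl, altMat_mulVec_inr, add_mul]
  rw [Finset.sum_congr rfl (fun i _ => this i), Finset.sum_add_distrib,
    rev_sum_zero F m k hk (fun i => v (Sum.inr i)), add_zero]

theorem altMat_alt [CharP F 2] (k : ℕ) (hk : 2 * k ≤ m) (v : Fin m ⊕ Fin m → F) :
    Cfsg.sympForm m F v (altMat F m k hk *ᵥ v) = 0 := by
  rw [← Cfsg.Agent.Lib.Helper15.polar_quadFormPlus, altMat_pres]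
  have h1 : Qp (v + altMat F m k hk *ᵥ v) = 0 := by
    unfold Cfsg.quadFormPlus
    apply Finset.sum_eq_zero
    intro i _
    rw [Pi.add_apply, Pi.add_apply, altMat_mulVec_inr, CharTwo.add_self_eq_zero, mul_zero]
  rw [h1, zero_sub, sub_eq_add_neg, ← neg_add, CharTwo.add_self_eq_zero, neg_zero]

theorem altMat_rank (k : ℕ) (hk : 2 * k ≤ m) : (altMat F m k hk - 1).rank = 2 * k := by
  have h0 : (diagonal (0 : Fin m → F)) = 0 := diagonal_zero
  have h1 : altMat F m k hk - 1 =
      1 * diagonal (Sum.elim (ind F m (2 * k)) 0) * fromBlocks 0 (revMat F m k hk) 1 0 := by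
    rw [← fromBlocks_diagonal, h0, Matrix.one_mul, fromBlocks_multiply, altMat, ← fromBlocks_one,
      sub_eq_add_neg, fromBlocks_neg, fromBlocks_add]
    simp
  rw [h1]
  refine rank_of_factor F m _ 1 _ (fromBlocks 0 1 (revMat F m k hk) 0) (Matrix.one_mul 1) ?_
    (2 * k) hk
  rw [fromBlocks_multiply, ← fromBlocks_one]
  simp [revMat_mul_self]

/-! ### existence statements -/

theorem exists_model_nonalt [CharP F 2] (s : ℕ) (hs1 : 1 ≤ s) (hs : s ≤ m) :
    ∃ M : MM, M * M = 1 ∧ (∀ v, Qp (M *ᵥ v) = Qp v) ∧ (M - 1).rank = s ∧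
      ¬ ∀ v : Fin m ⊕ Fin m → F, Cfsg.sympForm m F v (M *ᵥ v) = 0 :=
  ⟨swapMat F m s, swapMat_mul_self F m s, swapMat_pres F m s, swapMat_rank F m s hs,
    swapMat_nonalt F m s hs1 hs⟩

theorem exists_model_alt [CharP F 2] (k : ℕ) (hk : 2 * k ≤ m) :
    ∃ M : MM, M * M = 1 ∧ (∀ v, Qp (M *ᵥ v) = Qp v) ∧ (M - 1).rank = 2 * k ∧
      ∀ v : Fin m ⊕ Fin m → F, Cfsg.sympForm m F v (M *ᵥ v) = 0 :=
  ⟨altMat F m k hk, altMat_mul_self F m k hk, altMat_pres F m k hk, altMat_rank F m k hk,
    altMat_alt F m k hk⟩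

end

end Cfsg.Agent.Lib.Helper13
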