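import Mathlib
import Cfsg.Agent.S0750
import Cfsg.Prelude.Def_Classical

/-!
# Involutions of an orthogonal space in characteristic two

If two involutive isometries of a quadratic form (finite field of characteristic two, nondegenerate
polar form) are intertwined by an isometry of the polar form, they are intertwined by an isometry of
the quadratic form.
-/

set_option autoImplicit false

namespace Cfsg.Agent.Lib.Helper13

open Module QuadraticMap

theorem exists_quad_isometry_intertwining {F V : Type*} [Field F] [Finite F] [CharP F 2]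
    [AddCommGroup V] [Module F V] [FiniteDimensional F V]
    (Q : QuadraticForm F V) (hQ : (polarBilin Q).Nondegenerate)
    (t s : V →ₗ[F] V) (g : V ≃ₗ[F] V)
    (ht : ∀ v, Q (t v) = Q v) (hs : ∀ v, Q (s v) = Q v)
    (ht2 : ∀ v, t (t v) = v) (hs2 : ∀ v, s (s v) = v)
    (hg : ∀ u v, polar Q (g u) (g v) = polar Q u v) (hgts : ∀ v, g (t v) = s (g v)) :
    ∃ h : V ≃ₗ[F] V, (∀ v, Q (h v) = Q v) ∧ ∀ v, h (t v) = s (h v) := by
  classical
  have neg_eq : ∀ a : F, -a = a := fun a => CharTwo.neg_eq a
  have polar_of_iso : ∀ (a : V →ₗ[F] V), (∀ v, Q (a v) = Q v) →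
      ∀ u v, polar Q (a u) (a v) = polar Q u v := by
    intro a ha u v
    unfold polar
    rw [← map_add, ha, ha, ha]
  have hpt := polar_of_iso t ht
  have hps := polar_of_iso s hs
  have hQN : ∀ (a : V →ₗ[F] V), (∀ v, Q (a v) = Q v) → ∀ x, Q (a x - x) = polar Q x (a x) := by
    intro a ha x
    have h1 : Q (a x - x) = Q (a x) + Q x - polar Q (a x) x := by
      rw [sub_eq_add_neg, QuadraticMap.map_add Q, QuadraticMap.map_neg, polar_neg_right]; ring
    rw [h1, ha, polar_comm, ← two_mul, CharTwo.two_eq_zero, zero_mul, zero_sub, neg_eq]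
  let X : Submodule F V := LinearMap.range (t - LinearMap.id)
  have hφ : ∀ x : X, Q ((g.submoduleMap X x : X.map (g : V →ₗ[F] V)) : V) = Q (x : V) := by
    rintro ⟨_, ⟨y, rfl⟩⟩
    change Q (g ((t - (LinearMap.id : V →ₗ[F] V)) y)) = Q ((t - (LinearMap.id : V →ₗ[F] V)) y)
    rw [LinearMap.sub_apply, LinearMap.id_apply, map_sub, hgts, hQN s hs, hQN t ht, ← hgts, hg]
  obtain ⟨h, hh1, hh2⟩ := Cfsg.Agent.S0750.result Q hQ X (X.map (g : V →ₗ[F] V))
    (g.submoduleMap X) hφ
  have hhg : ∀ y, h (t y - y) = g (t y - y) := by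
    intro y
    exact hh2 ⟨t y - y, ⟨y, rfl⟩⟩
  have hph := polar_of_iso h.toLinearMap hh1
  refine ⟨h, hh1, ?_⟩
  intro v
  have key : h (t v - v) - (s (h v) - h v) = 0 := by
    apply hQ.2
    intro y'
    obtain ⟨w, rfl⟩ := g.surjective y'
    change polar Q (g w) (h (t v - v) - (s (h v) - h v)) = 0
    rw [polar_sub_right, sub_eq_zero, polar_sub_right]
    have e1 : polar Q (g w) (s (h v)) = polar Q (s (g w)) (h v) := by
      rw [← hps (g w), hs2]
    have e2 : polar Q (s (g w)) (h v) - polar Q (g w) (h v) = polar Q (h (t w - w)) (h v) := by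
      rw [hhg, map_sub, hgts, polar_sub_left]
    have e3 : polar Q (h (t w - w)) (h v) = polar Q (t w - w) v := hph _ _
    have e4 : polar Q (t w - w) v = polar Q w (t v - v) := by
      rw [polar_sub_left, polar_sub_right, ← hpt (t w) v, ht2]
    rw [e1, e2, e3, e4, hhg, hg]
  rw [map_sub] at key
  have : h (t v) - h v = s (h v) - h v := sub_eq_zero.mp key
  exact sub_left_injective this

open Matrix in
/-- Conjugacy of involutions of the isometry group of a quadratic form in characteristic two is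
detected by the isometry group of the polar form. -/
theorem isometryGroup_isConj_iff_polar {F : Type*} [Field F] [Finite F] [CharP F 2] {ι : Type}
    [Fintype ι] [DecidableEq ι] (Qf : (ι → F) → F) (Q : QuadraticForm F (ι → F))
    (hfun : ∀ v, Q v = Qf v) (hQ : (polarBilin Q).Nondegenerate)
    (t s : ↥(Cfsg.isometryGroup F Qf)) (ht : orderOf t = 2) (hs : orderOf s = 2) :
    IsConj t s ↔ ∃ g ∈ Cfsg.preserving (Units.coeHom (Matrix ι ι F))
      (fun u v => Qf (u + v) - Qf u - Qf v),
      g * (t : GL ι F) * g⁻¹ = (s : GL ι F) := by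
  classical
  constructor
  · intro hc
    obtain ⟨c, hc⟩ := isConj_iff.mp hc
    refine ⟨(c : GL ι F), ?_, ?_⟩
    · intro u v
      have hc2 : ∀ u v : ι → F, Qf ((Units.coeHom (Matrix ι ι F)) (c : GL ι F) *ᵥ u) = Qf u := c.2
      change Qf (_ *ᵥ u + _ *ᵥ v) - Qf (_ *ᵥ u) - Qf (_ *ᵥ v) = _
      rw [← Matrix.mulVec_add, hc2 _ u, hc2 _ u, hc2 _ u]
    · have := congrArg Subtype.val hc
      simpa using this
  · rintro ⟨g, hg, hgts⟩
    have hpres : ∀ (a : ↥(Cfsg.isometryGroup F Qf)) (v : ι → F),
        Qf (((a : GL ι F) : Matrix ι ι F) *ᵥ v) = Qf v := fun a v => a.2 v v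
    have hsq : ∀ (a : ↥(Cfsg.isometryGroup F Qf)), orderOf a = 2 →
        ∀ v : ι → F, ((a : GL ι F) : Matrix ι ι F) *ᵥ (((a : GL ι F) : Matrix ι ι F) *ᵥ v) = v := by
      intro a ha v
      have h1 : a * a = 1 := by rw [← pow_two, ← ha]; exact pow_orderOf_eq_one a
      have h2 : ((a : GL ι F) : Matrix ι ι F) * ((a : GL ι F) : Matrix ι ι F) = 1 := by
        have := congrArg (fun x : ↥(Cfsg.isometryGroup F Qf) => ((x : GL ι F) : Matrix ι ι F)) h1
        simpa using this
      rw [Matrix.mulVec_mulVec, h2, Matrix.one_mulVec]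
    let gL : (ι → F) ≃ₗ[F] (ι → F) :=
      Matrix.toLin'OfInv (M := ((g⁻¹ : GL ι F) : Matrix ι ι F)) (M' := (g : Matrix ι ι F))
        (by rw [← Units.val_mul, inv_mul_cancel, Units.val_one])
        (by rw [← Units.val_mul, mul_inv_cancel, Units.val_one])
    have hgL : ∀ v, gL v = (g : Matrix ι ι F) *ᵥ v := fun v => by
      change Matrix.toLin' (g : Matrix ι ι F) v = _
      rw [Matrix.toLin'_apply]
    have hgts' : g * (t : GL ι F) = (s : GL ι F) * g := by
      rw [← hgts]; group
    have hgtsM : (g : Matrix ι ι F) * ((t : GL ι F) : Matrix ι ι F) =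
        ((s : GL ι F) : Matrix ι ι F) * (g : Matrix ι ι F) := by
      rw [← Units.val_mul, ← Units.val_mul, hgts']
    obtain ⟨h, hh1, hh2⟩ := exists_quad_isometry_intertwining Q hQ
      (Matrix.mulVecLin ((t : GL ι F) : Matrix ι ι F))
      (Matrix.mulVecLin ((s : GL ι F) : Matrix ι ι F)) gL
      (fun v => by rw [Matrix.mulVecLin_apply, hfun, hfun, hpres])
      (fun v => by rw [Matrix.mulVecLin_apply, hfun, hfun, hpres])
      (fun v => by rw [Matrix.mulVecLin_apply, Matrix.mulVecLin_apply, hsq t ht])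
      (fun v => by rw [Matrix.mulVecLin_apply, Matrix.mulVecLin_apply, hsq s hs])
      (fun u v => by
        have := hg u v
        unfold QuadraticMap.polar
        rw [hgL, hgL, hfun, hfun, hfun, hfun, hfun, hfun]
        exact this)
      (fun v => by
        rw [hgL, hgL, Matrix.mulVecLin_apply, Matrix.mulVecLin_apply, Matrix.mulVec_mulVec,
          Matrix.mulVec_mulVec, hgtsM])
    let H : GL ι F := ⟨LinearMap.toMatrix' h.toLinearMap, LinearMap.toMatrix' h.symm.toLinearMap,
      by rw [← LinearMap.toMatrix'_comp, LinearEquiv.comp_coe, LinearEquiv.symm_trans_self,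
        LinearEquiv.refl_toLinearMap, LinearMap.toMatrix'_id],
      by rw [← LinearMap.toMatrix'_comp, LinearEquiv.comp_coe, LinearEquiv.self_trans_symm,
        LinearEquiv.refl_toLinearMap, LinearMap.toMatrix'_id]⟩
    have hH : ∀ v, (H : Matrix ι ι F) *ᵥ v = h v := fun v => by
      change LinearMap.toMatrix' h.toLinearMap *ᵥ v = h v
      rw [LinearMap.toMatrix'_mulVec]
      rfl
    have hHmem : H ∈ Cfsg.isometryGroup F Qf := by
      intro u _
      change Qf ((H : Matrix ι ι F) *ᵥ u) = Qf u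
      rw [hH, ← hfun, ← hfun, hh1]
    have hHts : H * (t : GL ι F) = (s : GL ι F) * H := by
      apply Units.ext
      rw [Units.val_mul, Units.val_mul]
      apply Matrix.toLin'.injective
      apply LinearMap.ext
      intro v
      rw [Matrix.toLin'_apply, Matrix.toLin'_apply, ← Matrix.mulVec_mulVec, ← Matrix.mulVec_mulVec,
        hH, hH]
      exact hh2 v
    refine isConj_iff.mpr ⟨⟨H, hHmem⟩, ?_⟩
    apply Subtype.ext
    change H * (t : GL ι F) * H⁻¹ = (s : GL ι F)
    rw [hHts, mul_inv_cancel_right]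

end Cfsg.Agent.Lib.Helper13
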