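import Mathlib
import Cfsg.Agent.S2166
import Cfsg.Agent.Lib.Helper13.InvolModels
import Cfsg.Agent.Lib.Helper13.QuadInvolConj
import Cfsg.Agent.Lib.Helper13.DicksonPlus
import Cfsg.Agent.Lib.Helper15.QuadF2a

/-!
# Counting classes of involutions in symplectic and orthogonal groups, characteristic two
-/

set_option autoImplicit false

namespace Cfsg.Agent.Lib.Helper13

open Matrix Module

/-- generic counting of involution classes by a complete invariant -/
theorem card_involution_classes {G : Type*} [Group G] {β : Type*} (inv : G → β)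
    (hinv : ∀ a b : G, orderOf a = 2 → orderOf b = 2 → (IsConj a b ↔ inv a = inv b))
    (S : Finset β) (hS : ∀ p, p ∈ S ↔ ∃ g : G, orderOf g = 2 ∧ inv g = p) :
    Nat.card {C : ConjClasses G // ∃ g : G, ConjClasses.mk g = C ∧ orderOf g = 2} = S.card := by
  classical
  let Φ : {C : ConjClasses G // ∃ g : G, ConjClasses.mk g = C ∧ orderOf g = 2} → S := fun C =>
    ⟨inv (Classical.choose C.2), (hS _).mpr ⟨_, (Classical.choose_spec C.2).2, rfl⟩⟩
  have hΦ : Function.Bijective Φ := by
    constructor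
    · intro C C' h
      have h1 := Classical.choose_spec C.2
      have h2 := Classical.choose_spec C'.2
      have : inv (Classical.choose C.2) = inv (Classical.choose C'.2) := congrArg Subtype.val h
      have hc := (hinv _ _ h1.2 h2.2).mpr this
      apply Subtype.ext
      rw [← h1.1, ← h2.1]
      exact ConjClasses.mk_eq_mk_iff_isConj.mpr hc
    · rintro ⟨p, hp⟩
      obtain ⟨g, hg, rfl⟩ := (hS p).mp hp
      let C0 : {C : ConjClasses G // ∃ g : G, ConjClasses.mk g = C ∧ orderOf g = 2} :=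
        ⟨ConjClasses.mk g, g, rfl, hg⟩
      refine ⟨C0, ?_⟩
      apply Subtype.ext
      have h1 := Classical.choose_spec C0.2
      exact (hinv _ _ h1.2 hg).mp (ConjClasses.mk_eq_mk_iff_isConj.mp h1.1)
  rw [Nat.card_eq_of_bijective Φ hΦ, Nat.card_eq_fintype_card, Fintype.card_coe]

/-- the index set of involution classes: (rank, alternating?) -/
def involIdx (m : ℕ) : Finset (ℕ × Bool) :=
  (Finset.range m).image (fun e => (e + 1, false)) ∪
    ((Finset.range m).filter (fun e => 2 ∣ e + 1)).image (fun e => (e + 1, true))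

theorem card_involIdx (m : ℕ) : (involIdx m).card = m + m / 2 := by
  unfold involIdx
  rw [Finset.card_union_of_disjoint, Finset.card_image_of_injective,
    Finset.card_image_of_injective, Finset.card_range, Nat.card_multiples]
  · intro a b h
    have := congrArg Prod.fst h
    simpa using this
  · intro a b h
    have := congrArg Prod.fst h
    simpa using this
  · rw [Finset.disjoint_left]
    intro p hp hp'
    obtain ⟨a, -, rfl⟩ := Finset.mem_image.mp hp
    obtain ⟨b, -, hb⟩ := Finset.mem_image.mp hp'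
    have := congrArg Prod.snd hb
    simp at this

theorem mem_involIdx (m : ℕ) (p : ℕ × Bool) :
    p ∈ involIdx m ↔ 1 ≤ p.1 ∧ p.1 ≤ m ∧ (p.2 = true → Even p.1) := by
  unfold involIdx
  rcases p with ⟨s, b⟩
  simp only [Finset.mem_union, Finset.mem_image, Finset.mem_range, Finset.mem_filter,
    Prod.mk.injEq]
  constructor
  · rintro (⟨e, he, rfl, rfl⟩ | ⟨e, ⟨he, h2⟩, rfl, rfl⟩)
    · exact ⟨by omega, by omega, fun h => by simp at h⟩
    · exact ⟨by omega, by omega, fun _ => even_iff_two_dvd.mpr h2⟩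
  · rintro ⟨h1, h2, h3⟩
    cases b
    · left
      exact ⟨s - 1, by omega, by omega, rfl⟩
    · right
      exact ⟨s - 1, ⟨by omega, by
        have := even_iff_two_dvd.mp (h3 rfl)
        rwa [Nat.sub_add_cancel h1]⟩, by omega, rfl⟩

section sp
universe u
variable {F : Type u} [Field F] [Fintype F] [CharP F 2] {m : ℕ}

local notation "MM" => Matrix (Fin m ⊕ Fin m) (Fin m ⊕ Fin m) F
local notation "VV" => (Fin m ⊕ Fin m → F)

/-- alternating type -/
def IsAltType (A : MM) : Prop := ∀ v : VV, Cfsg.sympForm m F v (A *ᵥ v) = 0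

omit [Fintype F] in
theorem invol_rank_le (A : MM) (hA2 : A * A = 1) : (A - 1).rank ≤ m := by
  have hNN : (A - 1) * (A - 1) = 0 := by
    rw [Matrix.sub_mul, Matrix.mul_sub, Matrix.mul_sub, hA2, Matrix.mul_one, Matrix.one_mul,
      Matrix.one_mul]
    have : (1 : MM) - A - (A - 1) = (1 - A) + (1 - A) := by abel
    rw [this, ← two_smul F, CharTwo.two_eq_zero, zero_smul]
  have hle : LinearMap.range (A - 1).mulVecLin ≤ LinearMap.ker (A - 1).mulVecLin := by
    rintro _ ⟨x, rfl⟩
    rw [LinearMap.mem_ker, Matrix.mulVecLin_apply, Matrix.mulVecLin_apply, Matrix.mulVec_mulVec,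
      hNN, Matrix.zero_mulVec]
  have h1 := LinearMap.finrank_range_add_finrank_ker (A - 1).mulVecLin
  have h2 := Submodule.finrank_mono hle
  have h3 : finrank F VV = 2 * m := by
    rw [Module.finrank_fintype_fun_eq_card, Fintype.card_sum, Fintype.card_fin]; ring
  change finrank F (LinearMap.range (A - 1).mulVecLin) ≤ m
  omega

omit [Fintype F] [CharP F 2] in
theorem invol_rank_pos (A : MM) (hA : A ≠ 1) : 1 ≤ (A - 1).rank := by
  by_contra h
  have h0 : (A - 1).rank = 0 := by omega
  have h1 : finrank F (LinearMap.range (A - 1).mulVecLin) = 0 := h0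
  rw [Submodule.finrank_eq_zero, LinearMap.range_eq_bot] at h1
  apply hA
  have h2 : A - 1 = 0 := by
    apply Cfsg.Agent.Lib.Helper6.matrix_ext_mulVec
    intro x
    have := LinearMap.congr_fun h1 x
    rw [Matrix.zero_mulVec]
    simpa only [Matrix.mulVecLin_apply, LinearMap.zero_apply] using this
  exact sub_eq_zero.mp h2

open Cfsg.Agent.Lib.Helper15 in
theorem invol_alt_even (A : MM) (hA2 : A * A = 1)
    (hpres : ∀ u v, Cfsg.sympForm m F (A *ᵥ u) (A *ᵥ v) = Cfsg.sympForm m F u v)
    (halt : IsAltType A) : Even (A - 1).rank := by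
  obtain ⟨hN, hBN, hty⟩ := Cfsg.Agent.S2166.invol_facts A hA2 hpres
  obtain ⟨k, hk, -⟩ := exists_normal_family_alt (stdSymp m F) stdSymp_alt stdSymp_nondeg
    (A - 1).mulVecLin hBN (fun v => by rw [hty]; exact halt v)
  refine ⟨k, ?_⟩
  have : (A - 1).rank = 2 * k := hk
  rw [this]; ring

omit [Fintype F] [CharP F 2] in
theorem invariants_of_conj (A A' C Ci : MM) (hCiC : Ci * C = 1) (hCA : C * A = A' * C)
    (hpresC : ∀ u v, Cfsg.sympForm m F (C *ᵥ u) (C *ᵥ v) = Cfsg.sympForm m F u v) :
    (A - 1).rank = (A' - 1).rank ∧ (IsAltType A ↔ IsAltType A') := by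
  have hCCi : C * Ci = 1 := mul_eq_one_comm.mp hCiC
  have hCdet : IsUnit C.det := Matrix.isUnit_det_of_left_inverse hCiC
  constructor
  · have h1 : C * (A - 1) = (A' - 1) * C := by
      rw [Matrix.mul_sub, Matrix.sub_mul, Matrix.mul_one, Matrix.one_mul, hCA]
    have h2 := Matrix.rank_mul_eq_right_of_isUnit_det C (A - 1) hCdet
    have h3 := Matrix.rank_mul_eq_left_of_isUnit_det C (A' - 1) hCdet
    rw [← h2, h1, h3]
  · constructor
    · intro h w
      obtain ⟨u, rfl⟩ : ∃ u, w = C *ᵥ u :=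
        ⟨Ci *ᵥ w, by rw [Matrix.mulVec_mulVec, hCCi, Matrix.one_mulVec]⟩
      rw [Matrix.mulVec_mulVec, ← hCA, ← Matrix.mulVec_mulVec, hpresC]
      exact h _
    · intro h v
      rw [← hpresC, Matrix.mulVec_mulVec, hCA, ← Matrix.mulVec_mulVec]
      exact h _

open Cfsg.Agent.Lib.Helper6 in
theorem sp_isConj_iff (a b : ↥(Matrix.symplecticGroup (Fin m) F)) (ha : orderOf a = 2)
    (hb : orderOf b = 2) :
    IsConj a b ↔ ((a : MM) - 1).rank = ((b : MM) - 1).rank ∧
      (IsAltType (a : MM) ↔ IsAltType (b : MM)) := by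
  have hsq : ∀ (c : ↥(Matrix.symplecticGroup (Fin m) F)), orderOf c = 2 → (c : MM) * (c : MM) = 1 := by
    intro c hc
    have h1 : c ^ 2 = 1 := by rw [← hc]; exact pow_orderOf_eq_one c
    have h2 := congrArg (fun x : ↥(Matrix.symplecticGroup (Fin m) F) => (x : MM)) h1
    simpa [pow_two] using h2
  constructor
  · intro hconj
    obtain ⟨c, hc⟩ := isConj_iff.mp hconj
    have hc' : c * a = b * c := by rw [← hc]; group
    have hCA : (c : MM) * (a : MM) = (b : MM) * (c : MM) := by
      have := congrArg (fun x : ↥(Matrix.symplecticGroup (Fin m) F) => (x : MM)) hc'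
      simpa using this
    exact invariants_of_conj _ _ (c : MM) ((c⁻¹ : ↥(Matrix.symplecticGroup (Fin m) F)) : MM)
      (congrArg Subtype.val (inv_mul_cancel c)) hCA
      ((mem_symplecticGroup_iff_preserves _).mp c.2)
  · rintro ⟨hrank, htype⟩
    obtain ⟨G, hG, hGA⟩ := Cfsg.Agent.S2166.core (a : MM) (b : MM) (hsq a ha) (hsq b hb)
      ((mem_symplecticGroup_iff_preserves _).mp a.2) ((mem_symplecticGroup_iff_preserves _).mp b.2)
      hrank htype
    rw [isConj_iff]
    refine ⟨⟨G, hG⟩, ?_⟩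
    rw [mul_inv_eq_iff_eq_mul]
    apply Subtype.ext
    simpa using hGA

open Cfsg.Agent.Lib.Helper6 in
theorem sp_card_involution_classes :
    Nat.card {C : ConjClasses ↥(Matrix.symplecticGroup (Fin m) F) //
      ∃ g : ↥(Matrix.symplecticGroup (Fin m) F), ConjClasses.mk g = C ∧ orderOf g = 2} =
      m + m / 2 := by
  classical
  have : Fact (Nat.Prime 2) := ⟨Nat.prime_two⟩
  rw [card_involution_classes
    (fun a : ↥(Matrix.symplecticGroup (Fin m) F) => (((a : MM) - 1).rank, decide (IsAltType (a : MM))))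
    ?_ (involIdx m) ?_, card_involIdx]
  · intro a b ha hb
    rw [sp_isConj_iff a b ha hb, Prod.mk.injEq, decide_eq_decide]
  · intro p
    rw [mem_involIdx]
    have hmk : ∀ (M : MM) (hM : M ∈ Matrix.symplecticGroup (Fin m) F), M * M = 1 →
        1 ≤ (M - 1).rank → orderOf (⟨M, hM⟩ : ↥(Matrix.symplecticGroup (Fin m) F)) = 2 := by
      intro M hM hMM hr
      apply orderOf_eq_prime
      · apply Subtype.ext
        rw [pow_two]
        exact hMM
      · intro h1
        have : M = 1 := congrArg Subtype.val h1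
        rw [this, sub_self, Matrix.rank_zero] at hr
        omega
    constructor
    · rintro ⟨h1, h2, h3⟩
      rcases p with ⟨s, bb⟩
      cases bb
      · obtain ⟨M, hMM, hP, hr, hna⟩ := exists_model_nonalt F m s h1 h2
        refine ⟨⟨M, pres_symp M hP⟩, hmk M _ hMM (by rw [hr]; exact h1), ?_⟩
        exact Prod.ext hr (decide_eq_false hna)
      · obtain ⟨k, hk⟩ := h3 rfl
        have hk2 : 2 * k ≤ m := by change s ≤ m at h2; omega
        obtain ⟨M, hMM, hP, hr, hal⟩ := exists_model_alt F m k hk2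
        have hs : s = 2 * k := by change s = k + k at hk; omega
        refine ⟨⟨M, pres_symp M hP⟩, hmk M _ hMM (by rw [hr]; change 1 ≤ s at h1; omega), ?_⟩
        exact Prod.ext (by rw [hs]; exact hr) (decide_eq_true hal)
    · rintro ⟨g, hg, rfl⟩
      have hgg : (g : MM) * (g : MM) = 1 := by
        have h1 : g ^ 2 = 1 := by rw [← hg]; exact pow_orderOf_eq_one g
        have h2 := congrArg (fun x : ↥(Matrix.symplecticGroup (Fin m) F) => (x : MM)) h1
        simpa [pow_two] using h2
      have hg1 : (g : MM) ≠ 1 := by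
        intro h
        have : g = 1 := Subtype.ext h
        rw [this, orderOf_one] at hg
        omega
      refine ⟨invol_rank_pos _ hg1, invol_rank_le _ hgg, fun h => ?_⟩
      exact invol_alt_even _ hgg ((mem_symplecticGroup_iff_preserves _).mp g.2)
        (of_decide_eq_true h)

/-! ### the orthogonal group of plus type -/

local notation "OO" => Subtype (fun x => x ∈ Cfsg.isometryGroup F (Cfsg.quadFormPlus m F))
local notation "Qp" => Cfsg.quadFormPlus m F

omit [Fintype F] [CharP F 2] in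
theorem oplus_pres (g : OO) (v : VV) : Qp (((g : GL (Fin m ⊕ Fin m) F) : MM) *ᵥ v) = Qp v :=
  g.2 v v

omit [Fintype F] in
theorem oplus_symp (g : OO) (u v : VV) :
    Cfsg.sympForm m F (((g : GL (Fin m ⊕ Fin m) F) : MM) *ᵥ u)
      (((g : GL (Fin m ⊕ Fin m) F) : MM) *ᵥ v) = Cfsg.sympForm m F u v :=
  (Cfsg.Agent.Lib.Helper6.mem_symplecticGroup_iff_preserves _).mp
    (pres_symp _ (oplus_pres g)) u v

omit [Fintype F] [CharP F 2] in
theorem oplus_sq (c : OO) (hc : orderOf c = 2) :
    ((c : GL (Fin m ⊕ Fin m) F) : MM) * ((c : GL (Fin m ⊕ Fin m) F) : MM) = 1 := by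
  have h1 : c * c = 1 := by rw [← pow_two, ← hc]; exact pow_orderOf_eq_one c
  have h2 := congrArg (fun x : OO => ((x : GL (Fin m ⊕ Fin m) F) : MM)) h1
  simpa using h2

open Cfsg.Agent.Lib.Helper6 Cfsg.Agent.Lib.Helper15 in
theorem oplus_isConj_iff (a b : OO) (ha : orderOf a = 2) (hb : orderOf b = 2) :
    IsConj a b ↔ (((a : GL (Fin m ⊕ Fin m) F) : MM) - 1).rank =
        (((b : GL (Fin m ⊕ Fin m) F) : MM) - 1).rank ∧
      (IsAltType ((a : GL (Fin m ⊕ Fin m) F) : MM) ↔ IsAltType ((b : GL (Fin m ⊕ Fin m) F) : MM)) := by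
  constructor
  · intro hconj
    obtain ⟨c, hc⟩ := isConj_iff.mp hconj
    have hc' : c * a = b * c := by rw [← hc]; group
    have hCA : ((c : GL (Fin m ⊕ Fin m) F) : MM) * ((a : GL (Fin m ⊕ Fin m) F) : MM) =
        ((b : GL (Fin m ⊕ Fin m) F) : MM) * ((c : GL (Fin m ⊕ Fin m) F) : MM) := by
      have := congrArg (fun x : OO => ((x : GL (Fin m ⊕ Fin m) F) : MM)) hc'
      simpa using this
    have hCiC : (((c⁻¹ : OO) : GL (Fin m ⊕ Fin m) F) : MM) * ((c : GL (Fin m ⊕ Fin m) F) : MM) = 1 := by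
      have := congrArg (fun x : OO => ((x : GL (Fin m ⊕ Fin m) F) : MM)) (inv_mul_cancel c)
      simpa using this
    exact invariants_of_conj _ _ _ _ hCiC hCA (oplus_symp c)
  · rintro ⟨hrank, htype⟩
    obtain ⟨G, hG, hGA⟩ := Cfsg.Agent.S2166.core ((a : GL (Fin m ⊕ Fin m) F) : MM)
      ((b : GL (Fin m ⊕ Fin m) F) : MM) (oplus_sq a ha) (oplus_sq b hb)
      (oplus_symp a) (oplus_symp b) hrank htype
    rw [isometryGroup_isConj_iff_polar (Cfsg.quadFormPlus m F) (QPlus F m) (QPlus_apply F m)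
      (nondegenerate_QPlus F m) a b ha hb]
    let Gs : ↥(Matrix.symplecticGroup (Fin m) F) := ⟨G, hG⟩
    have h1 : G * (Gs⁻¹ : ↥(Matrix.symplecticGroup (Fin m) F)).1 = 1 :=
      congrArg Subtype.val (mul_inv_cancel Gs)
    have h2 : (Gs⁻¹ : ↥(Matrix.symplecticGroup (Fin m) F)).1 * G = 1 :=
      congrArg Subtype.val (inv_mul_cancel Gs)
    let g : GL (Fin m ⊕ Fin m) F := ⟨G, (Gs⁻¹ : ↥(Matrix.symplecticGroup (Fin m) F)).1, h1, h2⟩
    refine ⟨g, ?_, ?_⟩
    · intro u v
      change Qp (G *ᵥ u + G *ᵥ v) - Qp (G *ᵥ u) - Qp (G *ᵥ v) = Qp (u + v) - Qp u - Qp v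
      rw [polar_quadFormPlus, polar_quadFormPlus]
      exact (mem_symplecticGroup_iff_preserves G).mp hG u v
    · rw [mul_inv_eq_iff_eq_mul]
      apply Units.ext
      exact hGA

open Cfsg.Agent.Lib.Helper6 in
theorem oplus_card_involution_classes :
    Nat.card {C : ConjClasses OO // ∃ g : OO, ConjClasses.mk g = C ∧ orderOf g = 2} =
      m + m / 2 := by
  classical
  have : Fact (Nat.Prime 2) := ⟨Nat.prime_two⟩
  rw [card_involution_classes
    (fun a : OO => ((((a : GL (Fin m ⊕ Fin m) F) : MM) - 1).rank,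
      decide (IsAltType ((a : GL (Fin m ⊕ Fin m) F) : MM))))
    ?_ (involIdx m) ?_, card_involIdx]
  · intro a b ha hb
    rw [oplus_isConj_iff a b ha hb, Prod.mk.injEq, decide_eq_decide]
  · intro p
    rw [mem_involIdx]
    have hmk : ∀ (M : MM) (hMM : M * M = 1) (hP : ∀ v, Qp (M *ᵥ v) = Qp v),
        1 ≤ (M - 1).rank → ∃ g : OO, orderOf g = 2 ∧ ((g : GL (Fin m ⊕ Fin m) F) : MM) = M := by
      intro M hMM hP hr
      refine ⟨⟨⟨M, M, hMM, hMM⟩, fun u _ => hP u⟩, ?_, rfl⟩
      apply orderOf_eq_prime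
      · apply Subtype.ext
        apply Units.ext
        rw [pow_two]
        exact hMM
      · intro h1
        have : M = 1 := congrArg (fun x : OO => ((x : GL (Fin m ⊕ Fin m) F) : MM)) h1
        rw [this, sub_self, Matrix.rank_zero] at hr
        omega
    constructor
    · rintro ⟨h1, h2, h3⟩
      rcases p with ⟨s, bb⟩
      cases bb
      · obtain ⟨M, hMM, hP, hr, hna⟩ := exists_model_nonalt F m s h1 h2
        obtain ⟨g, hg, hgM⟩ := hmk M hMM hP (by rw [hr]; exact h1)
        refine ⟨g, hg, ?_⟩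
        rw [hgM]
        exact Prod.ext hr (decide_eq_false hna)
      · obtain ⟨k, hk⟩ := h3 rfl
        have hk2 : 2 * k ≤ m := by change s ≤ m at h2; omega
        obtain ⟨M, hMM, hP, hr, hal⟩ := exists_model_alt F m k hk2
        have hs : s = 2 * k := by change s = k + k at hk; omega
        obtain ⟨g, hg, hgM⟩ := hmk M hMM hP (by rw [hr]; change 1 ≤ s at h1; omega)
        refine ⟨g, hg, ?_⟩
        rw [hgM]
        exact Prod.ext (by rw [hs]; exact hr) (decide_eq_true hal)
    · rintro ⟨g, hg, rfl⟩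
      have hgg := oplus_sq g hg
      have hg1 : ((g : GL (Fin m ⊕ Fin m) F) : MM) ≠ 1 := by
        intro h
        have : g = 1 := Subtype.ext (Units.ext h)
        rw [this, orderOf_one] at hg
        omega
      refine ⟨invol_rank_pos _ hg1, invol_rank_le _ hgg, fun h => ?_⟩
      exact invol_alt_even _ hgg (oplus_symp g) (of_decide_eq_true h)

end sp

end Cfsg.Agent.Lib.Helper13
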