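import Mathlib
import Cfsg.Agent.S0760
import Cfsg.Agent.Lib.Helper13.InvolCount
import Cfsg.Agent.Lib.Helper13.OrthCharTwoMat
import Cfsg.Agent.Lib.Helper15.QuadCount6

/-!
# Involutions of orthogonal groups in characteristic two: abstract conjugacy criterion, abstract
models, and the count of classes for the minus type form
-/

set_option autoImplicit false

namespace Cfsg.Agent.Lib.Helper13

open Module QuadraticMap

section abstract
universe u
variable {F V : Type u} [Field F] [Finite F] [CharP F 2] [AddCommGroup V] [Module F V]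
  [FiniteDimensional F V] (Q : QuadraticForm F V)

omit [Finite F] [FiniteDimensional F V] in
theorem isoGroup_sq_apply (t : isoGroup Q) (ht : t * t = 1) (x : V) : t.1 (t.1 x) = x := by
  have : (t * t).1 x = x := by rw [ht]; rfl
  exact this

omit [Finite F] [FiniteDimensional F V] in
theorem isoGroup_nilp (t : isoGroup Q) (ht : t * t = 1) (x : V) :
    (t.1.toLinearMap - LinearMap.id : V →ₗ[F] V)
      ((t.1.toLinearMap - LinearMap.id : V →ₗ[F] V) x) = 0 := by
  change t.1 (t.1 x - x) - (t.1 x - x) = 0
  rw [map_sub, isoGroup_sq_apply Q t ht]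
  have e : x - t.1 x - (t.1 x - x) = (x - t.1 x) + (x - t.1 x) := by abel
  rw [e, add_self_charTwo F]

/-- involutions of the isometry group with the same rank and type are conjugate -/
theorem isoGroup_involution_conj (hQ : (polarBilin Q).Nondegenerate) (t t' : isoGroup Q)
    (ht : t * t = 1) (ht' : t' * t' = 1)
    (hrank : finrank F (LinearMap.range (t.1.toLinearMap - LinearMap.id)) =
      finrank F (LinearMap.range (t'.1.toLinearMap - LinearMap.id)))
    (htype : (∀ x, polar Q x (t.1 x - x) = 0) ↔ (∀ x, polar Q x (t'.1 x - x) = 0)) :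
    ∃ g : isoGroup Q, g * t = t' * g := by
  classical
  obtain ⟨hadj, hiso, hQN⟩ := invol_facts Q t ht
  obtain ⟨hadj', hiso', hQN'⟩ := invol_facts Q t' ht'
  have htt := isoGroup_sq_apply Q t ht
  have htt' := isoGroup_sq_apply Q t' ht'
  have hNN := isoGroup_nilp Q t ht
  have hNN' := isoGroup_nilp Q t' ht'
  set N : V →ₗ[F] V := t.1.toLinearMap - LinearMap.id with hNdef
  set N' : V →ₗ[F] V := t'.1.toLinearMap - LinearMap.id with hN'def
  have hN : ∀ x, N x = t.1 x - x := fun x => rfl
  have hN' : ∀ x, N' x = t'.1 x - x := fun x => rfl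
  let B : V →ₗ[F] V →ₗ[F] F := polarBilin Q
  have hB : ∀ x y, B x y = polar Q x y := fun x y => rfl
  have halt : ∀ x, B x x = 0 := fun x => polar_self_charTwo Q x
  have hnd : ∀ x, (∀ y, B x y = 0) → x = 0 := fun x hx => hQ.1 x hx
  have hBN : ∀ x y, B (N x) y = B x (N y) := fun x y => hadj x y
  have hBN' : ∀ x y, B (N' x) y = B x (N' y) := fun x y => hadj' x y
  have hg : ∃ g : V ≃ₗ[F] V, (∀ x y, B (g x) (g y) = B x y) ∧ ∀ x, g (N x) = N' (g x) := by
    by_cases ha : ∀ x, polar Q x (t.1 x - x) = 0
    · have ha' := htype.mp ha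
      have hab : ∀ x, B x (N x) = 0 := ha
      have hab' : ∀ x, B x (N' x) = 0 := ha'
      obtain ⟨k, hk, u, hu, hspan⟩ := exists_normal_family_alt B halt hnd N hBN hab
      obtain ⟨k', hk', u', hu', hspan'⟩ := exists_normal_family_alt B halt hnd N' hBN' hab'
      have hkk : k' = k := by omega
      subst hkk
      exact exists_isometry_intertwining B halt hnd N N' hNN hNN' hBN hBN' u u'
        (Matrix.J (Fin k') F) (-Matrix.J (Fin k') F)
        (by rw [Matrix.mul_neg, Matrix.J_squared, neg_neg]) hu hu' hspan hspan'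
    · have ha' : ¬ ∀ x, polar Q x (t'.1 x - x) = 0 := fun h => ha (htype.mpr h)
      push Not at ha ha'
      have hna : ∃ x, B x (N x) ≠ 0 := ha
      have hna' : ∃ x, B x (N' x) ≠ 0 := ha'
      obtain ⟨u, hu, hspan⟩ := exists_normal_family_nonalt B halt hnd N hBN hna
      have key : ∀ (r : ℕ), finrank F (LinearMap.range N') = r →
          ∃ u' : Fin r → V,
            (∀ i j, B (u' i) (N' (u' j)) = (1 : Matrix (Fin r) (Fin r) F) i j) ∧
            Submodule.span F (Set.range u') ⊔ LinearMap.ker N' = ⊤ := by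
        intro r hr'
        subst hr'
        exact exists_normal_family_nonalt B halt hnd N' hBN' hna'
      obtain ⟨u', hu', hspan'⟩ := key _ hrank.symm
      exact exists_isometry_intertwining B halt hnd N N' hNN hNN' hBN hBN' u u' 1 1
        (Matrix.one_mul 1) hu hu' hspan hspan'
  obtain ⟨g, hg1, hg2⟩ := hg
  have hgt : ∀ v, g (t.1.toLinearMap v) = t'.1.toLinearMap (g v) := by
    intro v
    have h1 := hg2 v
    rw [hN, hN', map_sub] at h1
    exact sub_left_injective h1
  obtain ⟨h, hh1, hh2⟩ := exists_quad_isometry_intertwining Q hQ t.1.toLinearMap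
    t'.1.toLinearMap g (fun v => t.2 v) (fun v => t'.2 v) htt htt' (fun u v => hg1 u v) hgt
  refine ⟨⟨h, hh1⟩, ?_⟩
  apply Subtype.ext
  apply LinearEquiv.ext
  intro x
  exact hh2 x

omit [Finite F] [CharP F 2] in
/-- rank and type are invariant under conjugation -/
theorem isoGroup_invariants_of_conj (t t' g : isoGroup Q) (hg : g * t = t' * g) :
    finrank F (LinearMap.range (t.1.toLinearMap - LinearMap.id)) =
      finrank F (LinearMap.range (t'.1.toLinearMap - LinearMap.id)) ∧
    ((∀ x, polar Q x (t.1 x - x) = 0) ↔ (∀ x, polar Q x (t'.1 x - x) = 0)) := by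
  have hgx : ∀ x, g.1 (t.1 x) = t'.1 (g.1 x) := fun x => by
    have := congrArg (fun s : isoGroup Q => s.1 x) hg
    exact this
  constructor
  · have hcomp : (t'.1.toLinearMap - LinearMap.id).comp g.1.toLinearMap =
        g.1.toLinearMap.comp (t.1.toLinearMap - LinearMap.id) := by
      apply LinearMap.ext
      intro x
      change t'.1 (g.1 x) - g.1 x = g.1 (t.1 x - x)
      rw [map_sub, hgx]
    have hr : LinearMap.range (t'.1.toLinearMap - LinearMap.id) =
        (LinearMap.range (t.1.toLinearMap - LinearMap.id)).map g.1.toLinearMap := by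
      rw [← LinearMap.range_comp, ← hcomp, LinearMap.range_comp_of_range_eq_top]
      exact LinearEquiv.range g.1
    rw [hr]
    exact (LinearEquiv.finrank_map_eq g.1 _).symm
  · constructor
    · intro h y
      have hy : y = g.1 ((g⁻¹).1 y) := (isoGroup_inv_apply Q g y).symm
      rw [hy, ← hgx, ← map_sub, isoGroup_polar]
      exact h _
    · intro h x
      rw [← isoGroup_polar Q g, map_sub, hgx]
      exact h _

/-- conjugacy of involutions of the isometry group -/
theorem isoGroup_isConj_iff (hQ : (polarBilin Q).Nondegenerate) (t t' : isoGroup Q)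
    (ht : t * t = 1) (ht' : t' * t' = 1) :
    IsConj t t' ↔ (finrank F (LinearMap.range (t.1.toLinearMap - LinearMap.id)) =
      finrank F (LinearMap.range (t'.1.toLinearMap - LinearMap.id)) ∧
    ((∀ x, polar Q x (t.1 x - x) = 0) ↔ (∀ x, polar Q x (t'.1 x - x) = 0))) := by
  constructor
  · intro hconj
    obtain ⟨c, hc⟩ := isConj_iff.mp hconj
    have hc' : c * t = t' * c := by rw [← hc]; group
    exact isoGroup_invariants_of_conj Q t t' c hc'
  · rintro ⟨hrank, htype⟩
    obtain ⟨g, hg⟩ := isoGroup_involution_conj Q hQ t t' ht ht' hrank htype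
    rw [isConj_iff]
    exact ⟨g, by rw [hg, mul_inv_cancel_right]⟩

omit [Finite F] [CharP F 2] in
/-- prescribed values of the polar form against an independent family -/
theorem exists_polar_eq (hQ : (polarBilin Q).Nondegenerate) {ι : Type} [Fintype ι]
    [DecidableEq ι] (w : ι → V) (hw : LinearIndependent F w) (c : ι → F) :
    ∃ x, ∀ i, polar Q (w i) x = c i := by
  let Φ : V →ₗ[F] (ι → F) := LinearMap.pi (fun i => polarBilin Q (w i))
  have hΦ : ∀ x i, Φ x i = polar Q (w i) x := fun x i => rfl
  have hsurj : LinearMap.range Φ = ⊤ := by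
    by_contra hne
    obtain ⟨f, hf0, hf⟩ := Submodule.exists_le_ker_of_lt_top _ (lt_top_iff_ne_top.mpr hne)
    apply hf0
    have h1 : ∀ x, f (Φ x) = 0 := fun x => LinearMap.mem_ker.mp (hf ⟨x, rfl⟩)
    let d : ι → F := fun i => f (fun j => if i = j then 1 else 0)
    have h2 : ∀ v : ι → F, f v = ∑ i, v i * d i := fun v => LinearMap.pi_apply_eq_sum_univ f v
    have h3 : ∑ i, d i • w i = 0 := by
      apply hQ.1
      intro y
      have e1 : polarBilin Q (∑ i, d i • w i) y = ∑ i, d i * polar Q (w i) y := by
        rw [map_sum, LinearMap.sum_apply]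
        refine Finset.sum_congr rfl (fun i _ => ?_)
        rw [map_smul, LinearMap.smul_apply, smul_eq_mul]
        rfl
      rw [e1]
      have e2 := h1 y
      rw [h2] at e2
      rw [← e2]
      refine Finset.sum_congr rfl (fun i _ => ?_)
      rw [hΦ, mul_comm]
    have h4 := Fintype.linearIndependent_iff.mp hw d h3
    apply LinearMap.ext
    intro v
    rw [h2, LinearMap.zero_apply]
    exact Finset.sum_eq_zero (fun i _ => by rw [h4 i, mul_zero])
  have hc : c ∈ LinearMap.range Φ := by rw [hsurj]; exact Submodule.mem_top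
  obtain ⟨x, hx⟩ := hc
  exact ⟨x, fun i => by rw [← hΦ, hx]⟩

omit [Finite F] [FiniteDimensional F V] in
/-- the involution `1 + N` attached to a suitable nilpotent map -/
theorem exists_iso_of_nilp (N : V →ₗ[F] V) (hNN : ∀ x, N (N x) = 0)
    (hQN : ∀ x, Q (N x) + polar Q x (N x) = 0) :
    ∃ t : isoGroup Q, t * t = 1 ∧ ∀ x, t.1 x = x + N x := by
  have hinv : Function.Involutive (LinearMap.id + N : V →ₗ[F] V) := by
    intro x
    change x + N x + N (x + N x) = x
    rw [map_add, hNN, add_zero, add_assoc, add_self_charTwo F, add_zero]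
  let te : V ≃ₗ[F] V := LinearEquiv.ofInvolutive (LinearMap.id + N) hinv
  have hte : ∀ x, te x = x + N x := fun x => rfl
  have hmem : te ∈ isoGroup Q := by
    intro x
    rw [hte, QuadraticMap.map_add Q, add_assoc, hQN, add_zero]
  refine ⟨⟨te, hmem⟩, ?_, hte⟩
  apply Subtype.ext
  apply LinearEquiv.ext
  intro x
  change te (te x) = x
  exact hinv x

/-- the map `x ↦ Σ f(w c, x) w' c` -/
noncomputable def famMap {ι : Type} [Fintype ι] (w w' : ι → V) : V →ₗ[F] V :=
  ∑ c, (polarBilin Q (w c)).smulRight (w' c)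

omit [Finite F] [CharP F 2] [FiniteDimensional F V] in
theorem famMap_apply {ι : Type} [Fintype ι] (w w' : ι → V) (x : V) :
    famMap Q w w' x = ∑ c, polar Q (w c) x • w' c := by
  unfold famMap
  rw [LinearMap.sum_apply]
  rfl

omit [Finite F] [CharP F 2] in
theorem finrank_range_famMap (hQ : (polarBilin Q).Nondegenerate) {ι : Type} [Fintype ι]
    [DecidableEq ι] (w w' : ι → V) (hw : LinearIndependent F w) (hw' : LinearIndependent F w') :
    finrank F (LinearMap.range (famMap Q w w')) = Fintype.card ι := by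
  have hrange : LinearMap.range (famMap Q w w') = Submodule.span F (Set.range w') := by
    apply le_antisymm
    · rintro _ ⟨x, rfl⟩
      rw [famMap_apply]
      exact Submodule.sum_mem _
        (fun c _ => Submodule.smul_mem _ _ (Submodule.subset_span ⟨c, rfl⟩))
    · rw [Submodule.span_le]
      rintro _ ⟨c, rfl⟩
      obtain ⟨x, hx⟩ := exists_polar_eq Q hQ w hw (fun c' => if c' = c then 1 else 0)
      refine ⟨x, ?_⟩
      rw [famMap_apply]
      simp only [hx, ite_smul, one_smul, zero_smul, Finset.sum_ite_eq', Finset.mem_univ, if_true]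
  rw [hrange, finrank_span_eq_card hw']

omit [Finite F] [CharP F 2] [FiniteDimensional F V] in
theorem map_sum_of_orth {ι : Type} (S : Finset ι) (y : ι → V)
    (h : ∀ i j, polar Q (y i) (y j) = 0) : Q (∑ i ∈ S, y i) = ∑ i ∈ S, Q (y i) := by
  classical
  induction S using Finset.induction_on with
  | empty => simp
  | insert a S ha ih =>
    rw [Finset.sum_insert ha, Finset.sum_insert ha, QuadraticMap.map_add Q, ih]
    have hp : polar Q (y a) (∑ i ∈ S, y i) = 0 := by
      have e1 : polar Q (y a) (∑ i ∈ S, y i) = ∑ i ∈ S, polar Q (y a) (y i) :=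
        map_sum (polarBilin Q (y a)) y S
      rw [e1]
      exact Finset.sum_eq_zero (fun i _ => h a i)
    rw [hp, add_zero]

omit [Finite F] [CharP F 2] [FiniteDimensional F V] in
theorem polar_sum_right' {ι : Type} (S : Finset ι) (z : V) (y : ι → V) :
    polar Q z (∑ i ∈ S, y i) = ∑ i ∈ S, polar Q z (y i) :=
  map_sum (polarBilin Q z) y S

/-- model of a non-alternating involution -/
theorem exists_model_nonalt_abs (hQ : (polarBilin Q).Nondegenerate) {ι : Type} [Fintype ι]
    [DecidableEq ι] [Nonempty ι] (w : ι → V) (hw : LinearIndependent F w)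
    (horth : ∀ i j, polar Q (w i) (w j) = 0) (hQw : ∀ i, Q (w i) = 1) :
    ∃ t : isoGroup Q, t * t = 1 ∧
      finrank F (LinearMap.range (t.1.toLinearMap - LinearMap.id)) = Fintype.card ι ∧
      ∃ x, polar Q x (t.1 x - x) ≠ 0 := by
  set N := famMap Q w w with hNdef
  have hN : ∀ x, N x = ∑ c, polar Q (w c) x • w c := famMap_apply Q w w
  have hpN : ∀ c x, polar Q (w c) (N x) = 0 := by
    intro c x
    rw [hN, polar_sum_right']
    apply Finset.sum_eq_zero
    intro c' _
    rw [polar_smul_right, horth, smul_zero]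
  have hNN : ∀ x, N (N x) = 0 := by
    intro x
    rw [hN (N x)]
    apply Finset.sum_eq_zero
    intro c _
    rw [hpN, zero_smul]
  have h2 : ∀ x, polar Q x (N x) = ∑ c, polar Q (w c) x * polar Q (w c) x := by
    intro x
    rw [hN, polar_sum_right']
    refine Finset.sum_congr rfl (fun c _ => ?_)
    rw [polar_smul_right, smul_eq_mul, polar_comm Q x (w c)]
  have hQN : ∀ x, Q (N x) + polar Q x (N x) = 0 := by
    intro x
    have horth' : ∀ i j, polar Q (polar Q (w i) x • w i) (polar Q (w j) x • w j) = 0 := by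
      intro i j
      rw [polar_smul_left, polar_smul_right, horth, smul_zero, smul_zero]
    have h1 : Q (N x) = ∑ c, polar Q (w c) x * polar Q (w c) x := by
      rw [hN, map_sum_of_orth Q Finset.univ (fun c => polar Q (w c) x • w c) horth']
      refine Finset.sum_congr rfl (fun c _ => ?_)
      rw [QuadraticMap.map_smul, hQw, smul_eq_mul, mul_one]
    rw [h1, h2, CharTwo.add_self_eq_zero]
  obtain ⟨t, ht, htx⟩ := exists_iso_of_nilp Q N hNN hQN
  have htN : t.1.toLinearMap - LinearMap.id = N := by
    apply LinearMap.ext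
    intro x
    change t.1 x - x = N x
    rw [htx, add_sub_cancel_left]
  refine ⟨t, ht, ?_, ?_⟩
  · rw [htN]
    exact finrank_range_famMap Q hQ w w hw hw
  · obtain ⟨c0⟩ := ‹Nonempty ι›
    obtain ⟨x, hx⟩ := exists_polar_eq Q hQ w hw (fun c' => if c' = c0 then 1 else 0)
    refine ⟨x, ?_⟩
    have e1 : t.1 x - x = w c0 := by
      rw [htx, add_sub_cancel_left, hN]
      simp only [hx, ite_smul, one_smul, zero_smul, Finset.sum_ite_eq', Finset.mem_univ, if_true]
    rw [e1, polar_comm, hx, if_pos rfl]
    exact one_ne_zero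

/-- model of an alternating involution -/
theorem exists_model_alt_abs (hQ : (polarBilin Q).Nondegenerate) {ι : Type} [Fintype ι]
    [DecidableEq ι] (w : ι ⊕ ι → V) (hw : LinearIndependent F w)
    (horth : ∀ i j, polar Q (w i) (w j) = 0) (hQw : ∀ i, Q (w i) = 0) :
    ∃ t : isoGroup Q, t * t = 1 ∧
      finrank F (LinearMap.range (t.1.toLinearMap - LinearMap.id)) = 2 * Fintype.card ι ∧
      ∀ x, polar Q x (t.1 x - x) = 0 := by
  set N := famMap Q w (fun c => w c.swap) with hNdef
  have hN : ∀ x, N x = ∑ c, polar Q (w c) x • w c.swap :=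
    famMap_apply Q w (fun c => w c.swap)
  have hpN : ∀ c x, polar Q (w c) (N x) = 0 := by
    intro c x
    rw [hN, polar_sum_right']
    apply Finset.sum_eq_zero
    intro c' _
    rw [polar_smul_right, horth, smul_zero]
  have hNN : ∀ x, N (N x) = 0 := by
    intro x
    rw [hN (N x)]
    apply Finset.sum_eq_zero
    intro c _
    rw [hpN, zero_smul]
  have h2 : ∀ x, polar Q x (N x) = 0 := by
    intro x
    rw [hN, polar_sum_right']
    have e0 : ∀ c : ι ⊕ ι, polar Q x (polar Q (w c) x • w c.swap) =
        polar Q (w c) x * polar Q (w c.swap) x := by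
      intro c
      rw [polar_smul_right, smul_eq_mul, polar_comm Q x (w c.swap)]
    rw [Finset.sum_congr rfl (fun c _ => e0 c), Fintype.sum_sum_type]
    simp only [Sum.swap_inl, Sum.swap_inr]
    have e1 : ∑ i : ι, polar Q (w (Sum.inr i)) x * polar Q (w (Sum.inl i)) x =
        ∑ i : ι, polar Q (w (Sum.inl i)) x * polar Q (w (Sum.inr i)) x :=
      Finset.sum_congr rfl (fun i _ => mul_comm _ _)
    rw [e1, CharTwo.add_self_eq_zero]
  have hQN : ∀ x, Q (N x) + polar Q x (N x) = 0 := by
    intro x
    have horth' : ∀ i j : ι ⊕ ι,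
        polar Q (polar Q (w i) x • w i.swap) (polar Q (w j) x • w j.swap) = 0 := by
      intro i j
      rw [polar_smul_left, polar_smul_right, horth, smul_zero, smul_zero]
    have h1 : Q (N x) = 0 := by
      rw [hN, map_sum_of_orth Q Finset.univ (fun c => polar Q (w c) x • w c.swap) horth']
      apply Finset.sum_eq_zero
      intro c _
      rw [QuadraticMap.map_smul, hQw, smul_zero]
    rw [h1, h2, add_zero]
  obtain ⟨t, ht, htx⟩ := exists_iso_of_nilp Q N hNN hQN
  have htN : t.1.toLinearMap - LinearMap.id = N := by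
    apply LinearMap.ext
    intro x
    change t.1 x - x = N x
    rw [htx, add_sub_cancel_left]
  refine ⟨t, ht, ?_, ?_⟩
  · rw [htN]
    have hw' : LinearIndependent F (fun c : ι ⊕ ι => w c.swap) :=
      hw.comp Sum.swap (Function.Involutive.injective Sum.swap_swap)
    rw [finrank_range_famMap Q hQ w (fun c => w c.swap) hw hw', Fintype.card_sum, two_mul]
  · intro x
    rw [htx, add_sub_cancel_left]
    exact h2 x

/-- numerical constraints on an involution -/
theorem invol_rank_facts (hQ : (polarBilin Q).Nondegenerate) (t : isoGroup Q) (ht : t * t = 1) :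
    2 * finrank F (LinearMap.range (t.1.toLinearMap - LinearMap.id)) ≤ finrank F V ∧
    (t ≠ 1 → 1 ≤ finrank F (LinearMap.range (t.1.toLinearMap - LinearMap.id))) ∧
    ((∀ x, polar Q x (t.1 x - x) = 0) →
      Even (finrank F (LinearMap.range (t.1.toLinearMap - LinearMap.id))) ∧
      ∀ y ∈ LinearMap.range (t.1.toLinearMap - LinearMap.id), Q y = 0) := by
  classical
  obtain ⟨hadj, hiso, hQN⟩ := invol_facts Q t ht
  have hNN := isoGroup_nilp Q t ht
  set N : V →ₗ[F] V := t.1.toLinearMap - LinearMap.id with hNdef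
  have hN : ∀ x, N x = t.1 x - x := fun x => rfl
  refine ⟨?_, ?_, ?_⟩
  · have hle : LinearMap.range N ≤ LinearMap.ker N := by
      rintro _ ⟨x, rfl⟩
      exact LinearMap.mem_ker.mpr (hNN x)
    have h1 := LinearMap.finrank_range_add_finrank_ker N
    have h2 := Submodule.finrank_mono hle
    omega
  · intro hne
    by_contra h
    have h0 : finrank F (LinearMap.range N) = 0 := by omega
    rw [Submodule.finrank_eq_zero, LinearMap.range_eq_bot] at h0
    apply hne
    apply Subtype.ext
    apply LinearEquiv.ext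
    intro x
    change t.1 x = x
    have := LinearMap.congr_fun h0 x
    rw [hN, LinearMap.zero_apply] at this
    exact sub_eq_zero.mp this
  · intro ha
    constructor
    · let B : V →ₗ[F] V →ₗ[F] F := polarBilin Q
      have hab : ∀ x, B x (N x) = 0 := ha
      obtain ⟨k, hk, -⟩ := exists_normal_family_alt B (fun x => polar_self_charTwo Q x)
        (fun x hx => hQ.1 x hx) N (fun x y => hadj x y) hab
      exact ⟨k, by rw [hk]; ring⟩
    · rintro _ ⟨x, rfl⟩
      rw [hN, hQN]
      exact ha x

end abstract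

/-! ### the minus type form -/

theorem linearIndependent_of_coord {F : Type*} [Field F] {ι κ : Type} [Fintype ι] [DecidableEq ι]
    (c : ι → (κ → F)) (p : ι → κ) (h1 : ∀ i, c i (p i) = 1)
    (h2 : ∀ i j, i ≠ j → c i (p j) = 0) : LinearIndependent F c := by
  rw [Fintype.linearIndependent_iff]
  intro g hg j
  have := congrFun hg (p j)
  rw [Finset.sum_apply, Finset.sum_eq_single j] at this
  · simpa [h1] using this
  · intro i _ hij
    rw [Pi.smul_apply, h2 i j hij, smul_zero]
  · intro hj
    exact absurd (Finset.mem_univ j) hj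

/-- the index set of involution classes of the minus type group: (rank, alternating?) -/
def minusIdx (k : ℕ) : Finset (ℕ × Bool) :=
  (Finset.range (k + 1)).image (fun e => (e + 1, false)) ∪
    ((Finset.range k).filter (fun e => 2 ∣ e + 1)).image (fun e => (e + 1, true))

theorem card_minusIdx (k : ℕ) : (minusIdx k).card = (k + 1) + k / 2 := by
  unfold minusIdx
  rw [Finset.card_union_of_disjoint, Finset.card_image_of_injective,
    Finset.card_image_of_injective, Finset.card_range, Nat.card_multiples]
  · intro a b h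
    have := congrArg Prod.fst h
    simpa using this
  · intro a b h
    have := congrArg Prod.fst h
    simpa using this
  · rw [Finset.disjoint_left]
    intro p hp hp'
    obtain ⟨a, -, rfl⟩ := Finset.mem_image.mp hp
    obtain ⟨b, -, hb⟩ := Finset.mem_image.mp hp'
    have := congrArg Prod.snd hb
    simp at this

theorem mem_minusIdx (k : ℕ) (p : ℕ × Bool) :
    p ∈ minusIdx k ↔ 1 ≤ p.1 ∧ p.1 ≤ k + 1 ∧ (p.2 = true → Even p.1 ∧ p.1 ≤ k) := by
  unfold minusIdx
  rcases p with ⟨s, b⟩
  simp only [Finset.mem_union, Finset.mem_image, Finset.mem_range, Finset.mem_filter,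
    Prod.mk.injEq]
  constructor
  · rintro (⟨e, he, rfl, rfl⟩ | ⟨e, ⟨he, h2⟩, rfl, rfl⟩)
    · exact ⟨by omega, by omega, fun h => by simp at h⟩
    · exact ⟨by omega, by omega, fun _ => ⟨even_iff_two_dvd.mpr h2, by omega⟩⟩
  · rintro ⟨h1, h2, h3⟩
    cases b
    · left
      exact ⟨s - 1, by omega, by omega, rfl⟩
    · right
      obtain ⟨h4, h5⟩ := h3 rfl
      exact ⟨s - 1, ⟨by omega, by
        have := even_iff_two_dvd.mp h4
        rwa [Nat.sub_add_cancel h1]⟩, by omega, rfl⟩

section minus
universe u
variable {F : Type u} [Field F] [Fintype F] [CharP F 2] (k : ℕ) (a b : F)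

open Cfsg.Agent.Lib.Helper15

local notation "VV" => ((Fin k ⊕ Fin k) ⊕ Fin 2 → F)
local notation "QQ" => Qgen k (binForm a b)

/-- totally singular subspaces of the minus type space have dimension at most `k` -/
theorem minus_ts_finrank_le
    (hab : ∀ z₁ z₂ : F, z₁ ^ 2 + a * z₁ * z₂ + b * z₂ ^ 2 = 0 → z₁ = 0 ∧ z₂ = 0)
    (W : Submodule F VV) (hW : ∀ w ∈ W, QQ w = 0) : finrank F W ≤ k := by
  classical
  have hQ := nondegenerate_Qgen k (binForm a b) (nondegenerate_binForm a b hab)
  let E : Submodule F VV :=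
    { carrier := {v | (∀ i, v (Sum.inl (Sum.inr i)) = 0) ∧ ∀ j, v (Sum.inr j) = 0}
      add_mem' := fun {x y} hx hy =>
        ⟨fun i => by rw [Pi.add_apply, hx.1, hy.1, add_zero],
          fun j => by rw [Pi.add_apply, hx.2, hy.2, add_zero]⟩
      zero_mem' := ⟨fun i => rfl, fun j => rfl⟩
      smul_mem' := fun c x hx =>
        ⟨fun i => by rw [Pi.smul_apply, hx.1, smul_zero],
          fun j => by rw [Pi.smul_apply, hx.2, smul_zero]⟩ }
  have hE : ∀ v, v ∈ E ↔ (∀ i, v (Sum.inl (Sum.inr i)) = 0) ∧ ∀ j, v (Sum.inr j) = 0 :=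
    fun v => Iff.rfl
  have hEdim : finrank F E ≤ k := by
    let φ : E →ₗ[F] (Fin k → F) :=
      (LinearMap.funLeft F F
        (fun i : Fin k => (Sum.inl (Sum.inl i) : (Fin k ⊕ Fin k) ⊕ Fin 2))).comp E.subtype
    have hφ : Function.Injective φ := by
      rw [← LinearMap.ker_eq_bot, LinearMap.ker_eq_bot']
      intro v hv
      apply Subtype.ext
      funext c
      rcases c with (i | i) | j
      · exact congrFun hv i
      · exact ((hE v.1).mp v.2).1 i
      · exact ((hE v.1).mp v.2).2 j
    have := LinearMap.finrank_le_finrank_of_injective hφ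
    rwa [Module.finrank_fintype_fun_eq_card, Fintype.card_fin] at this
  have hEts : ∀ w ∈ E, QQ w = 0 := by
    intro w hw
    obtain ⟨hw1, hw2⟩ := (hE w).mp hw
    rw [Qgen_apply]
    have h1 : (fun a => w (Sum.inr a)) = 0 := funext (fun j => hw2 j)
    rw [h1, map_zero, add_zero]
    apply Finset.sum_eq_zero
    intro i _
    rw [hw1 i, mul_zero]
  have hEmax : ∀ U : Submodule F VV, E ≤ U → (∀ w ∈ U, QQ w = 0) → U = E := by
    intro U hEU hU
    apply le_antisymm _ hEU
    intro u hu
    have hy : ∀ i, u (Sum.inl (Sum.inr i)) = 0 := by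
      intro i
      have hei : (stdE k i : VV) ∈ U := by
        apply hEU
        rw [hE]
        exact ⟨fun i' => by simp [stdE], fun j => by simp [stdE]⟩
      have hpol : polar QQ (stdE k i : VV) u = 0 := by
        unfold polar
        rw [hU _ (U.add_mem hei hu), hU _ hei, hU _ hu]
        simp
      rw [polar_Qgen] at hpol
      have h4 : (fun a : Fin 2 => (stdE k i : VV) (Sum.inr a)) = 0 := by
        funext a; simp [stdE]
      rw [h4, polar_zero_left, add_zero] at hpol
      simpa [stdE, Pi.single_apply, Finset.sum_ite_eq, Finset.sum_ite_eq'] using hpol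
    rw [hE]
    refine ⟨hy, ?_⟩
    have hQu := hU u hu
    rw [Qgen_apply] at hQu
    have h0 : ∑ i : Fin k, u (Sum.inl (Sum.inl i)) * u (Sum.inl (Sum.inr i)) = 0 :=
      Finset.sum_eq_zero (fun i _ => by rw [hy i, mul_zero])
    rw [h0, zero_add] at hQu
    have hz := (binForm_eq_zero_iff a b hab _).mp hQu
    intro j
    exact congrFun hz j
  exact (Cfsg.Agent.S0760.le_of_max QQ hQ E W hEts hW hEmax).trans hEdim

/-- mutually orthogonal vectors of norm one -/
def cvec : Fin k ⊕ Unit → VV :=
  Sum.elim (fun i => stdE k i + stdF k i) (fun _ => stdT k 0)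

theorem cvec_norm (c : Fin k ⊕ Unit) : QQ (cvec k c) = 1 := by
  obtain ⟨he, hf, hef, hee, hff⟩ := std_isHypFamily (F := F) k (binForm a b)
  rcases c with i | u
  · change QQ (stdE k i + stdF k i) = 1
    rw [QuadraticMap.map_add QQ, he, hf, hef, if_pos rfl, zero_add, zero_add]
  · change QQ (stdT k 0) = 1
    rw [Qgen_apply, binForm_apply]
    simp [stdT, Pi.single_apply]

theorem cvec_orth (c c' : Fin k ⊕ Unit) : polar QQ (cvec k c) (cvec k c') = 0 := by
  obtain ⟨he, hf, hef, hee, hff⟩ := std_isHypFamily (F := F) k (binForm a b)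
  have hz : ∀ i, polar QQ (stdT k 0) (stdE k i) = 0 ∧ polar QQ (stdT k 0) (stdF k i) = 0 :=
    (mem_hypPerp QQ _ _ _).mp (stdT_mem_hypPerp k (binForm a b) 0)
  rcases c with i | u <;> rcases c' with j | u'
  · change polar QQ (stdE k i + stdF k i) (stdE k j + stdF k j) = 0
    rw [polar_add_left, polar_add_right, polar_add_right, hee, hef, hff,
      polar_comm QQ (stdF k i) (stdE k j), hef]
    by_cases hij : i = j
    · subst hij
      rw [if_pos rfl, zero_add, add_zero, CharTwo.add_self_eq_zero]
    · rw [if_neg hij, if_neg (Ne.symm hij)]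
      simp
  · change polar QQ (stdE k i + stdF k i) (stdT k 0) = 0
    rw [polar_comm, polar_add_right, (hz i).1, (hz i).2, add_zero]
  · change polar QQ (stdT k 0) (stdE k j + stdF k j) = 0
    rw [polar_add_right, (hz j).1, (hz j).2, add_zero]
  · change polar QQ (stdT k 0) (stdT k 0) = 0
    exact polar_self_charTwo QQ _

theorem cvec_linearIndependent : LinearIndependent F (cvec (F := F) k) := by
  apply linearIndependent_of_coord (cvec (F := F) k)
    (Sum.elim (fun i => Sum.inl (Sum.inl i)) (fun _ => Sum.inr 0))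
  · intro c
    rcases c with i | u
    · simp [cvec, stdE, stdF, Pi.single_apply]
    · simp [cvec, stdT, Pi.single_apply]
  · intro c c' hcc
    rcases c with i | u <;> rcases c' with j | u'
    · have hij : i ≠ j := fun h => hcc (by rw [h])
      simp [cvec, stdE, stdF, Pi.single_apply, hij, Ne.symm hij]
    · simp [cvec, stdE, stdF, Pi.single_apply]
    · simp [cvec, stdT, Pi.single_apply]
    · exact absurd rfl hcc

theorem stdE_linearIndependent :
    LinearIndependent F (fun i : Fin k => (stdE k i : VV)) := by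
  apply linearIndependent_of_coord (fun i : Fin k => (stdE k i : VV))
    (fun i => Sum.inl (Sum.inl i))
  · intro i
    simp [stdE]
  · intro i j hij
    simp [stdE, Pi.single_apply, hij, Ne.symm hij]

theorem exists_norm_one_family (s : ℕ) (hs : s ≤ k + 1) :
    ∃ w : Fin s → VV, LinearIndependent F w ∧ (∀ i j, polar QQ (w i) (w j) = 0) ∧
      ∀ i, QQ (w i) = 1 := by
  have hcard : Fintype.card (Fin s) ≤ Fintype.card (Fin k ⊕ Unit) := by
    rw [Fintype.card_sum, Fintype.card_fin, Fintype.card_fin, Fintype.card_unit]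
    exact hs
  obtain ⟨ι⟩ := Function.Embedding.nonempty_of_card_le hcard
  refine ⟨fun i => cvec k (ι i), (cvec_linearIndependent k).comp ι ι.injective, ?_, ?_⟩
  · intro i j
    exact cvec_orth k a b _ _
  · intro i
    exact cvec_norm k a b _

theorem exists_singular_family (j : ℕ) (hj : 2 * j ≤ k) :
    ∃ w : Fin j ⊕ Fin j → VV, LinearIndependent F w ∧ (∀ c c', polar QQ (w c) (w c') = 0) ∧
      ∀ c, QQ (w c) = 0 := by
  obtain ⟨he, hf, hef, hee, hff⟩ := std_isHypFamily (F := F) k (binForm a b)
  have hcard : Fintype.card (Fin j ⊕ Fin j) ≤ Fintype.card (Fin k) := by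
    rw [Fintype.card_sum, Fintype.card_fin, Fintype.card_fin]
    omega
  obtain ⟨ι⟩ := Function.Embedding.nonempty_of_card_le hcard
  refine ⟨fun c => stdE k (ι c), (stdE_linearIndependent k).comp ι ι.injective, ?_, ?_⟩
  · intro c c'
    exact hee _ _
  · intro c
    exact he _

local notation "GG" =>
  Subtype (fun x => x ∈ Cfsg.isometryGroup F (Cfsg.quadFormMinus k F a b))

/-- the number of classes of involutions in the minus type orthogonal group -/
theorem ominus_card_involution_classes
    (hab : ∀ z₁ z₂ : F, z₁ ^ 2 + a * z₁ * z₂ + b * z₂ ^ 2 = 0 → z₁ = 0 ∧ z₂ = 0) :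
    Nat.card {C : ConjClasses GG // ∃ g : GG, ConjClasses.mk g = C ∧ orderOf g = 2} =
      (k + 1) + k / 2 := by
  classical
  have : Fact (Nat.Prime 2) := ⟨Nat.prime_two⟩
  have hQ := nondegenerate_Qgen k (binForm a b) (nondegenerate_binForm a b hab)
  have hfun : ∀ v, QQ v = Cfsg.quadFormMinus k F a b v := fun v => by
    rw [Qgen_apply, binForm_apply]; rfl
  let e : GG ≃* isoGroup QQ := isoEquiv (Cfsg.quadFormMinus k F a b) QQ hfun
  have hsq : ∀ g : GG, orderOf g = 2 → e g * e g = 1 := by
    intro g hg
    have h1 : g ^ orderOf g = 1 := pow_orderOf_eq_one g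
    rw [hg, pow_two] at h1
    rw [← map_mul, h1, map_one]
  have hdim : finrank F VV = 2 * k + 2 := by
    rw [Module.finrank_fintype_fun_eq_card, Fintype.card_sum, Fintype.card_sum, Fintype.card_fin,
      Fintype.card_fin]
    ring
  rw [card_involution_classes
    (fun g : GG => (finrank F (LinearMap.range ((e g).1.toLinearMap - LinearMap.id)),
      decide (∀ x, polar QQ x ((e g).1 x - x) = 0))) ?_ (minusIdx k) ?_, card_minusIdx]
  · intro g g' hg hg'
    beta_reduce
    rw [Prod.mk.injEq, decide_eq_decide,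
      ← isoGroup_isConj_iff QQ hQ (e g) (e g') (hsq g hg) (hsq g' hg')]
    constructor
    · intro h
      exact e.toMonoidHom.map_isConj h
    · intro h
      have := e.symm.toMonoidHom.map_isConj h
      simpa using this
  · intro p
    rw [mem_minusIdx]
    have hmk : ∀ t : isoGroup QQ, t * t = 1 →
        1 ≤ finrank F (LinearMap.range (t.1.toLinearMap - LinearMap.id)) →
        ∃ g : GG, orderOf g = 2 ∧ e g = t := by
      intro t ht hr
      refine ⟨e.symm t, ?_, e.apply_symm_apply t⟩
      apply orderOf_eq_prime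
      · rw [pow_two, ← map_mul, ht, map_one]
      · intro h1
        have ht1 : t = 1 := by rw [← e.apply_symm_apply t, h1, map_one]
        rw [ht1] at hr
        have h0 : ((1 : isoGroup QQ).1.toLinearMap - LinearMap.id : VV →ₗ[F] VV) = 0 := by
          apply LinearMap.ext
          intro x
          change x - x = 0
          exact sub_self x
        rw [h0, LinearMap.range_zero, finrank_bot] at hr
        omega
    constructor
    · rintro ⟨h1, h2, h3⟩
      rcases p with ⟨s, bb⟩
      change 1 ≤ s at h1
      change s ≤ k + 1 at h2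
      cases bb
      · obtain ⟨w, hw, horth, hQw⟩ := exists_norm_one_family k a b s h2
        haveI : Nonempty (Fin s) := ⟨⟨0, by omega⟩⟩
        obtain ⟨t, ht, hr, hna⟩ := exists_model_nonalt_abs QQ hQ w hw horth hQw
        rw [Fintype.card_fin] at hr
        obtain ⟨g, hg, hgt⟩ := hmk t ht (by rw [hr]; exact h1)
        refine ⟨g, hg, ?_⟩
        beta_reduce
        rw [hgt]
        refine Prod.ext hr (decide_eq_false ?_)
        intro hall
        obtain ⟨x, hx⟩ := hna
        exact hx (hall x)
      · obtain ⟨⟨j, hj⟩, h5⟩ := h3 rfl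
        change s ≤ k at h5
        have hs : s = 2 * j := by omega
        obtain ⟨w, hw, horth, hQw⟩ := exists_singular_family k a b j (by omega)
        obtain ⟨t, ht, hr, hal⟩ := exists_model_alt_abs QQ hQ w hw horth hQw
        rw [Fintype.card_fin] at hr
        obtain ⟨g, hg, hgt⟩ := hmk t ht (by rw [hr]; omega)
        refine ⟨g, hg, ?_⟩
        beta_reduce
        rw [hgt]
        exact Prod.ext (by rw [hs]; exact hr) (decide_eq_true hal)
    · rintro ⟨g, hg, rfl⟩
      beta_reduce
      obtain ⟨f1, f2, f3⟩ := invol_rank_facts QQ hQ (e g) (hsq g hg)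
      have hne : e g ≠ 1 := by
        intro h
        have hg1 : g = 1 := by
          rw [← e.symm_apply_apply g, h, map_one]
        rw [hg1, orderOf_one] at hg
        omega
      refine ⟨f2 hne, by omega, fun h => ?_⟩
      obtain ⟨f4, f5⟩ := f3 (of_decide_eq_true h)
      exact ⟨f4, minus_ts_finrank_le k a b hab _ f5⟩

end minus

end Cfsg.Agent.Lib.Helper13
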