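import Mathlib
import Cfsg.Agent.Lib.Helper13.OrthCharTwo
import Cfsg.Agent.Lib.Helper13.DicksonGen
import Cfsg.Agent.Lib.Helper13.OrthInvolCount

/-!
# Generation of orthogonal groups in characteristic two by reflections

Descent on the rank of `σ - 1`: unless the image of `σ - 1` is totally singular (in which case `σ`
is an involution of alternating type), multiplying by a suitable reflection lowers the rank.
Consequences: generation by reflections, the commutator subgroup has index two.
-/

set_option autoImplicit false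

namespace Cfsg.Agent.Lib.Helper13

open Module QuadraticMap
open scoped commutatorElement

section
universe u
variable {F V : Type u} [Field F] [Finite F] [CharP F 2] [AddCommGroup V] [Module F V]
  [FiniteDimensional F V] (Q : QuadraticForm F V)

/-- the subgroup generated by the reflections -/
def reflGen : Subgroup (isoGroup Q) := Subgroup.closure (Set.range (reflO Q))

omit [Finite F] [FiniteDimensional F V] in
theorem reflO_mem_reflGen (a : V) : reflO Q a ∈ reflGen Q := Subgroup.subset_closure ⟨a, rfl⟩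

omit [Finite F] [FiniteDimensional F V] in
theorem conj_mem_reflGen (g x : isoGroup Q) (hx : x ∈ reflGen Q) : g * x * g⁻¹ ∈ reflGen Q := by
  have h : (reflGen Q).map (MulAut.conj g).toMonoidHom ≤ reflGen Q := by
    unfold reflGen
    rw [MonoidHom.map_closure, Subgroup.closure_le]
    rintro _ ⟨_, ⟨a, rfl⟩, rfl⟩
    apply Subgroup.subset_closure
    refine ⟨g.1 a, ?_⟩
    rw [← conj_reflO]
    rfl
  exact h ⟨x, hx, rfl⟩

omit [Finite F] [FiniteDimensional F V] in
theorem isoGroup_norm_sub (σ : isoGroup Q) (x : V) : Q (σ.1 x - x) = polar Q (σ.1 x) x := by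
  have h1 : Q (σ.1 x - x) = Q (σ.1 x) + Q x - polar Q (σ.1 x) x := by
    rw [sub_eq_add_neg, QuadraticMap.map_add Q, QuadraticMap.map_neg, polar_neg_right]; ring
  rw [h1, isoGroup_map Q σ x, CharTwo.add_self_eq_zero, zero_sub, CharTwo.neg_eq]

omit [FiniteDimensional F V] in
theorem exists_norm_one_smul (y : V) (hy : Q y ≠ 0) : ∃ c : F, c * c = (Q y)⁻¹ ∧ Q (c • y) = 1 := by
  obtain ⟨c, hc⟩ := exists_sq_of_finite_charTwo (Q y)⁻¹
  exact ⟨c, hc, by rw [QuadraticMap.map_smul, hc, smul_eq_mul, inv_mul_cancel₀ hy]⟩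

/-- the descent step -/
theorem good_step (σ : isoGroup Q) (x : V) (hx : Q (σ.1 x - x) ≠ 0) :
    ∃ a, Q a = 1 ∧
      finrank F (LinearMap.range ((reflO Q a * σ).1.toLinearMap - LinearMap.id)) <
        finrank F (LinearMap.range (σ.1.toLinearMap - LinearMap.id)) := by
  obtain ⟨c, hc, ha⟩ := exists_norm_one_smul Q (σ.1 x - x) hx
  refine ⟨c • (σ.1 x - x), ha, ?_⟩
  have hr : ∀ z, (reflO Q (c • (σ.1 x - x)) * σ).1 z =
      σ.1 z + (c * c * polar Q (σ.1 x - x) (σ.1 z)) • (σ.1 x - x) := by
    intro z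
    change (reflO Q (c • (σ.1 x - x))).1 (σ.1 z) = _
    rw [reflO_apply Q _ _ ha, polar_smul_left, smul_smul, smul_eq_mul]
    have e : c * polar Q (σ.1 x - x) (σ.1 z) * c = c * c * polar Q (σ.1 x - x) (σ.1 z) := by ring
    rw [e]
  set N : V →ₗ[F] V := σ.1.toLinearMap - LinearMap.id with hNdef
  set N' : V →ₗ[F] V := (reflO Q (c • (σ.1 x - x)) * σ).1.toLinearMap - LinearMap.id with hN'def
  have hN : ∀ z, N z = σ.1 z - z := fun z => rfl
  have hN' : ∀ z, N' z = (reflO Q (c • (σ.1 x - x)) * σ).1 z - z := fun z => rfl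
  have hker : LinearMap.ker N < LinearMap.ker N' := by
    rw [SetLike.lt_iff_le_and_exists]
    constructor
    · intro z hz
      have hz' : σ.1 z = z := sub_eq_zero.mp (LinearMap.mem_ker.mp hz)
      rw [LinearMap.mem_ker, hN', hr]
      have h0 : polar Q (σ.1 x - x) (σ.1 z) = 0 := by
        rw [polar_sub_left, isoGroup_polar, hz', sub_self]
      rw [h0, mul_zero, zero_smul, add_zero, hz', sub_self]
    · refine ⟨x, ?_, ?_⟩
      · rw [LinearMap.mem_ker, hN', hr]
        have h0 : polar Q (σ.1 x - x) (σ.1 x) = Q (σ.1 x - x) := by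
          rw [polar_sub_left, polar_self_charTwo, zero_sub, CharTwo.neg_eq, polar_comm,
            isoGroup_norm_sub]
        rw [h0, hc, inv_mul_cancel₀ hx, one_smul]
        have e : σ.1 x + (σ.1 x - x) - x = (σ.1 x - x) + (σ.1 x - x) := by abel
        rw [e, add_self_charTwo F]
      · intro hxk
        have h0 : σ.1 x - x = 0 := LinearMap.mem_ker.mp hxk
        rw [h0, QuadraticMap.map_zero] at hx
        exact hx rfl
  have h1 := LinearMap.finrank_range_add_finrank_ker N
  have h2 := LinearMap.finrank_range_add_finrank_ker N'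
  have h3 := Submodule.finrank_lt_finrank_of_lt hker
  omega

omit [Finite F] [FiniteDimensional F V] in
/-- if the image of `σ - 1` is totally singular then `σ` is an involution of alternating type -/
theorem alt_of_ts (hQ : (polarBilin Q).Nondegenerate) (σ : isoGroup Q)
    (hts : ∀ x, Q (σ.1 x - x) = 0) :
    σ * σ = 1 ∧ ∀ x, polar Q x (σ.1 x - x) = 0 := by
  have hN : ∀ x y, polar Q (σ.1 x - x) (σ.1 y - y) = 0 := by
    intro x y
    have h1 : σ.1 x - x + (σ.1 y - y) = σ.1 (x + y) - (x + y) := by rw [map_add]; abel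
    unfold polar
    rw [h1, hts, hts, hts, sub_zero, sub_zero]
  have hadj : ∀ x y, polar Q (σ.1 x - x) y = polar Q x (σ.1 y - y) := by
    intro x y
    have h1 := isoGroup_polar Q σ x y
    have h2 := hN x y
    rw [polar_sub_left, polar_sub_right, polar_sub_right] at h2
    have h3 : polar Q (σ.1 x) y = polar Q x (σ.1 y) := by
      have e : polar Q (σ.1 x) y + polar Q x (σ.1 y) = 0 := by
        have h20 : (2 : F) = 0 := CharTwo.two_eq_zero
        linear_combination (-1 : F) * h2 + h1 + polar Q x y * h20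
      rw [eq_neg_of_add_eq_zero_left e, CharTwo.neg_eq]
    rw [polar_sub_left, polar_sub_right, h3]
  have hNN : ∀ x, σ.1 (σ.1 x - x) - (σ.1 x - x) = 0 := by
    intro x
    apply hQ.1
    intro z
    change polar Q (σ.1 (σ.1 x - x) - (σ.1 x - x)) z = 0
    rw [hadj, hN]
  refine ⟨?_, ?_⟩
  · apply Subtype.ext
    apply LinearEquiv.ext
    intro x
    change σ.1 (σ.1 x) = x
    have h := hNN x
    rw [map_sub, sub_eq_zero, sub_eq_iff_eq_add] at h
    rw [h]
    have e : σ.1 x - x + σ.1 x = (σ.1 x + σ.1 x) - x := by abel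
    rw [e, add_self_charTwo F, zero_sub, neg_eq_charTwo F]
  · intro x
    rw [polar_sub_right, polar_self_charTwo, sub_zero, polar_comm, ← isoGroup_norm_sub, hts]

/-- a subgroup containing the reflections and the involutions of alternating type is everything -/
theorem eq_top_of_alt_mem (hQ : (polarBilin Q).Nondegenerate) (S : Subgroup (isoGroup Q))
    (hrefl : ∀ a, reflO Q a ∈ S)
    (halt : ∀ t : isoGroup Q, t * t = 1 → (∀ x, polar Q x (t.1 x - x) = 0) → t ∈ S) :
    S = ⊤ := by
  have key : ∀ r : ℕ, ∀ σ : isoGroup Q,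
      finrank F (LinearMap.range (σ.1.toLinearMap - LinearMap.id)) = r → σ ∈ S := by
    intro r
    induction r using Nat.strong_induction_on with
    | _ r ih =>
      intro σ hr
      by_cases hts : ∀ x, Q (σ.1 x - x) = 0
      · obtain ⟨h1, h2⟩ := alt_of_ts Q hQ σ hts
        exact halt σ h1 h2
      · push Not at hts
        obtain ⟨x, hx⟩ := hts
        obtain ⟨a, ha, hlt⟩ := good_step Q σ x hx
        have h1 := ih _ (by rw [← hr]; exact hlt) (reflO Q a * σ) rfl
        have e : σ = reflO Q a * (reflO Q a * σ) := by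
          rw [← mul_assoc, reflO_mul_self, one_mul]
        rw [e]
        exact S.mul_mem (hrefl a) h1
  rw [eq_top_iff]
  intro σ _
  exact key _ σ rfl

omit [Finite F] [FiniteDimensional F V] in
theorem siegel_mem_of (S : Subgroup (isoGroup Q))
    (hS : ∀ a b, Q a = 1 → Q b = 1 → reflO Q a * reflO Q b ∈ S) (a u v : V) (ha : Q a = 1)
    (hu : Q u = 0) (hv : Q v = 0) (huv : polar Q u v = 0) (hau : polar Q a u = 0)
    (hav : polar Q a v = 0) :
    reflO Q a * reflO Q (a + u) * reflO Q (a + v) * reflO Q (a + u + v) ∈ S := by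
  have h1 : Q (a + u) = 1 := by rw [QuadraticMap.map_add Q, ha, hu, hau, add_zero, add_zero]
  have h2 : Q (a + v) = 1 := by rw [QuadraticMap.map_add Q, ha, hv, hav, add_zero, add_zero]
  have h3 : Q (a + u + v) = 1 := by
    rw [QuadraticMap.map_add Q, h1, hv, polar_add_left, hav, huv, add_zero, add_zero, add_zero]
  rw [mul_assoc]
  exact Subgroup.mul_mem _ (hS _ _ ha h1) (hS _ _ h2 h3)

/-- an involution of alternating type lies in any subgroup containing the products of two
reflections (dimension at least five) -/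
theorem alt_mem_of_pairs (hQ : (polarBilin Q).Nondegenerate) (hdim : 5 ≤ finrank F V)
    (S : Subgroup (isoGroup Q))
    (hS : ∀ a b, Q a = 1 → Q b = 1 → reflO Q a * reflO Q b ∈ S)
    (t : isoGroup Q) (ht : t * t = 1) (ha : ∀ x, polar Q x (t.1 x - x) = 0) : t ∈ S := by
  classical
  obtain ⟨hadj, hiso, hQN⟩ := invol_facts Q t ht
  set N : V →ₗ[F] V := t.1.toLinearMap - LinearMap.id with hNdef
  have hN : ∀ x, N x = t.1 x - x := fun x => rfl
  let B : V →ₗ[F] V →ₗ[F] F := polarBilin Q
  have hB : ∀ x y, B x y = polar Q x y := fun x y => rfl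
  have halt : ∀ x, B x x = 0 := fun x => polar_self_charTwo Q x
  have hnd : ∀ x, (∀ y, B x y = 0) → x = 0 := fun x hx => hQ.1 x hx
  have hBN : ∀ x y, B (N x) y = B x (N y) := fun x y => hadj x y
  have ha' : ∀ x, B x (N x) = 0 := ha
  obtain ⟨k, hk, u, hu, hspan⟩ := exists_normal_family_alt B halt hnd N hBN ha'
  let v : Fin k ⊕ Fin k → V := fun c => N (u c)
  have hv0 : ∀ c, Q (v c) = 0 := fun c => by
    change Q (t.1 (u c) - u c) = 0
    rw [hQN]; exact ha _
  have hvv : ∀ c c', polar Q (v c) (v c') = 0 := fun c c' => hiso _ _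
  have hvN : ∀ c y, polar Q (v c) (N y) = 0 := fun c y => hiso _ _
  have hex : ∀ i : Fin k, ∃ a, Q a = 1 ∧ polar Q a (v (Sum.inl i)) = 0 ∧
      polar Q a (v (Sum.inr i)) = 0 := fun i => exists_nonsingular_orth Q hQ hdim _ _
  choose a ha1 ha2 ha3 using hex
  let g : Fin k → isoGroup Q := fun i => reflO Q (a i) * reflO Q (a i + v (Sum.inl i)) *
    reflO Q (a i + v (Sum.inr i)) * reflO Q (a i + v (Sum.inl i) + v (Sum.inr i))
  have hg_mem : ∀ i, g i ∈ S := fun i =>
    siegel_mem_of Q S hS _ _ _ (ha1 i) (hv0 _) (hv0 _) (hvv _ _) (ha2 i) (ha3 i)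
  have hg_apply : ∀ i x, (g i).1 x = x + polar Q (v (Sum.inr i)) x • v (Sum.inl i) +
      polar Q (v (Sum.inl i)) x • v (Sum.inr i) := fun i x =>
    siegel_apply Q _ _ _ (ha1 i) (hv0 _) (hv0 _) (hvv _ _) (ha2 i) (ha3 i) x
  have hpol : ∀ c' c, polar Q (v c') (u c) = Matrix.J (Fin k) F c' c := by
    intro c' c
    rw [← hB, hBN, hu]
  have J1 : ∀ i j, Matrix.J (Fin k) F (Sum.inr i) (Sum.inl j) = if i = j then 1 else 0 := by
    intro i j; simp [Matrix.J, Matrix.one_apply]
  have J2 : ∀ i j, Matrix.J (Fin k) F (Sum.inl i) (Sum.inr j) = if i = j then 1 else 0 := by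
    intro i j
    simp only [Matrix.J, Matrix.fromBlocks_apply₁₂, Matrix.neg_apply, Matrix.one_apply]
    rw [CharTwo.neg_eq]
  have J3 : ∀ i j, Matrix.J (Fin k) F (Sum.inl i) (Sum.inl j) = 0 := by
    intro i j; simp [Matrix.J]
  have J4 : ∀ i j, Matrix.J (Fin k) F (Sum.inr i) (Sum.inr j) = 0 := by
    intro i j; simp [Matrix.J]
  have ht_eq : t = (List.ofFn g).prod := by
    let S' : V →ₗ[F] V := ∑ i, ((B (v (Sum.inr i))).smulRight (v (Sum.inl i)) +
      (B (v (Sum.inl i))).smulRight (v (Sum.inr i)))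
    have hS' : ∀ x, S' x = ∑ i, (polar Q (v (Sum.inr i)) x • v (Sum.inl i) +
        polar Q (v (Sum.inl i)) x • v (Sum.inr i)) := fun x => by
      simp only [S', LinearMap.sum_apply, LinearMap.add_apply, LinearMap.smulRight_apply, hB]
    have hNS : ∀ x, N x = S' x := by
      have htop : LinearMap.eqLocus N S' = ⊤ := by
        rw [eq_top_iff, ← hspan]
        apply sup_le
        · rw [Submodule.span_le]
          rintro _ ⟨c, rfl⟩
          change N (u c) = S' (u c)
          rw [hS']
          rcases c with j | j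
          · simp only [hpol, J1, J3, zero_smul, add_zero, ite_smul, one_smul]
            rw [Finset.sum_ite_eq' Finset.univ j]
            simp [v]
          · simp only [hpol, J2, J4, zero_smul, zero_add, ite_smul, one_smul]
            rw [Finset.sum_ite_eq' Finset.univ j]
            simp [v]
        · intro y hy
          change N y = S' y
          rw [hS', LinearMap.mem_ker.mp hy]
          symm
          apply Finset.sum_eq_zero
          intro j _
          rw [← hB, ← hB, hBN, hBN, LinearMap.mem_ker.mp hy, map_zero, map_zero, zero_smul,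
            zero_smul, add_zero]
      intro x
      have : x ∈ LinearMap.eqLocus N S' := by rw [htop]; exact Submodule.mem_top
      exact this
    apply Subtype.ext
    apply LinearEquiv.ext
    intro x
    rw [Subgroup.val_list_prod, list_prod_apply (LinearMap.range N) _ ?_ ?_ x]
    · rw [List.map_map, List.map_ofFn, List.sum_ofFn]
      have : ∀ j, (((fun g : V ≃ₗ[F] V => g x - x) ∘ Subtype.val) ∘ g) j =
          polar Q (v (Sum.inr j)) x • v (Sum.inl j) +
            polar Q (v (Sum.inl j)) x • v (Sum.inr j) := by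
        intro j
        change (g j).1 x - x = _
        rw [hg_apply, add_assoc, add_sub_cancel_left]
      rw [Finset.sum_congr rfl (fun j _ => this j), ← hS', ← hNS, hN]
      abel
    · intro g' hg' y
      obtain ⟨a', ha', rfl⟩ := List.mem_map.mp hg'
      obtain ⟨j, rfl⟩ := (List.mem_ofFn' g a').mp ha'
      change (g j).1 y - y ∈ _
      rw [hg_apply, add_assoc, add_sub_cancel_left]
      exact Submodule.add_mem _ (Submodule.smul_mem _ _ ⟨u _, rfl⟩)
        (Submodule.smul_mem _ _ ⟨u _, rfl⟩)
    · rintro g' hg' _ ⟨y, rfl⟩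
      obtain ⟨a', ha', rfl⟩ := List.mem_map.mp hg'
      obtain ⟨j, rfl⟩ := (List.mem_ofFn' g a').mp ha'
      change (g j).1 (N y) = N y
      rw [hg_apply, hvN, hvN, zero_smul, zero_smul, add_zero, add_zero]
  rw [ht_eq]
  apply Subgroup.list_prod_mem
  intro y hy
  obtain ⟨i, rfl⟩ := (List.mem_ofFn' g y).mp hy
  exact hg_mem i

/-- generation by reflections, dimension at least five -/
theorem reflGen_eq_top (hQ : (polarBilin Q).Nondegenerate) (hdim : 5 ≤ finrank F V) :
    reflGen Q = ⊤ :=
  eq_top_of_alt_mem Q hQ (reflGen Q) (reflO_mem_reflGen Q)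
    (fun t ht hta => alt_mem_of_pairs Q hQ hdim (reflGen Q)
      (fun a b _ _ => (reflGen Q).mul_mem (reflO_mem_reflGen Q a) (reflO_mem_reflGen Q b))
      t ht hta)

theorem exists_norm_one (hQ : (polarBilin Q).Nondegenerate) (hpos : 0 < finrank F V) :
    ∃ a, Q a = 1 := by
  by_contra hne
  push Not at hne
  have hz : ∀ v, Q v = 0 := by
    intro v
    by_contra hv
    obtain ⟨c, -, hc⟩ := exists_norm_one_smul Q v hv
    exact hne (c • v) hc
  have hnt : Nontrivial V := Module.finrank_pos_iff.mp hpos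
  obtain ⟨v, hv⟩ := exists_ne (0 : V)
  apply hv
  apply hQ.1
  intro y
  change polar Q v y = 0
  unfold polar
  rw [hz, hz, hz, sub_zero, sub_zero]

/-- every isometry is in the commutator subgroup up to one reflection -/
theorem mem_commutator_or (hQ : (polarBilin Q).Nondegenerate)
    (halt : ∀ t : isoGroup Q, t * t = 1 → (∀ x, polar Q x (t.1 x - x) = 0) →
      t ∈ commutator (isoGroup Q))
    (a : V) (ha : Q a = 1) (g : isoGroup Q) :
    g ∈ commutator (isoGroup Q) ∨ g * reflO Q a ∈ commutator (isoGroup Q) := by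
  let π : isoGroup Q →* Abelianization (isoGroup Q) := Abelianization.of
  have hker : ∀ x, π x = 1 ↔ x ∈ commutator (isoGroup Q) := by
    intro x
    rw [← MonoidHom.mem_ker, Abelianization.ker_of]
  set ρ := π (reflO Q a) with hρdef
  have hρ2 : ρ * ρ = 1 := by rw [hρdef, ← map_mul, reflO_mul_self, map_one]
  have hρi : ρ⁻¹ = ρ := inv_eq_of_mul_eq_one_right hρ2
  have hρ : ∀ b, π (reflO Q b) = ρ ∨ π (reflO Q b) = 1 := by
    intro b
    by_cases hb : Q b = 1
    · left
      have h1 : π (reflO Q b * reflO Q a) = 1 :=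
        (hker _).mpr (reflO_mul_reflO_mem Q hQ b a hb ha)
      rw [map_mul] at h1
      rw [eq_inv_of_mul_eq_one_left h1, hρi]
    · right
      have : reflO Q b = 1 := Subtype.ext (reflEquiv_of_ne Q b hb)
      rw [this, map_one]
  let S : Subgroup (isoGroup Q) := (Subgroup.zpowers ρ).comap π
  have hS : S = ⊤ := by
    apply eq_top_of_alt_mem Q hQ S
    · intro b
      change π (reflO Q b) ∈ Subgroup.zpowers ρ
      rcases hρ b with h | h
      · rw [h]; exact Subgroup.mem_zpowers ρ
      · rw [h]; exact Subgroup.one_mem _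
    · intro t ht hta
      change π t ∈ Subgroup.zpowers ρ
      rw [(hker t).mpr (halt t ht hta)]
      exact Subgroup.one_mem _
  have hg : π g ∈ Subgroup.zpowers ρ := by
    have : g ∈ S := by rw [hS]; exact Subgroup.mem_top g
    exact this
  obtain ⟨n, hn⟩ := Subgroup.mem_zpowers_iff.mp hg
  rcases Int.even_or_odd n with ⟨j, hj⟩ | ⟨j, hj⟩
  · left
    rw [← hker, ← hn, hj, zpow_add, ← mul_zpow, hρ2, one_zpow]
  · right
    rw [← hker, map_mul, ← hn, hj, zpow_add, zpow_mul, zpow_two, hρ2, one_zpow, zpow_one,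
      one_mul]
    exact hρ2

/-- the commutator subgroup has index two -/
theorem index_commutator_eq_two (hQ : (polarBilin Q).Nondegenerate) (hpos : 0 < finrank F V)
    (halt : ∀ t : isoGroup Q, t * t = 1 → (∀ x, polar Q x (t.1 x - x) = 0) →
      t ∈ commutator (isoGroup Q)) :
    (commutator (isoGroup Q)).index = 2 := by
  obtain ⟨a, ha⟩ := exists_norm_one Q hQ hpos
  obtain ⟨φ, hφ⟩ := exists_dickson_hom Q hQ hpos
  have hr : reflO Q a ∉ commutator (isoGroup Q) := by
    intro h
    have h1 : φ (reflO Q a) = 1 := Abelianization.commutator_subset_ker φ h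
    rw [hφ a ha, ← ofAdd_zero, Multiplicative.ofAdd.injective.eq_iff] at h1
    exact one_ne_zero h1
  rw [Subgroup.index_eq_two_iff]
  refine ⟨reflO Q a, fun b => ?_⟩
  rcases mem_commutator_or Q hQ halt a ha b with h | h
  · right
    refine ⟨h, fun h' => hr ?_⟩
    have := Subgroup.mul_mem _ (Subgroup.inv_mem _ h) h'
    rwa [inv_mul_cancel_left] at this
  · left
    refine ⟨h, fun h' => hr ?_⟩
    have := Subgroup.mul_mem _ (Subgroup.inv_mem _ h') h
    rwa [inv_mul_cancel_left] at this

/-- a reflection is not in the commutator subgroup -/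
theorem reflO_not_mem_commutator (hQ : (polarBilin Q).Nondegenerate) (hpos : 0 < finrank F V)
    (a : V) (ha : Q a = 1) : reflO Q a ∉ commutator (isoGroup Q) := by
  obtain ⟨φ, hφ⟩ := exists_dickson_hom Q hQ hpos
  intro h
  have h1 : φ (reflO Q a) = 1 := Abelianization.commutator_subset_ker φ h
  rw [hφ a ha, ← ofAdd_zero, Multiplicative.ofAdd.injective.eq_iff] at h1
  exact one_ne_zero h1

/-- conjugacy in the whole group implies conjugacy under the commutator subgroup for elements
fixing a vector of norm one -/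
theorem conj_in_commutator_of_fixed (hQ : (polarBilin Q).Nondegenerate)
    (halt : ∀ t : isoGroup Q, t * t = 1 → (∀ x, polar Q x (t.1 x - x) = 0) →
      t ∈ commutator (isoGroup Q))
    (t t' g : isoGroup Q) (hg : g * t * g⁻¹ = t') (a : V) (ha : Q a = 1) (hta : t.1 a = a) :
    ∃ g' ∈ commutator (isoGroup Q), g' * t * g'⁻¹ = t' := by
  rcases mem_commutator_or Q hQ halt a ha g with h | h
  · exact ⟨g, h, hg⟩
  · refine ⟨g * reflO Q a, h, ?_⟩
    have h1 := conj_reflO Q t a
    rw [hta] at h1
    have h2 : t * reflO Q a = reflO Q a * t := mul_inv_eq_iff_eq_mul.mp h1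
    have hc : reflO Q a * t * (reflO Q a)⁻¹ = t := by rw [← h2, mul_inv_cancel_right]
    calc g * reflO Q a * t * (g * reflO Q a)⁻¹
        = g * (reflO Q a * t * (reflO Q a)⁻¹) * g⁻¹ := by group
      _ = g * t * g⁻¹ := by rw [hc]
      _ = t' := hg

/-- a fixed vector of norm one, when totally singular subspaces are small -/
theorem exists_fixed_norm_one (hQ : (polarBilin Q).Nondegenerate) (t : isoGroup Q)
    (ht : t * t = 1) (k : ℕ)
    (hk : ∀ W : Submodule F V, (∀ w ∈ W, Q w = 0) → finrank F W ≤ k)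
    (hdim : 2 * k + 2 ≤ finrank F V) : ∃ a, Q a = 1 ∧ t.1 a = a := by
  obtain ⟨f1, -, -⟩ := invol_rank_facts Q hQ t ht
  set N : V →ₗ[F] V := t.1.toLinearMap - LinearMap.id with hNdef
  have h1 := LinearMap.finrank_range_add_finrank_ker N
  have hnts : ¬ ∀ w ∈ LinearMap.ker N, Q w = 0 := by
    intro h
    have := hk _ h
    omega
  push Not at hnts
  obtain ⟨w, hw, hQw⟩ := hnts
  obtain ⟨c, -, hc⟩ := exists_norm_one_smul Q w hQw
  refine ⟨c • w, hc, ?_⟩
  have hw' : t.1 w = w := sub_eq_zero.mp (LinearMap.mem_ker.mp hw)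
  rw [map_smul, hw']

/-- non-alternating involutions: membership in the commutator subgroup -/
theorem nonalt_mem_commutator_iff (hQ : (polarBilin Q).Nondegenerate) (hpos : 0 < finrank F V)
    (t : isoGroup Q) (ht : t * t = 1) (hna : ∃ x, polar Q x (t.1 x - x) ≠ 0) :
    t ∈ commutator (isoGroup Q) ↔
      Even (finrank F (LinearMap.range (t.1.toLinearMap - LinearMap.id))) := by
  obtain ⟨φ, hφ⟩ := exists_dickson_hom Q hQ hpos
  obtain ⟨L, hlen, hL1, hL⟩ := nonalt_decomp Q hQ t ht hna
  rw [← hlen]
  constructor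
  · intro hmem
    have h1 : φ t = 1 := Abelianization.commutator_subset_ker φ hmem
    rw [hL, map_list_prod, List.map_map,
      List.prod_eq_pow_card _ (Multiplicative.ofAdd (1 : F)) ?_, List.length_map] at h1
    · rw [← ofAdd_nsmul, ← ofAdd_zero, Multiplicative.ofAdd.injective.eq_iff, nsmul_eq_mul,
        mul_one] at h1
      exact even_iff_two_dvd.mpr ((CharP.cast_eq_zero_iff F 2 L.length).mp h1)
    · intro y hy
      obtain ⟨a, ha, rfl⟩ := List.mem_map.mp hy
      exact hφ a (hL1 a ha)
  · rintro ⟨n, hn⟩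
    rw [hL]
    exact reflO_list_prod_mem Q hQ n L (by omega) hL1

end

end Cfsg.Agent.Lib.Helper13
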