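import Mathlib
import Cfsg.Agent.Lib.Helper13.OrthGen
import Cfsg.Prelude.Def_SporadicB

/-!
# Applications of the generation theorem: the minus type groups in characteristic two, and the
3-transposition classes of the orthogonal groups over the field of two elements
-/

set_option autoImplicit false

namespace Cfsg.Agent.Lib.Helper13

open Module QuadraticMap
open scoped commutatorElement

section abstract
universe u
variable {F V : Type u} [Field F] [Finite F] [CharP F 2] [AddCommGroup V] [Module F V]
  [FiniteDimensional F V] (Q : QuadraticForm F V)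

omit [Finite F] [CharP F 2] in
theorem isoGroup_eq_one_of_finrank_zero (σ : isoGroup Q)
    (h : finrank F (LinearMap.range (σ.1.toLinearMap - LinearMap.id)) = 0) : σ = 1 := by
  rw [Submodule.finrank_eq_zero, LinearMap.range_eq_bot] at h
  apply Subtype.ext
  apply LinearEquiv.ext
  intro x
  change σ.1 x = x
  have := LinearMap.congr_fun h x
  change σ.1 x - x = 0 at this
  exact sub_eq_zero.mp this

omit [Finite F] [CharP F 2] [FiniteDimensional F V] in
theorem isoGroup_one_finrank :
    finrank F (LinearMap.range ((1 : isoGroup Q).1.toLinearMap - LinearMap.id)) = 0 := by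
  have h0 : ((1 : isoGroup Q).1.toLinearMap - LinearMap.id : V →ₗ[F] V) = 0 := by
    apply LinearMap.ext
    intro x
    change x - x = 0
    exact sub_self x
  rw [h0, LinearMap.range_zero, finrank_bot]

/-- an isometry with `σ - 1` of rank one is a reflection -/
theorem exists_reflO_of_rank_one (hQ : (polarBilin Q).Nondegenerate) (σ : isoGroup Q)
    (h : finrank F (LinearMap.range (σ.1.toLinearMap - LinearMap.id)) = 1) :
    ∃ a, Q a = 1 ∧ σ = reflO Q a := by
  by_cases hts : ∀ x, Q (σ.1 x - x) = 0
  · exfalso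
    obtain ⟨h1, h2⟩ := alt_of_ts Q hQ σ hts
    obtain ⟨-, -, f3⟩ := invol_rank_facts Q hQ σ h1
    obtain ⟨⟨j, hj⟩, -⟩ := f3 h2
    omega
  · push Not at hts
    obtain ⟨x, hx⟩ := hts
    obtain ⟨a, ha, hlt⟩ := good_step Q σ x hx
    refine ⟨a, ha, ?_⟩
    have h0 := isoGroup_eq_one_of_finrank_zero Q (reflO Q a * σ) (by omega)
    have e : σ = reflO Q a * (reflO Q a * σ) := by
      rw [← mul_assoc, reflO_mul_self, one_mul]
    rw [e, h0, mul_one]

omit [Finite F] in
/-- a reflection has `σ - 1` of rank one -/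
theorem reflO_finrank (hQ : (polarBilin Q).Nondegenerate) (a : V) (ha : Q a = 1) :
    finrank F (LinearMap.range ((reflO Q a).1.toLinearMap - LinearMap.id)) = 1 := by
  have ha0 : a ≠ 0 := by
    rintro rfl
    rw [QuadraticMap.map_zero] at ha
    exact zero_ne_one ha
  have hN : ∀ x, ((reflO Q a).1.toLinearMap - LinearMap.id : V →ₗ[F] V) x = polar Q a x • a := by
    intro x
    change (reflO Q a).1 x - x = _
    rw [reflO_apply Q a x ha, add_sub_cancel_left]
  have hr : LinearMap.range ((reflO Q a).1.toLinearMap - LinearMap.id : V →ₗ[F] V) =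
      Submodule.span F {a} := by
    apply le_antisymm
    · rintro _ ⟨x, rfl⟩
      rw [hN]
      exact Submodule.smul_mem _ _ (Submodule.mem_span_singleton_self a)
    · rw [Submodule.span_singleton_le_iff_mem]
      have hex : ∃ x, polar Q a x ≠ 0 := by
        by_contra hne
        push Not at hne
        exact ha0 (hQ.1 a hne)
      obtain ⟨x, hx⟩ := hex
      refine ⟨(polar Q a x)⁻¹ • x, ?_⟩
      rw [hN, polar_smul_right, smul_eq_mul, inv_mul_cancel₀ hx, one_smul]
  rw [hr, finrank_span_singleton ha0]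

omit [Finite F] [FiniteDimensional F V] in
theorem reflO_ne_one (hQ : (polarBilin Q).Nondegenerate) (a : V) (ha : Q a = 1) :
    reflO Q a ≠ 1 := by
  have ha0 : a ≠ 0 := by
    rintro rfl
    rw [QuadraticMap.map_zero] at ha
    exact zero_ne_one ha
  intro h
  have hex : ∃ x, polar Q a x ≠ 0 := by
    by_contra hne
    push Not at hne
    exact ha0 (hQ.1 a hne)
  obtain ⟨x, hx⟩ := hex
  have h1 : (reflO Q a).1 x = x := by rw [h]; rfl
  rw [reflO_apply Q a x ha] at h1
  have h2 : polar Q a x • a = 0 := by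
    have := congrArg (fun y => y - x) h1
    simpa using this
  rcases smul_eq_zero.mp h2 with h3 | h3
  · exact hx h3
  · exact ha0 h3

omit [Finite F] [FiniteDimensional F V] in
/-- products of two reflections over the field of two elements -/
theorem reflO_mul_pow (hF : ∀ x : F, x = 0 ∨ x = 1) (a b : V) (ha : Q a = 1) (hb : Q b = 1) :
    (reflO Q a * reflO Q b) ^ 2 = 1 ∨ (reflO Q a * reflO Q b) ^ 3 = 1 := by
  rcases hF (polar Q a b) with h | h
  · left
    have h1 : (reflO Q a).1 b = b := by rw [reflO_apply Q a b ha, h, zero_smul, add_zero]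
    have h2 := conj_reflO Q (reflO Q a) b
    rw [h1] at h2
    have h3 : reflO Q a * reflO Q b = reflO Q b * reflO Q a := mul_inv_eq_iff_eq_mul.mp h2
    rw [pow_two]
    calc reflO Q a * reflO Q b * (reflO Q a * reflO Q b)
        = reflO Q a * reflO Q b * (reflO Q b * reflO Q a) := by rw [h3]
      _ = reflO Q a * (reflO Q b * reflO Q b) * reflO Q a := by group
      _ = 1 := by rw [reflO_mul_self, mul_one, reflO_mul_self]
  · right
    have h1 : (reflO Q a).1 b = b + a := by rw [reflO_apply Q a b ha, h, one_smul]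
    have h1' : (reflO Q b).1 a = b + a := by
      rw [reflO_apply Q b a hb, polar_comm, h, one_smul, add_comm]
    have h2 := conj_reflO Q (reflO Q a) b
    rw [h1, reflO_inv] at h2
    have h2' := conj_reflO Q (reflO Q b) a
    rw [h1', reflO_inv] at h2'
    calc (reflO Q a * reflO Q b) ^ 3
        = (reflO Q a * reflO Q b * reflO Q a) * (reflO Q b * reflO Q a * reflO Q b) := by
          rw [pow_succ, pow_two]; group
      _ = 1 := by rw [h2, h2', reflO_mul_self]

end abstract

/-! ### the class of orthogonal transvections as a class of 3-transpositions -/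

section three
universe u
variable {F : Type u} [Field F] [Finite F] [CharP F 2] {ι : Type} [Fintype ι] [DecidableEq ι]

open Matrix in
theorem isThreeTranspositionClass_rank_one (Qf : (ι → F) → F) (Q : QuadraticForm F (ι → F))
    (hfun : ∀ v, Q v = Qf v) (hQ : (polarBilin Q).Nondegenerate) (hdim : 5 ≤ Fintype.card ι)
    (hF : ∀ x : F, x = 0 ∨ x = 1) :
    Cfsg.IsThreeTranspositionClass {g : ↥(Cfsg.isometryGroup F Qf) |
      (((g : GL ι F) : Matrix ι ι F) - 1).rank = 1} := by
  classical
  have : Fact (Nat.Prime 2) := ⟨Nat.prime_two⟩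
  let e := isoEquiv Qf Q hfun
  have hdim' : 5 ≤ finrank F (ι → F) := by rw [Module.finrank_fintype_fun_eq_card]; exact hdim
  have hD : ∀ g : ↥(Cfsg.isometryGroup F Qf),
      (((g : GL ι F) : Matrix ι ι F) - 1).rank = 1 ↔ ∃ a, Q a = 1 ∧ e g = reflO Q a := by
    intro g
    rw [rank_sub_one_eq Qf Q hfun]
    constructor
    · intro h
      exact exists_reflO_of_rank_one Q hQ (e g) h
    · rintro ⟨a, ha, hg⟩
      change finrank F (LinearMap.range ((e g).1.toLinearMap - LinearMap.id)) = 1
      rw [hg]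
      exact reflO_finrank Q hQ a ha
  obtain ⟨a₀, ha₀⟩ := exists_norm_one Q hQ (by omega)
  refine ⟨⟨?_, ?_⟩, ⟨e.symm (reflO Q a₀), ?_, ?_⟩, ?_⟩
  · intro d hd
    obtain ⟨a, ha, hda⟩ := (hD d).mp hd
    rw [← MulEquiv.orderOf_eq e d, hda]
    apply orderOf_eq_prime
    · rw [pow_two, reflO_mul_self]
    · exact reflO_ne_one Q hQ a ha
  · intro d hd d' hd'
    obtain ⟨a, ha, hda⟩ := (hD d).mp hd
    obtain ⟨a', ha', hda'⟩ := (hD d').mp hd'
    rcases reflO_mul_pow Q hF a a' ha ha' with h | h
    · left
      apply e.injective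
      rw [map_pow, map_mul, hda, hda', h, map_one]
    · right
      apply e.injective
      rw [map_pow, map_mul, hda, hda', h, map_one]
  · exact (hD _).mpr ⟨a₀, ha₀, e.apply_symm_apply _⟩
  · ext g
    change _ ↔ IsConj (e.symm (reflO Q a₀)) g
    rw [Set.mem_setOf_eq, hD, isConj_iff]
    constructor
    · rintro ⟨a, ha, hg⟩
      obtain ⟨c, hc⟩ := exists_iso_map Q hQ a₀ a ha₀ ha
      refine ⟨e.symm c, ?_⟩
      apply e.injective
      rw [map_mul, map_mul, map_inv, e.apply_symm_apply, e.apply_symm_apply, hg, conj_reflO, hc]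
    · rintro ⟨c, hc⟩
      refine ⟨(e c).1 a₀, by rw [isoGroup_map]; exact ha₀, ?_⟩
      rw [← hc, map_mul, map_mul, map_inv, e.apply_symm_apply, conj_reflO]
  · rw [eq_top_iff]
    intro g _
    have h1 : reflGen Q ≤ (Subgroup.closure {g : ↥(Cfsg.isometryGroup F Qf) |
        (((g : GL ι F) : Matrix ι ι F) - 1).rank = 1}).comap e.symm.toMonoidHom := by
      unfold reflGen
      rw [Subgroup.closure_le]
      rintro _ ⟨a, rfl⟩
      change e.symm (reflO Q a) ∈ Subgroup.closure _
      by_cases ha : Q a = 1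
      · apply Subgroup.subset_closure
        exact (hD _).mpr ⟨a, ha, e.apply_symm_apply _⟩
      · have : reflO Q a = 1 := Subtype.ext (reflEquiv_of_ne Q a ha)
        rw [this, map_one]
        exact Subgroup.one_mem _
    have h2 : e g ∈ reflGen Q := by rw [reflGen_eq_top Q hQ hdim']; exact Subgroup.mem_top _
    have h3 : e.symm (e g) ∈ Subgroup.closure {g : ↥(Cfsg.isometryGroup F Qf) |
        (((g : GL ι F) : Matrix ι ι F) - 1).rank = 1} := h1 h2
    rwa [e.symm_apply_apply] at h3

end three

/-! ### the minus type form -/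

/-- the index set of involution classes of the commutator subgroup of the minus type group -/
def minusEvenIdx (k : ℕ) : Finset (ℕ × Bool) :=
  ((Finset.range (k + 1)).filter (fun e => 2 ∣ e + 1)).image (fun e => (e + 1, false)) ∪
    ((Finset.range k).filter (fun e => 2 ∣ e + 1)).image (fun e => (e + 1, true))

theorem card_minusEvenIdx (k : ℕ) : (minusEvenIdx k).card = (k + 1) / 2 + k / 2 := by
  unfold minusEvenIdx
  rw [Finset.card_union_of_disjoint, Finset.card_image_of_injective,
    Finset.card_image_of_injective, Nat.card_multiples, Nat.card_multiples]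
  · intro a b h
    have := congrArg Prod.fst h
    simpa using this
  · intro a b h
    have := congrArg Prod.fst h
    simpa using this
  · rw [Finset.disjoint_left]
    intro p hp hp'
    obtain ⟨a, -, rfl⟩ := Finset.mem_image.mp hp
    obtain ⟨b, -, hb⟩ := Finset.mem_image.mp hp'
    have := congrArg Prod.snd hb
    simp at this

theorem mem_minusEvenIdx (k : ℕ) (p : ℕ × Bool) :
    p ∈ minusEvenIdx k ↔ 1 ≤ p.1 ∧ p.1 ≤ k + 1 ∧ Even p.1 ∧ (p.2 = true → p.1 ≤ k) := by
  unfold minusEvenIdx
  rcases p with ⟨s, b⟩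
  simp only [Finset.mem_union, Finset.mem_image, Finset.mem_range, Finset.mem_filter,
    Prod.mk.injEq]
  constructor
  · rintro (⟨e, ⟨he, h2⟩, rfl, rfl⟩ | ⟨e, ⟨he, h2⟩, rfl, rfl⟩)
    · exact ⟨by omega, by omega, even_iff_two_dvd.mpr h2, fun h => by simp at h⟩
    · exact ⟨by omega, by omega, even_iff_two_dvd.mpr h2, fun _ => by omega⟩
  · rintro ⟨h1, h2, h3, h4⟩
    have h5 : 2 ∣ s - 1 + 1 := by
      have := even_iff_two_dvd.mp h3
      rwa [Nat.sub_add_cancel h1]
    cases b
    · left
      exact ⟨s - 1, ⟨by omega, h5⟩, by omega, rfl⟩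
    · right
      have h6 := h4 rfl
      exact ⟨s - 1, ⟨by omega, h5⟩, by omega, rfl⟩

section minus
universe u
variable {F : Type u} [Field F] [Fintype F] [CharP F 2] (k : ℕ) (a b : F)

open Cfsg.Agent.Lib.Helper15

local notation "VV" => ((Fin k ⊕ Fin k) ⊕ Fin 2 → F)
local notation "QQ" => Qgen k (binForm a b)

omit [Fintype F] [CharP F 2] in
theorem minus_finrank : finrank F VV = 2 * k + 2 := by
  rw [Module.finrank_fintype_fun_eq_card, Fintype.card_sum, Fintype.card_sum, Fintype.card_fin,
    Fintype.card_fin]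
  ring

theorem minus_alt_mem_commutator
    (hab : ∀ z₁ z₂ : F, z₁ ^ 2 + a * z₁ * z₂ + b * z₂ ^ 2 = 0 → z₁ = 0 ∧ z₂ = 0)
    (t : isoGroup QQ) (ht : t * t = 1) (hta : ∀ x, polar QQ x (t.1 x - x) = 0) :
    t ∈ commutator (isoGroup QQ) := by
  have hQ := nondegenerate_Qgen k (binForm a b) (nondegenerate_binForm a b hab)
  by_cases hk : 2 ≤ k
  · exact (alt_mem_commutator QQ hQ (by rw [minus_finrank]; omega) t ht hta).1
  · obtain ⟨f1, f2, f3⟩ := invol_rank_facts QQ hQ t ht
    obtain ⟨⟨j, hj⟩, f5⟩ := f3 hta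
    have h6 := minus_ts_finrank_le k a b hab _ f5
    have h7 : t = 1 := by
      by_contra hne
      have := f2 hne
      omega
    rw [h7]
    exact Subgroup.one_mem _

theorem minus_involution_mem_commutator_iff
    (hab : ∀ z₁ z₂ : F, z₁ ^ 2 + a * z₁ * z₂ + b * z₂ ^ 2 = 0 → z₁ = 0 ∧ z₂ = 0)
    (t : isoGroup QQ) (ht : t * t = 1) :
    t ∈ commutator (isoGroup QQ) ↔
      Even (finrank F (LinearMap.range (t.1.toLinearMap - LinearMap.id))) := by
  have hQ := nondegenerate_Qgen k (binForm a b) (nondegenerate_binForm a b hab)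
  by_cases hta : ∀ x, polar QQ x (t.1 x - x) = 0
  · exact ⟨fun _ => ((invol_rank_facts QQ hQ t ht).2.2 hta).1,
      fun _ => minus_alt_mem_commutator k a b hab t ht hta⟩
  · push Not at hta
    exact nonalt_mem_commutator_iff QQ hQ (by rw [minus_finrank]; omega) t ht hta

theorem minus_conj_in_commutator
    (hab : ∀ z₁ z₂ : F, z₁ ^ 2 + a * z₁ * z₂ + b * z₂ ^ 2 = 0 → z₁ = 0 ∧ z₂ = 0)
    (t t' g : isoGroup QQ) (ht : t * t = 1) (hg : g * t * g⁻¹ = t') :
    ∃ g' ∈ commutator (isoGroup QQ), g' * t * g'⁻¹ = t' := by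
  have hQ := nondegenerate_Qgen k (binForm a b) (nondegenerate_binForm a b hab)
  obtain ⟨c, hc, htc⟩ := exists_fixed_norm_one QQ hQ t ht k (minus_ts_finrank_le k a b hab)
    (by rw [minus_finrank])
  exact conj_in_commutator_of_fixed QQ hQ (minus_alt_mem_commutator k a b hab) t t' g hg c hc htc

local notation "GG" =>
  Subtype (fun x => x ∈ Cfsg.isometryGroup F (Cfsg.quadFormMinus k F a b))
local notation "OM" =>
  Subtype (fun x => x ∈ Cfsg.Omega F (Cfsg.quadFormMinus k F a b))

omit [Fintype F] [CharP F 2] in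
theorem minus_hfun (v : VV) : QQ v = Cfsg.quadFormMinus k F a b v := by
  rw [Qgen_apply, binForm_apply]; rfl

/-- involutions of the commutator subgroup conjugate in the whole group are conjugate in the
commutator subgroup (matrix version) -/
theorem ominus_conj_in_Omega
    (hab : ∀ z₁ z₂ : F, z₁ ^ 2 + a * z₁ * z₂ + b * z₂ ^ 2 = 0 → z₁ = 0 ∧ z₂ = 0)
    (t s : GG) (ht : orderOf t = 2) (hconj : IsConj t s) :
    ∃ g ∈ Cfsg.Omega F (Cfsg.quadFormMinus k F a b), g * t * g⁻¹ = s := by
  let e : GG ≃* isoGroup QQ := isoEquiv (Cfsg.quadFormMinus k F a b) QQ (minus_hfun k a b)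
  have htt : e t * e t = 1 := by
    have h1 : t ^ orderOf t = 1 := pow_orderOf_eq_one t
    rw [ht, pow_two] at h1
    rw [← map_mul, h1, map_one]
  obtain ⟨g0, hg0⟩ := isConj_iff.mp hconj
  have hg0' : e g0 * e t * (e g0)⁻¹ = e s := by rw [← hg0, map_mul, map_mul, map_inv]
  obtain ⟨g', hg'1, hg'2⟩ := minus_conj_in_commutator k a b hab (e t) (e s) (e g0) htt hg0'
  refine ⟨e.symm g', ?_, ?_⟩
  · exact (mem_commutator_iff_of_equiv e _).mpr (by rw [e.apply_symm_apply]; exact hg'1)
  · apply e.injective
    rw [map_mul, map_mul, map_inv, e.apply_symm_apply]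
    exact hg'2

/-- the number of classes of involutions in the commutator subgroup of the minus type group -/
theorem ominus_Omega_card_involution_classes
    (hab : ∀ z₁ z₂ : F, z₁ ^ 2 + a * z₁ * z₂ + b * z₂ ^ 2 = 0 → z₁ = 0 ∧ z₂ = 0) :
    Nat.card {C : ConjClasses OM // ∃ g : OM, ConjClasses.mk g = C ∧ orderOf g = 2} =
      (k + 1) / 2 + k / 2 := by
  classical
  have : Fact (Nat.Prime 2) := ⟨Nat.prime_two⟩
  have hQ := nondegenerate_Qgen k (binForm a b) (nondegenerate_binForm a b hab)
  let e : GG ≃* isoGroup QQ := isoEquiv (Cfsg.quadFormMinus k F a b) QQ (minus_hfun k a b)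
  have hmemΩ : ∀ g : GG, g ∈ Cfsg.Omega F (Cfsg.quadFormMinus k F a b) ↔
      e g ∈ commutator (isoGroup QQ) := fun g => mem_commutator_iff_of_equiv e g
  have hsq : ∀ h : OM, orderOf h = 2 → e h.1 * e h.1 = 1 := by
    intro h hh
    have h1 : h ^ orderOf h = 1 := pow_orderOf_eq_one h
    rw [hh, pow_two] at h1
    have h2 : h.1 * h.1 = 1 := congrArg Subtype.val h1
    rw [← map_mul, h2, map_one]
  have hdim := minus_finrank (F := F) k
  rw [card_involution_classes
    (fun h : OM => (finrank F (LinearMap.range ((e h.1).1.toLinearMap - LinearMap.id)),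
      decide (∀ x, polar QQ x ((e h.1).1 x - x) = 0))) ?_ (minusEvenIdx k) ?_,
    card_minusEvenIdx]
  · intro h h' hh hh'
    beta_reduce
    rw [Prod.mk.injEq, decide_eq_decide,
      ← isoGroup_isConj_iff QQ hQ (e h.1) (e h'.1) (hsq h hh) (hsq h' hh')]
    constructor
    · intro hc
      have h1 : IsConj h.1 h'.1 :=
        (Subgroup.subtype (Cfsg.Omega F (Cfsg.quadFormMinus k F a b))).map_isConj hc
      exact e.toMonoidHom.map_isConj h1
    · intro hc
      obtain ⟨g, hg⟩ := isConj_iff.mp hc
      obtain ⟨g', hg'1, hg'2⟩ := minus_conj_in_commutator k a b hab (e h.1) (e h'.1) g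
        (hsq h hh) hg
      rw [isConj_iff]
      refine ⟨⟨e.symm g', (hmemΩ _).mpr (by rw [e.apply_symm_apply]; exact hg'1)⟩, ?_⟩
      apply Subtype.ext
      apply e.injective
      change e (e.symm g' * h.1 * (e.symm g')⁻¹) = e h'.1
      rw [map_mul, map_mul, map_inv, e.apply_symm_apply]
      exact hg'2
  · intro p
    rw [mem_minusEvenIdx]
    have hmk : ∀ t : isoGroup QQ, t * t = 1 →
        1 ≤ finrank F (LinearMap.range (t.1.toLinearMap - LinearMap.id)) →
        Even (finrank F (LinearMap.range (t.1.toLinearMap - LinearMap.id))) →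
        ∃ h : OM, orderOf h = 2 ∧ e h.1 = t := by
      intro t ht hr hev
      have htΩ : e.symm t ∈ Cfsg.Omega F (Cfsg.quadFormMinus k F a b) :=
        (hmemΩ _).mpr (by
          rw [e.apply_symm_apply]
          exact (minus_involution_mem_commutator_iff k a b hab t ht).mpr hev)
      refine ⟨⟨e.symm t, htΩ⟩, ?_, e.apply_symm_apply t⟩
      apply orderOf_eq_prime
      · apply Subtype.ext
        rw [Subgroup.coe_pow]
        change (e.symm t) ^ 2 = 1
        rw [pow_two, ← map_mul, ht, map_one]
      · intro h1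
        have h2 : e.symm t = 1 := congrArg Subtype.val h1
        have ht1 : t = 1 := by rw [← e.apply_symm_apply t, h2, map_one]
        rw [ht1, isoGroup_one_finrank] at hr
        omega
    constructor
    · rintro ⟨h1, h2, h3, h4⟩
      rcases p with ⟨s, bb⟩
      change 1 ≤ s at h1
      change s ≤ k + 1 at h2
      change Even s at h3
      cases bb
      · obtain ⟨w, hw, horth, hQw⟩ := exists_norm_one_family k a b s h2
        have hne : Nonempty (Fin s) := ⟨⟨0, by omega⟩⟩
        obtain ⟨t, ht, hr, hna⟩ := exists_model_nonalt_abs QQ hQ w hw horth hQw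
        rw [Fintype.card_fin] at hr
        obtain ⟨h, hh, hht⟩ := hmk t ht (by rw [hr]; exact h1) (by rw [hr]; exact h3)
        refine ⟨h, hh, ?_⟩
        beta_reduce
        rw [hht]
        refine Prod.ext hr (decide_eq_false ?_)
        intro hall
        obtain ⟨x, hx⟩ := hna
        exact hx (hall x)
      · have h5 : s ≤ k := h4 rfl
        obtain ⟨j, hj⟩ := h3
        have hs : s = 2 * j := by omega
        obtain ⟨w, hw, horth, hQw⟩ := exists_singular_family k a b j (by omega)
        obtain ⟨t, ht, hr, hal⟩ := exists_model_alt_abs QQ hQ w hw horth hQw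
        rw [Fintype.card_fin] at hr
        obtain ⟨h, hh, hht⟩ := hmk t ht (by rw [hr]; omega) (by rw [hr]; exact ⟨j, by ring⟩)
        refine ⟨h, hh, ?_⟩
        beta_reduce
        rw [hht]
        exact Prod.ext (by rw [hs]; exact hr) (decide_eq_true hal)
    · rintro ⟨h, hh, rfl⟩
      beta_reduce
      obtain ⟨f1, f2, f3⟩ := invol_rank_facts QQ hQ (e h.1) (hsq h hh)
      have hΩ : e h.1 ∈ commutator (isoGroup QQ) := (hmemΩ h.1).mp h.2
      have hev := (minus_involution_mem_commutator_iff k a b hab (e h.1) (hsq h hh)).mp hΩ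
      have hne : e h.1 ≠ 1 := by
        intro h0
        have hg1 : h.1 = 1 := by
          rw [← e.symm_apply_apply h.1, h0, map_one]
        have hg2 : h = 1 := Subtype.ext hg1
        rw [hg2, orderOf_one] at hh
        omega
      refine ⟨f2 hne, by omega, hev, fun hd => ?_⟩
      obtain ⟨-, f5⟩ := f3 (of_decide_eq_true hd)
      exact minus_ts_finrank_le k a b hab _ f5

end minus

end Cfsg.Agent.Lib.Helper13
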