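import Mathlib
import Cfsg.Agent.Lib.Helper13.OrthGenApps
import Cfsg.Agent.Lib.Helper6.CDTwo
import Cfsg.Agent.Lib.Helper6.Quad

/-!
# Consequences of generation by reflections (characteristic two), matrix versions
-/

set_option autoImplicit false

namespace Cfsg.Agent.Lib.Helper13

open Module QuadraticMap
open scoped commutatorElement

section abstract
universe u
variable {F V : Type u} [Field F] [Finite F] [CharP F 2] [AddCommGroup V] [Module F V]
  [FiniteDimensional F V] (Q : QuadraticForm F V)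

omit [Finite F] [FiniteDimensional F V] in
/-- modulo a normal subgroup containing the products of two reflections, every element of the
group generated by reflections is trivial or a fixed reflection -/
theorem mem_or_of_normal (N : Subgroup (isoGroup Q)) [hN : N.Normal]
    (hpairs : ∀ a b, Q a = 1 → Q b = 1 → reflO Q a * reflO Q b ∈ N)
    (hgen : reflGen Q = ⊤) (a : V) (ha : Q a = 1) (g : isoGroup Q) :
    g ∈ N ∨ g * reflO Q a ∈ N := by
  let π : isoGroup Q →* (isoGroup Q ⧸ N) := QuotientGroup.mk' N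
  have hker : ∀ x, π x = 1 ↔ x ∈ N := fun x => QuotientGroup.eq_one_iff x
  set ρ := π (reflO Q a) with hρdef
  have hρ2 : ρ * ρ = 1 := by rw [hρdef, ← map_mul, reflO_mul_self, map_one]
  have hρi : ρ⁻¹ = ρ := inv_eq_of_mul_eq_one_right hρ2
  have hρ : ∀ b, π (reflO Q b) = ρ ∨ π (reflO Q b) = 1 := by
    intro b
    by_cases hb : Q b = 1
    · left
      have h1 : π (reflO Q b * reflO Q a) = 1 := (hker _).mpr (hpairs b a hb ha)
      rw [map_mul] at h1
      rw [eq_inv_of_mul_eq_one_left h1, hρi]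
    · right
      have : reflO Q b = 1 := Subtype.ext (reflEquiv_of_ne Q b hb)
      rw [this, map_one]
  let S : Subgroup (isoGroup Q) := (Subgroup.zpowers ρ).comap π
  have hS : reflGen Q ≤ S := by
    unfold reflGen
    rw [Subgroup.closure_le]
    rintro _ ⟨b, rfl⟩
    change π (reflO Q b) ∈ Subgroup.zpowers ρ
    rcases hρ b with h | h
    · rw [h]; exact Subgroup.mem_zpowers ρ
    · rw [h]; exact Subgroup.one_mem _
  have hg : π g ∈ Subgroup.zpowers ρ := by
    have : g ∈ S := hS (by rw [hgen]; exact Subgroup.mem_top g)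
    exact this
  obtain ⟨n, hn⟩ := Subgroup.mem_zpowers_iff.mp hg
  rcases Int.even_or_odd n with ⟨j, hj⟩ | ⟨j, hj⟩
  · left
    rw [← two_mul] at hj
    rw [← hker, ← hn, hj, zpow_mul, zpow_two, hρ2, one_zpow]
  · right
    rw [← hker, map_mul, ← hn, hj, zpow_add, zpow_mul, zpow_two, hρ2, one_zpow, zpow_one,
      one_mul]
    exact hρ2

/-- the subgroup generated by the products of two reflections -/
def pairGen : Subgroup (isoGroup Q) :=
  Subgroup.closure {g | ∃ a b, Q a = 1 ∧ Q b = 1 ∧ g = reflO Q a * reflO Q b}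

omit [Finite F] [FiniteDimensional F V] in
theorem pairGen_normal : (pairGen Q).Normal := by
  constructor
  intro n hn g
  have h : (pairGen Q).map (MulAut.conj g).toMonoidHom ≤ pairGen Q := by
    unfold pairGen
    rw [MonoidHom.map_closure, Subgroup.closure_le]
    rintro _ ⟨_, ⟨a, b, ha, hb, rfl⟩, rfl⟩
    apply Subgroup.subset_closure
    refine ⟨g.1 a, g.1 b, by rw [isoGroup_map]; exact ha, by rw [isoGroup_map]; exact hb, ?_⟩
    rw [← conj_reflO, ← conj_reflO]
    change g * (reflO Q a * reflO Q b) * g⁻¹ = _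
    group
  exact h ⟨n, hn, rfl⟩

theorem pairGen_le_commutator (hQ : (polarBilin Q).Nondegenerate) :
    pairGen Q ≤ commutator (isoGroup Q) := by
  unfold pairGen
  rw [Subgroup.closure_le]
  rintro _ ⟨a, b, ha, hb, rfl⟩
  exact reflO_mul_reflO_mem Q hQ a b ha hb

theorem commutator_eq_pairGen (hQ : (polarBilin Q).Nondegenerate) (hpos : 0 < finrank F V)
    (hgen : reflGen Q = ⊤) : commutator (isoGroup Q) = pairGen Q := by
  apply le_antisymm _ (pairGen_le_commutator Q hQ)
  intro g hg
  obtain ⟨a, ha⟩ := exists_norm_one Q hQ hpos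
  haveI := pairGen_normal Q
  rcases mem_or_of_normal Q (pairGen Q)
    (fun a b ha hb => Subgroup.subset_closure ⟨a, b, ha, hb, rfl⟩) hgen a ha g with h | h
  · exact h
  · exfalso
    have h1 : g * reflO Q a ∈ commutator (isoGroup Q) := pairGen_le_commutator Q hQ h
    have := Subgroup.mul_mem _ (Subgroup.inv_mem _ hg) h1
    rw [inv_mul_cancel_left] at this
    exact reflO_not_mem_commutator Q hQ hpos a ha this

/-- the commutator subgroup is transitive on nonsingular lines -/
theorem exists_commutator_map (hQ : (polarBilin Q).Nondegenerate) (hgen : reflGen Q = ⊤)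
    (u v : V) (hu : Q u ≠ 0) (hv : Q v ≠ 0) :
    ∃ g ∈ commutator (isoGroup Q), ∃ d : F, d ≠ 0 ∧ g.1 u = d • v := by
  obtain ⟨cu, hcu, hu1⟩ := exists_norm_one_smul Q u hu
  obtain ⟨cv, hcv, hv1⟩ := exists_norm_one_smul Q v hv
  have hcu0 : cu ≠ 0 := by
    rintro rfl
    rw [zero_smul, QuadraticMap.map_zero] at hu1
    exact zero_ne_one hu1
  have hcv0 : cv ≠ 0 := by
    rintro rfl
    rw [zero_smul, QuadraticMap.map_zero] at hv1
    exact zero_ne_one hv1
  obtain ⟨g0, hg0⟩ := exists_iso_map Q hQ (cu • u) (cv • v) hu1 hv1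
  have key : ∀ g : isoGroup Q, g.1 (cu • u) = cv • v → g.1 u = (cu⁻¹ * cv) • v := by
    intro g hg
    rw [map_smul] at hg
    have := congrArg (fun y => cu⁻¹ • y) hg
    simp only [smul_smul, inv_mul_cancel₀ hcu0, one_smul] at this
    exact this
  have hd : cu⁻¹ * cv ≠ 0 := mul_ne_zero (inv_ne_zero hcu0) hcv0
  haveI : (commutator (isoGroup Q)).Normal := inferInstance
  rcases mem_or_of_normal Q (commutator (isoGroup Q))
    (fun a b ha hb => reflO_mul_reflO_mem Q hQ a b ha hb) hgen (cu • u) hu1 g0 with h | h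
  · exact ⟨g0, h, cu⁻¹ * cv, hd, key g0 hg0⟩
  · refine ⟨g0 * reflO Q (cu • u), h, cu⁻¹ * cv, hd, key _ ?_⟩
    change g0.1 ((reflO Q (cu • u)).1 (cu • u)) = cv • v
    rw [reflO_apply Q _ _ hu1, polar_self_charTwo, zero_smul, add_zero, hg0]

omit [FiniteDimensional F V] in
/-- the reflection in a nonsingular vector, normalised -/
theorem reflO_smul_apply (u : V) (hu : Q u ≠ 0) (c : F) (hc : c * c = (Q u)⁻¹) (x : V) :
    (reflO Q (c • u)).1 x = x - ((Q u)⁻¹ * polar Q u x) • u := by
  have h1 : Q (c • u) = 1 := by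
    rw [QuadraticMap.map_smul, hc, smul_eq_mul, inv_mul_cancel₀ hu]
  rw [reflO_apply Q _ _ h1, polar_smul_left, smul_smul, smul_eq_mul, sub_eq_add_neg,
    neg_eq_charTwo F]
  have e : c * polar Q u x * c = (Q u)⁻¹ * polar Q u x := by rw [← hc]; ring
  rw [e]

end abstract

section mat
universe u
variable {F : Type u} [Field F] [Fintype F] [CharP F 2] {n : ℕ} (Q : QuadraticForm F (Fin n → F))

open Matrix Cfsg.Agent.Lib.Helper6

/-- the matrix of an abstract reflection -/
theorem isoEquiv_symm_reflO (u : Fin n → F) (hu : Q u ≠ 0) (c : F) (hc : c * c = (Q u)⁻¹) :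
    ((((isoEquiv ⇑Q Q (fun _ => rfl)).symm (reflO Q (c • u)) : Cfsg.isometryGroup F ⇑Q) :
      GL (Fin n) F) : Matrix (Fin n) (Fin n) F) = Cfsg.reflectionMatrix ⇑Q u := by
  apply matrix_ext_mulVec
  intro x
  rw [isoEquiv_symm_mulVec, reflectionMatrix_mulVec, reflO_smul_apply Q u hu c hc]

/-- generation by reflections (from the matrix version) -/
theorem reflGen_eq_top_of_cd (hQ : (polarBilin Q).Nondegenerate)
    (h : Fintype.card F ≠ 2 ∨ n ≠ 4) : reflGen Q = ⊤ := by
  let e := isoEquiv ⇑Q Q (fun _ => rfl)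
  have hcd := cd_two (Q := Q) CharTwo.two_eq_zero hQ h
  rw [eq_top_iff]
  intro g _
  have h1 : Subgroup.closure (Cfsg.Agent.S0792.Rset Q) ≤ (reflGen Q).comap e.toMonoidHom := by
    rw [Subgroup.closure_le]
    rintro r ⟨u, hu, hr⟩
    change e r ∈ reflGen Q
    obtain ⟨c, hc, -⟩ := exists_norm_one_smul Q u hu
    have : e r = reflO Q (c • u) := by
      apply e.symm.injective
      rw [e.symm_apply_apply]
      apply Subtype.ext
      apply Units.ext
      rw [hr]
      exact (isoEquiv_symm_reflO Q u hu c hc).symm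
    rw [this]
    exact reflO_mem_reflGen Q _
  have h2 : e.symm g ∈ Subgroup.closure (Cfsg.Agent.S0792.Rset Q) := by
    rw [hcd]; exact Subgroup.mem_top _
  have h3 : e (e.symm g) ∈ reflGen Q := h1 h2
  rwa [e.apply_symm_apply] at h3

end mat

end Cfsg.Agent.Lib.Helper13
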