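import Mathlib
import Cfsg.Agent.Lib.Helper13.OrthGenMat
import Cfsg.Agent.Lib.Helper13.InvolCount
import Cfsg.Agent.Lib.Helper15.OPlus4

/-!
# The plus type orthogonal groups in characteristic two: the commutator subgroup as the stabiliser
of the two families of maximal totally singular subspaces, and the splitting of involution classes
-/

set_option autoImplicit false

namespace Cfsg.Agent.Lib.Helper13

open Module QuadraticMap
open scoped commutatorElement

section transport
universe u
variable {F : Type u} [Field F] [Fintype F] [CharP F 2] {ι : Type} [Fintype ι] [DecidableEq ι]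

/-- generation by reflections for forms on `ι → F` -/
theorem reflGen_eq_top_of_card (Q : QuadraticForm F (ι → F)) (hQ : (polarBilin Q).Nondegenerate)
    (h : Fintype.card F ≠ 2 ∨ Fintype.card ι ≠ 4) : reflGen Q = ⊤ := by
  let σ : ι ≃ Fin (Fintype.card ι) := Fintype.equivFin ι
  let T : (ι → F) ≃ₗ[F] (Fin (Fintype.card ι) → F) := LinearEquiv.funCongrLeft F F σ.symm
  let Q₂ : QuadraticForm F (Fin (Fintype.card ι) → F) := Q.comp T.symm.toLinearMap
  have hT : ∀ v, Q₂ (T v) = Q v := fun v => by
    change Q (T.symm (T v)) = Q v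
    rw [LinearEquiv.symm_apply_apply]
  have hT' : ∀ v, Q (T.symm v) = Q₂ v := fun v => rfl
  have hpol : ∀ x y, polar Q₂ x y = polar Q (T.symm x) (T.symm y) := by
    intro x y
    unfold polar
    rw [← hT', ← hT', ← hT', map_add]
  have hQ₂ : (polarBilin Q₂).Nondegenerate := by
    constructor
    · intro x hx
      have h0 : T.symm x = 0 := hQ.1 _ (fun y => by
        have h1 := hx (T y)
        change polar Q₂ x (T y) = 0 at h1
        rw [hpol, LinearEquiv.symm_apply_apply] at h1
        exact h1)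
      exact T.symm.map_eq_zero_iff.mp h0
    · intro y hy
      have h0 : T.symm y = 0 := hQ.2 _ (fun x => by
        have h1 := hy (T x)
        change polar Q₂ (T x) y = 0 at h1
        rw [hpol, LinearEquiv.symm_apply_apply] at h1
        exact h1)
      exact T.symm.map_eq_zero_iff.mp h0
  have hgen₂ := reflGen_eq_top_of_cd Q₂ hQ₂ h
  rw [eq_top_iff]
  intro g _
  let ψ := isoGroupMap Q₂ Q T.symm hT'
  let ψ' := isoGroupMap Q Q₂ T hT
  have hg : g = ψ (ψ' g) := by
    apply Subtype.ext
    apply LinearEquiv.ext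
    intro x
    change g.1 x = T.symm (T (g.1 (T.symm (T x))))
    rw [LinearEquiv.symm_apply_apply, LinearEquiv.symm_apply_apply]
  have h1 : reflGen Q₂ ≤ (reflGen Q).comap ψ := by
    unfold reflGen
    rw [Subgroup.closure_le]
    rintro _ ⟨a, rfl⟩
    change ψ (reflO Q₂ a) ∈ Subgroup.closure _
    by_cases ha : Q₂ a = 1
    · rw [isoGroupMap_reflO Q₂ Q T.symm hT' a ha]
      exact Subgroup.subset_closure ⟨_, rfl⟩
    · have : reflO Q₂ a = 1 := Subtype.ext (reflEquiv_of_ne Q₂ a ha)
      rw [this, map_one]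
      exact Subgroup.one_mem _
  rw [hg]
  exact h1 (by rw [hgen₂]; exact Subgroup.mem_top _)

end transport

section adjacent
universe u
variable {F V : Type u} [Field F] [Finite F] [CharP F 2] [AddCommGroup V] [Module F V]
  [FiniteDimensional F V] (Q : QuadraticForm F V)

open Cfsg.Agent.Lib.Helper6 in
/-- a reflection moves a maximal totally singular subspace to an adjacent one -/
theorem finrank_inf_map_reflO (hQ : (polarBilin Q).Nondegenerate) (m : ℕ)
    (hV : finrank F V = 2 * m) (W : Submodule F V) (hW : TS Q W) (hWm : finrank F W = m)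
    (a : V) (ha : Q a = 1) :
    finrank F ↥(W ⊓ W.map (reflO Q a).1.toLinearMap) + 1 = m := by
  let φ : V →ₗ[F] F := polarBilin Q a
  have hφ : ∀ x, φ x = polar Q a x := fun x => rfl
  have haW : a ∉ W := fun h => by
    have := hW a h
    rw [ha] at this
    exact one_ne_zero this
  have heq : W ⊓ W.map (reflO Q a).1.toLinearMap = W ⊓ LinearMap.ker φ := by
    ext x
    simp only [Submodule.mem_inf, Submodule.mem_map, LinearMap.mem_ker]
    constructor
    · rintro ⟨hx, w, hw, hwx⟩
      refine ⟨hx, ?_⟩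
      have hwx' : w + polar Q a w • a = x := by
        rw [← reflO_apply Q a w ha]; exact hwx
      have h0 : polar Q a w = 0 := by
        by_contra hne
        apply haW
        have : a = (polar Q a w)⁻¹ • (x - w) := by
          rw [← hwx', add_sub_cancel_left, smul_smul, inv_mul_cancel₀ hne, one_smul]
        rw [this]
        exact W.smul_mem _ (W.sub_mem hx hw)
      rw [h0, zero_smul, add_zero] at hwx'
      rw [hφ, ← hwx']
      exact h0
    · rintro ⟨hx, hx0⟩
      refine ⟨hx, x, hx, ?_⟩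
      change (reflO Q a).1 x = x
      rw [reflO_apply Q a x ha, ← hφ, hx0, zero_smul, add_zero]
  rw [heq]
  have hex : ∃ w ∈ W, φ w ≠ 0 := by
    by_contra hne
    push Not at hne
    apply haW
    have horth := TS.orth_eq hQ hV hW hWm
    rw [← horth, LinearMap.BilinForm.mem_orthogonal_iff]
    intro w hw
    change polar Q w a = 0
    rw [polar_comm]
    exact hne w hw
  obtain ⟨w0, hw0, hw0φ⟩ := hex
  have hK : finrank F (LinearMap.ker φ) + 1 = 2 * m := by
    have h1 := LinearMap.finrank_range_add_finrank_ker φ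
    have h2 : finrank F (LinearMap.range φ) = 1 := by
      have hle : finrank F (LinearMap.range φ) ≤ 1 := by
        have := Submodule.finrank_le (LinearMap.range φ)
        rwa [finrank_self] at this
      have hpos : 0 < finrank F (LinearMap.range φ) := by
        rw [Module.finrank_pos_iff_exists_ne_zero]
        exact ⟨⟨φ w0, ⟨w0, rfl⟩⟩, fun h => hw0φ (congrArg Subtype.val h)⟩
      omega
    omega
  have hsup : finrank F ↥(W ⊔ LinearMap.ker φ) = 2 * m := by
    have hlt : LinearMap.ker φ < W ⊔ LinearMap.ker φ := by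
      rw [SetLike.lt_iff_le_and_exists]
      exact ⟨le_sup_right, w0, Submodule.mem_sup_left hw0,
        fun h => hw0φ (LinearMap.mem_ker.mp h)⟩
    have h1 := Submodule.finrank_lt_finrank_of_lt hlt
    have h2 := Submodule.finrank_le (W ⊔ LinearMap.ker φ)
    omega
  have h3 := Submodule.finrank_sup_add_finrank_inf_eq W (LinearMap.ker φ)
  omega

open Cfsg.Agent.Lib.Helper6 in
/-- an involution has a fixed vector of norm one, or is of alternating type of maximal rank -/
theorem exists_fixed_norm_one_or (hQ : (polarBilin Q).Nondegenerate) (m : ℕ)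
    (hV : finrank F V = 2 * m) (τ : isoGroup Q) (hτ : τ * τ = 1) :
    (∃ a, Q a = 1 ∧ τ.1 a = a) ∨
      (finrank F (LinearMap.range (τ.1.toLinearMap - LinearMap.id)) = m ∧
        ∀ x, Q (τ.1 x - x) = 0) := by
  obtain ⟨f1, -, -⟩ := invol_rank_facts Q hQ τ hτ
  have hNN := isoGroup_nilp Q τ hτ
  set N : V →ₗ[F] V := τ.1.toLinearMap - LinearMap.id with hNdef
  have h1 := LinearMap.finrank_range_add_finrank_ker N
  by_cases hts : ∀ w ∈ LinearMap.ker N, Q w = 0
  · right
    have hTS : TS Q (LinearMap.ker N) := hts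
    have h2 := hTS.two_mul_finrank_le hQ
    have hle : LinearMap.range N ≤ LinearMap.ker N := by
      rintro _ ⟨x, rfl⟩
      exact LinearMap.mem_ker.mpr (hNN x)
    have heq : LinearMap.range N = LinearMap.ker N :=
      Submodule.eq_of_le_of_finrank_le hle (by omega)
    refine ⟨by omega, fun x => ?_⟩
    apply hts
    rw [← heq]
    exact ⟨x, rfl⟩
  · left
    push Not at hts
    obtain ⟨w, hw, hQw⟩ := hts
    obtain ⟨c, -, hc⟩ := exists_norm_one_smul Q w hQw
    refine ⟨c • w, hc, ?_⟩
    have hw' : τ.1 w = w := sub_eq_zero.mp (LinearMap.mem_ker.mp hw)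
    rw [map_smul, hw']

omit [FiniteDimensional F V] in
/-- variant of `conj_in_commutator_of_fixed` -/
theorem conj_in_commutator_of_fixed'
    (hor : ∀ a, Q a = 1 → ∀ g : isoGroup Q,
      g ∈ commutator (isoGroup Q) ∨ g * reflO Q a ∈ commutator (isoGroup Q))
    (t t' g : isoGroup Q) (hg : g * t * g⁻¹ = t') (a : V) (ha : Q a = 1) (hta : t.1 a = a) :
    ∃ g' ∈ commutator (isoGroup Q), g' * t * g'⁻¹ = t' := by
  rcases hor a ha g with h | h
  · exact ⟨g, h, hg⟩
  · refine ⟨g * reflO Q a, h, ?_⟩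
    have h1 := conj_reflO Q t a
    rw [hta] at h1
    have h2 : t * reflO Q a = reflO Q a * t := mul_inv_eq_iff_eq_mul.mp h1
    have hc : reflO Q a * t * (reflO Q a)⁻¹ = t := by rw [← h2, mul_inv_cancel_right]
    calc g * reflO Q a * t * (g * reflO Q a)⁻¹
        = g * (reflO Q a * t * (reflO Q a)⁻¹) * g⁻¹ := by group
      _ = g * t * g⁻¹ := by rw [hc]
      _ = t' := hg

end adjacent

section plus
universe u
variable {F : Type u} [Field F] [Fintype F] [CharP F 2] (m : ℕ)

open Cfsg.Agent.Lib.Helper6 Cfsg.Agent.Lib.Helper15 Matrix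

local notation "GP" => Subtype (fun x => x ∈ Cfsg.isometryGroup F (Cfsg.quadFormPlus m F))
local notation "VP" => (Fin m ⊕ Fin m → F)
local notation "MP" => Matrix (Fin m ⊕ Fin m) (Fin m ⊕ Fin m) F

variable (F) in
/-- the matrix group of plus type as an abstract isometry group -/
noncomputable def plusEquiv : GP ≃* isoGroup (plusQF m F) :=
  isoEquiv (Cfsg.quadFormPlus m F) (plusQF m F) (fun v => congrFun coe_plusQF v)

omit [Fintype F] [CharP F 2] in
theorem plusEquiv_apply (g : GP) (x : VP) :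
    (plusEquiv F m g).1 x = ((g : GL (Fin m ⊕ Fin m) F) : MP) *ᵥ x := rfl

omit [Fintype F] [CharP F 2] in
theorem glMap_eq (g : GP) (U : Submodule F VP) :
    glMap g.1 U = U.map (plusEquiv F m g).1.toLinearMap := by
  have : ((glLin g.1 : VP ≃ₗ[F] VP) : VP →ₗ[F] VP) = (plusEquiv F m g).1.toLinearMap :=
    LinearMap.ext (fun x => rfl)
  unfold glMap
  rw [this]

omit [CharP F 2] in
/-- distance of maximal totally singular subspaces -/
theorem parity_dist (g : GP) (W : Submodule F VP) (hW : TS (plusQF m F) W)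
    (hWm : finrank F W = m) :
    Even ((m - finrank F ↥(W ⊓ glMap g.1 W)) + famExp g) := by
  have hV := finrank_plus_space (F := F) (m := m)
  have hgW : TS (plusQF m F) (glMap g.1 W) := ts_glMap g W hW
  have hgWm : finrank F (glMap g.1 W) = m := (finrank_glMap g.1 W).trans hWm
  have hgE : TS (plusQF m F) (glMap g.1 (plusE m F)) := ts_glMap g _ ts_plusE
  have hgEm : finrank F (glMap g.1 (plusE m F)) = m := (finrank_glMap g.1 _).trans finrank_plusE
  have k1 := parity_three (plusQF m F) nondegenerate_plusQF m hV _ (plusE m F) W (glMap g.1 W)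
    ts_plusE finrank_plusE hW hWm hgW hgWm rfl
  have k2 := parity_three (plusQF m F) nondegenerate_plusQF m hV _ (plusE m F)
    (glMap g.1 (plusE m F)) (glMap g.1 W) ts_plusE finrank_plusE hgE hgEm hgW hgWm rfl
  rw [← glMap_inf, finrank_glMap] at k2
  unfold famExp
  rcases k1 with ⟨x1, hx1⟩
  rcases k2 with ⟨x2, hx2⟩
  rw [Nat.even_iff]
  omega

/-- the family exponent of a reflection -/
theorem famExp_reflO (a : VP) (ha : plusQF m F a = 1) :
    famExp ((plusEquiv F m).symm (reflO (plusQF m F) a)) = 1 := by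
  have hV := finrank_plus_space (F := F) (m := m)
  have h1 := finrank_inf_map_reflO (plusQF m F) nondegenerate_plusQF m hV (plusE m F) ts_plusE
    finrank_plusE a ha
  unfold famExp
  rw [glMap_eq, MulEquiv.apply_symm_apply]
  omega

/-- the commutator subgroup is the stabiliser of the families -/
theorem mem_Omega_iff_famExp (hm : 1 ≤ m) (h : Fintype.card F ≠ 2 ∨ m ≠ 2) (g : GP) :
    g ∈ Cfsg.Omega F (Cfsg.quadFormPlus m F) ↔ Even (famExp g) := by
  constructor
  · intro hg
    have h2 : g ∈ (famHom m F).ker := Abelianization.commutator_subset_ker (famHom m F) hg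
    rw [MonoidHom.mem_ker, famHom_apply] at h2
    exact (neg_one_pow_eq_one_iff_even (by decide)).1 h2
  · intro hev
    have hQ := nondegenerate_plusQF (F := F) (m := m)
    have hgen : reflGen (plusQF m F) = ⊤ := reflGen_eq_top_of_card (plusQF m F) hQ (by
      rcases h with h | h
      · left; exact h
      · right
        rw [Fintype.card_sum, Fintype.card_fin]
        omega)
    have hpos : 0 < finrank F VP := by rw [finrank_plus_space]; omega
    obtain ⟨a, ha⟩ := exists_norm_one (plusQF m F) hQ hpos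
    let e := plusEquiv F m
    rcases mem_or_of_normal (plusQF m F) (commutator (isoGroup (plusQF m F)))
      (fun a b ha hb => reflO_mul_reflO_mem (plusQF m F) hQ a b ha hb) hgen a ha (e g) with h1 | h1
    · exact (mem_commutator_iff_of_equiv e g).mpr h1
    · exfalso
      have h2 : g * e.symm (reflO (plusQF m F) a) ∈ Cfsg.Omega F (Cfsg.quadFormPlus m F) := by
        rw [mem_commutator_iff_of_equiv e, map_mul, e.apply_symm_apply]
        exact h1
      have h3 : g * e.symm (reflO (plusQF m F) a) ∈ (famHom m F).ker :=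
        Abelianization.commutator_subset_ker (famHom m F) h2
      rw [MonoidHom.mem_ker, map_mul, famHom_apply, famHom_apply, famExp_reflO m a ha,
        hev.neg_one_pow, one_mul, pow_one] at h3
      exact absurd h3 (by decide)

/-- membership in the commutator subgroup via any maximal totally singular subspace -/
theorem mem_Omega_iff_dist (hm : 1 ≤ m) (h : Fintype.card F ≠ 2 ∨ m ≠ 2) (g : GP)
    (W : Submodule F VP) (hW : TS (plusQF m F) W) (hWm : finrank F W = m) :
    g ∈ Cfsg.Omega F (Cfsg.quadFormPlus m F) ↔ Even (m - finrank F ↥(W ⊓ glMap g.1 W)) := by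
  rw [mem_Omega_iff_famExp m hm h g]
  have := parity_dist m g W hW hWm
  rw [Nat.even_add] at this
  exact this.symm

omit [Fintype F] [CharP F 2] in
/-- the image of `t - 1` under conjugation -/
theorem range_conj (g t s : GP) (hg : g * t * g⁻¹ = s) :
    LinearMap.range (Matrix.toLin' (((s : GL (Fin m ⊕ Fin m) F) : MP) - 1)) =
      glMap g.1 (LinearMap.range (Matrix.toLin' (((t : GL (Fin m ⊕ Fin m) F) : MP) - 1))) := by
  have hsg : s * g = g * t := by rw [← hg]; group
  have hM : ((s : GL (Fin m ⊕ Fin m) F) : MP) * ((g : GL (Fin m ⊕ Fin m) F) : MP) =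
      ((g : GL (Fin m ⊕ Fin m) F) : MP) * ((t : GL (Fin m ⊕ Fin m) F) : MP) := by
    have := congrArg (fun x : GP => ((x : GL (Fin m ⊕ Fin m) F) : MP)) hsg
    simpa using this
  have hM1 : (((s : GL (Fin m ⊕ Fin m) F) : MP) - 1) * ((g : GL (Fin m ⊕ Fin m) F) : MP) =
      ((g : GL (Fin m ⊕ Fin m) F) : MP) * (((t : GL (Fin m ⊕ Fin m) F) : MP) - 1) := by
    rw [Matrix.sub_mul, Matrix.mul_sub, hM, Matrix.one_mul, Matrix.mul_one]
  have hgi : ((g : GL (Fin m ⊕ Fin m) F) : MP) * (((g⁻¹ : GP) : GL (Fin m ⊕ Fin m) F) : MP) = 1 := by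
    have := congrArg (fun x : GP => ((x : GL (Fin m ⊕ Fin m) F) : MP)) (mul_inv_cancel g)
    simpa using this
  ext x
  rw [mem_glMap]
  constructor
  · rintro ⟨y, rfl⟩
    refine ⟨(((t : GL (Fin m ⊕ Fin m) F) : MP) - 1) *ᵥ
      ((((g⁻¹ : GP) : GL (Fin m ⊕ Fin m) F) : MP) *ᵥ y), ⟨_, rfl⟩, ?_⟩
    rw [Matrix.toLin'_apply, Matrix.mulVec_mulVec, Matrix.mulVec_mulVec, ← hM1,
      Matrix.mul_assoc, hgi, Matrix.mul_one]
  · rintro ⟨_, ⟨z, rfl⟩, rfl⟩
    refine ⟨((g : GL (Fin m ⊕ Fin m) F) : MP) *ᵥ z, ?_⟩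
    rw [Matrix.toLin'_apply, Matrix.toLin'_apply, Matrix.mulVec_mulVec, Matrix.mulVec_mulVec, hM1]

omit [Fintype F] in
/-- the image of `t - 1` for an involution of alternating type of maximal rank -/
theorem range_ts (t : GP)
    (hP : ((((t : GL (Fin m ⊕ Fin m) F) : MP) - 1).rank = m ∧ ∀ v : VP,
      Cfsg.quadFormPlus m F (v + ((t : GL (Fin m ⊕ Fin m) F) : MP) *ᵥ v) = 0)) :
    TS (plusQF m F) (LinearMap.range (Matrix.toLin' (((t : GL (Fin m ⊕ Fin m) F) : MP) - 1))) ∧
      finrank F (LinearMap.range (Matrix.toLin' (((t : GL (Fin m ⊕ Fin m) F) : MP) - 1))) = m := by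
  refine ⟨?_, hP.1⟩
  rintro _ ⟨y, rfl⟩
  rw [Matrix.toLin'_apply, Matrix.sub_mulVec, Matrix.one_mulVec, congrFun coe_plusQF]
  have e : ((t : GL (Fin m ⊕ Fin m) F) : MP) *ᵥ y - y = y + ((t : GL (Fin m ⊕ Fin m) F) : MP) *ᵥ y := by
    rw [sub_eq_add_neg, neg_eq_charTwo F, add_comm]
  rw [e]
  exact hP.2 y

/-- no splitting unless the involution is of alternating type of maximal rank -/
theorem oplus_conj_in_Omega_of_not (hm : 1 ≤ m) (h : Fintype.card F ≠ 2 ∨ m ≠ 2) (t s : GP)
    (ht : orderOf t = 2) (hconj : IsConj t s)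
    (hP : ¬ ((((t : GL (Fin m ⊕ Fin m) F) : MP) - 1).rank = m ∧ ∀ v : VP,
      Cfsg.quadFormPlus m F (v + ((t : GL (Fin m ⊕ Fin m) F) : MP) *ᵥ v) = 0)) :
    ∃ g ∈ Cfsg.Omega F (Cfsg.quadFormPlus m F), g * t * g⁻¹ = s := by
  have hQ := nondegenerate_plusQF (F := F) (m := m)
  have hV := finrank_plus_space (F := F) (m := m)
  let e := plusEquiv F m
  have hgen : reflGen (plusQF m F) = ⊤ := reflGen_eq_top_of_card (plusQF m F) hQ (by
    rcases h with h | h
    · left; exact h
    · right
      rw [Fintype.card_sum, Fintype.card_fin]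
      omega)
  have htt : e t * e t = 1 := by
    have h1 : t ^ orderOf t = 1 := pow_orderOf_eq_one t
    rw [ht, pow_two] at h1
    rw [← map_mul, h1, map_one]
  obtain ⟨g0, hg0⟩ := isConj_iff.mp hconj
  have hg0' : e g0 * e t * (e g0)⁻¹ = e s := by rw [← hg0, map_mul, map_mul, map_inv]
  rcases exists_fixed_norm_one_or (plusQF m F) hQ m hV (e t) htt with ⟨a, ha, hta⟩ | ⟨hr, hts⟩
  · obtain ⟨g', hg'1, hg'2⟩ := conj_in_commutator_of_fixed' (plusQF m F)
      (fun a ha g => mem_or_of_normal (plusQF m F) (commutator (isoGroup (plusQF m F)))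
        (fun a b ha hb => reflO_mul_reflO_mem (plusQF m F) hQ a b ha hb) hgen a ha g)
      (e t) (e s) (e g0) hg0' a ha hta
    refine ⟨e.symm g', ?_, ?_⟩
    · exact (mem_commutator_iff_of_equiv e _).mpr (by rw [e.apply_symm_apply]; exact hg'1)
    · apply e.injective
      rw [map_mul, map_mul, map_inv, e.apply_symm_apply]
      exact hg'2
  · exfalso
    apply hP
    refine ⟨?_, fun v => ?_⟩
    · rw [rank_sub_one_eq (Cfsg.quadFormPlus m F) (plusQF m F) (fun v => congrFun coe_plusQF v)]
      exact hr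
    · have := hts v
      rw [plusEquiv_apply, congrFun coe_plusQF, sub_eq_add_neg, neg_eq_charTwo F, add_comm] at this
      exact this

/-- the splitting criterion for involutions of alternating type of maximal rank -/
theorem oplus_conj_in_Omega_iff (hm : 1 ≤ m) (h : Fintype.card F ≠ 2 ∨ m ≠ 2) (t s : GP)
    (hconj : IsConj t s) (hmev : Even m)
    (hP : ((((t : GL (Fin m ⊕ Fin m) F) : MP) - 1).rank = m ∧ ∀ v : VP,
      Cfsg.quadFormPlus m F (v + ((t : GL (Fin m ⊕ Fin m) F) : MP) *ᵥ v) = 0)) :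
    (∃ g ∈ Cfsg.Omega F (Cfsg.quadFormPlus m F), g * t * g⁻¹ = s) ↔
      Even (finrank F ↥(LinearMap.range (Matrix.toLin' (((t : GL (Fin m ⊕ Fin m) F) : MP) - 1)) ⊓
        LinearMap.range (Matrix.toLin' (((s : GL (Fin m ⊕ Fin m) F) : MP) - 1)))) := by
  obtain ⟨hW, hWm⟩ := range_ts m t hP
  have hle : ∀ X : Submodule F VP,
      finrank F ↥(LinearMap.range (Matrix.toLin' (((t : GL (Fin m ⊕ Fin m) F) : MP) - 1)) ⊓ X) ≤
        m := by
    intro X
    have := Submodule.finrank_mono (inf_le_left :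
      LinearMap.range (Matrix.toLin' (((t : GL (Fin m ⊕ Fin m) F) : MP) - 1)) ⊓ X ≤ _)
    omega
  constructor
  · rintro ⟨g, hgΩ, hg⟩
    rw [range_conj m g t s hg]
    have h1 := (mem_Omega_iff_dist m hm h g _ hW hWm).mp hgΩ
    have h2 := hle (glMap g.1 (LinearMap.range
      (Matrix.toLin' (((t : GL (Fin m ⊕ Fin m) F) : MP) - 1))))
    rw [Nat.even_sub h2] at h1
    exact h1.mp hmev
  · intro hev
    obtain ⟨g0, hg0⟩ := isConj_iff.mp hconj
    refine ⟨g0, ?_, hg0⟩
    rw [mem_Omega_iff_dist m hm h g0 _ hW hWm]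
    rw [range_conj m g0 t s hg0] at hev
    have h2 := hle (glMap g0.1 (LinearMap.range
      (Matrix.toLin' (((t : GL (Fin m ⊕ Fin m) F) : MP) - 1))))
    rw [Nat.even_sub h2]
    exact ⟨fun _ => hev, fun _ => hmev⟩

end plus

end Cfsg.Agent.Lib.Helper13
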