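import Mathlib

set_option autoImplicit false

namespace Cfsg.Agent.Lib.Helper13

open Module

section
variable {F V : Type*} [Field F] [AddCommGroup V] [Module F V] [FiniteDimensional F V]

/-- Normal form of a square-zero endomorphism: a basis `u_i, N u_i, w_j` with `N w_j = 0`. -/
theorem exists_adapted_basis (N : V →ₗ[F] V) (hN : N ∘ₗ N = 0) (r m : ℕ)
    (hr : finrank F (LinearMap.range N) = r) (hm : r + (r + m) = finrank F V) :
    ∃ B : Basis (Fin r ⊕ (Fin r ⊕ Fin m)) F V,
      (∀ i, N (B (Sum.inl i)) = B (Sum.inr (Sum.inl i))) ∧ (∀ k, N (B (Sum.inr k)) = 0) := by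
  classical
  have hRK : LinearMap.range N ≤ LinearMap.ker N := by
    rintro _ ⟨x, rfl⟩
    rw [LinearMap.mem_ker, ← LinearMap.comp_apply, hN]
    rfl
  have hrn : finrank F (LinearMap.range N) + finrank F (LinearMap.ker N) = finrank F V :=
    LinearMap.finrank_range_add_finrank_ker N
  obtain ⟨W₀, hW₀⟩ := Submodule.exists_isCompl (LinearMap.range N)
  have hRW : Disjoint (LinearMap.range N) (LinearMap.ker N ⊓ W₀) :=
    hW₀.disjoint.mono_right inf_le_right
  have hRWK : LinearMap.range N ⊔ (LinearMap.ker N ⊓ W₀) = LinearMap.ker N := by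
    rw [inf_comm, ← sup_inf_assoc_of_le W₀ hRK, hW₀.sup_eq_top, top_inf_eq]
  have hfW : finrank F ↥(LinearMap.ker N ⊓ W₀) = m := by
    have h1 := Submodule.finrank_sup_add_finrank_inf_eq (LinearMap.range N) (LinearMap.ker N ⊓ W₀)
    rw [hRWK, hRW.eq_bot, finrank_bot, add_zero] at h1
    omega
  let bR : Basis (Fin r) F (LinearMap.range N) := (Module.finBasis F _).reindex (finCongr hr)
  let bW : Basis (Fin m) F ↥(LinearMap.ker N ⊓ W₀) := (Module.finBasis F _).reindex (finCongr hfW)
  have hu : ∀ i, ∃ u : V, N u = (bR i : V) := fun i => LinearMap.mem_range.mp (bR i).2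
  choose u hu using hu
  have hρ : LinearIndependent F (fun i => (bR i : V)) :=
    bR.linearIndependent.map' (LinearMap.range N).subtype (Submodule.ker_subtype _)
  have hw : LinearIndependent F (fun j => (bW j : V)) :=
    bW.linearIndependent.map' (LinearMap.ker N ⊓ W₀).subtype (Submodule.ker_subtype _)
  have hspanρ : Submodule.span F (Set.range (fun i => (bR i : V))) = LinearMap.range N := by
    have h1 : (fun i => (bR i : V)) = (LinearMap.range N).subtype ∘ bR := rfl
    rw [h1, Set.range_comp, ← Submodule.map_span, bR.span_eq, Submodule.map_top,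
      Submodule.range_subtype]
  have hspanw : Submodule.span F (Set.range (fun j => (bW j : V))) = LinearMap.ker N ⊓ W₀ := by
    have h1 : (fun j => (bW j : V)) = (LinearMap.ker N ⊓ W₀).subtype ∘ bW := rfl
    rw [h1, Set.range_comp, ← Submodule.map_span, bW.span_eq, Submodule.map_top,
      Submodule.range_subtype]
  have hρw : LinearIndependent F
      (Sum.elim (fun i => (bR i : V)) (fun j => (bW j : V))) := by
    apply LinearIndependent.sum_type hρ hw
    rw [hspanρ, hspanw]
    exact hRW
  have hspanρw : Submodule.span F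
      (Set.range (Sum.elim (fun i => (bR i : V)) (fun j => (bW j : V)))) = LinearMap.ker N := by
    rw [Set.Sum.elim_range, Submodule.span_union, hspanρ, hspanw, hRWK]
  have huLI : LinearIndependent F u := by
    apply LinearIndependent.of_comp N
    have h1 : N ∘ u = fun i => (bR i : V) := funext hu
    rw [h1]
    exact hρ
  have hdisj : Disjoint (Submodule.span F (Set.range u)) (LinearMap.ker N) := by
    rw [Submodule.disjoint_def]
    intro x hxu hxK
    obtain ⟨c, rfl⟩ := (Submodule.mem_span_range_iff_exists_fun F).mp hxu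
    rw [LinearMap.mem_ker, map_sum] at hxK
    simp only [map_smul, hu] at hxK
    have h0 := (Fintype.linearIndependent_iff.mp hρ) c hxK
    simp [h0]
  have hv : LinearIndependent F
      (Sum.elim u (Sum.elim (fun i => (bR i : V)) (fun j => (bW j : V)))) := by
    apply LinearIndependent.sum_type huLI hρw
    rw [hspanρw]
    exact hdisj
  have hcard : Fintype.card (Fin r ⊕ (Fin r ⊕ Fin m)) = finrank F V := by
    simp only [Fintype.card_sum, Fintype.card_fin]
    exact hm
  by_cases hne : Nonempty (Fin r ⊕ (Fin r ⊕ Fin m))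
  · refine ⟨basisOfLinearIndependentOfCardEqFinrank hv hcard, ?_, ?_⟩
    · intro i
      rw [coe_basisOfLinearIndependentOfCardEqFinrank]
      exact hu i
    · rintro (i | j)
      · rw [coe_basisOfLinearIndependentOfCardEqFinrank]
        exact LinearMap.mem_ker.mp (hRK (bR i).2)
      · rw [coe_basisOfLinearIndependentOfCardEqFinrank]
        have : (bW j : V) ∈ LinearMap.ker N ⊓ W₀ := (bW j).2
        exact LinearMap.mem_ker.mp (Submodule.mem_inf.mp this).1
  · have hemp : IsEmpty (Fin r ⊕ (Fin r ⊕ Fin m)) := not_nonempty_iff.mp hne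
    have hV0 : finrank F V = 0 := by rw [← hcard]; exact Fintype.card_eq_zero
    have : Subsingleton V := Module.finrank_zero_iff.mp hV0
    refine ⟨Basis.empty V, fun i => (hemp.false (Sum.inl i)).elim,
      fun k => (hemp.false (Sum.inr k)).elim⟩

/-- Two square-zero endomorphisms of the same nonzero rank are conjugate by a linear automorphism of
determinant one, provided every unit of `F` is a square. -/
theorem exists_conj_det_one (N₁ N₂ : V →ₗ[F] V) (hN₁ : N₁ ∘ₗ N₁ = 0) (hN₂ : N₂ ∘ₗ N₂ = 0)
    (hrank : finrank F (LinearMap.range N₁) = finrank F (LinearMap.range N₂))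
    (hpos : N₁ ≠ 0) (hsq : ∀ x : F, ∃ y : F, y * y = x) :
    ∃ g : V ≃ₗ[F] V, (g : V →ₗ[F] V) ∘ₗ N₁ = N₂ ∘ₗ (g : V →ₗ[F] V) ∧
      LinearMap.det (g : V →ₗ[F] V) = 1 := by
  classical
  set r := finrank F (LinearMap.range N₁) with hr
  have hRK : LinearMap.range N₁ ≤ LinearMap.ker N₁ := by
    rintro _ ⟨x, rfl⟩
    rw [LinearMap.mem_ker, ← LinearMap.comp_apply, hN₁]
    rfl
  have hrn : finrank F (LinearMap.range N₁) + finrank F (LinearMap.ker N₁) = finrank F V :=
    LinearMap.finrank_range_add_finrank_ker N₁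
  have hle : finrank F (LinearMap.range N₁) ≤ finrank F (LinearMap.ker N₁) :=
    Submodule.finrank_mono hRK
  have hm : r + (r + (finrank F V - (r + r))) = finrank F V := by omega
  have hrpos : 0 < r := by
    rw [hr, Module.finrank_pos_iff_exists_ne_zero]
    by_contra hcon
    push Not at hcon
    apply hpos
    apply LinearMap.ext
    intro x
    have := hcon ⟨N₁ x, LinearMap.mem_range_self N₁ x⟩
    exact congrArg Subtype.val this
  obtain ⟨B₁, hB₁a, hB₁b⟩ := exists_adapted_basis N₁ hN₁ r (finrank F V - (r + r)) rfl hm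
  obtain ⟨B₂, hB₂a, hB₂b⟩ := exists_adapted_basis N₂ hN₂ r (finrank F V - (r + r)) hrank.symm hm
  -- first conjugating map
  set g₀ : V ≃ₗ[F] V := B₁.equiv B₂ (Equiv.refl _) with hg₀
  have hδ : IsUnit (LinearMap.det (g₀ : V →ₗ[F] V)) := LinearEquiv.isUnit_det' g₀
  obtain ⟨μ, hμ⟩ := hsq (LinearMap.det (g₀ : V →ₗ[F] V))
  have hμ0 : μ ≠ 0 := by
    rintro rfl
    rw [mul_zero] at hμ
    exact hδ.ne_zero hμ.symm
  let i₀ : Fin r := ⟨0, hrpos⟩
  let wf : Fin r ⊕ (Fin r ⊕ Fin (finrank F V - (r + r))) → Fˣ :=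
    Sum.elim (fun i => if i = i₀ then Units.mk0 μ hμ0 else 1)
      (Sum.elim (fun i => if i = i₀ then Units.mk0 μ hμ0 else 1) (fun _ => 1))
  set B₁' := B₁.unitsSMul wf with hB₁'
  have hB₁'a : ∀ i, N₁ (B₁' (Sum.inl i)) = B₁' (Sum.inr (Sum.inl i)) := by
    intro i
    rw [hB₁', Basis.unitsSMul_apply, Basis.unitsSMul_apply, Units.smul_def, Units.smul_def,
      map_smul, hB₁a]
    rfl
  have hB₁'b : ∀ k, N₁ (B₁' (Sum.inr k)) = 0 := by
    intro k
    rw [hB₁', Basis.unitsSMul_apply, Units.smul_def, map_smul, hB₁b, smul_zero]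
  set g : V ≃ₗ[F] V := B₁'.equiv B₂ (Equiv.refl _) with hg
  have hgB : ∀ k, g (B₁' k) = B₂ k := fun k => by rw [hg, Basis.equiv_apply]; rfl
  refine ⟨g, ?_, ?_⟩
  · apply B₁'.ext
    rintro (i | k)
    · rw [LinearMap.comp_apply, LinearMap.comp_apply, hB₁'a, LinearEquiv.coe_coe, hgB, hgB, hB₂a]
    · rw [LinearMap.comp_apply, LinearMap.comp_apply, hB₁'b, LinearEquiv.coe_coe, hgB, hB₂b,
        map_zero]
  · -- determinant
    set s : V →ₗ[F] V := Matrix.toLin B₁ B₁ (Matrix.diagonal (fun k => ((wf k : Fˣ) : F))) with hs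
    have hsB : ∀ k, s (B₁ k) = (wf k : F) • B₁ k := by
      intro k
      rw [hs, Matrix.toLin_self]
      rw [Finset.sum_eq_single k]
      · rw [Matrix.diagonal_apply_eq]
      · intro j _ hjk
        rw [Matrix.diagonal_apply_ne _ hjk, zero_smul]
      · intro h
        exact absurd (Finset.mem_univ k) h
    have hdets : LinearMap.det s = μ * μ := by
      rw [hs, LinearMap.det_toLin, Matrix.det_diagonal, Fintype.prod_sum_type,
        Fintype.prod_sum_type]
      simp only [wf, Sum.elim_inl, Sum.elim_inr, Units.val_one, Finset.prod_const_one, mul_one]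
      have h1 : ∏ i : Fin r, ((if i = i₀ then Units.mk0 μ hμ0 else 1 : Fˣ) : F) = μ := by
        rw [Finset.prod_eq_single i₀]
        · rw [if_pos rfl]; rfl
        · intro j _ hj
          rw [if_neg hj]; rfl
        · intro h
          exact absurd (Finset.mem_univ i₀) h
      rw [h1]
    have hcomp : (g : V →ₗ[F] V) ∘ₗ s = (g₀ : V →ₗ[F] V) := by
      apply B₁.ext
      intro k
      rw [LinearMap.comp_apply, hsB, LinearEquiv.coe_coe, LinearEquiv.coe_coe, hg₀,
        Basis.equiv_apply]
      have h2 : (wf k : F) • B₁ k = B₁' k := by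
        rw [hB₁', Basis.unitsSMul_apply]
        rfl
      rw [h2, hgB]
      rfl
    have hdet := congrArg LinearMap.det hcomp
    rw [LinearMap.det_comp, hdets, ← hμ] at hdet
    have hμμ : μ * μ ≠ 0 := mul_ne_zero hμ0 hμ0
    exact mul_right_cancel₀ hμμ (by rw [hdet, one_mul])

end

end Cfsg.Agent.Lib.Helper13
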