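import Mathlib
import Cfsg.Agent.Lib.Helper13.OrthFrame2

/-!
# Small imprimitive subgroups of orthogonal groups: hyperbolic planes over small fields

Block lemmas for hyperbolic planes over the fields with `2`, `4`, `5` elements, a frame overgroup
in characteristic different from `2`, `3`, and the overgroup fixing all frame vectors in
characteristic two.
-/

set_option autoImplicit false
set_option linter.unusedSectionVars false
set_option linter.unusedVariables false

namespace Cfsg.Agent.Lib.Helper13

open Module QuadraticMap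

section smallA
variable {F V : Type*} [Field F] [Fintype F] [AddCommGroup V] [Module F V]
  [FiniteDimensional F V] (Q : QuadraticForm F V)

/-- a vector not orthogonal to two different members lies in no member -/
theorem not_mem_of_two {t : ℕ} (D : Fin t → Submodule F V)
    (horth : ∀ i j, i ≠ j → ∀ x ∈ D i, ∀ y ∈ D j, polar Q x y = 0)
    (i j : Fin t) (hij : i ≠ j) (y wi wj : V) (hwi : wi ∈ D i) (hwj : wj ∈ D j)
    (hi : polar Q y wi ≠ 0) (hj : polar Q y wj ≠ 0) : ¬ ∃ l, y ∈ D l := by
  rintro ⟨l, hl⟩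
  by_cases h : l = i
  · subst h
    exact hj (horth l j hij y hl wj hwj)
  · exact hi (horth l i h y hl wi hwi)

/-- a hyperbolic partner inside a nondegenerate subspace -/
theorem hyp_partner (X : Submodule F V) (hX : NondegOn Q X) (e : V) (he : e ∈ X) (he0 : e ≠ 0)
    (hQe : Q e = 0) : ∃ f ∈ X, Q f = 0 ∧ polar Q e f = 1 := by
  have hex : ∃ y ∈ X, polar Q e y ≠ 0 := by
    by_contra hne
    push Not at hne
    exact he0 (hX e he hne)
  obtain ⟨y, hyX, hy⟩ := hex
  obtain ⟨f₀, hf₀⟩ : ∃ f₀, f₀ = (polar Q e y)⁻¹ • y := ⟨_, rfl⟩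
  have hf₀X : f₀ ∈ X := by
    rw [hf₀]
    exact X.smul_mem _ hyX
  have h1 : polar Q e f₀ = 1 := by
    rw [hf₀, polar_smul_right, smul_eq_mul, inv_mul_cancel₀ hy]
  refine ⟨f₀ - Q f₀ • e, X.sub_mem hf₀X (X.smul_mem _ he), ?_, ?_⟩
  · rw [sub_eq_add_neg, QuadraticMap.map_add Q, QuadraticMap.map_neg, QuadraticMap.map_smul, hQe,
      polar_neg_right, polar_smul_right, polar_comm Q f₀ e, h1]
    simp
  · rw [polar_sub_right, polar_smul_right, polar_self, hQe, h1]
    simp

/-- coordinates in a hyperbolic plane -/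
theorem hyp_plane (X : Submodule F V) (hX : NondegOn Q X) (hdim : finrank F X = 2) (e : V)
    (he : e ∈ X) (he0 : e ≠ 0) (hQe : Q e = 0) :
    ∃ f ∈ X, Q f = 0 ∧ polar Q e f = 1 ∧
      ∀ x ∈ X, x = polar Q f x • e + polar Q e x • f := by
  obtain ⟨f, hfX, hQf, hef⟩ := hyp_partner Q X hX e he he0 hQe
  refine ⟨f, hfX, hQf, hef, ?_⟩
  have hfe : polar Q f e = 1 := by
    rw [polar_comm]
    exact hef
  have hee : polar Q e e = 0 := by rw [polar_self, hQe, smul_zero]
  have hff : polar Q f f = 0 := by rw [polar_self, hQf, smul_zero]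
  have hfr := Cfsg.Agent.Lib.Helper6.finrank_inf_ker_add_one X (polarBilin Q e) f hfX
    (by
      change polar Q e f ≠ 0
      rw [hef]
      exact one_ne_zero)
  have hL : finrank F ↥(X ⊓ LinearMap.ker (polarBilin Q e)) = 1 := by omega
  intro x hx
  have hx'X : x - polar Q f x • e - polar Q e x • f ∈ X :=
    X.sub_mem (X.sub_mem hx (X.smul_mem _ he)) (X.smul_mem _ hfX)
  have h1 : polar Q e (x - polar Q f x • e - polar Q e x • f) = 0 := by
    rw [polar_sub_right, polar_sub_right, polar_smul_right, polar_smul_right, hee, hef]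
    simp
  have h2 : polar Q f (x - polar Q f x • e - polar Q e x • f) = 0 := by
    rw [polar_sub_right, polar_sub_right, polar_smul_right, polar_smul_right, hfe, hff]
    simp
  have heL : e ∈ X ⊓ LinearMap.ker (polarBilin Q e) :=
    Submodule.mem_inf.mpr ⟨he, LinearMap.mem_ker.mpr hee⟩
  have hxL : x - polar Q f x • e - polar Q e x • f ∈ X ⊓ LinearMap.ker (polarBilin Q e) :=
    Submodule.mem_inf.mpr ⟨hx'X, LinearMap.mem_ker.mpr h1⟩
  obtain ⟨r, hr⟩ := exists_smul_of_finrank_one _ hL e _ heL hxL he0
  have hr0 : r = 0 := by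
    have h3 := h2
    rw [hr, polar_smul_right, hfe, smul_eq_mul, mul_one] at h3
    exact h3
  rw [hr0, zero_smul, sub_sub, sub_eq_zero] at hr
  exact hr

/-- the complement of a hyperbolic pair inside a nondegenerate subspace -/
theorem hyp_compl (X : Submodule F V) (hX : NondegOn Q X) (e f : V) (he : e ∈ X) (hf : f ∈ X)
    (hQe : Q e = 0) (hQf : Q f = 0) (hef : polar Q e f = 1) :
    NondegOn Q (X ⊓ LinearMap.ker (polarBilin Q e) ⊓ LinearMap.ker (polarBilin Q f)) ∧
    finrank F ↥(X ⊓ LinearMap.ker (polarBilin Q e) ⊓ LinearMap.ker (polarBilin Q f)) + 2 =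
      finrank F X ∧
    ∀ u ∈ X, u - polar Q f u • e - polar Q e u • f ∈
      X ⊓ LinearMap.ker (polarBilin Q e) ⊓ LinearMap.ker (polarBilin Q f) := by
  have hfe : polar Q f e = 1 := by
    rw [polar_comm]
    exact hef
  have hee : polar Q e e = 0 := by rw [polar_self, hQe, smul_zero]
  have hff : polar Q f f = 0 := by rw [polar_self, hQf, smul_zero]
  have hproj : ∀ u ∈ X, u - polar Q f u • e - polar Q e u • f ∈
      X ⊓ LinearMap.ker (polarBilin Q e) ⊓ LinearMap.ker (polarBilin Q f) := by
    intro u hu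
    refine Submodule.mem_inf.mpr ⟨Submodule.mem_inf.mpr
      ⟨X.sub_mem (X.sub_mem hu (X.smul_mem _ he)) (X.smul_mem _ hf), ?_⟩, ?_⟩
    · rw [LinearMap.mem_ker]
      change polar Q e (u - polar Q f u • e - polar Q e u • f) = 0
      rw [polar_sub_right, polar_sub_right, polar_smul_right, polar_smul_right, hee, hef]
      simp
    · rw [LinearMap.mem_ker]
      change polar Q f (u - polar Q f u • e - polar Q e u • f) = 0
      rw [polar_sub_right, polar_sub_right, polar_smul_right, polar_smul_right, hfe, hff]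
      simp
  refine ⟨?_, ?_, hproj⟩
  · intro z hz hzy
    obtain ⟨hz1, hzf⟩ := Submodule.mem_inf.mp hz
    obtain ⟨hzX, hze⟩ := Submodule.mem_inf.mp hz1
    have hze' : polar Q e z = 0 := LinearMap.mem_ker.mp hze
    have hzf' : polar Q f z = 0 := LinearMap.mem_ker.mp hzf
    apply hX z hzX
    intro u hu
    have := hzy _ (hproj u hu)
    rw [polar_sub_right, polar_sub_right, polar_smul_right, polar_smul_right, polar_comm Q z e,
      hze', polar_comm Q z f, hzf'] at this
    simpa using this
  · have h1 := Cfsg.Agent.Lib.Helper6.finrank_inf_ker_add_one X (polarBilin Q e) f hf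
      (by
        change polar Q e f ≠ 0
        rw [hef]
        exact one_ne_zero)
    have h2 := Cfsg.Agent.Lib.Helper6.finrank_inf_ker_add_one
      (X ⊓ LinearMap.ker (polarBilin Q e)) (polarBilin Q f) e
      (Submodule.mem_inf.mpr ⟨he, LinearMap.mem_ker.mpr hee⟩)
      (by
        change polar Q f e ≠ 0
        rw [hfe]
        exact one_ne_zero)
    omega

/-- `Q` and the polar form in hyperbolic coordinates -/
theorem hyp_coords (e f : V) (hQe : Q e = 0) (hQf : Q f = 0) (hef : polar Q e f = 1) :
    (∀ α β : F, Q (α • e + β • f) = α * β) ∧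
    ∀ α β γ δ : F, polar Q (α • e + β • f) (γ • e + δ • f) = α * δ + β * γ := by
  have hfe : polar Q f e = 1 := by
    rw [polar_comm]
    exact hef
  constructor
  · intro α β
    rw [QuadraticMap.map_add Q, QuadraticMap.map_smul, QuadraticMap.map_smul, hQe, hQf,
      polar_smul_left, polar_smul_right, hef]
    simp
  · intro α β γ δ
    simp only [polar_add_left, polar_add_right, polar_smul_left, polar_smul_right, polar_self,
      hQe, hQf, hef, hfe, smul_eq_mul, smul_zero]
    ring

/-- the hyperbolic plane over the field with two elements -/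
theorem blockA (hF : ∀ x : F, x = 0 ∨ x = 1) (X : Submodule F V) (hX : NondegOn Q X)
    (hdim : finrank F X = 2) (e : V) (he : e ∈ X) (he0 : e ≠ 0) (hQe : Q e = 0) :
    ∃ n ∈ X, ∃ w ∈ X, Q n = 1 ∧ Q w = 0 ∧ polar Q n w ≠ 0 ∧
      ∀ x ∈ X, ∀ y ∈ X, Q x = 1 → Q y = 1 → polar Q x y = 0 := by
  obtain ⟨f, hfX, hQf, hef, hspan⟩ := hyp_plane Q X hX hdim e he he0 hQe
  obtain ⟨hQc, -⟩ := hyp_coords Q e f hQe hQf hef
  have hfe : polar Q f e = 1 := by
    rw [polar_comm]
    exact hef
  have h2 : (2 : F) = 0 := by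
    rcases hF 2 with h | h
    · exact h
    · exfalso
      have : (1 : F) = 0 := by linear_combination h
      exact one_ne_zero this
  have hQn : Q (e + f) = 1 := by
    rw [QuadraticMap.map_add Q, hQe, hQf, hef]
    simp
  have honly : ∀ x ∈ X, Q x = 1 → x = e + f := by
    intro x hx hQx
    obtain ⟨α, β, hxe⟩ : ∃ α β : F, x = α • e + β • f := ⟨_, _, hspan x hx⟩
    rw [hxe, hQc] at hQx
    have ha : α = 1 := by
      rcases hF α with h | h
      · rw [h, zero_mul] at hQx
        exact absurd hQx zero_ne_one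
      · exact h
    have hb : β = 1 := by
      rcases hF β with h | h
      · rw [h, mul_zero] at hQx
        exact absurd hQx zero_ne_one
      · exact h
    rw [hxe, ha, hb, one_smul, one_smul]
  refine ⟨e + f, X.add_mem he hfX, e, he, hQn, hQe, ?_, ?_⟩
  · rw [polar_add_left, polar_self, hQe, hfe]
    simp
  · intro x hx y hy hQx hQy
    rw [honly x hx hQx, honly y hy hQy, polar_self, hQn, nsmul_eq_mul, Nat.cast_ofNat, mul_one]
    exact h2

/-- the hyperbolic plane over the field with five elements -/
theorem blockC (hq : Fintype.card F = 5) (X : Submodule F V) (hX : NondegOn Q X)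
    (hdim : finrank F X = 2) (e : V) (he : e ∈ X) (he0 : e ≠ 0) (hQe : Q e = 0) :
    ∃ w ∈ X, ∃ w' ∈ X, Q w = 1 ∧ w' ≠ 0 ∧ polar Q w w' = 0 ∧
      ∀ x ∈ X, ∀ y ∈ X, Q x = 1 → Q y = 1 → polar Q x y = 0 ∨ x = y ∨ x = -y := by
  obtain ⟨f, hfX, hQf, hef, hspan⟩ := hyp_plane Q X hX hdim e he he0 hQe
  obtain ⟨hQc, hpc⟩ := hyp_coords Q e f hQe hQf hef
  have h5 : (5 : F) = 0 := by
    have := Nat.cast_card_eq_zero F
    rw [hq] at this
    exact_mod_cast this
  have hmem : ∀ α β : F, α • e + β • f ∈ X := fun α β =>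
    X.add_mem (X.smul_mem _ he) (X.smul_mem _ hfX)
  have hQw' : Q ((2 : F) • e + (3 : F) • f) = 1 := by
    rw [hQc]
    linear_combination h5
  refine ⟨(1 : F) • e + (1 : F) • f, hmem _ _, (2 : F) • e + (3 : F) • f, hmem _ _, ?_, ?_, ?_, ?_⟩
  · rw [hQc, mul_one]
  · intro h
    rw [h, QuadraticMap.map_zero] at hQw'
    exact zero_ne_one hQw'
  · rw [hpc]
    linear_combination h5
  · intro x hx y hy hQx hQy
    obtain ⟨α, β, hxe⟩ : ∃ α β : F, x = α • e + β • f := ⟨_, _, hspan x hx⟩
    obtain ⟨γ, δ, hye⟩ : ∃ γ δ : F, y = γ • e + δ • f := ⟨_, _, hspan y hy⟩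
    subst hxe
    subst hye
    rw [hQc] at hQx hQy
    rw [hpc]
    have hα : α ≠ 0 := by
      rintro rfl
      rw [zero_mul] at hQx
      exact zero_ne_one hQx
    have hδ : δ ≠ 0 := by
      rintro rfl
      rw [mul_zero] at hQy
      exact zero_ne_one hQy
    have hz0 : α * δ ≠ 0 := mul_ne_zero hα hδ
    have h4 : (α * δ) ^ 4 = 1 := by
      have h := FiniteField.pow_card_sub_one_eq_one (α * δ) hz0
      rw [hq] at h
      exact h
    have hfac : ((α * δ) * (α * δ) - 1) * ((α * δ) * (α * δ) + 1) = 0 := by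
      linear_combination h4
    rcases mul_eq_zero.mp hfac with hc | hc
    · have hfac2 : (α * δ - 1) * (α * δ + 1) = 0 := by linear_combination hc
      rcases mul_eq_zero.mp hfac2 with hz1 | hz1
      · -- `α δ = 1`
        right; left
        have h1 : α * (δ - β) = 0 := by linear_combination hz1 - hQx
        have h2 : (γ - α) * δ = 0 := by linear_combination hQy - hz1
        have hδβ : δ = β := by
          rcases mul_eq_zero.mp h1 with h | h
          · exact absurd h hα
          · linear_combination h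
        have hγα : γ = α := by
          rcases mul_eq_zero.mp h2 with h | h
          · linear_combination h
          · exact absurd h hδ
        rw [hδβ, hγα]
      · -- `α δ = -1`
        right; right
        have h1 : α * (δ + β) = 0 := by linear_combination hz1 + hQx
        have h2 : (γ + α) * δ = 0 := by linear_combination hQy + hz1
        have hδβ : δ = -β := by
          rcases mul_eq_zero.mp h1 with h | h
          · exact absurd h hα
          · linear_combination h
        have hγα : γ = -α := by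
          rcases mul_eq_zero.mp h2 with h | h
          · linear_combination h
          · exact absurd h hδ
        rw [hδβ, hγα]
        module
    · left
      have h1 : (α * δ) * (α * δ + β * γ) = 0 := by
        linear_combination hc + (γ * δ) * hQx + hQy
      rcases mul_eq_zero.mp h1 with h | h
      · exact absurd h hz0
      · exact h

/-- the hyperbolic plane over the field with four elements -/
theorem blockB (hq : Fintype.card F = 4) (X : Submodule F V) (hX : NondegOn Q X)
    (hdim : finrank F X = 2) (e : V) (he : e ∈ X) (he0 : e ≠ 0) (hQe : Q e = 0) :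
    ∃ n ∈ X, ∃ n' ∈ X, Q n = 1 ∧ Q n' = 1 ∧ polar Q n n' = 1 ∧
      ∀ x ∈ X, ∀ y ∈ X, Q x = 1 → Q y = 1 → polar Q x y = 0 ∨ polar Q x y = 1 := by
  classical
  obtain ⟨f, hfX, hQf, hef, hspan⟩ := hyp_plane Q X hX hdim e he he0 hQe
  obtain ⟨hQc, hpc⟩ := hyp_coords Q e f hQe hQf hef
  have h4 : (4 : F) = 0 := by
    have := Nat.cast_card_eq_zero F
    rw [hq] at this
    exact_mod_cast this
  have h2 : (2 : F) = 0 := by
    have : (2 : F) * 2 = 0 := by linear_combination h4
    exact mul_self_eq_zero.mp this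
  obtain ⟨ω, hω0, hω1⟩ : ∃ ω : F, ω ≠ 0 ∧ ω ≠ 1 := by
    by_contra h
    push Not at h
    have hle : Fintype.card F ≤ 2 := by
      calc Fintype.card F = (Finset.univ : Finset F).card := rfl
        _ ≤ ({0, 1} : Finset F).card := by
          apply Finset.card_le_card
          intro x _
          by_cases hx : x = 0
          · simp [hx]
          · simp [h x hx]
        _ ≤ 2 := Finset.card_le_two
    omega
  have hcube : ∀ z : F, z ≠ 0 → z * z * z = 1 := by
    intro z hz
    have h := FiniteField.pow_card_sub_one_eq_one z hz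
    rw [hq] at h
    have h' : z ^ 3 = 1 := h
    linear_combination h'
  have hω : ω * ω + ω + 1 = 0 := by
    have h1 : (ω - 1) * (ω * ω + ω + 1) = 0 := by linear_combination hcube ω hω0
    rcases mul_eq_zero.mp h1 with h | h
    · exact absurd (sub_eq_zero.mp h) hω1
    · exact h
  have hmem : ∀ α β : F, α • e + β • f ∈ X := fun α β =>
    X.add_mem (X.smul_mem _ he) (X.smul_mem _ hfX)
  refine ⟨(1 : F) • e + (1 : F) • f, hmem _ _, ω • e + (ω * ω) • f, hmem _ _, ?_, ?_, ?_, ?_⟩
  · rw [hQc, mul_one]
  · rw [hQc]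
    linear_combination hcube ω hω0
  · rw [hpc]
    linear_combination hω - h2
  · intro x hx y hy hQx hQy
    obtain ⟨α, β, hxe⟩ : ∃ α β : F, x = α • e + β • f := ⟨_, _, hspan x hx⟩
    obtain ⟨γ, δ, hye⟩ : ∃ γ δ : F, y = γ • e + δ • f := ⟨_, _, hspan y hy⟩
    subst hxe
    subst hye
    rw [hQc] at hQx hQy
    rw [hpc]
    have hα : α ≠ 0 := by
      rintro rfl
      rw [zero_mul] at hQx
      exact zero_ne_one hQx
    have hδ : δ ≠ 0 := by
      rintro rfl
      rw [mul_zero] at hQy
      exact zero_ne_one hQy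
    have hz0 : α * δ ≠ 0 := mul_ne_zero hα hδ
    have hz3 := hcube (α * δ) hz0
    have hprod : (α * δ) * (β * γ) = 1 := by linear_combination (γ * δ) * hQx + hQy
    have hfac : (α * δ - 1) * ((α * δ) * (α * δ) + α * δ + 1) = 0 := by
      linear_combination hz3
    rcases mul_eq_zero.mp hfac with hc | hc
    · left
      have hz1 : α * δ = 1 := sub_eq_zero.mp hc
      have hbg : β * γ = 1 := by
        rw [hz1, one_mul] at hprod
        exact hprod
      rw [hz1, hbg]
      linear_combination h2
    · right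
      have h1 : (α * δ) * (β * γ - (α * δ) * (α * δ)) = 0 := by
        linear_combination hprod - hz3
      have hbg : β * γ = (α * δ) * (α * δ) := by
        rcases mul_eq_zero.mp h1 with h | h
        · exact absurd h hz0
        · exact sub_eq_zero.mp h
      rw [hbg]
      linear_combination hc - h2

end smallA

end Cfsg.Agent.Lib.Helper13
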