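import Mathlib
import Cfsg.Agent.Lib.Helper13.OrthSmallA

/-!
# Small imprimitive subgroups of orthogonal groups: overgroups for decompositions into planes

Frame overgroup in characteristic different from `2`, `3`; the overgroup fixing all frame vectors
(field with two elements); the overgroup preserving the additive group generated by the frame
vectors (field with four elements).
-/

set_option autoImplicit false
set_option linter.unusedSectionVars false
set_option linter.unusedVariables false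

namespace Cfsg.Agent.Lib.Helper13

open Module QuadraticMap

section smallB
variable {F V : Type*} [Field F] [Fintype F] [AddCommGroup V] [Module F V]
  [FiniteDimensional F V] (Q : QuadraticForm F V)

/-- **Frame overgroup, characteristic different from two and three.** -/
theorem frame_core2 (hQ : (polarBilin Q).Nondegenerate) (h2 : (2 : F) ≠ 0) (h3 : (3 : F) ≠ 0)
    {t : ℕ} (D : Fin t → Submodule F V) (c : F) (hc : c ≠ 0)
    (horth : ∀ i j, i ≠ j → ∀ x ∈ D i, ∀ y ∈ D j, polar Q x y = 0)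
    (hP : ∀ i, ∀ x ∈ D i, ∀ y ∈ D i, Q x = c → Q y = c → polar Q x y = 0 ∨ x = y ∨ x = -y)
    (ix : Fin 5 → Fin t) (hix : Function.Injective ix) (v : Fin 5 → V)
    (hv : ∀ j, v j ∈ D (ix j)) (hvc : ∀ j, Q (v j) = c)
    (v' : V) (hv' : v' ∈ D (ix 0)) (hv'0 : v' ≠ 0) (hvv' : polar Q (v 0) v' = 0)
    (hdisj : D (ix 0) ⊓ D (ix 1) = ⊥) :
    (∀ g : isoGroup Q, g ∈ commutator (isoGroup Q) →
      (∃ σ : Equiv.Perm (Fin t), ∀ i, (D i).map g.1.toLinearMap = D (σ i)) →
        ∀ x, g.1 x ∈ frameSet Q D c ↔ x ∈ frameSet Q D c) ∧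
    (∃ g ∈ commutator (isoGroup Q), (∀ x, g.1 x ∈ frameSet Q D c ↔ x ∈ frameSet Q D c) ∧
      ¬ ∃ σ : Equiv.Perm (Fin t), ∀ i, (D i).map g.1.toLinearMap = D (σ i)) ∧
    (∃ g ∈ commutator (isoGroup Q), ¬ ∀ x, g.1 x ∈ frameSet Q D c ↔ x ∈ frameSet Q D c) := by
  have hne : ∀ a b : Fin 5, a ≠ b → ix a ≠ ix b := fun a b hab h => hab (hix h)
  have hvorth : ∀ a b : Fin 5, a ≠ b → polar Q (v a) (v b) = 0 := fun a b hab =>
    horth _ _ (hne a b hab) _ (hv a) _ (hv b)
  have h2c : (2 : F) * c ≠ 0 := mul_ne_zero h2 hc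
  have hself : ∀ a, polar Q (v a) (v a) = 2 * c := fun a => by
    rw [polar_self, hvc, nsmul_eq_mul, Nat.cast_ofNat]
  have hnsub : ∀ a b : Fin 5, a ≠ b → Q (v a - v b) = 2 * c := by
    intro a b hab
    rw [sub_eq_add_neg, QuadraticMap.map_add Q, QuadraticMap.map_neg, polar_neg_right, hvc, hvc,
      hvorth a b hab]
    ring
  refine ⟨fun g _ hσ => frameSet_of_perm Q D c g hσ, ?_, ?_⟩
  · have hgΩ := reflA_mul_mem_commutator Q hQ (v 0 - v 1) (v 2 - v 3)
      (by rw [hnsub 0 1 (by decide)]; exact h2c)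
      (by rw [hnsub 0 1 (by decide), hnsub 2 3 (by decide)])
    have hsw : ∀ (a b : Fin 5), a ≠ b → ∀ x,
        (reflA Q (v a - v b)).1 x ∈ frameSet Q D c ↔ x ∈ frameSet Q D c := by
      intro a b hab x
      constructor
      · intro hx
        have := reflA_sub_mem_frameSet Q h2 D c hc horth hP (ix a) (ix b) (hne a b hab) (v a)
          (v b) (hv a) (hv b) (hvc a) (hvc b) _ hx
        rwa [reflA_reflA_apply] at this
      · exact reflA_sub_mem_frameSet Q h2 D c hc horth hP (ix a) (ix b) (hne a b hab) (v a)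
          (v b) (hv a) (hv b) (hvc a) (hvc b) x
    refine ⟨_, hgΩ, ?_, ?_⟩
    · intro x
      change (reflA Q (v 0 - v 1)).1 ((reflA Q (v 2 - v 3)).1 x) ∈ _ ↔ _
      rw [hsw 0 1 (by decide), hsw 2 3 (by decide)]
    · rintro ⟨σ, hσ⟩
      have hg0 : (reflA Q (v 0 - v 1) * reflA Q (v 2 - v 3)).1 (v 0) = v 1 := by
        change (reflA Q (v 0 - v 1)).1 ((reflA Q (v 2 - v 3)).1 (v 0)) = v 1
        rw [reflA_apply_of_orth Q (v 2 - v 3) (v 0) (by
          rw [polar_sub_left, hvorth 2 0 (by decide), hvorth 3 0 (by decide), sub_zero])]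
        exact reflA_sub_swap Q h2 (v 0) (v 1) c hc (hvc 0) (hvc 1) (hvorth 0 1 (by decide))
      have hb : ∀ b : Fin 5, b ≠ 0 → polar Q (v b) v' = 0 := fun b hb =>
        horth _ _ (hne b 0 hb) _ (hv b) _ hv'
      have hg' : (reflA Q (v 0 - v 1) * reflA Q (v 2 - v 3)).1 v' = v' := by
        change (reflA Q (v 0 - v 1)).1 ((reflA Q (v 2 - v 3)).1 v') = v'
        rw [reflA_apply_of_orth Q (v 2 - v 3) v' (by
            rw [polar_sub_left, hb 2 (by decide), hb 3 (by decide), sub_zero]),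
          reflA_apply_of_orth Q (v 0 - v 1) v' (by
            rw [polar_sub_left, hvv', hb 1 (by decide), sub_zero])]
      have hm1 : v 1 ∈ D (σ (ix 0)) := by
        have : (reflA Q (v 0 - v 1) * reflA Q (v 2 - v 3)).1 (v 0) ∈
            (D (ix 0)).map (reflA Q (v 0 - v 1) * reflA Q (v 2 - v 3)).1.toLinearMap :=
          ⟨v 0, hv 0, rfl⟩
        rwa [hσ (ix 0), hg0] at this
      have hm2 : v' ∈ D (σ (ix 0)) := by
        rw [← hσ (ix 0)]
        exact ⟨v', hv', hg'⟩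
      have hσ0 : σ (ix 0) = ix 1 := by
        by_contra hne'
        have := horth _ _ hne' _ hm1 _ (hv 1)
        rw [hself] at this
        exact h2c this
      rw [hσ0] at hm2
      have : v' ∈ D (ix 0) ⊓ D (ix 1) := Submodule.mem_inf.mpr ⟨hv', hm2⟩
      rw [hdisj] at this
      exact hv'0 ((Submodule.mem_bot F).mp this)
  · have hQ3 : ∀ a b d : Fin 5, a ≠ b → a ≠ d → b ≠ d → Q (v a + v b + v d) = 3 * c := by
      intro a b d hab had hbd
      rw [QuadraticMap.map_add Q, QuadraticMap.map_add Q, hvc, hvc, hvc, polar_add_left,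
        hvorth a b hab, hvorth a d had, hvorth b d hbd]
      ring
    have h3c : (3 : F) * c ≠ 0 := mul_ne_zero h3 hc
    have hgΩ := reflA_mul_mem_commutator Q hQ (v 0 + v 1 + v 2) (v 2 + v 3 + v 4)
      (by rw [hQ3 0 1 2 (by decide) (by decide) (by decide)]; exact h3c)
      (by rw [hQ3 0 1 2 (by decide) (by decide) (by decide),
        hQ3 2 3 4 (by decide) (by decide) (by decide)])
    refine ⟨_, hgΩ, ?_⟩
    intro hR
    have h0 : v 0 ∈ frameSet Q D c := ⟨hvc 0, ix 0, hv 0⟩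
    have h1 := (hR (v 0)).mpr h0
    obtain ⟨κ, hκ⟩ : ∃ κ : F, κ = (3 * c)⁻¹ * (2 * c) := ⟨_, rfl⟩
    have hκ0 : κ ≠ 0 := by
      rw [hκ]
      exact mul_ne_zero (inv_ne_zero h3c) h2c
    have hg0 : (reflA Q (v 0 + v 1 + v 2) * reflA Q (v 2 + v 3 + v 4)).1 (v 0) =
        v 0 - κ • (v 0 + v 1 + v 2) := by
      change (reflA Q (v 0 + v 1 + v 2)).1 ((reflA Q (v 2 + v 3 + v 4)).1 (v 0)) = _
      rw [reflA_apply_of_orth Q (v 2 + v 3 + v 4) (v 0) (by
          rw [polar_add_left, polar_add_left, hvorth 2 0 (by decide), hvorth 3 0 (by decide),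
            hvorth 4 0 (by decide)]
          simp),
        reflA_apply, hQ3 0 1 2 (by decide) (by decide) (by decide), polar_add_left,
        polar_add_left, hself, hvorth 1 0 (by decide), hvorth 2 0 (by decide), hκ]
      simp
    rw [hg0] at h1
    obtain ⟨-, l, hl⟩ := h1
    apply not_mem_of_two Q D horth (ix 1) (ix 2) (hne 1 2 (by decide)) _ (v 1) (v 2) (hv 1)
      (hv 2) ?_ ?_ ⟨l, hl⟩
    · have e : polar Q (v 0 - κ • (v 0 + v 1 + v 2)) (v 1) = -(κ * (2 * c)) := by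
        rw [polar_sub_left, polar_smul_left, polar_add_left, polar_add_left,
          hvorth 0 1 (by decide), hself, hvorth 2 1 (by decide), smul_eq_mul]
        ring
      rw [e]
      exact neg_ne_zero.mpr (mul_ne_zero hκ0 h2c)
    · have e : polar Q (v 0 - κ • (v 0 + v 1 + v 2)) (v 2) = -(κ * (2 * c)) := by
        rw [polar_sub_left, polar_smul_left, polar_add_left, polar_add_left,
          hvorth 0 2 (by decide), hvorth 1 2 (by decide), hself, smul_eq_mul]
        ring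
      rw [e]
      exact neg_ne_zero.mpr (mul_ne_zero hκ0 h2c)

/-- the product of the reflections in two sums of three frame vectors does not permute the
members (characteristic two) -/
theorem triple_not_perm (h2 : (2 : F) = 0) {t : ℕ} (D : Fin t → Submodule F V)
    (horth : ∀ i j, i ≠ j → ∀ x ∈ D i, ∀ y ∈ D j, polar Q x y = 0)
    (ix : Fin 6 → Fin t) (hix : Function.Injective ix) (v : Fin 6 → V)
    (hv : ∀ j, v j ∈ D (ix j)) (hvc : ∀ j, Q (v j) = 1)
    (w0 w1 w2 : V) (hw0 : w0 ∈ D (ix 0)) (hw1 : w1 ∈ D (ix 1)) (hw2 : w2 ∈ D (ix 2))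
    (hvw0 : polar Q (v 0) w0 ≠ 0) (hvw1 : polar Q (v 1) w1 ≠ 0) (hvw2 : polar Q (v 2) w2 ≠ 0) :
    Q (v 0 + v 1 + v 2) = 1 ∧ Q (v 3 + v 4 + v 5) = 1 ∧
    ¬ ∃ σ : Equiv.Perm (Fin t), ∀ i, (D i).map
      (reflA Q (v 0 + v 1 + v 2) * reflA Q (v 3 + v 4 + v 5)).1.toLinearMap = D (σ i) := by
  have hne : ∀ a b : Fin 6, a ≠ b → ix a ≠ ix b := fun a b hab h => hab (hix h)
  have hvorth : ∀ a b : Fin 6, a ≠ b → polar Q (v a) (v b) = 0 := fun a b hab =>
    horth _ _ (hne a b hab) _ (hv a) _ (hv b)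
  have hQ3 : ∀ a b d : Fin 6, a ≠ b → a ≠ d → b ≠ d → Q (v a + v b + v d) = 1 := by
    intro a b d hab had hbd
    rw [QuadraticMap.map_add Q, QuadraticMap.map_add Q, hvc, hvc, hvc, polar_add_left,
      hvorth a b hab, hvorth a d had, hvorth b d hbd]
    linear_combination h2
  refine ⟨hQ3 0 1 2 (by decide) (by decide) (by decide),
    hQ3 3 4 5 (by decide) (by decide) (by decide), ?_⟩
  rintro ⟨σ, hσ⟩
  have hb0 : polar Q (v 3 + v 4 + v 5) w0 = 0 := by
    rw [polar_add_left, polar_add_left, horth _ _ (hne 3 0 (by decide)) _ (hv 3) _ hw0,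
      horth _ _ (hne 4 0 (by decide)) _ (hv 4) _ hw0,
      horth _ _ (hne 5 0 (by decide)) _ (hv 5) _ hw0]
    simp
  have ha0 : polar Q (v 0 + v 1 + v 2) w0 = polar Q (v 0) w0 := by
    rw [polar_add_left, polar_add_left, horth _ _ (hne 1 0 (by decide)) _ (hv 1) _ hw0,
      horth _ _ (hne 2 0 (by decide)) _ (hv 2) _ hw0]
    simp
  have hgw : (reflA Q (v 0 + v 1 + v 2) * reflA Q (v 3 + v 4 + v 5)).1 w0 =
      w0 - polar Q (v 0) w0 • (v 0 + v 1 + v 2) := by
    change (reflA Q (v 0 + v 1 + v 2)).1 ((reflA Q (v 3 + v 4 + v 5)).1 w0) = _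
    rw [reflA_apply_of_orth Q _ w0 hb0, reflA_apply,
      hQ3 0 1 2 (by decide) (by decide) (by decide), ha0]
    simp
  have hmem : (reflA Q (v 0 + v 1 + v 2) * reflA Q (v 3 + v 4 + v 5)).1 w0 ∈ D (σ (ix 0)) := by
    rw [← hσ (ix 0)]
    exact ⟨w0, hw0, rfl⟩
  apply not_mem_of_two Q D horth (ix 1) (ix 2) (hne 1 2 (by decide)) _ w1 w2 hw1 hw2 ?_ ?_
    ⟨_, hmem⟩
  · have e : polar Q ((reflA Q (v 0 + v 1 + v 2) * reflA Q (v 3 + v 4 + v 5)).1 w0) w1 =
        -(polar Q (v 0) w0 * polar Q (v 1) w1) := by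
      rw [hgw, polar_sub_left, polar_smul_left, polar_add_left, polar_add_left,
        horth _ _ (hne 0 1 (by decide)) _ hw0 _ hw1,
        horth _ _ (hne 0 1 (by decide)) _ (hv 0) _ hw1,
        horth _ _ (hne 2 1 (by decide)) _ (hv 2) _ hw1, smul_eq_mul]
      ring
    rw [e]
    exact neg_ne_zero.mpr (mul_ne_zero hvw0 hvw1)
  · have e : polar Q ((reflA Q (v 0 + v 1 + v 2) * reflA Q (v 3 + v 4 + v 5)).1 w0) w2 =
        -(polar Q (v 0) w0 * polar Q (v 2) w2) := by
      rw [hgw, polar_sub_left, polar_smul_left, polar_add_left, polar_add_left,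
        horth _ _ (hne 0 2 (by decide)) _ hw0 _ hw2,
        horth _ _ (hne 0 2 (by decide)) _ (hv 0) _ hw2,
        horth _ _ (hne 1 2 (by decide)) _ (hv 1) _ hw2, smul_eq_mul]
      ring
    rw [e]
    exact neg_ne_zero.mpr (mul_ne_zero hvw0 hvw2)

/-- **Overgroup fixing all frame vectors, characteristic two.** -/
theorem coreA (hQ : (polarBilin Q).Nondegenerate) (h2 : (2 : F) = 0) {t : ℕ}
    (D : Fin t → Submodule F V)
    (horth : ∀ i j, i ≠ j → ∀ x ∈ D i, ∀ y ∈ D j, polar Q x y = 0)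
    (hP : ∀ i, ∀ x ∈ D i, ∀ y ∈ D i, Q x = 1 → Q y = 1 → polar Q x y = 0)
    (ix : Fin 6 → Fin t) (hix : Function.Injective ix) (v : Fin 6 → V)
    (hv : ∀ j, v j ∈ D (ix j)) (hvc : ∀ j, Q (v j) = 1)
    (w0 w1 w2 : V) (hw0 : w0 ∈ D (ix 0)) (hw1 : w1 ∈ D (ix 1)) (hw2 : w2 ∈ D (ix 2))
    (hvw0 : polar Q (v 0) w0 ≠ 0) (hvw1 : polar Q (v 1) w1 ≠ 0) (hvw2 : polar Q (v 2) w2 ≠ 0)
    (hQw0 : Q w0 = 0) :
    (∀ g : isoGroup Q, g ∈ commutator (isoGroup Q) →
      (∃ σ : Equiv.Perm (Fin t), ∀ i, (D i).map g.1.toLinearMap = D (σ i)) →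
        ∀ x, g.1 x ∈ frameSet Q D 1 ↔ x ∈ frameSet Q D 1) ∧
    (∃ g ∈ commutator (isoGroup Q), (∀ x, g.1 x ∈ frameSet Q D 1 ↔ x ∈ frameSet Q D 1) ∧
      ¬ ∃ σ : Equiv.Perm (Fin t), ∀ i, (D i).map g.1.toLinearMap = D (σ i)) ∧
    (∃ g ∈ commutator (isoGroup Q), ¬ ∀ x, g.1 x ∈ frameSet Q D 1 ↔ x ∈ frameSet Q D 1) := by
  have hne : ∀ a b : Fin 6, a ≠ b → ix a ≠ ix b := fun a b hab h => hab (hix h)
  have hvorth : ∀ a b : Fin 6, a ≠ b → polar Q (v a) (v b) = 0 := fun a b hab =>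
    horth _ _ (hne a b hab) _ (hv a) _ (hv b)
  obtain ⟨hQa, hQb, hnot⟩ := triple_not_perm Q h2 D horth ix hix v hv hvc w0 w1 w2 hw0 hw1 hw2
    hvw0 hvw1 hvw2
  refine ⟨fun g _ hσ => frameSet_of_perm Q D 1 g hσ, ?_, ?_⟩
  · have hfix : ∀ a b d : Fin 6, ∀ x ∈ frameSet Q D 1,
        (reflA Q (v a + v b + v d)).1 x = x := by
      intro a b d x hx
      obtain ⟨hQx, l, hxl⟩ := hx
      apply reflA_apply_of_orth
      have key : ∀ j : Fin 6, polar Q (v j) x = 0 := by
        intro j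
        by_cases hj : ix j = l
        · exact hP l (v j) (hj ▸ hv j) x hxl (hvc j) hQx
        · exact horth _ _ hj _ (hv j) _ hxl
      rw [polar_add_left, polar_add_left, key, key, key]
      simp
    have hgΩ := reflA_mul_mem_commutator Q hQ (v 0 + v 1 + v 2) (v 3 + v 4 + v 5)
      (by rw [hQa]; exact one_ne_zero) (by rw [hQa, hQb])
    have hgfix : ∀ x ∈ frameSet Q D 1,
        (reflA Q (v 0 + v 1 + v 2) * reflA Q (v 3 + v 4 + v 5)).1 x = x := by
      intro x hx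
      change (reflA Q (v 0 + v 1 + v 2)).1 ((reflA Q (v 3 + v 4 + v 5)).1 x) = x
      rw [hfix 3 4 5 x hx, hfix 0 1 2 x hx]
    refine ⟨_, hgΩ, ?_, hnot⟩
    intro x
    constructor
    · intro hx
      have h1 := hgfix _ hx
      have h3 : (reflA Q (v 0 + v 1 + v 2) * reflA Q (v 3 + v 4 + v 5)).1 x = x :=
        (reflA Q (v 0 + v 1 + v 2) * reflA Q (v 3 + v 4 + v 5)).1.injective h1
      rwa [h3] at hx
    · intro hx
      rw [hgfix x hx]
      exact hx
  · have hQa' : Q (w0 + v 1) = 1 := by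
      rw [QuadraticMap.map_add Q, hQw0, hvc, horth _ _ (hne 0 1 (by decide)) _ hw0 _ (hv 1)]
      simp
    have hgΩ := reflA_mul_mem_commutator Q hQ (w0 + v 1) (v 2)
      (by rw [hQa']; exact one_ne_zero) (by rw [hQa', hvc])
    refine ⟨_, hgΩ, ?_⟩
    intro hR
    have h0 : v 0 ∈ frameSet Q D 1 := ⟨hvc 0, ix 0, hv 0⟩
    have h1 := (hR (v 0)).mpr h0
    have hg0 : (reflA Q (w0 + v 1) * reflA Q (v 2)).1 (v 0) =
        v 0 - polar Q w0 (v 0) • (w0 + v 1) := by
      change (reflA Q (w0 + v 1)).1 ((reflA Q (v 2)).1 (v 0)) = _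
      rw [reflA_apply_of_orth Q (v 2) (v 0) (hvorth 2 0 (by decide)), reflA_apply, hQa',
        polar_add_left, hvorth 1 0 (by decide)]
      simp
    rw [hg0] at h1
    obtain ⟨-, l, hl⟩ := h1
    apply not_mem_of_two Q D horth (ix 0) (ix 1) (hne 0 1 (by decide)) _ w0 w1 hw0 hw1 ?_ ?_
      ⟨l, hl⟩
    · have e : polar Q (v 0 - polar Q w0 (v 0) • (w0 + v 1)) w0 = polar Q (v 0) w0 := by
        rw [polar_sub_left, polar_smul_left, polar_add_left, polar_self, hQw0,
          horth _ _ (hne 1 0 (by decide)) _ (hv 1) _ hw0]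
        simp
      rw [e]
      exact hvw0
    · have e : polar Q (v 0 - polar Q w0 (v 0) • (w0 + v 1)) w1 =
          -(polar Q w0 (v 0) * polar Q (v 1) w1) := by
        rw [polar_sub_left, polar_smul_left, polar_add_left,
          horth _ _ (hne 0 1 (by decide)) _ (hv 0) _ hw1,
          horth _ _ (hne 0 1 (by decide)) _ hw0 _ hw1, smul_eq_mul]
        ring
      rw [e]
      apply neg_ne_zero.mpr
      apply mul_ne_zero
      · rw [polar_comm]
        exact hvw0
      · exact hvw1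

/-- the additive group generated by the frame vectors of norm one -/
def frameLat {t : ℕ} (D : Fin t → Submodule F V) : Set V :=
  {x | x ∈ AddSubgroup.closure (frameSet Q D 1)}

theorem frameLat_map {t : ℕ} (D : Fin t → Submodule F V) (f : V ≃ₗ[F] V)
    (hf : ∀ x ∈ frameSet Q D 1, f x ∈ frameSet Q D 1) :
    ∀ x ∈ frameLat Q D, f x ∈ frameLat Q D := by
  intro x hx
  change x ∈ AddSubgroup.closure (frameSet Q D 1) at hx
  change f x ∈ AddSubgroup.closure (frameSet Q D 1)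
  induction hx using AddSubgroup.closure_induction with
  | mem y hy => exact AddSubgroup.subset_closure (hf y hy)
  | zero =>
    rw [map_zero]
    exact zero_mem _
  | add y z _ _ hy hz =>
    rw [map_add]
    exact add_mem hy hz
  | neg y _ hy =>
    rw [map_neg]
    exact neg_mem hy

theorem frameLat_of_frame {t : ℕ} (D : Fin t → Submodule F V) (g : isoGroup Q)
    (hfs : ∀ x, g.1 x ∈ frameSet Q D 1 ↔ x ∈ frameSet Q D 1) :
    ∀ x, g.1 x ∈ frameLat Q D ↔ x ∈ frameLat Q D := by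
  intro x
  constructor
  · intro hx
    have := frameLat_map Q D g.1.symm (fun y hy => by
      rw [← hfs, LinearEquiv.apply_symm_apply]
      exact hy) _ hx
    rwa [LinearEquiv.symm_apply_apply] at this
  · exact frameLat_map Q D g.1 (fun y hy => (hfs y).mpr hy) x

theorem zo_add (h2 : (2 : F) = 0) {a b : F} (ha : a = 0 ∨ a = 1) (hb : b = 0 ∨ b = 1) :
    a + b = 0 ∨ a + b = 1 := by
  rcases ha with ha | ha <;> rcases hb with hb | hb <;> rw [ha, hb]
  · left; simp
  · right; simp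
  · right; simp
  · left; linear_combination h2

theorem frameLat_polar (h2 : (2 : F) = 0) {t : ℕ} (D : Fin t → Submodule F V)
    (horth : ∀ i j, i ≠ j → ∀ x ∈ D i, ∀ y ∈ D j, polar Q x y = 0)
    (hB : ∀ i, ∀ x ∈ D i, ∀ y ∈ D i, Q x = 1 → Q y = 1 → polar Q x y = 0 ∨ polar Q x y = 1) :
    ∀ y ∈ frameLat Q D, ∀ z ∈ frameSet Q D 1, polar Q y z = 0 ∨ polar Q y z = 1 := by
  intro y hy z hz
  change y ∈ AddSubgroup.closure (frameSet Q D 1) at hy
  obtain ⟨hQz, j, hzj⟩ := hz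
  induction hy using AddSubgroup.closure_induction with
  | mem y hy =>
    obtain ⟨hQy, i, hyi⟩ := hy
    by_cases hij : i = j
    · subst hij
      exact hB i y hyi z hzj hQy hQz
    · left
      exact horth i j hij y hyi z hzj
  | zero =>
    left
    simp
  | add a b _ _ ha hb =>
    rw [polar_add_left]
    exact zo_add h2 ha hb
  | neg a _ ha =>
    rw [polar_neg_left]
    rcases ha with ha | ha <;> rw [ha]
    · left; simp
    · right; linear_combination -h2

theorem reflA_frameLat {t : ℕ} (D : Fin t → Submodule F V) (a : V) (hQa : Q a = 1)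
    (haL : a ∈ frameLat Q D)
    (hpol : ∀ x ∈ frameLat Q D, polar Q a x = 0 ∨ polar Q a x = 1) :
    ∀ x, (reflA Q a).1 x ∈ frameLat Q D ↔ x ∈ frameLat Q D := by
  have hfwd : ∀ x ∈ frameLat Q D, (reflA Q a).1 x ∈ frameLat Q D := by
    intro x hx
    rw [reflA_apply, hQa]
    rcases hpol x hx with h | h
    · rw [h]
      simpa using hx
    · rw [h]
      simp only [inv_one, mul_one, one_smul]
      show x - a ∈ AddSubgroup.closure (frameSet Q D 1)
      exact (AddSubgroup.closure (frameSet Q D 1)).sub_mem hx haL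
  intro x
  constructor
  · intro hx
    have := hfwd _ hx
    rwa [reflA_reflA_apply] at this
  · exact hfwd x

/-- **Overgroup preserving the additive group generated by the frame, field with four
elements.** -/
theorem coreB (hQ : (polarBilin Q).Nondegenerate) (h2 : (2 : F) = 0) {t : ℕ}
    (D : Fin t → Submodule F V)
    (horth : ∀ i j, i ≠ j → ∀ x ∈ D i, ∀ y ∈ D j, polar Q x y = 0)
    (hB : ∀ i, ∀ x ∈ D i, ∀ y ∈ D i, Q x = 1 → Q y = 1 → polar Q x y = 0 ∨ polar Q x y = 1)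
    (ix : Fin 6 → Fin t) (hix : Function.Injective ix) (v : Fin 6 → V)
    (hv : ∀ j, v j ∈ D (ix j)) (hvc : ∀ j, Q (v j) = 1)
    (w0 w1 w2 : V) (hw0 : w0 ∈ D (ix 0)) (hw1 : w1 ∈ D (ix 1)) (hw2 : w2 ∈ D (ix 2))
    (hQw0 : Q w0 = 1) (hvw0 : polar Q (v 0) w0 = 1) (hvw1 : polar Q (v 1) w1 ≠ 0)
    (hvw2 : polar Q (v 2) w2 ≠ 0) (ω ζ : F) (hω0 : ω ≠ 0) (hω1 : ω ≠ 1)
    (hζ : ζ * ζ = 1 + ω * ω) :
    (∀ g : isoGroup Q, g ∈ commutator (isoGroup Q) →
      (∃ σ : Equiv.Perm (Fin t), ∀ i, (D i).map g.1.toLinearMap = D (σ i)) →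
        ∀ x, g.1 x ∈ frameLat Q D ↔ x ∈ frameLat Q D) ∧
    (∃ g ∈ commutator (isoGroup Q), (∀ x, g.1 x ∈ frameLat Q D ↔ x ∈ frameLat Q D) ∧
      ¬ ∃ σ : Equiv.Perm (Fin t), ∀ i, (D i).map g.1.toLinearMap = D (σ i)) ∧
    (∃ g ∈ commutator (isoGroup Q), ¬ ∀ x, g.1 x ∈ frameLat Q D ↔ x ∈ frameLat Q D) := by
  have hne : ∀ a b : Fin 6, a ≠ b → ix a ≠ ix b := fun a b hab h => hab (hix h)
  have hvorth : ∀ a b : Fin 6, a ≠ b → polar Q (v a) (v b) = 0 := fun a b hab =>
    horth _ _ (hne a b hab) _ (hv a) _ (hv b)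
  have hvw0' : polar Q (v 0) w0 ≠ 0 := by
    rw [hvw0]
    exact one_ne_zero
  obtain ⟨hQa, hQb, hnot⟩ := triple_not_perm Q h2 D horth ix hix v hv hvc w0 w1 w2 hw0 hw1 hw2
    hvw0' hvw1 hvw2
  have hvF : ∀ j, v j ∈ frameSet Q D 1 := fun j => ⟨hvc j, ix j, hv j⟩
  have hvL : ∀ j, v j ∈ frameLat Q D := fun j => AddSubgroup.subset_closure (hvF j)
  have hsumL : ∀ a b d : Fin 6, v a + v b + v d ∈ frameLat Q D := fun a b d =>
    (AddSubgroup.closure (frameSet Q D 1)).add_mem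
      ((AddSubgroup.closure (frameSet Q D 1)).add_mem (hvL a) (hvL b)) (hvL d)
  have hpolv : ∀ j, ∀ x ∈ frameLat Q D, polar Q (v j) x = 0 ∨ polar Q (v j) x = 1 := by
    intro j x hx
    rw [polar_comm]
    exact frameLat_polar Q h2 D horth hB x hx (v j) (hvF j)
  have hpol3 : ∀ a b d : Fin 6, ∀ x ∈ frameLat Q D,
      polar Q (v a + v b + v d) x = 0 ∨ polar Q (v a + v b + v d) x = 1 := by
    intro a b d x hx
    rw [polar_add_left, polar_add_left]
    exact zo_add h2 (zo_add h2 (hpolv a x hx) (hpolv b x hx)) (hpolv d x hx)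
  refine ⟨fun g _ hσ => frameLat_of_frame Q D g (frameSet_of_perm Q D 1 g hσ), ?_, ?_⟩
  · have hgΩ := reflA_mul_mem_commutator Q hQ (v 0 + v 1 + v 2) (v 3 + v 4 + v 5)
      (by rw [hQa]; exact one_ne_zero) (by rw [hQa, hQb])
    refine ⟨_, hgΩ, ?_, hnot⟩
    intro x
    change (reflA Q (v 0 + v 1 + v 2)).1 ((reflA Q (v 3 + v 4 + v 5)).1 x) ∈ frameLat Q D ↔ _
    rw [reflA_frameLat Q D (v 0 + v 1 + v 2) hQa (hsumL 0 1 2) (hpol3 0 1 2),
      reflA_frameLat Q D (v 3 + v 4 + v 5) hQb (hsumL 3 4 5) (hpol3 3 4 5)]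
  · have hκ0 : (1 : F) + ω * ω ≠ 0 := by
      intro h
      have hsq : (ω + 1) * (ω + 1) = 0 := by linear_combination h + ω * h2
      have h1 := mul_self_eq_zero.mp hsq
      apply hω1
      linear_combination h1 - h2
    have hκ1 : (1 : F) + ω * ω ≠ 1 := by
      intro h
      have : ω * ω = 0 := by linear_combination h
      exact hω0 (mul_self_eq_zero.mp this)
    have hQa' : Q (w0 + ω • v 1) = 1 + ω * ω := by
      rw [QuadraticMap.map_add Q, hQw0, QuadraticMap.map_smul, hvc, polar_smul_right,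
        horth _ _ (hne 0 1 (by decide)) _ hw0 _ (hv 1)]
      simp
    have hQb' : Q (ζ • v 2) = 1 + ω * ω := by
      rw [QuadraticMap.map_smul, hvc, hζ]
      simp
    have hgΩ := reflA_mul_mem_commutator Q hQ (w0 + ω • v 1) (ζ • v 2)
      (by rw [hQa']; exact hκ0) (by rw [hQa', hQb'])
    refine ⟨_, hgΩ, ?_⟩
    intro hR
    have h1 := (hR (v 0)).mpr (hvL 0)
    have hg0 : (reflA Q (w0 + ω • v 1) * reflA Q (ζ • v 2)).1 (v 0) =
        v 0 - (1 + ω * ω)⁻¹ • (w0 + ω • v 1) := by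
      change (reflA Q (w0 + ω • v 1)).1 ((reflA Q (ζ • v 2)).1 (v 0)) = _
      rw [reflA_apply_of_orth Q (ζ • v 2) (v 0) (by
          rw [polar_smul_left, hvorth 2 0 (by decide), smul_zero]),
        reflA_apply, hQa', polar_add_left, polar_smul_left, polar_comm Q w0 (v 0), hvw0,
        hvorth 1 0 (by decide)]
      simp
    rw [hg0] at h1
    have hinv := frameLat_polar Q h2 D horth hB _ h1 (v 0) (hvF 0)
    have e : polar Q (v 0 - (1 + ω * ω)⁻¹ • (w0 + ω • v 1)) (v 0) = -(1 + ω * ω)⁻¹ := by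
      rw [polar_sub_left, polar_smul_left, polar_add_left, polar_smul_left, polar_self, hvc,
        polar_comm Q w0 (v 0), hvw0, hvorth 1 0 (by decide), nsmul_eq_mul, Nat.cast_ofNat, h2]
      simp
    rw [e] at hinv
    rcases hinv with h | h
    · exact inv_ne_zero hκ0 (neg_eq_zero.mp h)
    · have h' : (1 + ω * ω)⁻¹ = 1 := by linear_combination -h - h2
      exact hκ1 (inv_eq_one.mp h')

end smallB

end Cfsg.Agent.Lib.Helper13
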