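import Mathlib
import Cfsg.Agent.Lib.Helper13.OrthSmallB

/-!
# Small imprimitive subgroups of orthogonal groups: four-dimensional blocks of plus type over the
field with two elements

A plus-type space of dimension four over the field with two elements is the orthogonal sum of two
anisotropic planes, which contain all its nonsingular vectors.  The stabiliser of a decomposition
into such spaces therefore preserves the set of nonsingular vectors of the members, as does the
Siegel transformation interchanging two anisotropic planes of different members.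
-/

set_option autoImplicit false
set_option linter.unusedSectionVars false
set_option linter.unusedVariables false

namespace Cfsg.Agent.Lib.Helper13

open Module QuadraticMap

section smallC
variable {F V : Type*} [Field F] [Fintype F] [AddCommGroup V] [Module F V]
  [FiniteDimensional F V] (Q : QuadraticForm F V)

/-- the plus-type space of dimension four over the field with two elements -/
theorem blockD (hF : ∀ x : F, x = 0 ∨ x = 1) (X : Submodule F V) (hX : NondegOn Q X)
    (hdim : finrank F X = 4) (e₁ e₂' : V) (he₁ : e₁ ∈ X) (he₂' : e₂' ∈ X) (hQe₁ : Q e₁ = 0)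
    (hQe₂' : Q e₂' = 0) (he12 : polar Q e₁ e₂' = 0) (he₁0 : e₁ ≠ 0)
    (hind : ∀ c : F, e₂' ≠ c • e₁) :
    ∃ a ∈ X, ∃ b ∈ X, ∃ y0 ∈ X, ∃ y1 ∈ X, Q a = 1 ∧ Q b = 1 ∧ polar Q a b = 1 ∧ Q y0 = 1 ∧
      polar Q a y0 = 0 ∧ polar Q b y0 = 0 ∧ polar Q y0 y1 = 1 ∧
      ∀ v ∈ X, Q v = 1 → (polar Q a v = 0 ∧ polar Q b v = 0) ∨
        v = polar Q a v • b + polar Q b v • a := by
  have h2 : (2 : F) = 0 := by
    rcases hF 2 with h | h
    · exact h
    · exfalso
      have : (1 : F) = 0 := by linear_combination h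
      exact one_ne_zero this
  have h11 : (1 : F) + 1 = 0 := by linear_combination h2
  obtain ⟨f₁, hf₁X, hQf₁, he1f1⟩ := hyp_partner Q X hX e₁ he₁ he₁0 hQe₁
  obtain ⟨hX₁, hfr₁, hproj⟩ := hyp_compl Q X hX e₁ f₁ he₁ hf₁X hQe₁ hQf₁ he1f1
  have hfr2 : finrank F ↥(X ⊓ LinearMap.ker (polarBilin Q e₁) ⊓ LinearMap.ker (polarBilin Q f₁))
      = 2 := by omega
  -- the second singular vector, inside the complement
  obtain ⟨e₂, he₂def⟩ : ∃ e₂, e₂ = e₂' - polar Q f₁ e₂' • e₁ := ⟨_, rfl⟩
  have he₂X₁ : e₂ ∈ X ⊓ LinearMap.ker (polarBilin Q e₁) ⊓ LinearMap.ker (polarBilin Q f₁) := by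
    have := hproj e₂' he₂'
    rw [he12, zero_smul, sub_zero] at this
    rw [he₂def]
    exact this
  have he₂0 : e₂ ≠ 0 := by
    intro h
    rw [he₂def, sub_eq_zero] at h
    exact hind _ h
  have hQe₂ : Q e₂ = 0 := by
    rw [he₂def, sub_eq_add_neg, QuadraticMap.map_add Q, QuadraticMap.map_neg,
      QuadraticMap.map_smul, hQe₁, hQe₂', polar_neg_right, polar_smul_right,
      polar_comm Q e₂' e₁, he12]
    simp
  obtain ⟨f₂, hf₂X₁, hQf₂, he2f2, hspan₁⟩ := hyp_plane Q _ hX₁ hfr2 e₂ he₂X₁ he₂0 hQe₂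
  -- membership and Gram values
  obtain ⟨he₂k, he₂f₁⟩ := Submodule.mem_inf.mp he₂X₁
  obtain ⟨he₂X, he₂e₁⟩ := Submodule.mem_inf.mp he₂k
  obtain ⟨hf₂k, hf₂f₁⟩ := Submodule.mem_inf.mp hf₂X₁
  obtain ⟨hf₂X, hf₂e₁⟩ := Submodule.mem_inf.mp hf₂k
  have g12 : polar Q e₁ e₂ = 0 := LinearMap.mem_ker.mp he₂e₁
  have g32 : polar Q f₁ e₂ = 0 := LinearMap.mem_ker.mp he₂f₁
  have g14 : polar Q e₁ f₂ = 0 := LinearMap.mem_ker.mp hf₂e₁
  have g34 : polar Q f₁ f₂ = 0 := LinearMap.mem_ker.mp hf₂f₁
  have g21 : polar Q e₂ e₁ = 0 := by rw [polar_comm]; exact g12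
  have g23 : polar Q e₂ f₁ = 0 := by rw [polar_comm]; exact g32
  have g41 : polar Q f₂ e₁ = 0 := by rw [polar_comm]; exact g14
  have g43 : polar Q f₂ f₁ = 0 := by rw [polar_comm]; exact g34
  have g13 : polar Q e₁ f₁ = 1 := he1f1
  have g31 : polar Q f₁ e₁ = 1 := by rw [polar_comm]; exact he1f1
  have g24 : polar Q e₂ f₂ = 1 := he2f2
  have g42 : polar Q f₂ e₂ = 1 := by rw [polar_comm]; exact he2f2
  have g11 : polar Q e₁ e₁ = 0 := by rw [polar_self, hQe₁, smul_zero]
  have g33 : polar Q f₁ f₁ = 0 := by rw [polar_self, hQf₁, smul_zero]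
  have g22 : polar Q e₂ e₂ = 0 := by rw [polar_self, hQe₂, smul_zero]
  have g44 : polar Q f₂ f₂ = 0 := by rw [polar_self, hQf₂, smul_zero]
  have hpc : ∀ α₁ β₁ α₂ β₂ γ₁ δ₁ γ₂ δ₂ : F,
      polar Q (α₁ • e₁ + β₁ • f₁ + α₂ • e₂ + β₂ • f₂) (γ₁ • e₁ + δ₁ • f₁ + γ₂ • e₂ + δ₂ • f₂) =
        α₁ * δ₁ + β₁ * γ₁ + α₂ * δ₂ + β₂ * γ₂ := by
    intro α₁ β₁ α₂ β₂ γ₁ δ₁ γ₂ δ₂
    simp only [polar_add_left, polar_add_right, polar_smul_left, polar_smul_right, g11, g12, g13,
      g14, g21, g22, g23, g24, g31, g32, g33, g34, g41, g42, g43, g44, smul_eq_mul]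
    ring
  have hQc : ∀ α₁ β₁ α₂ β₂ : F, Q (α₁ • e₁ + β₁ • f₁ + α₂ • e₂ + β₂ • f₂) = α₁ * β₁ + α₂ * β₂ := by
    intro α₁ β₁ α₂ β₂
    simp only [QuadraticMap.map_add Q, QuadraticMap.map_smul, polar_add_left, polar_smul_left,
      polar_smul_right, g12, g13, g14, g23, g24, g32, g34, hQe₁, hQf₁, hQe₂, hQf₂, smul_eq_mul]
    ring
  have hcoord : ∀ v ∈ X, ∃ α₁ β₁ α₂ β₂ : F, v = α₁ • e₁ + β₁ • f₁ + α₂ • e₂ + β₂ • f₂ := by
    intro v hv
    have h1 := hspan₁ _ (hproj v hv)
    refine ⟨polar Q f₁ v, polar Q e₁ v,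
      polar Q f₂ (v - polar Q f₁ v • e₁ - polar Q e₁ v • f₁),
      polar Q e₂ (v - polar Q f₁ v • e₁ - polar Q e₁ v • f₁), ?_⟩
    rw [add_assoc, ← h1]
    abel
  have hmem : ∀ α₁ β₁ α₂ β₂ : F, α₁ • e₁ + β₁ • f₁ + α₂ • e₂ + β₂ • f₂ ∈ X := fun _ _ _ _ =>
    X.add_mem (X.add_mem (X.add_mem (X.smul_mem _ he₁) (X.smul_mem _ hf₁X)) (X.smul_mem _ he₂X))
      (X.smul_mem _ hf₂X)
  have key : ∀ α₁ β₁ α₂ β₂ p s : F, p = α₁ + β₁ → s = β₁ + α₂ + β₂ → α₁ * β₁ + α₂ * β₂ = 1 →
      (p = 0 ∧ s = 0) ∨ (α₁ = p + s ∧ β₁ = s ∧ α₂ = p ∧ β₂ = p) := by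
    intro α₁ β₁ α₂ β₂ p s hp hs h
    subst hp hs
    rcases hF α₁ with rfl | rfl <;> rcases hF β₁ with rfl | rfl <;>
      rcases hF α₂ with rfl | rfl <;> rcases hF β₂ with rfl | rfl <;>
      simp only [mul_zero, zero_mul, mul_one, add_zero, zero_add, h11, zero_ne_one, one_ne_zero,
        and_self, and_true, true_and, or_true, true_or, false_or, or_false, and_false, false_and,
        eq_self_iff_true] at h ⊢
  obtain ⟨a, ha⟩ : ∃ a, a = (1 : F) • e₁ + (1 : F) • f₁ + (0 : F) • e₂ + (0 : F) • f₂ := ⟨_, rfl⟩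
  obtain ⟨b, hb⟩ : ∃ b, b = (1 : F) • e₁ + (0 : F) • f₁ + (1 : F) • e₂ + (1 : F) • f₂ := ⟨_, rfl⟩
  obtain ⟨y0, hy0⟩ : ∃ y0, y0 = (1 : F) • e₁ + (1 : F) • f₁ + (0 : F) • e₂ + (1 : F) • f₂ :=
    ⟨_, rfl⟩
  obtain ⟨y1, hy1⟩ : ∃ y1, y1 = (0 : F) • e₁ + (0 : F) • f₁ + (1 : F) • e₂ + (1 : F) • f₂ :=
    ⟨_, rfl⟩
  refine ⟨a, by rw [ha]; exact hmem _ _ _ _, b, by rw [hb]; exact hmem _ _ _ _, y0,
    by rw [hy0]; exact hmem _ _ _ _, y1, by rw [hy1]; exact hmem _ _ _ _, ?_, ?_, ?_, ?_, ?_, ?_,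
    ?_, ?_⟩
  · rw [ha, hQc]; ring
  · rw [hb, hQc]; ring
  · rw [ha, hb, hpc]; ring
  · rw [hy0, hQc]; ring
  · rw [ha, hy0, hpc]; linear_combination h2
  · rw [hb, hy0, hpc]; linear_combination h2
  · rw [hy0, hy1, hpc]; ring
  · intro v hv hQv
    obtain ⟨α₁, β₁, α₂, β₂, hvc⟩ := hcoord v hv
    have hp : polar Q a v = α₁ + β₁ := by rw [ha, hvc, hpc]; ring
    have hs : polar Q b v = β₁ + α₂ + β₂ := by rw [hb, hvc, hpc]; ring
    rw [hvc, hQc] at hQv
    rcases key α₁ β₁ α₂ β₂ _ _ hp hs hQv with ⟨h1, h3⟩ | ⟨h1, h3, h4, h5⟩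
    · left
      exact ⟨h1, h3⟩
    · right
      generalize polar Q a v = p at *
      generalize polar Q b v = s at *
      rw [hvc, h1, h3, h4, h5, ha, hb]
      module

/-- **Overgroup preserving the nonsingular vectors of the members: blocks of plus type and
dimension four over the field with two elements.** -/
theorem coreD (hQ : (polarBilin Q).Nondegenerate) (h2 : (2 : F) = 0) {t : ℕ}
    (D : Fin t → Submodule F V)
    (horth : ∀ i j, i ≠ j → ∀ x ∈ D i, ∀ y ∈ D j, polar Q x y = 0)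
    (ix : Fin 3 → Fin t) (hix : Function.Injective ix)
    (a b y0 y1 c d x : V) (ha : a ∈ D (ix 0)) (hb : b ∈ D (ix 0)) (hy0 : y0 ∈ D (ix 0))
    (hy1 : y1 ∈ D (ix 0)) (hc : c ∈ D (ix 1)) (hd : d ∈ D (ix 1)) (hx : x ∈ D (ix 2))
    (hQa : Q a = 1) (hQb : Q b = 1) (hab : polar Q a b = 1) (hQy0 : Q y0 = 1)
    (hay0 : polar Q a y0 = 0) (hby0 : polar Q b y0 = 0) (hy01 : polar Q y0 y1 = 1)
    (hQc : Q c = 1) (hQd : Q d = 1) (hcd : polar Q c d = 1) (hQx : Q x = 1)
    (hs0 : ∀ v ∈ D (ix 0), Q v = 1 → (polar Q a v = 0 ∧ polar Q b v = 0) ∨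
      v = polar Q a v • b + polar Q b v • a)
    (hs1 : ∀ v ∈ D (ix 1), Q v = 1 → (polar Q c v = 0 ∧ polar Q d v = 0) ∨
      v = polar Q c v • d + polar Q d v • c) :
    (∀ g : isoGroup Q, g ∈ commutator (isoGroup Q) →
      (∃ σ : Equiv.Perm (Fin t), ∀ i, (D i).map g.1.toLinearMap = D (σ i)) →
        ∀ x, g.1 x ∈ frameSet Q D 1 ↔ x ∈ frameSet Q D 1) ∧
    (∃ g ∈ commutator (isoGroup Q), (∀ x, g.1 x ∈ frameSet Q D 1 ↔ x ∈ frameSet Q D 1) ∧
      ¬ ∃ σ : Equiv.Perm (Fin t), ∀ i, (D i).map g.1.toLinearMap = D (σ i)) ∧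
    (∃ g ∈ commutator (isoGroup Q), ¬ ∀ x, g.1 x ∈ frameSet Q D 1 ↔ x ∈ frameSet Q D 1) := by
  have hne : ∀ i j : Fin 3, i ≠ j → ix i ≠ ix j := fun i j hij h => hij (hix h)
  have h01 := hne 0 1 (by decide)
  have h02 := hne 0 2 (by decide)
  have h12 := hne 1 2 (by decide)
  have h10 := hne 1 0 (by decide)
  have h20 := hne 2 0 (by decide)
  have h21 := hne 2 1 (by decide)
  have hself : ∀ z : V, Q z = 1 → polar Q z z = 0 := by
    intro z hz
    rw [polar_self, hz, nsmul_eq_mul, Nat.cast_ofNat, mul_one]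
    exact h2
  have hba : polar Q b a = 1 := by rw [polar_comm]; exact hab
  have hdc : polar Q d c = 1 := by rw [polar_comm]; exact hcd
  -- the singular vectors `u = a + c`, `w = b + d`
  have hQu : Q (a + c) = 0 := by
    rw [QuadraticMap.map_add Q, hQa, hQc, horth _ _ h01 a ha c hc]
    linear_combination h2
  have hQw : Q (b + d) = 0 := by
    rw [QuadraticMap.map_add Q, hQb, hQd, horth _ _ h01 b hb d hd]
    linear_combination h2
  have huw : polar Q (a + c) (b + d) = 0 := by
    rw [polar_add_left, polar_add_right, polar_add_right, hab, hcd, horth _ _ h01 a ha d hd,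
      horth _ _ h10 c hc b hb]
    linear_combination h2
  have hwu : polar Q (b + d) (a + c) = 0 := by rw [polar_comm]; exact huw
  have huu : polar Q (a + c) (a + c) = 0 := by rw [polar_self, hQu, smul_zero]
  have hww : polar Q (b + d) (b + d) = 0 := by rw [polar_self, hQw, smul_zero]
  have hxu : polar Q x (a + c) = 0 := by
    rw [polar_add_right, horth _ _ h20 x hx a ha, horth _ _ h21 x hx c hc, add_zero]
  have hxw : polar Q x (b + d) = 0 := by
    rw [polar_add_right, horth _ _ h20 x hx b hb, horth _ _ h21 x hx d hd, add_zero]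
  have hux : polar Q (a + c) x = 0 := by rw [polar_comm]; exact hxu
  have hwx : polar Q (b + d) x = 0 := by rw [polar_comm]; exact hxw
  have hxx : polar Q x x = 0 := hself x hQx
  have hx0 : Q x ≠ 0 := by rw [hQx]; exact one_ne_zero
  have hQxw : Q (x + (b + d)) = 1 := by
    rw [QuadraticMap.map_add Q, hQx, hQw, hxw]
    simp
  have hxw0 : Q (x + (b + d)) ≠ 0 := by rw [hQxw]; exact one_ne_zero
  have hxwu : polar Q (x + (b + d)) (a + c) = 0 := by
    rw [polar_add_left, hxu, hwu, add_zero]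
  have hQxu : Q x = Q (x + (a + c)) := by
    rw [QuadraticMap.map_add Q x, hQu, hxu]
    simp
  have hQxwu : Q (x + (b + d)) = Q (x + (b + d) + (a + c)) := by
    rw [QuadraticMap.map_add Q (x + (b + d)), hQu, hxwu]
    simp
  have hE1 : ∀ z, (reflA Q x * reflA Q (x + (a + c))).1 z =
      z + polar Q (a + c) z • x - (polar Q x z + polar Q (a + c) z) • (a + c) := by
    intro z
    rw [reflA_mul_reflA_add_apply Q x (a + c) z hx0 hQu hxu, hQx]
    simp
  have hE2 : ∀ z, (reflA Q (x + (b + d)) * reflA Q (x + (b + d) + (a + c))).1 z =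
      z + polar Q (a + c) z • (x + (b + d)) -
        (polar Q (x + (b + d)) z + polar Q (a + c) z) • (a + c) := by
    intro z
    rw [reflA_mul_reflA_add_apply Q (x + (b + d)) (a + c) z hxw0 hQu hxwu, hQxw]
    simp
  have hE1x : (reflA Q x * reflA Q (x + (a + c))).1 x = x := by
    rw [hE1, hux, hxx]
    simp
  have hE1w : (reflA Q x * reflA Q (x + (a + c))).1 (b + d) = b + d := by
    rw [hE1, huw, hxw]
    simp
  have hE1u : (reflA Q x * reflA Q (x + (a + c))).1 (a + c) = a + c := by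
    rw [hE1, huu, hxu]
    simp
  have hgΩ : (reflA Q x * reflA Q (x + (a + c))) *
      (reflA Q (x + (b + d)) * reflA Q (x + (b + d) + (a + c))) ∈ commutator (isoGroup Q) :=
    Subgroup.mul_mem _ (reflA_mul_mem_commutator Q hQ x (x + (a + c)) hx0 hQxu)
      (reflA_mul_mem_commutator Q hQ (x + (b + d)) (x + (b + d) + (a + c)) hxw0 hQxwu)
  have hg : ∀ z, ((reflA Q x * reflA Q (x + (a + c))) *
      (reflA Q (x + (b + d)) * reflA Q (x + (b + d) + (a + c)))).1 z =
        z + polar Q (a + c) z • (b + d) + polar Q (b + d) z • (a + c) := by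
    intro z
    change (reflA Q x * reflA Q (x + (a + c))).1
      ((reflA Q (x + (b + d)) * reflA Q (x + (b + d) + (a + c))).1 z) = _
    have hpxw : polar Q (x + (b + d)) z = polar Q x z + polar Q (b + d) z := by
      simp only [polar_add_left]
    rw [hE2 z, map_sub, map_add, map_smul, map_smul, map_add _ x (b + d)]
    rw [hE1x, hE1w, hE1u, hE1 z, hpxw]
    have key : ∀ p r s : F, z + p • x - (r + p) • (a + c) + p • (x + (b + d)) -
        (r + s + p) • (a + c) = z + p • (b + d) + s • (a + c) +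
          (2 : F) • (p • x - (r + p + s) • (a + c)) := by
      intro p r s
      module
    rw [key, h2, zero_smul, add_zero]
  obtain ⟨g, hgdef⟩ : ∃ g : isoGroup Q, g = (reflA Q x * reflA Q (x + (a + c))) *
      (reflA Q (x + (b + d)) * reflA Q (x + (b + d) + (a + c))) := ⟨_, rfl⟩
  rw [← hgdef] at hgΩ hg
  have hpu : ∀ z, polar Q (a + c) (g.1 z) = polar Q (a + c) z := by
    intro z
    rw [hg z, polar_add_right, polar_add_right, polar_smul_right, polar_smul_right, huw, huu]
    simp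
  have hpw : ∀ z, polar Q (b + d) (g.1 z) = polar Q (b + d) z := by
    intro z
    rw [hg z, polar_add_right, polar_add_right, polar_smul_right, polar_smul_right, hww, hwu]
    simp
  have hinvol : ∀ z, g.1 (g.1 z) = z := by
    intro z
    rw [hg (g.1 z), hpu, hpw, hg z]
    have key : ∀ p s : F, z + p • (b + d) + s • (a + c) + p • (b + d) + s • (a + c) =
        z + (2 : F) • (p • (b + d) + s • (a + c)) := by
      intro p s
      module
    rw [key, h2, zero_smul, add_zero]
  have hfwd : ∀ z ∈ frameSet Q D 1, g.1 z ∈ frameSet Q D 1 := by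
    rintro z ⟨hQz, l, hzl⟩
    have hQgz : Q (g.1 z) = 1 := by rw [isoGroup_map]; exact hQz
    by_cases hl0 : l = ix 0
    · subst hl0
      have hpuz : polar Q (a + c) z = polar Q a z := by
        rw [polar_add_left, horth _ _ h10 c hc z hzl, add_zero]
      have hpwz : polar Q (b + d) z = polar Q b z := by
        rw [polar_add_left, horth _ _ h10 d hd z hzl, add_zero]
      rcases hs0 z hzl hQz with ⟨h1, h3⟩ | h
      · have : g.1 z = z := by
          rw [hg, hpuz, hpwz, h1, h3]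
          simp
        rw [this]
        exact ⟨hQz, ix 0, hzl⟩
      · have hgz : g.1 z = polar Q a z • d + polar Q b z • c := by
          rw [hg, hpuz, hpwz]
          generalize polar Q a z = p at *
          generalize polar Q b z = s at *
          rw [h]
          have key : p • b + s • a + p • (b + d) + s • (a + c) =
              p • d + s • c + (2 : F) • (p • b + s • a) := by module
          rw [key, h2, zero_smul, add_zero]
        refine ⟨hQgz, ix 1, ?_⟩
        rw [hgz]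
        exact (D (ix 1)).add_mem ((D (ix 1)).smul_mem _ hd) ((D (ix 1)).smul_mem _ hc)
    · by_cases hl1 : l = ix 1
      · subst hl1
        have hpuz : polar Q (a + c) z = polar Q c z := by
          rw [polar_add_left, horth _ _ h01 a ha z hzl, zero_add]
        have hpwz : polar Q (b + d) z = polar Q d z := by
          rw [polar_add_left, horth _ _ h01 b hb z hzl, zero_add]
        rcases hs1 z hzl hQz with ⟨h1, h3⟩ | h
        · have : g.1 z = z := by
            rw [hg, hpuz, hpwz, h1, h3]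
            simp
          rw [this]
          exact ⟨hQz, ix 1, hzl⟩
        · have hgz : g.1 z = polar Q c z • b + polar Q d z • a := by
            rw [hg, hpuz, hpwz]
            generalize polar Q c z = p at *
            generalize polar Q d z = s at *
            rw [h]
            have key : p • d + s • c + p • (b + d) + s • (a + c) =
                p • b + s • a + (2 : F) • (p • d + s • c) := by module
            rw [key, h2, zero_smul, add_zero]
          refine ⟨hQgz, ix 0, ?_⟩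
          rw [hgz]
          exact (D (ix 0)).add_mem ((D (ix 0)).smul_mem _ hb) ((D (ix 0)).smul_mem _ ha)
      · have hpuz : polar Q (a + c) z = 0 := by
          rw [polar_add_left, horth _ _ (Ne.symm hl0) a ha z hzl,
            horth _ _ (Ne.symm hl1) c hc z hzl, add_zero]
        have hpwz : polar Q (b + d) z = 0 := by
          rw [polar_add_left, horth _ _ (Ne.symm hl0) b hb z hzl,
            horth _ _ (Ne.symm hl1) d hd z hzl, add_zero]
        have : g.1 z = z := by
          rw [hg, hpuz, hpwz]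
          simp
        rw [this]
        exact ⟨hQz, l, hzl⟩
  refine ⟨fun g _ hσ => frameSet_of_perm Q D 1 g hσ, ⟨g, hgΩ, ?_, ?_⟩, ?_⟩
  · intro z
    constructor
    · intro hz
      have := hfwd _ hz
      rwa [hinvol] at this
    · exact hfwd z
  · rintro ⟨σ, hσ⟩
    have hga : g.1 a = c := by
      rw [hg, polar_add_left, polar_add_left, hself a hQa, horth _ _ h10 c hc a ha, hba,
        horth _ _ h10 d hd a ha]
      have key : a + ((0 : F) + 0) • (b + d) + ((1 : F) + 0) • (a + c) = c + (2 : F) • a := by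
        module
      rw [key, h2, zero_smul, add_zero]
    have hgy : g.1 y0 = y0 := by
      rw [hg, polar_add_left, polar_add_left, hay0, hby0, horth _ _ h10 c hc y0 hy0,
        horth _ _ h10 d hd y0 hy0]
      simp
    have hm1 : c ∈ D (σ (ix 0)) := by
      rw [← hσ (ix 0), ← hga]
      exact ⟨a, ha, rfl⟩
    have hm2 : y0 ∈ D (σ (ix 0)) := by
      rw [← hσ (ix 0)]
      exact ⟨y0, hy0, hgy⟩
    have hσ0 : σ (ix 0) = ix 1 := by
      by_contra hne'
      have := horth _ _ hne' c hm1 d hd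
      rw [hcd] at this
      exact one_ne_zero this
    rw [hσ0] at hm2
    have := horth _ _ h10 y0 hm2 y1 hy1
    rw [hy01] at this
    exact one_ne_zero this
  · have hQα : Q (a + c + x) = 1 := by
      rw [QuadraticMap.map_add Q, hQu, hQx, hux]
      simp
    have hgΩ' := reflA_mul_mem_commutator Q hQ (a + c + x) y0
      (by rw [hQα]; exact one_ne_zero) (by rw [hQα, hQy0])
    refine ⟨_, hgΩ', ?_⟩
    intro hR
    have hbF : b ∈ frameSet Q D 1 := ⟨hQb, ix 0, hb⟩
    have h1 := (hR b).mpr hbF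
    have hyb : polar Q y0 b = 0 := by rw [polar_comm]; exact hby0
    have hg0 : (reflA Q (a + c + x) * reflA Q y0).1 b = b - (a + c + x) := by
      change (reflA Q (a + c + x)).1 ((reflA Q y0).1 b) = _
      rw [reflA_apply_of_orth Q y0 b hyb, reflA_apply, hQα, polar_add_left, polar_add_left, hab,
        horth _ _ h10 c hc b hb, horth _ _ h20 x hx b hb]
      simp
    rw [hg0] at h1
    obtain ⟨-, l, hl⟩ := h1
    apply not_mem_of_two Q D horth (ix 0) (ix 1) h01 _ a d ha hd ?_ ?_ ⟨l, hl⟩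
    · have e : polar Q (b - (a + c + x)) a = 1 := by
        rw [polar_sub_left, polar_add_left, polar_add_left, hba, hself a hQa,
          horth _ _ h10 c hc a ha, horth _ _ h20 x hx a ha]
        simp
      rw [e]
      exact one_ne_zero
    · have e : polar Q (b - (a + c + x)) d = -1 := by
        rw [polar_sub_left, polar_add_left, polar_add_left, horth _ _ h01 b hb d hd,
          horth _ _ h01 a ha d hd, hcd, horth _ _ h21 x hx d hd]
        simp
      rw [e]
      exact neg_ne_zero.mpr one_ne_zero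

end smallC

end Cfsg.Agent.Lib.Helper13
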