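import Mathlib
import Cfsg.Agent.Lib.Helper13.OrthSmallC
import Cfsg.Agent.Lib.Helper13.OrthFrameGeo

/-!
# Imprimitive subgroups of orthogonal groups with small plus-type blocks are not maximal in `Ω`

Blocks of plus type and dimension two over the fields with `2`, `4`, `5` elements, and of dimension
four over the field with two elements.
-/

set_option autoImplicit false
set_option linter.unusedVariables false

namespace Cfsg.Agent.Lib.Helper13

open Module QuadraticMap

section geosmall
universe u
variable {F : Type u} [Field F] [Fintype F] {ι : Type} [Fintype ι] [DecidableEq ι]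

open Cfsg.Geo Matrix

theorem zero_or_one_of_card_two (hq : Fintype.card F = 2) (x : F) : x = 0 ∨ x = 1 := by
  classical
  have h : ({0, 1} : Finset F) = Finset.univ := by
    apply Finset.eq_univ_of_card
    rw [Finset.card_pair zero_ne_one, hq]
  have hx : x ∈ ({0, 1} : Finset F) := by
    rw [h]
    exact Finset.mem_univ x
  simpa using hx

theorem exists_ne_zero_ne_one_of_card (hq : 2 < Fintype.card F) : ∃ ω : F, ω ≠ 0 ∧ ω ≠ 1 := by
  classical
  by_contra hcon
  have hcon' : ∀ x : F, x = 0 ∨ x = 1 := by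
    intro x
    by_cases hx0 : x = 0
    · exact Or.inl hx0
    · by_cases hx1 : x = 1
      · exact Or.inr hx1
      · exact absurd ⟨x, hx0, hx1⟩ hcon
  have h : (Finset.univ : Finset F) ⊆ {0, 1} := by
    intro x _
    rcases hcon' x with h | h <;> simp [h]
  have h1 := Finset.card_le_card h
  rw [Finset.card_univ] at h1
  have h2 : ({0, 1} : Finset F).card ≤ 2 := Finset.card_le_two
  omega

omit [Fintype F] in
theorem exists_singular_of_plus (Q : QuadraticForm F (ι → F)) (W : Submodule F (ι → F))
    (hW : IsPlusTypeOn ⇑Q W) (hdim : finrank F W = 2) :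
    ∃ e ∈ W, e ≠ 0 ∧ Q e = 0 := by
  obtain ⟨U, hUW, hts, hfr⟩ := hW
  have hpos : 0 < finrank F U := by omega
  obtain ⟨⟨e, heU⟩, he0⟩ := Module.finrank_pos_iff_exists_ne_zero.mp hpos
  refine ⟨e, hUW heU, ?_, hts e heU⟩
  intro h
  exact he0 (Subtype.ext h)

omit [Fintype F] in
theorem exists_two_singular_of_plus (Q : QuadraticForm F (ι → F)) (W : Submodule F (ι → F))
    (hW : IsPlusTypeOn ⇑Q W) (hdim : finrank F W = 4) :
    ∃ e₁ ∈ W, ∃ e₂ ∈ W, Q e₁ = 0 ∧ Q e₂ = 0 ∧ polar Q e₁ e₂ = 0 ∧ e₁ ≠ 0 ∧
      ∀ c : F, e₂ ≠ c • e₁ := by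
  obtain ⟨U, hUW, hts, hfr⟩ := hW
  have hU2 : finrank F U = 2 := by omega
  have hpos : 0 < finrank F U := by omega
  obtain ⟨⟨e₁, he₁U⟩, he₁0⟩ := Module.finrank_pos_iff_exists_ne_zero.mp hpos
  have he₁0' : e₁ ≠ 0 := fun h => he₁0 (Subtype.ext h)
  have hex : ∃ e₂ ∈ U, e₂ ∉ Submodule.span F {e₁} := by
    by_contra hcon
    have hle : U ≤ Submodule.span F {e₁} := by
      intro x hx
      by_contra hx'
      exact hcon ⟨x, hx, hx'⟩
    have h1 := Submodule.finrank_mono hle
    rw [finrank_span_singleton he₁0'] at h1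
    omega
  obtain ⟨e₂, he₂U, he₂n⟩ := hex
  refine ⟨e₁, hUW he₁U, e₂, hUW he₂U, hts e₁ he₁U, hts e₂ he₂U, ?_, he₁0', ?_⟩
  · have h := hts (e₁ + e₂) (U.add_mem he₁U he₂U)
    have h1 := hts e₁ he₁U
    have h2 := hts e₂ he₂U
    unfold polar
    rw [h, h1, h2]
    simp
  · intro c hc
    exact he₂n (Submodule.mem_span_singleton.mpr ⟨c, hc.symm⟩)

/-- **Stabilisers of orthogonal decompositions into plus-type planes over the fields with `2`, `4`,
`5` elements, or into plus-type spaces of dimension four over the field with two elements, are not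
maximal in `Ω`.** -/
theorem small_decomp_not_maximal (Q : QuadraticForm F (ι → F))
    (hQ : (polarBilin Q).Nondegenerate) (hcard : 13 ≤ Fintype.card ι) {t : ℕ} (k : ℕ)
    (D : Fin t → Submodule F (ι → F)) (hD : IsOrthogonalMDecomposition ⇑Q k D)
    (hplus : ∀ i, IsPlusTypeOn ⇑Q (D i))
    (hcase : (k = 2 ∧ (Fintype.card F = 2 ∨ Fintype.card F = 4 ∨ Fintype.card F = 5)) ∨
      (k = 4 ∧ Fintype.card F = 2)) :
    ∃ K : Subgroup (GL ι F), decompositionStabilizer D ⊓ omegaGL ⇑Q < K ∧ K < omegaGL ⇑Q := by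
  have hkfr := hD.decomp.decomp.finrank_eq
  have htop := hD.decomp.decomp.iSup_eq_top
  have hbound : Fintype.card ι ≤ t * k := by
    have h1 := finrank_iSup_fin_le D k (fun i => (hkfr i).le)
    rw [htop, finrank_top, Module.finrank_fintype_fun_eq_card] at h1
    exact h1
  have horth : ∀ i j, i ≠ j → ∀ x ∈ D i, ∀ y ∈ D j, polar Q x y = 0 :=
    fun i j hij x hx y hy => hD.decomp.orthogonal i j hij x hx y hy
  have hnd : ∀ i, NondegOn Q (D i) := by
    intro i x hx hxy
    by_contra hne
    obtain ⟨y, hy, hyx⟩ := (hD.decomp.nondegenerate i x hx hne).2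
    exact hyx (hxy y hy)
  rcases hcase with ⟨rfl, hq⟩ | ⟨rfl, hq⟩
  · -- planes
    have hsing : ∀ i, ∃ e ∈ D i, e ≠ 0 ∧ Q e = 0 := fun i =>
      exists_singular_of_plus Q (D i) (hplus i) (hkfr i)
    choose e heD he0 hQe using hsing
    rcases hq with hq | hq | hq
    · -- two elements
      have hF := zero_or_one_of_card_two hq
      have h2 : (2 : F) = 0 := by
        have := Nat.cast_card_eq_zero F
        rw [hq] at this
        exact_mod_cast this
      have hbl := fun i => blockA Q hF (D i) (hnd i) (hkfr i) (e i) (heD i) (he0 i) (hQe i)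
      choose nn hnn ww hww hQn hQw hnw hP using hbl
      have ht6 : 6 ≤ t := by omega
      let ix : Fin 6 → Fin t := Fin.castLE ht6
      have hix : Function.Injective ix := Fin.castLE_injective ht6
      obtain ⟨h1, h2', h3⟩ := coreA Q hQ h2 D horth hP ix hix (fun j => nn (ix j))
        (fun j => hnn (ix j)) (fun j => hQn (ix j)) (ww (ix 0)) (ww (ix 1)) (ww (ix 2))
        (hww _) (hww _) (hww _) (hnw _) (hnw _) (hnw _) (hQw _)
      exact exists_between_pred Q (decompositionStabilizer D)
        (Cfsg.stabilizing (Cfsg.glToMat ι F) (frameSet Q D 1)) _ _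
        (mem_decompositionStabilizer_symm_iff Q D) (mem_stabilizing_symm_iff Q (frameSet Q D 1))
        h1 h2' h3
    · -- four elements
      have h4 : (4 : F) = 0 := by
        have := Nat.cast_card_eq_zero F
        rw [hq] at this
        exact_mod_cast this
      have h2 : (2 : F) = 0 := by
        have : (2 : F) * 2 = 0 := by linear_combination h4
        exact mul_self_eq_zero.mp this
      have hbl := fun i => blockB Q hq (D i) (hnd i) (hkfr i) (e i) (heD i) (he0 i) (hQe i)
      choose nn hnn nn' hnn' hQn hQn' hnn1 hB using hbl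
      have hne1 : ∀ i, polar Q (nn i) (nn' i) ≠ 0 := fun i => by
        rw [hnn1 i]
        exact one_ne_zero
      obtain ⟨ω, hω0, hω1⟩ : ∃ ω : F, ω ≠ 0 ∧ ω ≠ 1 :=
        exists_ne_zero_ne_one_of_card (by omega)
      have hpow : ∀ x : F, x ^ 4 = x := by
        intro x
        have := FiniteField.pow_card x
        rwa [hq] at this
      obtain ⟨κ, hκ⟩ : ∃ κ : F, κ = 1 + ω * ω := ⟨_, rfl⟩
      have hζ : (κ * κ) * (κ * κ) = 1 + ω * ω := by
        rw [← hκ]
        have := hpow κ
        linear_combination this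
      have ht6 : 6 ≤ t := by omega
      let ix : Fin 6 → Fin t := Fin.castLE ht6
      have hix : Function.Injective ix := Fin.castLE_injective ht6
      obtain ⟨h1, h2', h3⟩ := coreB Q hQ h2 D horth hB ix hix (fun j => nn (ix j))
        (fun j => hnn (ix j)) (fun j => hQn (ix j)) (nn' (ix 0)) (nn' (ix 1)) (nn' (ix 2))
        (hnn' _) (hnn' _) (hnn' _) (hQn' _) (hnn1 _) (hne1 _) (hne1 _) ω (κ * κ) hω0 hω1 hζ
      exact exists_between_pred Q (decompositionStabilizer D)
        (Cfsg.stabilizing (Cfsg.glToMat ι F) (frameLat Q D)) _ _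
        (mem_decompositionStabilizer_symm_iff Q D) (mem_stabilizing_symm_iff Q (frameLat Q D))
        h1 h2' h3
    · -- five elements
      have h5 : (5 : F) = 0 := by
        have := Nat.cast_card_eq_zero F
        rw [hq] at this
        exact_mod_cast this
      have h2 : (2 : F) ≠ 0 := by
        intro h
        have : (1 : F) = 0 := by linear_combination h5 - 2 * h
        exact one_ne_zero this
      have h3 : (3 : F) ≠ 0 := by
        intro h
        have : (1 : F) = 0 := by linear_combination 2 * h - h5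
        exact one_ne_zero this
      have hbl := fun i => blockC Q hq (D i) (hnd i) (hkfr i) (e i) (heD i) (he0 i) (hQe i)
      choose ww hww ww' hww' hQw hw'0 hww0 hP using hbl
      have ht5 : 5 ≤ t := by omega
      let ix : Fin 5 → Fin t := Fin.castLE ht5
      have hix : Function.Injective ix := Fin.castLE_injective ht5
      have hdisj : D (ix 0) ⊓ D (ix 1) = ⊥ := by
        have h01 : ix 0 ≠ ix 1 := fun h => absurd (hix h) (by decide)
        exact disjoint_iff.mp (hD.decomp.decomp.indep.pairwiseDisjoint h01)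
      obtain ⟨h1, h2', h3'⟩ := frame_core2 Q hQ h2 h3 D 1 one_ne_zero horth hP ix hix
        (fun j => ww (ix j)) (fun j => hww (ix j)) (fun j => hQw (ix j)) (ww' (ix 0)) (hww' _)
        (hw'0 _) (hww0 _) hdisj
      exact exists_between_pred Q (decompositionStabilizer D)
        (Cfsg.stabilizing (Cfsg.glToMat ι F) (frameSet Q D 1)) _ _
        (mem_decompositionStabilizer_symm_iff Q D) (mem_stabilizing_symm_iff Q (frameSet Q D 1))
        h1 h2' h3'
  · -- spaces of dimension four over the field with two elements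
    have hF := zero_or_one_of_card_two hq
    have h2 : (2 : F) = 0 := by
      have := Nat.cast_card_eq_zero F
      rw [hq] at this
      exact_mod_cast this
    have hsing := fun i => exists_two_singular_of_plus Q (D i) (hplus i) (hkfr i)
    choose e₁ he₁ e₂ he₂ hQe₁ hQe₂ he12 he₁0 hind using hsing
    have hbl := fun i => blockD Q hF (D i) (hnd i) (hkfr i) (e₁ i) (e₂ i) (he₁ i) (he₂ i)
      (hQe₁ i) (hQe₂ i) (he12 i) (he₁0 i) (hind i)
    choose a ha b hb y0 hy0 y1 hy1 hQa hQb hab hQy0 hay0 hby0 hy01 hs using hbl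
    have ht3 : 3 ≤ t := by omega
    let ix : Fin 3 → Fin t := Fin.castLE ht3
    have hix : Function.Injective ix := Fin.castLE_injective ht3
    obtain ⟨h1, h2', h3⟩ := coreD Q hQ h2 D horth ix hix (a (ix 0)) (b (ix 0)) (y0 (ix 0))
      (y1 (ix 0)) (a (ix 1)) (b (ix 1)) (y0 (ix 2)) (ha _) (hb _) (hy0 _) (hy1 _) (ha _) (hb _)
      (hy0 _) (hQa _) (hQb _) (hab _) (hQy0 _) (hay0 _) (hby0 _) (hy01 _) (hQa _) (hQb _) (hab _)
      (hQy0 _) (hs _) (hs _)
    exact exists_between_pred Q (decompositionStabilizer D)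
      (Cfsg.stabilizing (Cfsg.glToMat ι F) (frameSet Q D 1)) _ _
      (mem_decompositionStabilizer_symm_iff Q D) (mem_stabilizing_symm_iff Q (frameSet Q D 1))
      h1 h2' h3

end geosmall

end Cfsg.Agent.Lib.Helper13
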