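import Mathlib
import Cfsg.Agent.Lib.Helper13.OrthSmallGeo

/-!
# Imprimitive orthogonal subgroups with small blocks are not maximal: versions in terms of the number of blocks

The same statements (and proofs) as `frame_not_maximal` and `small_decomp_not_maximal`, with the bound on the
dimension replaced by the bound on the number `t` of blocks which the proofs really use; so they apply in small
dimensions (`t ≥ 5` blocks of dimension `2`, `3` over the field with three elements or `2` over the field with five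
elements, `t ≥ 6` plus-type planes over the fields with `2`, `4` elements, `t ≥ 3` plus-type 4-spaces over the field
with two elements).
-/

set_option autoImplicit false
set_option linter.unusedVariables false

namespace Cfsg.Agent.Lib.Helper13

open Module QuadraticMap

section geosmallgen
universe u
variable {F : Type u} [Field F] [Fintype F] {ι : Type} [Fintype ι] [DecidableEq ι]

open Cfsg.Geo Matrix

theorem frame_not_maximal_of_five_le (Q : QuadraticForm F (ι → F)) (hQ : (polarBilin Q).Nondegenerate)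
    (hq : Fintype.card F = 3) {t : ℕ} (ht5 : 5 ≤ t) (k : ℕ)
    (hk : k = 2 ∨ k = 3) (D : Fin t → Submodule F (ι → F))
    (hD : IsOrthogonalMDecomposition ⇑Q k D) :
    ∃ K : Subgroup (GL ι F), decompositionStabilizer D ⊓ omegaGL ⇑Q < K ∧ K < omegaGL ⇑Q := by
  have h3 : (3 : F) = 0 := by
    have := Nat.cast_card_eq_zero F
    rw [hq] at this
    exact_mod_cast this
  have hF : ∀ x : F, x ≠ 0 → x * x = 1 := by
    intro x hx
    have h1 := FiniteField.pow_card_sub_one_eq_one x hx
    rw [hq] at h1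
    rw [← pow_two]
    exact h1
  have hkfr := hD.decomp.decomp.finrank_eq
  have htop := hD.decomp.decomp.iSup_eq_top
  have horth : ∀ i j, i ≠ j → ∀ x ∈ D i, ∀ y ∈ D j, polar Q x y = 0 :=
    fun i j hij x hx y hy => hD.decomp.orthogonal i j hij x hx y hy
  have hnd : ∀ i, NondegOn Q (D i) := by
    intro i x hx hxy
    by_contra hne
    obtain ⟨y, hy, hyx⟩ := (hD.decomp.nondegenerate i x hx hne).2
    exact hyx (hxy y hy)
  let ix : Fin 5 → Fin t := Fin.castLE ht5
  have hix : Function.Injective ix := Fin.castLE_injective ht5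
  obtain ⟨c, hc, ⟨w, hwX, w', hw'X, hQw, hw'0, hww'⟩, hP0⟩ : ∃ c : F, c ≠ 0 ∧
      (∃ w ∈ D (ix 0), ∃ w' ∈ D (ix 0), Q w = c ∧ w' ≠ 0 ∧ polar Q w w' = 0) ∧
      ∀ x ∈ D (ix 0), ∀ y ∈ D (ix 0), Q x = c → Q y = c →
        polar Q x y = 0 ∨ x = y ∨ x = -y := by
    rcases hk with rfl | rfl
    · exact frame_two Q hF h3 (D (ix 0)) (hnd _) (hkfr _)
    · exact frame_three Q hF h3 (D (ix 0)) (hnd _) (hkfr _)
  have hiso : ∀ i, ∃ e : D (ix 0) ≃ₗ[F] D i,
      ∀ w : D (ix 0), Q ((e w : D i) : ι → F) = Q (w : ι → F) :=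
    fun i => hD.isometric (ix 0) i
  choose e he using hiso
  have hP : ∀ i, ∀ x ∈ D i, ∀ y ∈ D i, Q x = c → Q y = c →
      polar Q x y = 0 ∨ x = y ∨ x = -y := by
    intro i x hx y hy hQx hQy
    obtain ⟨x₀, hx₀⟩ : ∃ x₀ : D (ix 0), ((e i x₀ : D i) : ι → F) = x :=
      ⟨(e i).symm ⟨x, hx⟩, by rw [LinearEquiv.apply_symm_apply]⟩
    obtain ⟨y₀, hy₀⟩ : ∃ y₀ : D (ix 0), ((e i y₀ : D i) : ι → F) = y :=
      ⟨(e i).symm ⟨y, hy⟩, by rw [LinearEquiv.apply_symm_apply]⟩
    have h1 : Q (x₀ : ι → F) = c := by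
      rw [← he i x₀, hx₀]
      exact hQx
    have h2 : Q (y₀ : ι → F) = c := by
      rw [← he i y₀, hy₀]
      exact hQy
    have hpol := polar_of_isometry Q (D (ix 0)) (D i) (e i) (he i) x₀ y₀
    rw [hx₀, hy₀] at hpol
    rcases hP0 x₀ x₀.2 y₀ y₀.2 h1 h2 with h | h | h
    · left
      rw [hpol]
      exact h
    · right; left
      have : x₀ = y₀ := Subtype.ext h
      rw [← hx₀, ← hy₀, this]
    · right; right
      have : x₀ = -y₀ := Subtype.ext (by rw [h]; rfl)
      rw [← hx₀, ← hy₀, this, map_neg]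
      rfl
  let v : Fin 5 → (ι → F) := fun j => ((e (ix j) ⟨w, hwX⟩ : D (ix j)) : ι → F)
  have hv : ∀ j, v j ∈ D (ix j) := fun j => (e (ix j) ⟨w, hwX⟩).2
  have hvc : ∀ j, Q (v j) = c := fun j => by
    rw [← hQw]
    exact he (ix j) ⟨w, hwX⟩
  have hv' : ((e (ix 0) ⟨w', hw'X⟩ : D (ix 0)) : ι → F) ∈ D (ix 0) := (e (ix 0) ⟨w', hw'X⟩).2
  have hv'0 : ((e (ix 0) ⟨w', hw'X⟩ : D (ix 0)) : ι → F) ≠ 0 := by
    intro h
    have : e (ix 0) ⟨w', hw'X⟩ = 0 := Subtype.ext h
    rw [LinearEquiv.map_eq_zero_iff] at this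
    exact hw'0 (congrArg Subtype.val this)
  have hvv' : polar Q (v 0) ((e (ix 0) ⟨w', hw'X⟩ : D (ix 0)) : ι → F) = 0 :=
    (polar_of_isometry Q (D (ix 0)) (D (ix 0)) (e (ix 0)) (he (ix 0)) ⟨w, hwX⟩
      ⟨w', hw'X⟩).trans hww'
  have hdisj : D (ix 0) ⊓ D (ix 1) = ⊥ := by
    have h01 : ix 0 ≠ ix 1 := fun h => absurd (hix h) (by decide)
    exact disjoint_iff.mp (hD.decomp.decomp.indep.pairwiseDisjoint h01)
  obtain ⟨h1, h2, h3'⟩ := frame_core Q hQ h3 D c hc horth hP ix hix v hv hvc _ hv' hv'0 hvv' hdisj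
  exact exists_between_pred Q (decompositionStabilizer D)
    (Cfsg.stabilizing (Cfsg.glToMat ι F) (frameSet Q D c)) _ _
    (mem_decompositionStabilizer_symm_iff Q D) (mem_stabilizing_symm_iff Q (frameSet Q D c))
    h1 h2 h3'


theorem small_decomp_not_maximal_of_le (Q : QuadraticForm F (ι → F))
    (hQ : (polarBilin Q).Nondegenerate) {t : ℕ} (k : ℕ)
    (D : Fin t → Submodule F (ι → F)) (hD : IsOrthogonalMDecomposition ⇑Q k D)
    (hplus : ∀ i, IsPlusTypeOn ⇑Q (D i))
    (hcase : (k = 2 ∧ ((6 ≤ t ∧ Fintype.card F = 2) ∨ (6 ≤ t ∧ Fintype.card F = 4) ∨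
        (5 ≤ t ∧ Fintype.card F = 5))) ∨
      (k = 4 ∧ 3 ≤ t ∧ Fintype.card F = 2)) :
    ∃ K : Subgroup (GL ι F), decompositionStabilizer D ⊓ omegaGL ⇑Q < K ∧ K < omegaGL ⇑Q := by
  have hkfr := hD.decomp.decomp.finrank_eq
  have htop := hD.decomp.decomp.iSup_eq_top
  have horth : ∀ i j, i ≠ j → ∀ x ∈ D i, ∀ y ∈ D j, polar Q x y = 0 :=
    fun i j hij x hx y hy => hD.decomp.orthogonal i j hij x hx y hy
  have hnd : ∀ i, NondegOn Q (D i) := by
    intro i x hx hxy
    by_contra hne
    obtain ⟨y, hy, hyx⟩ := (hD.decomp.nondegenerate i x hx hne).2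
    exact hyx (hxy y hy)
  rcases hcase with ⟨rfl, hq⟩ | ⟨rfl, ht3, hq⟩
  · -- planes
    have hsing : ∀ i, ∃ e ∈ D i, e ≠ 0 ∧ Q e = 0 := fun i =>
      exists_singular_of_plus Q (D i) (hplus i) (hkfr i)
    choose e heD he0 hQe using hsing
    rcases hq with ⟨ht6, hq⟩ | ⟨ht6, hq⟩ | ⟨ht5, hq⟩
    · -- two elements
      have hF := zero_or_one_of_card_two hq
      have h2 : (2 : F) = 0 := by
        have := Nat.cast_card_eq_zero F
        rw [hq] at this
        exact_mod_cast this
      have hbl := fun i => blockA Q hF (D i) (hnd i) (hkfr i) (e i) (heD i) (he0 i) (hQe i)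
      choose nn hnn ww hww hQn hQw hnw hP using hbl
      let ix : Fin 6 → Fin t := Fin.castLE ht6
      have hix : Function.Injective ix := Fin.castLE_injective ht6
      obtain ⟨h1, h2', h3⟩ := coreA Q hQ h2 D horth hP ix hix (fun j => nn (ix j))
        (fun j => hnn (ix j)) (fun j => hQn (ix j)) (ww (ix 0)) (ww (ix 1)) (ww (ix 2))
        (hww _) (hww _) (hww _) (hnw _) (hnw _) (hnw _) (hQw _)
      exact exists_between_pred Q (decompositionStabilizer D)
        (Cfsg.stabilizing (Cfsg.glToMat ι F) (frameSet Q D 1)) _ _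
        (mem_decompositionStabilizer_symm_iff Q D) (mem_stabilizing_symm_iff Q (frameSet Q D 1))
        h1 h2' h3
    · -- four elements
      have h4 : (4 : F) = 0 := by
        have := Nat.cast_card_eq_zero F
        rw [hq] at this
        exact_mod_cast this
      have h2 : (2 : F) = 0 := by
        have : (2 : F) * 2 = 0 := by linear_combination h4
        exact mul_self_eq_zero.mp this
      have hbl := fun i => blockB Q hq (D i) (hnd i) (hkfr i) (e i) (heD i) (he0 i) (hQe i)
      choose nn hnn nn' hnn' hQn hQn' hnn1 hB using hbl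
      have hne1 : ∀ i, polar Q (nn i) (nn' i) ≠ 0 := fun i => by
        rw [hnn1 i]
        exact one_ne_zero
      obtain ⟨ω, hω0, hω1⟩ : ∃ ω : F, ω ≠ 0 ∧ ω ≠ 1 :=
        exists_ne_zero_ne_one_of_card (by omega)
      have hpow : ∀ x : F, x ^ 4 = x := by
        intro x
        have := FiniteField.pow_card x
        rwa [hq] at this
      obtain ⟨κ, hκ⟩ : ∃ κ : F, κ = 1 + ω * ω := ⟨_, rfl⟩
      have hζ : (κ * κ) * (κ * κ) = 1 + ω * ω := by
        rw [← hκ]
        have := hpow κ
        linear_combination this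
      let ix : Fin 6 → Fin t := Fin.castLE ht6
      have hix : Function.Injective ix := Fin.castLE_injective ht6
      obtain ⟨h1, h2', h3⟩ := coreB Q hQ h2 D horth hB ix hix (fun j => nn (ix j))
        (fun j => hnn (ix j)) (fun j => hQn (ix j)) (nn' (ix 0)) (nn' (ix 1)) (nn' (ix 2))
        (hnn' _) (hnn' _) (hnn' _) (hQn' _) (hnn1 _) (hne1 _) (hne1 _) ω (κ * κ) hω0 hω1 hζ
      exact exists_between_pred Q (decompositionStabilizer D)
        (Cfsg.stabilizing (Cfsg.glToMat ι F) (frameLat Q D)) _ _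
        (mem_decompositionStabilizer_symm_iff Q D) (mem_stabilizing_symm_iff Q (frameLat Q D))
        h1 h2' h3
    · -- five elements
      have h5 : (5 : F) = 0 := by
        have := Nat.cast_card_eq_zero F
        rw [hq] at this
        exact_mod_cast this
      have h2 : (2 : F) ≠ 0 := by
        intro h
        have : (1 : F) = 0 := by linear_combination h5 - 2 * h
        exact one_ne_zero this
      have h3 : (3 : F) ≠ 0 := by
        intro h
        have : (1 : F) = 0 := by linear_combination 2 * h - h5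
        exact one_ne_zero this
      have hbl := fun i => blockC Q hq (D i) (hnd i) (hkfr i) (e i) (heD i) (he0 i) (hQe i)
      choose ww hww ww' hww' hQw hw'0 hww0 hP using hbl
      let ix : Fin 5 → Fin t := Fin.castLE ht5
      have hix : Function.Injective ix := Fin.castLE_injective ht5
      have hdisj : D (ix 0) ⊓ D (ix 1) = ⊥ := by
        have h01 : ix 0 ≠ ix 1 := fun h => absurd (hix h) (by decide)
        exact disjoint_iff.mp (hD.decomp.decomp.indep.pairwiseDisjoint h01)
      obtain ⟨h1, h2', h3'⟩ := frame_core2 Q hQ h2 h3 D 1 one_ne_zero horth hP ix hix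
        (fun j => ww (ix j)) (fun j => hww (ix j)) (fun j => hQw (ix j)) (ww' (ix 0)) (hww' _)
        (hw'0 _) (hww0 _) hdisj
      exact exists_between_pred Q (decompositionStabilizer D)
        (Cfsg.stabilizing (Cfsg.glToMat ι F) (frameSet Q D 1)) _ _
        (mem_decompositionStabilizer_symm_iff Q D) (mem_stabilizing_symm_iff Q (frameSet Q D 1))
        h1 h2' h3'
  · -- spaces of dimension four over the field with two elements
    have hF := zero_or_one_of_card_two hq
    have h2 : (2 : F) = 0 := by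
      have := Nat.cast_card_eq_zero F
      rw [hq] at this
      exact_mod_cast this
    have hsing := fun i => exists_two_singular_of_plus Q (D i) (hplus i) (hkfr i)
    choose e₁ he₁ e₂ he₂ hQe₁ hQe₂ he12 he₁0 hind using hsing
    have hbl := fun i => blockD Q hF (D i) (hnd i) (hkfr i) (e₁ i) (e₂ i) (he₁ i) (he₂ i)
      (hQe₁ i) (hQe₂ i) (he12 i) (he₁0 i) (hind i)
    choose a ha b hb y0 hy0 y1 hy1 hQa hQb hab hQy0 hay0 hby0 hy01 hs using hbl
    let ix : Fin 3 → Fin t := Fin.castLE ht3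
    have hix : Function.Injective ix := Fin.castLE_injective ht3
    obtain ⟨h1, h2', h3⟩ := coreD Q hQ h2 D horth ix hix (a (ix 0)) (b (ix 0)) (y0 (ix 0))
      (y1 (ix 0)) (a (ix 1)) (b (ix 1)) (y0 (ix 2)) (ha _) (hb _) (hy0 _) (hy1 _) (ha _) (hb _)
      (hy0 _) (hQa _) (hQb _) (hab _) (hQy0 _) (hay0 _) (hby0 _) (hy01 _) (hQa _) (hQb _) (hab _)
      (hQy0 _) (hs _) (hs _)
    exact exists_between_pred Q (decompositionStabilizer D)
      (Cfsg.stabilizing (Cfsg.glToMat ι F) (frameSet Q D 1)) _ _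
      (mem_decompositionStabilizer_symm_iff Q D) (mem_stabilizing_symm_iff Q (frameSet Q D 1))
      h1 h2' h3

end geosmallgen

end Cfsg.Agent.Lib.Helper13
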