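import Mathlib
import Cfsg.Agent.Lib.Helper13.OrthPlusFam

/-!
# Classes of involutions in the commutator subgroup of the plus type orthogonal group,
characteristic two
-/

set_option autoImplicit false

namespace Cfsg.Agent.Lib.Helper13

open Module QuadraticMap
open scoped commutatorElement

/-- the index set of the classes: (rank, alternating?, family) -/
def plusOmegaIdx (m : ℕ) : Finset (ℕ × Bool × Bool) :=
  (((Finset.range m).filter (fun e => 2 ∣ e + 1)).image (fun e => (e + 1, false, false)) ∪
    ((Finset.range m).filter (fun e => 2 ∣ e + 1)).image (fun e => (e + 1, true, false))) ∪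
    (if Even m then {(m, true, true)} else ∅)

theorem card_plusOmegaIdx (m : ℕ) :
    (plusOmegaIdx m).card = 2 * (m / 2) + (if Even m then 1 else 0) := by
  unfold plusOmegaIdx
  rw [Finset.card_union_of_disjoint, Finset.card_union_of_disjoint,
    Finset.card_image_of_injective, Finset.card_image_of_injective, Nat.card_multiples, two_mul]
  · congr 1
    split_ifs <;> simp
  · intro a b h
    have := congrArg Prod.fst h
    simpa using this
  · intro a b h
    have := congrArg Prod.fst h
    simpa using this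
  · rw [Finset.disjoint_left]
    intro p hp hp'
    obtain ⟨a, -, rfl⟩ := Finset.mem_image.mp hp
    obtain ⟨b, -, hb⟩ := Finset.mem_image.mp hp'
    have := congrArg (fun q : ℕ × Bool × Bool => q.2.1) hb
    simp at this
  · rw [Finset.disjoint_left]
    intro p hp hp'
    split_ifs at hp' with hev
    · rw [Finset.mem_singleton] at hp'
      subst hp'
      rcases Finset.mem_union.mp hp with h1 | h1
      · obtain ⟨a, -, ha⟩ := Finset.mem_image.mp h1
        have := congrArg (fun q : ℕ × Bool × Bool => q.2.2) ha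
        simp at this
      · obtain ⟨a, -, ha⟩ := Finset.mem_image.mp h1
        have := congrArg (fun q : ℕ × Bool × Bool => q.2.2) ha
        simp at this
    · simp at hp'

theorem mem_plusOmegaIdx (m : ℕ) (hm : 1 ≤ m) (p : ℕ × Bool × Bool) :
    p ∈ plusOmegaIdx m ↔ 1 ≤ p.1 ∧ p.1 ≤ m ∧ Even p.1 ∧
      (p.2.2 = true → p.1 = m ∧ p.2.1 = true) := by
  unfold plusOmegaIdx
  rcases p with ⟨s, b, x⟩
  simp only [Finset.mem_union, Finset.mem_image, Finset.mem_range, Finset.mem_filter,
    Prod.mk.injEq]
  constructor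
  · rintro ((⟨e, ⟨he, h2⟩, rfl, rfl, rfl⟩ | ⟨e, ⟨he, h2⟩, rfl, rfl, rfl⟩) | h3)
    · exact ⟨by omega, by omega, even_iff_two_dvd.mpr h2, fun h => by simp at h⟩
    · exact ⟨by omega, by omega, even_iff_two_dvd.mpr h2, fun h => by simp at h⟩
    · split_ifs at h3 with hev
      · rw [Finset.mem_singleton, Prod.mk.injEq, Prod.mk.injEq] at h3
        obtain ⟨rfl, rfl, rfl⟩ := h3
        exact ⟨hm, le_refl _, hev, fun _ => ⟨rfl, rfl⟩⟩
      · simp at h3
  · rintro ⟨h1, h2, h3, h4⟩
    have h5 : 2 ∣ s - 1 + 1 := by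
      have := even_iff_two_dvd.mp h3
      rwa [Nat.sub_add_cancel h1]
    cases x
    · left
      cases b
      · left
        exact ⟨s - 1, ⟨by omega, h5⟩, by omega, rfl, rfl⟩
      · right
        exact ⟨s - 1, ⟨by omega, h5⟩, by omega, rfl, rfl⟩
    · right
      obtain ⟨h6, h7⟩ := h4 rfl
      change s = m at h6
      change b = true at h7
      subst h6
      subst h7
      rw [if_pos h3, Finset.mem_singleton]

section count
universe u
variable {F : Type u} [Field F] [Fintype F] [CharP F 2] (m : ℕ)

open Cfsg.Agent.Lib.Helper6 Cfsg.Agent.Lib.Helper15 Matrix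

local notation "GP" => Subtype (fun x => x ∈ Cfsg.isometryGroup F (Cfsg.quadFormPlus m F))
local notation "OP" => Subtype (fun x => x ∈ Cfsg.Omega F (Cfsg.quadFormPlus m F))
local notation "VP" => (Fin m ⊕ Fin m → F)
local notation "MP" => Matrix (Fin m ⊕ Fin m) (Fin m ⊕ Fin m) F
local notation "M⟨" g "⟩" =>
  ((g : GL (Fin m ⊕ Fin m) F) : Matrix (Fin m ⊕ Fin m) (Fin m ⊕ Fin m) F)

omit [Fintype F] in
theorem isAltType_iff_quad (t : GP) :
    IsAltType M⟨t⟩ ↔ ∀ v : VP, Cfsg.quadFormPlus m F (v + M⟨t⟩ *ᵥ v) = 0 := by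
  have key : ∀ v : VP, Cfsg.sympForm m F v (M⟨t⟩ *ᵥ v) =
      Cfsg.quadFormPlus m F (v + M⟨t⟩ *ᵥ v) := by
    intro v
    rw [← polar_quadFormPlus, oplus_pres t v, sub_sub, CharTwo.add_self_eq_zero, sub_zero]
  constructor
  · intro h v
    rw [← key]
    exact h v
  · intro h v
    rw [key]
    exact h v

omit [Fintype F] in
theorem plus_polar_eq (u w : VP) : polar (plusQF m F) u w = Cfsg.sympForm m F u w := by
  unfold polar
  rw [congrFun coe_plusQF, congrFun coe_plusQF, congrFun coe_plusQF]
  exact polar_quadFormPlus u w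

omit [Fintype F] [CharP F 2] in
theorem mat_ne_one (t : GP) (ht : orderOf t = 2) : M⟨t⟩ ≠ 1 := by
  intro h
  have : t = 1 := Subtype.ext (Units.ext h)
  rw [this, orderOf_one] at ht
  omega

/-- involutions in the commutator subgroup are those with `t - 1` of even rank -/
theorem oplus_involution_mem_Omega_iff (hm : 1 ≤ m) (h : Fintype.card F ≠ 2 ∨ m ≠ 2) (t : GP)
    (ht : orderOf t = 2) :
    t ∈ Cfsg.Omega F (Cfsg.quadFormPlus m F) ↔ Even (M⟨t⟩ - 1).rank := by
  have hQ := nondegenerate_plusQF (F := F) (m := m)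
  have hfun : ∀ v, plusQF m F v = Cfsg.quadFormPlus m F v := fun v => congrFun coe_plusQF v
  by_cases hm3 : 3 ≤ m
  · exact isometryGroup_involution_mem_Omega_iff' (Cfsg.quadFormPlus m F) (plusQF m F) hfun hQ
      (by rw [Fintype.card_sum, Fintype.card_fin]; omega) t ht
  · let e := plusEquiv F m
    have htt : e t * e t = 1 := by
      have h1 : t ^ orderOf t = 1 := pow_orderOf_eq_one t
      rw [ht, pow_two] at h1
      rw [← map_mul, h1, map_one]
    by_cases halt : IsAltType M⟨t⟩
    · have hev := invol_alt_even _ (oplus_sq t ht) (oplus_symp t) halt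
      refine ⟨fun _ => hev, fun _ => ?_⟩
      have hr1 : 1 ≤ (M⟨t⟩ - 1).rank := invol_rank_pos _ (mat_ne_one m t ht)
      have hr2 := invol_rank_le _ (oplus_sq t ht)
      have hrm : (M⟨t⟩ - 1).rank = m := by
        obtain ⟨j, hj⟩ := hev
        omega
      have hP := And.intro hrm ((isAltType_iff_quad m t).mp halt)
      obtain ⟨hW, hWm⟩ := range_ts m t hP
      rw [mem_Omega_iff_dist m hm h t _ hW hWm, ← range_conj m t t t (by group), inf_idem, hWm,
        Nat.sub_self]
      exact ⟨0, rfl⟩
    · have hna : ∃ x, polar (plusQF m F) x ((e t).1 x - x) ≠ 0 := by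
        unfold IsAltType at halt
        push Not at halt
        obtain ⟨v, hv⟩ := halt
        refine ⟨v, ?_⟩
        rw [polar_sub_right, polar_self_charTwo, sub_zero, plusEquiv_apply, plus_polar_eq]
        exact hv
      have hpos : 0 < finrank F VP := by rw [finrank_plus_space]; omega
      have h1 := nonalt_mem_commutator_iff (plusQF m F) hQ hpos (e t) htt hna
      rw [mem_commutator_iff_of_equiv e t,
        rank_sub_one_eq (Cfsg.quadFormPlus m F) (plusQF m F) hfun]
      exact h1

/-- the family invariant of an involution of alternating type of maximal rank -/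
def plusEx (A : MP) : Prop :=
  (A - 1).rank = m ∧ IsAltType A ∧
    Even (m - finrank F ↥(plusE m F ⊓ LinearMap.range (Matrix.toLin' (A - 1))))

/-- conjugation by `g` and the family invariant -/
theorem plusEx_conj (hm : 1 ≤ m) (h : Fintype.card F ≠ 2 ∨ m ≠ 2) (g t s : GP)
    (ht : orderOf t = 2) (hg : g * t * g⁻¹ = s)
    (hr : (M⟨t⟩ - 1).rank = m) (halt : IsAltType M⟨t⟩) :
    (g ∈ Cfsg.Omega F (Cfsg.quadFormPlus m F)) ↔ (plusEx m M⟨t⟩ ↔ plusEx m M⟨s⟩) := by
  have hconj : IsConj t s := isConj_iff.mpr ⟨g, hg⟩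
  have hs : orderOf s = 2 := by
    rw [← hg, ← ht]
    exact MulEquiv.orderOf_eq (MulAut.conj g) t
  obtain ⟨hrs, halts⟩ := (oplus_isConj_iff t s ht hs).mp hconj
  have hP := And.intro hr ((isAltType_iff_quad m t).mp halt)
  obtain ⟨hW, hWm⟩ := range_ts m t hP
  have hV := finrank_plus_space (F := F) (m := m)
  have hgW := ts_glMap g _ hW
  have hgWm := (finrank_glMap g.1 _).trans hWm
  have k1 := parity_three (plusQF m F) nondegenerate_plusQF m hV _ (plusE m F) _ _
    ts_plusE finrank_plusE hW hWm hgW hgWm rfl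
  rw [mem_Omega_iff_dist m hm h g _ hW hWm]
  unfold plusEx
  rw [range_conj m g t s hg, ← hrs]
  have halts' : IsAltType M⟨s⟩ := halts.mp halt
  simp only [hr, halt, halts', true_and]
  rcases k1 with ⟨x1, hx1⟩
  simp only [Nat.even_iff]
  omega

/-- the number of classes of involutions in the commutator subgroup of the plus type group -/
theorem oplus_Omega_card_involution_classes (hm : 1 ≤ m) (h : Fintype.card F ≠ 2 ∨ m ≠ 2) :
    Nat.card {C : ConjClasses OP // ∃ g : OP, ConjClasses.mk g = C ∧ orderOf g = 2} =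
      2 * (m / 2) + (if Even m then 1 else 0) := by
  classical
  have : Fact (Nat.Prime 2) := ⟨Nat.prime_two⟩
  have hQ := nondegenerate_plusQF (F := F) (m := m)
  have hV := finrank_plus_space (F := F) (m := m)
  have hord : ∀ a : OP, orderOf a.1 = orderOf a := fun a => Subgroup.orderOf_coe a
  rw [card_involution_classes
    (fun a : OP => ((M⟨a.1⟩ - 1).rank, decide (IsAltType M⟨a.1⟩), decide (plusEx m M⟨a.1⟩)))
    ?_ (plusOmegaIdx m) ?_, card_plusOmegaIdx]
  · intro a b ha hb
    have ha' : orderOf a.1 = 2 := by rw [hord]; exact ha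
    have hb' : orderOf b.1 = 2 := by rw [hord]; exact hb
    rw [Prod.mk.injEq, Prod.mk.injEq, decide_eq_decide, decide_eq_decide]
    constructor
    · intro hc
      obtain ⟨c, hc⟩ := isConj_iff.mp hc
      have hc' : c.1 * a.1 * c.1⁻¹ = b.1 := congrArg Subtype.val hc
      have hconj : IsConj a.1 b.1 := isConj_iff.mpr ⟨c.1, hc'⟩
      obtain ⟨h1, h2⟩ := (oplus_isConj_iff a.1 b.1 ha' hb').mp hconj
      refine ⟨h1, h2, ?_⟩
      by_cases hra : (M⟨a.1⟩ - 1).rank = m ∧ IsAltType M⟨a.1⟩
      · exact (plusEx_conj m hm h c.1 a.1 b.1 ha' hc' hra.1 hra.2).mp c.2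
      · have hrb : ¬ ((M⟨b.1⟩ - 1).rank = m ∧ IsAltType M⟨b.1⟩) := by
          rw [← h1, ← h2]; exact hra
        constructor
        · intro hx; exact absurd ⟨hx.1, hx.2.1⟩ hra
        · intro hx; exact absurd ⟨hx.1, hx.2.1⟩ hrb
    · rintro ⟨h1, h2, h3⟩
      have hconj : IsConj a.1 b.1 := (oplus_isConj_iff a.1 b.1 ha' hb').mpr ⟨h1, h2⟩
      have key : ∃ g ∈ Cfsg.Omega F (Cfsg.quadFormPlus m F), g * a.1 * g⁻¹ = b.1 := by
        by_cases hra : (M⟨a.1⟩ - 1).rank = m ∧ IsAltType M⟨a.1⟩
        · obtain ⟨g0, hg0⟩ := isConj_iff.mp hconj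
          exact ⟨g0, (plusEx_conj m hm h g0 a.1 b.1 ha' hg0 hra.1 hra.2).mpr h3, hg0⟩
        · apply oplus_conj_in_Omega_of_not m hm h a.1 b.1 ha' hconj
          rintro ⟨hr, hq⟩
          exact hra ⟨hr, (isAltType_iff_quad m a.1).mpr hq⟩
      obtain ⟨g, hgΩ, hg⟩ := key
      rw [isConj_iff]
      exact ⟨⟨g, hgΩ⟩, Subtype.ext hg⟩
  · intro p
    rw [mem_plusOmegaIdx m hm]
    have hmk : ∀ (M : MP), M * M = 1 → (∀ v, Cfsg.quadFormPlus m F (M *ᵥ v) = Cfsg.quadFormPlus m F v) →
        1 ≤ (M - 1).rank → Even (M - 1).rank → ∃ a : OP, orderOf a = 2 ∧ M⟨a.1⟩ = M := by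
      intro M hMM hP hr hev
      let g : GP := ⟨⟨M, M, hMM, hMM⟩, fun u _ => hP u⟩
      have hg2 : orderOf g = 2 := by
        apply orderOf_eq_prime
        · apply Subtype.ext
          apply Units.ext
          rw [pow_two]
          exact hMM
        · intro h1
          have : M = 1 := congrArg (fun x : GP => M⟨x⟩) h1
          rw [this, sub_self, Matrix.rank_zero] at hr
          omega
      have hgΩ : g ∈ Cfsg.Omega F (Cfsg.quadFormPlus m F) :=
        (oplus_involution_mem_Omega_iff m hm h g hg2).mpr hev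
      refine ⟨⟨g, hgΩ⟩, ?_, rfl⟩
      rw [← hord]
      exact hg2
    constructor
    · rintro ⟨h1, h2, h3, h4⟩
      rcases p with ⟨s, bb, x⟩
      change 1 ≤ s at h1
      change s ≤ m at h2
      change Even s at h3
      cases bb
      · -- non-alternating
        have hx : x = false := by
          cases x
          · rfl
          · have := (h4 rfl).2
            simp at this
        subst hx
        obtain ⟨M, hMM, hP, hr, hna⟩ := exists_model_nonalt F m s h1 h2
        obtain ⟨a, ha, haM⟩ := hmk M hMM hP (by rw [hr]; exact h1) (by rw [hr]; exact h3)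
        refine ⟨a, ha, ?_⟩
        rw [haM]
        refine Prod.ext hr (Prod.ext (decide_eq_false hna) (decide_eq_false ?_))
        intro hx
        exact hna hx.2.1
      · -- alternating
        obtain ⟨k, hk⟩ := h3
        have hs : s = 2 * k := by omega
        obtain ⟨M, hMM, hP, hr, hal⟩ := exists_model_alt F m k (by omega)
        obtain ⟨a, ha, haM⟩ := hmk M hMM hP (by rw [hr]; omega) (by rw [hr]; exact ⟨k, by ring⟩)
        have ha' : orderOf a.1 = 2 := by rw [hord]; exact ha
        have hra : (M⟨a.1⟩ - 1).rank = s := by rw [haM, hr, hs]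
        have hala : IsAltType M⟨a.1⟩ := by rw [haM]; exact hal
        by_cases hsm : s = m
        · -- maximal rank: both families occur
          have hpos : 0 < finrank F VP := by rw [hV]; omega
          obtain ⟨c, hc⟩ := exists_norm_one (plusQF m F) hQ hpos
          let ρ : GP := (plusEquiv F m).symm (reflO (plusQF m F) c)
          have hρ : ρ ∉ Cfsg.Omega F (Cfsg.quadFormPlus m F) := by
            intro hρΩ
            have h5 := (mem_Omega_iff_famExp m hm h ρ).mp hρΩ
            rw [famExp_reflO m c hc] at h5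
            exact absurd h5 (by decide)
          have hnorm : (Cfsg.Omega F (Cfsg.quadFormPlus m F)).Normal := inferInstance
          let a2 : OP := ⟨ρ * a.1 * ρ⁻¹, hnorm.conj_mem a.1 a.2 ρ⟩
          have ha2 : orderOf a2 = 2 := by
            rw [← hord, ← ha']
            exact MulEquiv.orderOf_eq (MulAut.conj ρ) a.1
          have hflip := plusEx_conj m hm h ρ a.1 a2.1 ha' rfl (by rw [hra, hsm]) hala
          have hconj : IsConj a.1 a2.1 := isConj_iff.mpr ⟨ρ, rfl⟩
          have ha2' : orderOf a2.1 = 2 := by rw [hord]; exact ha2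
          obtain ⟨h5, h6⟩ := (oplus_isConj_iff a.1 a2.1 ha' ha2').mp hconj
          have hne : ¬ (plusEx m M⟨a.1⟩ ↔ plusEx m M⟨a2.1⟩) := fun hh => hρ (hflip.mpr hh)
          by_cases hxa : decide (plusEx m M⟨a.1⟩) = x
          · exact ⟨a, ha, Prod.ext hra (Prod.ext (decide_eq_true hala) hxa)⟩
          · refine ⟨a2, ha2, Prod.ext (by rw [← h5]; exact hra)
              (Prod.ext (decide_eq_true (h6.mp hala)) ?_)⟩
            by_cases hp1 : plusEx m M⟨a.1⟩
            · have hp2 : ¬ plusEx m M⟨a2.1⟩ := fun hp2 => hne ⟨fun _ => hp2, fun _ => hp1⟩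
              rw [decide_eq_true hp1] at hxa
              rw [decide_eq_false hp2]
              cases x
              · rfl
              · exact absurd rfl hxa
            · have hp2 : plusEx m M⟨a2.1⟩ := by
                by_contra hp2
                exact hne ⟨fun hh => absurd hh hp1, fun hh => absurd hh hp2⟩
              rw [decide_eq_false hp1] at hxa
              rw [decide_eq_true hp2]
              cases x
              · exact absurd rfl hxa
              · rfl
        · have hx : x = false := by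
            cases x
            · rfl
            · exact absurd (h4 rfl).1 hsm
          subst hx
          refine ⟨a, ha, Prod.ext hra (Prod.ext (decide_eq_true hala) (decide_eq_false ?_))⟩
          intro hx
          exact hsm (by rw [← hra]; exact hx.1)
    · rintro ⟨a, ha, rfl⟩
      have ha' : orderOf a.1 = 2 := by rw [hord]; exact ha
      have hev := (oplus_involution_mem_Omega_iff m hm h a.1 ha').mp a.2
      refine ⟨invol_rank_pos _ (mat_ne_one m a.1 ha'), invol_rank_le _ (oplus_sq a.1 ha'), hev,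
        fun hx => ?_⟩
      have hx' : plusEx m M⟨a.1⟩ := of_decide_eq_true hx
      exact ⟨hx'.1, decide_eq_true hx'.2.1⟩

end count

end Cfsg.Agent.Lib.Helper13
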