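import Mathlib
import Cfsg.Prelude.Def_GeometricClasses
import Cfsg.Agent.Lib.Helper16.TensDefs
import Cfsg.Agent.Lib.Helper10.TensFund
import Cfsg.Agent.Lib.Helper28.TensUDefs
import Cfsg.Agent.Lib.Helper3.SpTL1

/-!
# Vocabulary for S5666: `(Sp_a ⊗ O_b) ∩ Sp_{ab}` is maximal in `Sp_{ab}(q)`, `q` odd  (helper13)

`V = (Fin a × Fin b → F) = U ⊗ W`; `f₁ = bf J1` on `U = F^a` is a non-degenerate ALTERNATING form (`SympG J1`, helper3's
`SpTDefs`), `f₂ = bf J2` on `W = F^b` is a non-degenerate SYMMETRIC form (`OrthG J2`); the form on `V` is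
`bf (J1 ⊗ₖ J2)` (alternating; `bf_kron_pur : bf (J1 ⊗ₖ J2) (pur u w) (pur u' w') = bf J1 u u' * bf J2 w w'`).

Re-used vocabulary: helper16 `TensDefs` (`pur`, `purL`, `purR`, `ctr ψ = 1 ⊗ ψ`, `hyp ψ = U ⊗ ker ψ`, `act`, `img`, `rootGL`),
helper10 `TensFund` (`pt k = U ⊗ k`), helper28 `TensUDefs` (`ctrL φ = φ ⊗ 1`, `hypL φ = ker φ ⊗ W`, `ptL u = u ⊗ W`,
`rootGLL u φ h = (1 + u φᵀ) ⊗ 1`), helper3 `SpTDefs`/`SpTL1` (`bf`, `SympG`, `E`, `adj`, `uni`, `bf_kron_pur`, `pur_induction`, ...).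

New here:
* `OrthG J`      : `bf J` symmetric and non-degenerate;
* `IsoG J`       : the isometry group of `bf J` inside `GL`;
* `rU J1 h u c`  : the M-root element `t_{u,c} ⊗ 1`, `t_{u,c} x = x + c f₁(x,u) u`;  `[V, rU] = ptL u = u ⊗ W`,
                   `C_V(rU) = hypL (J1 *ᵥ u) = u^⊥ ⊗ W = (ptL u)^⊥`;
* `IsTv J x c t` : `t` is the transvection `v ↦ v + c f(v,x) x`;
* `OverS J1 J2 M`: `N0 ⊓ IsoG ≤ M ≤ IsoG` (`N0 = kroneckerSubgroup a b F`);
* `HypA M`       : every element of `M` mapping a standard `u ⊗ W` onto a standard `u' ⊗ W` lies in `N0`;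
* `HypE1 J1 M`   : an `M`-conjugate of an M-root element lying in `N0` is conjugate by an element of `N0`;
* `HypAL J2 M`   : every element of `M` mapping a standard `U ⊗ k` (`k` singular) onto a standard `U ⊗ k'` lies in `N0`;
* `SetupSO J1 J2`: the standing hypotheses (incl. `2 ≠ 0` and "`IsoG (J1 ⊗ₖ J2)` is generated by transvections").
-/

set_option autoImplicit false

namespace Cfsg.Agent.Lib.Helper13.TensSO

open Matrix Module
open Cfsg.Agent.Lib.Helper16.Tens Cfsg.Agent.Lib.Helper10.TensFund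
open Cfsg.Agent.Lib.Helper28.TensU (ctrL ctrL_apply ctrL_pur hypL mem_hypL_iff ptL mem_ptL_iff pur_mem_ptL rootGLL
  rootGLL_val act_rootGLL rootGLL_mem_SL rootGLL_mem_kron)
open Cfsg.Agent.Lib.Helper3.SpT (bf SympG)
open scoped Kronecker

variable {F : Type*} [Field F]

/-- a non-degenerate symmetric Gram matrix -/
structure OrthG {κ : Type} [Fintype κ] (J : Matrix κ κ F) : Prop where
  symm : ∀ x y, bf J x y = bf J y x
  nondeg : ∀ x, (∀ y, bf J x y = 0) → x = 0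

/-- the isometry group of `bf J` -/
def IsoG {κ : Type} [Fintype κ] [DecidableEq κ] (J : Matrix κ κ F) : Subgroup (GL κ F) where
  carrier := {g | ∀ x y, bf J ((g : Matrix κ κ F) *ᵥ x) ((g : Matrix κ κ F) *ᵥ y) = bf J x y}
  mul_mem' {g h} hg hh := by
    intro x y
    rw [Units.val_mul, ← Matrix.mulVec_mulVec, ← Matrix.mulVec_mulVec, hg, hh]
  one_mem' := by
    intro x y
    simp
  inv_mem' {g} hg := by
    intro x y
    have h := hg (((g⁻¹ : GL κ F) : Matrix κ κ F) *ᵥ x) (((g⁻¹ : GL κ F) : Matrix κ κ F) *ᵥ y)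
    rw [Matrix.mulVec_mulVec, Matrix.mulVec_mulVec, ← Units.val_mul, mul_inv_cancel, Units.val_one,
      Matrix.one_mulVec, Matrix.one_mulVec] at h
    exact h.symm

theorem mem_IsoG_iff {κ : Type} [Fintype κ] [DecidableEq κ] (J : Matrix κ κ F) (g : GL κ F) :
    g ∈ IsoG J ↔ ∀ x y, bf J ((g : Matrix κ κ F) *ᵥ x) ((g : Matrix κ κ F) *ᵥ y) = bf J x y := Iff.rfl

/-- `t` is the transvection `v ↦ v + c f(v,x) x` of the form `bf J` -/
def IsTv {κ : Type} [Fintype κ] [DecidableEq κ] (J : Matrix κ κ F) (x : κ → F) (c : F) (t : GL κ F) : Prop :=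
  ∀ v : κ → F, (t : Matrix κ κ F) *ᵥ v = v + (c * bf J v x) • x

variable {a b : ℕ} (J1 : Matrix (Fin a) (Fin a) F) (J2 : Matrix (Fin b) (Fin b) F)

theorem rU_aux (hJ1 : SympG J1) (u : Fin a → F) (c : F) : (J1 *ᵥ u) ⬝ᵥ (c • u) = 0 := by
  rw [dotProduct_smul, dotProduct_comm]
  have : u ⬝ᵥ J1 *ᵥ u = bf J1 u u := rfl
  rw [this, hJ1.alt, smul_zero]

/-- the M-root element `t_{u,c} ⊗ 1`, `t_{u,c} x = x + c f₁(x,u) u` -/
def rU (hJ1 : SympG J1) (u : Fin a → F) (c : F) : GL (Fin a × Fin b) F :=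
  rootGLL (c • u) (J1 *ᵥ u) (rU_aux J1 hJ1 u c)

theorem act_rU (hJ1 : SympG J1) (u : Fin a → F) (c : F) (v : Fin a × Fin b → F) :
    act (rU (b := b) J1 hJ1 u c) v = v + c • pur u (ctrL (J1 *ᵥ u) v) := by
  unfold rU
  rw [act_rootGLL, pur_smul_left]

theorem rU_mem_kron (hJ1 : SympG J1) (u : Fin a → F) (c : F) :
    rU (b := b) J1 hJ1 u c ∈ Cfsg.Geo.kroneckerSubgroup a b F := rootGLL_mem_kron _ _ _

/-- `N0 ⊓ IsoG ≤ M ≤ IsoG` -/
structure OverS (M : Subgroup (GL (Fin a × Fin b) F)) : Prop where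
  le_iso : M ≤ IsoG (J1 ⊗ₖ J2)
  kron_mem : ∀ g : GL (Fin a × Fin b) F, g ∈ Cfsg.Geo.kroneckerSubgroup a b F →
    g ∈ IsoG (J1 ⊗ₖ J2) → g ∈ M

/-- every element of `M` mapping a standard `u ⊗ W` onto a standard `u' ⊗ W` lies in `N0` -/
def HypA (M : Subgroup (GL (Fin a × Fin b) F)) : Prop :=
  ∀ m ∈ M, ∀ u u' : Fin a → F, u ≠ 0 → u' ≠ 0 →
    img m (ptL (b := b) u) = ptL u' → m ∈ Cfsg.Geo.kroneckerSubgroup a b F

/-- an `M`-conjugate of an M-root element lies in `N0` only if the conjugating element does -/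
def HypE1 (hJ1 : SympG J1) (M : Subgroup (GL (Fin a × Fin b) F)) : Prop :=
  ∀ g ∈ M, ∀ (u : Fin a → F) (c : F), u ≠ 0 → c ≠ 0 →
    g * rU J1 hJ1 u c * g⁻¹ ∈ Cfsg.Geo.kroneckerSubgroup a b F → g ∈ Cfsg.Geo.kroneckerSubgroup a b F

/-- every element of `M` mapping a standard `U ⊗ k` onto a standard `U ⊗ k'` (`k`, `k'` singular) lies in `N0` -/
def HypAL (M : Subgroup (GL (Fin a × Fin b) F)) : Prop :=
  ∀ m ∈ M, ∀ k k' : Fin b → F, k ≠ 0 → bf J2 k k = 0 → k' ≠ 0 → bf J2 k' k' = 0 →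
    img m (pt (a := a) k) = pt k' → m ∈ Cfsg.Geo.kroneckerSubgroup a b F

/-- the standing hypotheses -/
structure SetupSO : Prop where
  h1 : SympG J1
  h2 : OrthG J2
  two : (2 : F) ≠ 0
  gen : ∀ M : Subgroup (GL (Fin a × Fin b) F),
    (∀ (x : Fin a × Fin b → F) (c : F) (t : GL (Fin a × Fin b) F), IsTv (J1 ⊗ₖ J2) x c t → t ∈ M) →
      IsoG (J1 ⊗ₖ J2) ≤ M

end Cfsg.Agent.Lib.Helper13.TensSO
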