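import Mathlib
import Cfsg.Agent.Lib.Helper6.Hermitian
import Cfsg.Agent.Lib.Helper13.GSpMax

/-!
# Abstract nondegenerate Hermitian forms on `F^n`

A form `B : V →ₗ V →ₛₗ[σ] F` with `σ` an involution and `B v w = σ (B w v)`, nondegenerate.
Elementary geometry: isotropic vectors, links, connectedness of the non-orthogonality graph on
isotropic vectors of a nondegenerate subspace, sums of isotropic vectors, Riesz representation.
-/

set_option autoImplicit false

namespace Cfsg.Agent.Lib.Helper13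

open Matrix

section uform
variable {n : ℕ} {F : Type*} [Field F]

/-- a nondegenerate `σ`-Hermitian form -/
structure IsU (σ : F →+* F) (B : (Fin n → F) →ₗ[F] (Fin n → F) →ₛₗ[σ] F) : Prop where
  ne_id : σ ≠ RingHom.id F
  inv : ∀ a, σ (σ a) = a
  herm : ∀ v w, B v w = σ (B w v)
  nd : ∀ v, v ≠ 0 → ∃ x, B x v ≠ 0

/-- the form is nondegenerate on the subspace `S` -/
def NDOn {σ : F →+* F} (B : (Fin n → F) →ₗ[F] (Fin n → F) →ₛₗ[σ] F)
    (S : Submodule F (Fin n → F)) : Prop :=
  ∀ s ∈ S, s ≠ 0 → ∃ x ∈ S, B x s ≠ 0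

variable {σ : F →+* F} {B : (Fin n → F) →ₗ[F] (Fin n → F) →ₛₗ[σ] F}

theorem inner_add_smul_left (x y z : Fin n → F) (l : F) :
    B (x + l • y) z = B x z + l * B y z := by
  rw [map_add, map_smul, LinearMap.add_apply, LinearMap.smul_apply, smul_eq_mul]

theorem inner_add_smul_right (x y z : Fin n → F) (l : F) :
    B z (x + l • y) = B z x + σ l * B z y := by
  rw [map_add, map_smulₛₗ, smul_eq_mul]

theorem inner_smul_left (y z : Fin n → F) (l : F) : B (l • y) z = l * B y z := by
  rw [map_smul, LinearMap.smul_apply, smul_eq_mul]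

theorem inner_smul_right (y z : Fin n → F) (l : F) : B z (l • y) = σ l * B z y := by
  rw [map_smulₛₗ, smul_eq_mul]

theorem inner_sub_left (x y z : Fin n → F) : B (x - y) z = B x z - B y z := by
  rw [map_sub, LinearMap.sub_apply]

theorem inner_sub_right (x y z : Fin n → F) : B z (x - y) = B z x - B z y := by
  rw [map_sub]

theorem inner_add_left (x y z : Fin n → F) : B (x + y) z = B x z + B y z := by
  rw [map_add, LinearMap.add_apply]

theorem inner_add_right (x y z : Fin n → F) : B z (x + y) = B z x + B z y := by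
  rw [map_add]

theorem inner_zero_left (z : Fin n → F) : B 0 z = 0 := by
  rw [map_zero, LinearMap.zero_apply]

theorem inner_zero_right (z : Fin n → F) : B z 0 = 0 := map_zero _

theorem exists_link_U (S : Submodule F (Fin n → F)) (hS : NDOn B S) (a a' : Fin n → F)
    (ha : a ∈ S) (ha' : a' ∈ S) (ha0 : a ≠ 0) (ha'0 : a' ≠ 0) :
    ∃ y ∈ S, B y a ≠ 0 ∧ B y a' ≠ 0 := by
  obtain ⟨y₁, hy₁S, h₁⟩ := hS a ha ha0
  obtain ⟨y₂, hy₂S, h₂⟩ := hS a' ha' ha'0
  by_cases h3 : B y₁ a' = 0
  · by_cases h4 : B y₂ a = 0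
    · refine ⟨y₁ + y₂, S.add_mem hy₁S hy₂S, ?_, ?_⟩
      · rw [inner_add_left, h4, add_zero]
        exact h₁
      · rw [inner_add_left, h3, zero_add]
        exact h₂
    · exact ⟨y₂, hy₂S, h4, h₂⟩
  · exact ⟨y₁, hy₁S, h₁, h3⟩

theorem exists_perp_vec (k : ℕ) (hk : k < n) (p : Fin k → (Fin n → F)) :
    ∃ x : Fin n → F, x ≠ 0 ∧ ∀ i, B x (p i) = 0 := by
  have hker : LinearMap.ker (LinearMap.pi (fun i => B.flip (p i)) :
      (Fin n → F) →ₗ[F] (Fin k → F)) ≠ ⊥ := by
    apply LinearMap.ker_ne_bot_of_finrank_lt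
    rw [Module.finrank_fintype_fun_eq_card, Module.finrank_fintype_fun_eq_card, Fintype.card_fin,
      Fintype.card_fin]
    exact hk
  obtain ⟨x, hx, hx0⟩ := (Submodule.ne_bot_iff _).mp hker
  refine ⟨x, hx0, fun i => ?_⟩
  have h1 := congrFun (LinearMap.mem_ker.mp hx) i
  simpa using h1

namespace IsU

variable (h : IsU σ B)
include h

theorem fix (v : Fin n → F) : σ (B v v) = B v v := (h.herm v v).symm

theorem swap_zero {x y : Fin n → F} (hxy : B x y = 0) : B y x = 0 := by
  rw [h.herm, hxy, map_zero]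

theorem swap_ne {x y : Fin n → F} (hxy : B x y ≠ 0) : B y x ≠ 0 :=
  fun h0 => hxy (h.swap_zero h0)

theorem nd' (v : Fin n → F) (hv : v ≠ 0) : ∃ x, B v x ≠ 0 := by
  obtain ⟨x, hx⟩ := h.nd v hv
  exact ⟨x, h.swap_ne hx⟩

theorem eq_zero_of_forall {u : Fin n → F} (hu : ∀ x, B x u = 0) : u = 0 := by
  by_contra h0
  obtain ⟨x, hx⟩ := h.nd u h0
  exact hx (hu x)

theorem ndOn_top : NDOn B ⊤ := fun s _ hs => by
  obtain ⟨x, hx⟩ := h.nd s hs
  exact ⟨x, Submodule.mem_top, hx⟩

theorem exists_km : ∃ k : F, k ≠ 0 ∧ σ k = -k := by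
  obtain ⟨e, he⟩ : ∃ e, σ e ≠ e := by
    by_contra hcon
    push Not at hcon
    exact h.ne_id (RingHom.ext fun a => by rw [hcon]; rfl)
  exact ⟨e - σ e, fun h0 => he (sub_eq_zero.mp h0).symm, by rw [map_sub, h.inv]; ring⟩

theorem exists_tr (a : F) (ha : σ a = a) : ∃ t, t + σ t = a :=
  Cfsg.Agent.Lib.Helper6.exists_trace σ h.ne_id h.inv a ha

theorem exists_tr_ne : ∃ e : F, e + σ e ≠ 0 :=
  Cfsg.Agent.Lib.Helper6.exists_add_ne_zero σ h.ne_id

theorem exists_nm [Finite F] (a : F) (ha0 : a ≠ 0) (ha : σ a = a) : ∃ c, c * σ c = a :=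
  Cfsg.Agent.Lib.Helper6.exists_norm σ h.ne_id h.inv a ha0 ha

theorem sigma_ne_zero {a : F} (ha : a ≠ 0) : σ a ≠ 0 := by
  rwa [Ne, map_eq_zero]

theorem norm_add_smul (x y : Fin n → F) (l : F) :
    B (x + l • y) (x + l • y) = B x x + l * σ l * B y y + σ l * B x y + l * σ (B x y) := by
  rw [inner_add_smul_left, inner_add_smul_right, inner_add_smul_right, h.herm y x]
  ring

theorem norm_smul (y : Fin n → F) (l : F) : B (l • y) (l • y) = l * σ l * B y y := by
  rw [inner_smul_left, inner_smul_right]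
  ring

/-- adjusting `y` along an isotropic `z` to any prescribed norm -/
theorem exists_norm_eq (z y : Fin n → F) (hz : B z z = 0) (hzy : B z y ≠ 0) (ν : F)
    (hν : σ ν = ν) : ∃ l : F, B (y + l • z) (y + l • z) = ν := by
  have hfix : σ (ν - B y y) = ν - B y y := by rw [map_sub, hν, h.fix]
  obtain ⟨t, ht⟩ := h.exists_tr _ hfix
  refine ⟨t / B z y, ?_⟩
  have e1 : t / B z y * B z y = t := div_mul_cancel₀ _ hzy
  have e2 : σ (t / B z y) * σ (B z y) = σ t := by rw [← map_mul, e1]
  rw [h.norm_add_smul, hz, h.herm y z, h.inv]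
  linear_combination e1 + e2 + ht

theorem exists_conn (S : Submodule F (Fin n → F)) (hS : NDOn B S) (a a'' : Fin n → F)
    (ha : a ∈ S) (ha'' : a'' ∈ S) (ha0 : a ≠ 0) (ha''0 : a'' ≠ 0) (haa : B a a = 0)
    (hperp : B a a'' = 0) : ∃ a' ∈ S, B a' a' = 0 ∧ B a' a ≠ 0 ∧ B a' a'' ≠ 0 := by
  obtain ⟨y, hyS, hya, hya''⟩ := exists_link_U S hS a a'' ha ha'' ha0 ha''0
  obtain ⟨l, hl⟩ := h.exists_norm_eq a y haa (h.swap_ne hya) 0 (map_zero σ)
  refine ⟨y + l • a, S.add_mem hyS (S.smul_mem l ha), hl, ?_, ?_⟩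
  · rw [inner_add_smul_left, haa, mul_zero, add_zero]
    exact hya
  · rw [inner_add_smul_left, hperp, mul_zero, add_zero]
    exact hya''

/-- every vector of a nondegenerate subspace containing a nonzero isotropic vector is a sum of two
isotropic vectors of the subspace -/
theorem exists_iso_sum (S : Submodule F (Fin n → F)) (hS : NDOn B S) (e : Fin n → F)
    (heS : e ∈ S) (he0 : e ≠ 0) (hee : B e e = 0) (x : Fin n → F) (hxS : x ∈ S) :
    ∃ x₁ ∈ S, ∃ x₂ ∈ S, B x₁ x₁ = 0 ∧ B x₂ x₂ = 0 ∧ x = x₁ + x₂ := by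
  by_cases hx0 : x = 0
  · exact ⟨0, S.zero_mem, 0, S.zero_mem, inner_zero_left 0, inner_zero_left 0, by rw [hx0, add_zero]⟩
  · obtain ⟨z, hzS, hzz, hzx⟩ : ∃ z ∈ S, B z z = 0 ∧ B z x ≠ 0 := by
      by_cases hex : B e x = 0
      · obtain ⟨y, hyS, hyx, hye⟩ := exists_link_U S hS x e hxS heS hx0 he0
        obtain ⟨l, hl⟩ := h.exists_norm_eq e y hee (h.swap_ne hye) 0 (map_zero σ)
        refine ⟨y + l • e, S.add_mem hyS (S.smul_mem l heS), hl, ?_⟩
        rw [inner_add_smul_left, hex, mul_zero, add_zero]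
        exact hyx
      · exact ⟨e, heS, hee, hex⟩
    obtain ⟨l, hl⟩ := h.exists_norm_eq z x hzz hzx 0 (map_zero σ)
    refine ⟨x + l • z, S.add_mem hxS (S.smul_mem l hzS), (-l) • z, S.smul_mem _ hzS, hl, ?_, ?_⟩
    · rw [h.norm_smul, hzz, mul_zero]
    · rw [neg_smul]; abel

/-- a nonzero isotropic vector from two orthogonal nonzero vectors -/
theorem exists_iso_of [Finite F] (S : Submodule F (Fin n → F)) (s s' : Fin n → F) (hs : s ∈ S)
    (hs' : s' ∈ S) (hs0 : s ≠ 0) (hs'0 : s' ≠ 0) (hperp : B s' s = 0) :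
    ∃ e ∈ S, e ≠ 0 ∧ B e e = 0 := by
  by_cases h1 : B s s = 0
  · exact ⟨s, hs, hs0, h1⟩
  · by_cases h2 : B s' s' = 0
    · exact ⟨s', hs', hs'0, h2⟩
    · have hfix : σ (-(B s s) / B s' s') = -(B s s) / B s' s' := by
        rw [map_div₀, map_neg, h.fix, h.fix]
      obtain ⟨c, hc⟩ := h.exists_nm (-(B s s) / B s' s') (div_ne_zero (neg_ne_zero.mpr h1) h2) hfix
      refine ⟨s + c • s', S.add_mem hs (S.smul_mem c hs'), ?_, ?_⟩
      · intro h0
        apply h1
        have := congrArg (fun v => B v s) h0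
        simp only [inner_add_smul_left, hperp, mul_zero, add_zero, inner_zero_left] at this
        exact this
      · rw [h.norm_add_smul, h.swap_zero hperp, map_zero, mul_zero, mul_zero, add_zero, add_zero, hc,
          div_mul_cancel₀ _ h2]
        ring

theorem exists_smul_of_perp (v u : Fin n → F) (hv : v ≠ 0)
    (hu : ∀ z, B z v = 0 → B z u = 0) : ∃ ρ : F, u = ρ • v := by
  obtain ⟨y, hy⟩ := h.nd v hv
  refine ⟨σ (B y u / B y v), ?_⟩
  have key : ∀ x, B x (u - σ (B y u / B y v) • v) = 0 := by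
    intro x
    have h1 := hu (x - (B x v / B y v) • y) (by
      rw [inner_sub_left, inner_smul_left, div_mul_cancel₀ _ hy, sub_self])
    rw [inner_sub_left, inner_smul_left] at h1
    rw [inner_sub_right, inner_smul_right, h.inv]
    field_simp
    field_simp at h1
    linear_combination h1
  exact sub_eq_zero.mp (h.eq_zero_of_forall key)

/-- a subspace all of whose vectors are isotropic is totally isotropic -/
theorem forall_eq_zero_of_forall_iso (S : Submodule F (Fin n → F)) (hS : ∀ w ∈ S, B w w = 0) :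
    ∀ w ∈ S, ∀ w' ∈ S, B w w' = 0 := by
  intro w hw w' hw'
  by_contra hθ
  obtain ⟨e, he⟩ := h.exists_tr_ne
  have h1 := hS (w + σ (e / B w w') • w') (S.add_mem hw (S.smul_mem _ hw'))
  rw [h.norm_add_smul, hS w hw, hS w' hw', h.inv, mul_zero, add_zero, zero_add] at h1
  have e1 : e / B w w' * B w w' = e := div_mul_cancel₀ _ hθ
  have e2 : σ (e / B w w') * σ (B w w') = σ e := by rw [← map_mul, e1]
  apply he
  linear_combination h1 - e1 - e2

end IsU

/-- the covector of `x ↦ B x u` -/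
def ucovec {σ : F →+* F} (B : (Fin n → F) →ₗ[F] (Fin n → F) →ₛₗ[σ] F) (u : Fin n → F) :
    Fin n → F := fun i => B (Pi.single i 1) u

theorem ucovec_dot (u x : Fin n → F) : ucovec B u ⬝ᵥ x = B x u := by
  have h := LinearMap.pi_apply_eq_sum_univ (B.flip u) x
  simp only [LinearMap.flip_apply] at h
  rw [h]
  simp only [dotProduct, ucovec, smul_eq_mul]
  apply Finset.sum_congr rfl
  intro i _
  have e : (fun j => if i = j then (1 : F) else 0) = Pi.single i 1 := by
    ext j
    by_cases h : i = j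
    · subst h; simp
    · simp [h, Ne.symm h]
  rw [e]
  ring

theorem ucovec_eq_of_forall {u φ : Fin n → F} (h : ∀ x, B x u = φ ⬝ᵥ x) : ucovec B u = φ :=
  covec_ext (fun x => by rw [ucovec_dot, h])

theorem ucovec_add (u u' : Fin n → F) : ucovec B (u + u') = ucovec B u + ucovec B u' :=
  covec_ext (fun x => by rw [add_dotProduct, ucovec_dot, ucovec_dot, ucovec_dot, map_add])

theorem ucovec_neg (u : Fin n → F) : ucovec B (-u) = -ucovec B u :=
  covec_ext (fun x => by rw [neg_dotProduct, ucovec_dot, ucovec_dot, map_neg])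

theorem ucovec_smul (c : F) (u : Fin n → F) : ucovec B (c • u) = σ c • ucovec B u :=
  covec_ext (fun x => by rw [smul_dotProduct, ucovec_dot, ucovec_dot, inner_smul_right, smul_eq_mul])

theorem ucovec_zero : ucovec B 0 = 0 :=
  covec_ext (fun x => by rw [ucovec_dot, zero_dotProduct, inner_zero_right])

theorem IsU.exists_riesz (h : IsU σ B) (φ : Fin n → F) : ∃ u, ∀ x, B x u = φ ⬝ᵥ x := by
  let R : (Fin n → F) →ₗ[F] (Fin n → F) :=
    { toFun := fun u i => σ (ucovec B u i)
      map_add' := fun u v => by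
        ext i
        simp only [ucovec_add, Pi.add_apply, map_add]
      map_smul' := fun c u => by
        ext i
        simp only [ucovec_smul, Pi.smul_apply, smul_eq_mul, map_mul, h.inv, RingHom.id_apply] }
  have hR : ∀ u i, R u i = σ (ucovec B u i) := fun u i => rfl
  have hinj : Function.Injective R := by
    rw [← LinearMap.ker_eq_bot, LinearMap.ker_eq_bot']
    intro u hu
    apply h.eq_zero_of_forall
    intro x
    have h0 : ucovec B u = 0 := by
      ext i
      have := congrFun hu i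
      rw [hR] at this
      have h2 := congrArg σ this
      rwa [h.inv, Pi.zero_apply, map_zero] at h2
    rw [← ucovec_dot, h0, zero_dotProduct]
  obtain ⟨u, hu⟩ := (LinearMap.injective_iff_surjective.mp hinj) (fun i => σ (φ i))
  refine ⟨u, fun x => ?_⟩
  have h0 : ucovec B u = φ := by
    ext i
    have := congrFun hu i
    rw [hR] at this
    have h2 := congrArg σ this
    rwa [h.inv, h.inv] at h2
  rw [← ucovec_dot, h0]

end uform

end Cfsg.Agent.Lib.Helper13
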