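import Mathlib
import Cfsg.Agent.Lib.Helper13.UForm

/-!
# Transvections and Eichler transformations for an abstract Hermitian form

`ftvGL B b u` is the transvection `x ↦ x + B(x,u) b` (for `B(b,u) = 0`); for isotropic `a` and
`σ λ = -λ` the element `ftvGL B a (λ • a)` is an isometry.  `eichGL` is the Eichler
transformation `x ↦ x - B(x,z) v + B(x,v) (z - c v)`.
-/

set_option autoImplicit false

namespace Cfsg.Agent.Lib.Helper13

open Matrix

section uformgp
variable {n : ℕ} {F : Type*} [Field F]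
variable {σ : F →+* F} {B : (Fin n → F) →ₗ[F] (Fin n → F) →ₛₗ[σ] F}

theorem ucovec_dot_eq_zero {b u : Fin n → F} (hbu : B b u = 0) : ucovec B u ⬝ᵥ b = 0 := by
  rw [ucovec_dot]; exact hbu

/-- the transvection `x ↦ x + B(x,u) b` -/
noncomputable def ftvGL (B : (Fin n → F) →ₗ[F] (Fin n → F) →ₛₗ[σ] F) (b u : Fin n → F)
    (hbu : B b u = 0) : GL (Fin n) F :=
  (exists_tvGL b (ucovec B u) (ucovec_dot_eq_zero hbu)).choose

theorem ftvGL_val (b u : Fin n → F) (hbu : B b u = 0) :
    (ftvGL B b u hbu : Matrix (Fin n) (Fin n) F) = tv b (ucovec B u) :=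
  (exists_tvGL b (ucovec B u) (ucovec_dot_eq_zero hbu)).choose_spec.1

theorem ftvGL_SL (b u : Fin n → F) (hbu : B b u = 0) :
    ftvGL B b u hbu ∈ Cfsg.Geo.specialLinear (Fin n) F :=
  (exists_tvGL b (ucovec B u) (ucovec_dot_eq_zero hbu)).choose_spec.2

theorem ftvGL_mulVec (b u : Fin n → F) (hbu : B b u = 0) (x : Fin n → F) :
    (ftvGL B b u hbu : Matrix (Fin n) (Fin n) F) *ᵥ x = x + B x u • b := by
  rw [ftvGL_val, tv_mulVec, ucovec_dot]

theorem iso_smul_self (a : Fin n → F) (haa : B a a = 0) (l : F) : B a (l • a) = 0 := by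
  rw [inner_smul_right, haa, mul_zero]

/-- unitary transvections are isometries -/
theorem ftvGL_pres (h : IsU σ B) (a : Fin n → F) (haa : B a a = 0) (l : F) (hl : σ l = -l)
    (x y : Fin n → F) :
    B ((ftvGL B a (l • a) (iso_smul_self a haa l) : Matrix (Fin n) (Fin n) F) *ᵥ x)
      ((ftvGL B a (l • a) (iso_smul_self a haa l) : Matrix (Fin n) (Fin n) F) *ᵥ y) = B x y := by
  rw [ftvGL_mulVec, ftvGL_mulVec]
  simp only [inner_add_left, inner_add_right, inner_smul_left, inner_smul_right, haa, hl, map_mul,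
    map_neg, h.herm a y]
  ring

theorem mem_sim_of_pres (g : GL (Fin n) F)
    (hg : ∀ x y, B ((g : Matrix (Fin n) (Fin n) F) *ᵥ x) ((g : Matrix (Fin n) (Fin n) F) *ᵥ y) =
      B x y) : g ∈ Cfsg.Geo.similarityGroup (fun x y => B x y) := by
  refine ⟨1, fun u v => ?_⟩
  change B _ _ = ((1 : Fˣ) : F) * B u v
  rw [hg, Units.val_one, one_mul]

theorem eich_aux1 (v z : Fin n → F) (c : F) (hvv : B v v = 0) (hzv : B z v = 0) :
    B (z - c • v) v = 0 := by
  rw [inner_sub_left, inner_smul_left, hvv, hzv, mul_zero, sub_zero]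

theorem eich_aux2 (h : IsU σ B) (v z : Fin n → F) (hzv : B z v = 0) : B v (-z) = 0 := by
  rw [map_neg, h.swap_zero hzv, neg_zero]

/-- the Eichler transformation `x ↦ x - B(x,z) v + B(x,v) (z - c v)` -/
noncomputable def eichGL (h : IsU σ B) (v z : Fin n → F) (c : F) (hvv : B v v = 0)
    (hzv : B z v = 0) : GL (Fin n) F :=
  ftvGL B (z - c • v) v (eich_aux1 v z c hvv hzv) * ftvGL B v (-z) (eich_aux2 h v z hzv)

theorem eichGL_mulVec (h : IsU σ B) (v z : Fin n → F) (c : F) (hvv : B v v = 0)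
    (hzv : B z v = 0) (x : Fin n → F) :
    (eichGL h v z c hvv hzv : Matrix (Fin n) (Fin n) F) *ᵥ x =
      x - B x z • v + B x v • (z - c • v) := by
  unfold eichGL
  rw [Units.val_mul, ← mulVec_mulVec, ftvGL_mulVec, ftvGL_mulVec, inner_add_left, inner_smul_left,
    hvv, mul_zero, add_zero, map_neg, neg_smul, ← sub_eq_add_neg]

theorem eichGL_SL (h : IsU σ B) (v z : Fin n → F) (c : F) (hvv : B v v = 0) (hzv : B z v = 0) :
    eichGL h v z c hvv hzv ∈ Cfsg.Geo.specialLinear (Fin n) F :=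
  Subgroup.mul_mem _ (ftvGL_SL _ _ _) (ftvGL_SL _ _ _)

theorem eichGL_pres (h : IsU σ B) (v z : Fin n → F) (c : F) (hvv : B v v = 0) (hzv : B z v = 0)
    (hc : c + σ c = B z z) (x y : Fin n → F) :
    B ((eichGL h v z c hvv hzv : Matrix (Fin n) (Fin n) F) *ᵥ x)
      ((eichGL h v z c hvv hzv : Matrix (Fin n) (Fin n) F) *ᵥ y) = B x y := by
  have hvz : B v z = 0 := h.swap_zero hzv
  rw [eichGL_mulVec, eichGL_mulVec]
  simp only [inner_add_left, inner_add_right, inner_sub_left, inner_sub_right, inner_smul_left,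
    inner_smul_right, hvv, hzv, hvz, h.herm v y, h.herm z y, mul_zero, sub_zero, add_zero]
  linear_combination (-(B x v * σ (B y v))) * hc

end uformgp

end Cfsg.Agent.Lib.Helper13
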