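import Mathlib
import Cfsg.Agent.Lib.Helper13.UFormGp

/-!
# The similarity group of a Hermitian form is maximal in `SL_n`

Calculus of the pairs `(b;u)` such that the transvection `x ↦ x + B(x,u) b` lies in a subgroup
`M` containing the special similarity group `H` of the Hermitian form `B`.
-/

set_option autoImplicit false

namespace Cfsg.Agent.Lib.Helper13

open Matrix

section gumax
variable {n : ℕ} {F : Type*} [Field F]
variable {σ : F →+* F} {B : (Fin n → F) →ₗ[F] (Fin n → F) →ₛₗ[σ] F}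

theorem vecMul_tv (φ a ψ : Fin n → F) : φ ᵥ* tv a ψ = φ + (φ ⬝ᵥ a) • ψ := by
  rw [tv, vecMul_add, vecMul_one, vecMul_vecMulVec]

theorem tv_zero_left (φ : Fin n → F) : tv (0 : Fin n → F) φ = 1 := by
  apply mat_ext'
  intro x
  rw [tv_mulVec, smul_zero, add_zero, one_mulVec]

theorem ftvGL_inv_mulVec (b u : Fin n → F) (hbu : B b u = 0) (x : Fin n → F) :
    (((ftvGL B b u hbu)⁻¹ : GL (Fin n) F) : Matrix (Fin n) (Fin n) F) *ᵥ x = x - B x u • b := by
  have h1 : (ftvGL B b u hbu : Matrix (Fin n) (Fin n) F) *ᵥ (x - B x u • b) = x := by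
    rw [ftvGL_mulVec, inner_sub_left, inner_smul_left, hbu, mul_zero, sub_zero]
    abel
  have h2 := congrArg (fun y => (((ftvGL B b u hbu)⁻¹ : GL (Fin n) F) :
    Matrix (Fin n) (Fin n) F) *ᵥ y) h1
  simp only [mulVec_mulVec, ← Units.val_mul, inv_mul_cancel, Units.val_one, one_mulVec] at h2
  exact h2.symm

/-- `(b;u) ∈ 𝒯`: the transvection `x ↦ x + B(x,u) b` lies in `M` -/
def InT (B : (Fin n → F) →ₗ[F] (Fin n → F) →ₛₗ[σ] F) (M : Subgroup (GL (Fin n) F))
    (b u : Fin n → F) : Prop :=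
  B b u = 0 ∧ ∀ k : GL (Fin n) F, (k : Matrix (Fin n) (Fin n) F) = tv b (ucovec B u) → k ∈ M

variable {M : Subgroup (GL (Fin n) F)} {b b' u u' : Fin n → F}

theorem InT.mem (hT : InT B M b u) : ftvGL B b u hT.1 ∈ M := hT.2 _ (ftvGL_val _ _ _)

theorem InT.of_mem (hbu : B b u = 0) (hm : ftvGL B b u hbu ∈ M) : InT B M b u := by
  refine ⟨hbu, fun k hk => ?_⟩
  have : k = ftvGL B b u hbu := Units.ext (by rw [hk, ftvGL_val])
  rw [this]
  exact hm

theorem InT.zero (b : Fin n → F) : InT B M b 0 := by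
  refine ⟨inner_zero_right b, fun k hk => ?_⟩
  have : k = 1 := Units.ext (by rw [hk, ucovec_zero, tv_zero, Units.val_one])
  rw [this]
  exact M.one_mem

theorem InT.zero_left (u : Fin n → F) : InT B M 0 u := by
  refine ⟨inner_zero_left u, fun k hk => ?_⟩
  have : k = 1 := Units.ext (by rw [hk, tv_zero_left, Units.val_one])
  rw [this]
  exact M.one_mem

theorem InT.add (h1 : InT B M b u) (h2 : InT B M b u') : InT B M b (u + u') := by
  refine ⟨by rw [inner_add_right, h1.1, h2.1, add_zero], fun k hk => ?_⟩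
  have : k = ftvGL B b u h1.1 * ftvGL B b u' h2.1 := Units.ext (by
    rw [Units.val_mul, hk, ftvGL_val, ftvGL_val, tv_mul_tv _ _ _ (ucovec_dot_eq_zero h1.1),
      ucovec_add])
  rw [this]
  exact M.mul_mem h1.mem h2.mem

theorem InT.neg (h1 : InT B M b u) : InT B M b (-u) := by
  refine ⟨by rw [map_neg, h1.1, neg_zero], fun k hk => ?_⟩
  have h2 : k * ftvGL B b u h1.1 = 1 := Units.ext (by
    rw [Units.val_mul, hk, ftvGL_val, ucovec_neg, tv_mul_tv, neg_add_cancel, tv_zero, Units.val_one]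
    rw [neg_dotProduct, ucovec_dot_eq_zero h1.1, neg_zero])
  rw [eq_inv_of_mul_eq_one_left h2]
  exact M.inv_mem h1.mem

theorem InT.sub (h1 : InT B M b u) (h2 : InT B M b u') : InT B M b (u - u') := by
  rw [sub_eq_add_neg]
  exact h1.add h2.neg

theorem InT.conj (h1 : InT B M b u) {k : GL (Fin n) F} (hk : k ∈ M) (u' : Fin n → F)
    (hu' : ∀ x, B x u' = B (((k⁻¹ : GL (Fin n) F) : Matrix (Fin n) (Fin n) F) *ᵥ x) u) :
    InT B M ((k : Matrix (Fin n) (Fin n) F) *ᵥ b) u' := by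
  have hcov : ucovec B u' ᵥ* (k : Matrix (Fin n) (Fin n) F) = ucovec B u := by
    apply covec_ext
    intro x
    rw [← dotProduct_mulVec, ucovec_dot, ucovec_dot, hu', mulVec_mulVec, ← Units.val_mul,
      inv_mul_cancel, Units.val_one, one_mulVec]
  refine ⟨?_, fun k' hk' => ?_⟩
  · rw [hu', mulVec_mulVec, ← Units.val_mul, inv_mul_cancel, Units.val_one, one_mulVec]
    exact h1.1
  · have : k' = k * ftvGL B b u h1.1 * k⁻¹ := Units.ext (by
      rw [Units.val_mul, Units.val_mul, hk', ftvGL_val, ← hcov, conj_tv])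
    rw [this]
    exact M.mul_mem (M.mul_mem hk h1.mem) (M.inv_mem hk)

theorem InT.conj_iso (h1 : InT B M b u) {k : GL (Fin n) F} (hk : k ∈ M)
    (hiso : ∀ x y, B ((k : Matrix (Fin n) (Fin n) F) *ᵥ x) ((k : Matrix (Fin n) (Fin n) F) *ᵥ y) =
      B x y) :
    InT B M ((k : Matrix (Fin n) (Fin n) F) *ᵥ b) ((k : Matrix (Fin n) (Fin n) F) *ᵥ u) :=
  h1.conj hk _ (fun x => by
    have := hiso (((k⁻¹ : GL (Fin n) F) : Matrix (Fin n) (Fin n) F) *ᵥ x) u
    rw [mulVec_mulVec, ← Units.val_mul, mul_inv_cancel, Units.val_one, one_mulVec] at this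
    exact this)

theorem InT.scale (h : IsU σ B) {β : F} (h1 : InT B M (β • b) u) : InT B M b (σ β • u) := by
  refine ⟨?_, fun k hk => h1.2 k ?_⟩
  · have := h1.1
    rw [inner_smul_left] at this
    rw [inner_smul_right, h.inv]
    exact this
  · rw [hk, ucovec_smul, h.inv, tv, tv, smul_vecMulVec, vecMulVec_smul]

/-- the commutator rule -/
theorem InT.ruleC (h : IsU σ B) (h1 : InT B M b u) (h2 : InT B M b' u') (hb'u : B b' u = 0) :
    InT B M b' ((B u' b) • u) := by
  have hneg : InT B M b' (-((B u' b) • u)) := by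
    refine ⟨by rw [map_neg, inner_smul_right, hb'u, mul_zero, neg_zero], fun k hk => ?_⟩
    have hψb : ucovec B u ⬝ᵥ b = 0 := ucovec_dot_eq_zero h1.1
    have hψb' : ucovec B u ⬝ᵥ b' = 0 := ucovec_dot_eq_zero hb'u
    have hψ'b' : ucovec B u' ⬝ᵥ b' = 0 := ucovec_dot_eq_zero h2.1
    have hψ'b : ucovec B u' ⬝ᵥ b = B b u' := ucovec_dot u' b
    have hkval : (k : Matrix (Fin n) (Fin n) F) = tv b' (-(B b u') • ucovec B u) := by
      rw [hk, ucovec_neg, ucovec_smul, ← h.herm b u', neg_smul]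
    have htb' : (ftvGL B b u h1.1 : Matrix (Fin n) (Fin n) F) *ᵥ b' = b' := by
      rw [ftvGL_mulVec, hb'u, zero_smul, add_zero]
    have hφ : (ucovec B u' - (B b u') • ucovec B u) ᵥ*
        (ftvGL B b u h1.1 : Matrix (Fin n) (Fin n) F) = ucovec B u' := by
      rw [ftvGL_val, vecMul_tv, sub_dotProduct, smul_dotProduct, hψb, smul_zero, sub_zero, hψ'b]
      abel
    have hR := conj_tv (ftvGL B b u h1.1) b' (ucovec B u' - (B b u') • ucovec B u)
    rw [hφ, htb'] at hR
    have hL : (k : Matrix (Fin n) (Fin n) F) * tv b' (ucovec B u') =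
        tv b' (ucovec B u' - (B b u') • ucovec B u) := by
      rw [hkval, tv_mul_tv]
      · congr 1
        rw [neg_smul]
        abel
      · rw [smul_dotProduct, hψb', smul_zero]
    have hk2 : k * ftvGL B b' u' h2.1 =
        ftvGL B b u h1.1 * ftvGL B b' u' h2.1 * (ftvGL B b u h1.1)⁻¹ := Units.ext (by
      rw [Units.val_mul, Units.val_mul, Units.val_mul, ftvGL_val b' u', hL, hR])
    rw [eq_mul_inv_of_mul_eq hk2]
    exact M.mul_mem (M.mul_mem (M.mul_mem h1.mem h2.mem) (M.inv_mem h1.mem)) (M.inv_mem h2.mem)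
  have := hneg.neg
  rwa [neg_neg] at this

end gumax

end Cfsg.Agent.Lib.Helper13
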