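import Mathlib
import Cfsg.Agent.Lib.Helper13.GUMax

/-!
# The similarity group of a Hermitian form is maximal in `SL_n` (main argument)
-/

set_option autoImplicit false

namespace Cfsg.Agent.Lib.Helper13

open Matrix

section gumax2
variable {n : ℕ} {F : Type*} [Field F]
variable {σ : F →+* F} {B : (Fin n → F) →ₗ[F] (Fin n → F) →ₛₗ[σ] F}

local notation "HH" => Cfsg.Geo.similarityGroup (fun x y : Fin n → F => B x y) ⊓
  Cfsg.Geo.specialLinear (Fin n) F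

theorem gl_inv_mulVec (g : GL (Fin n) F) (x : Fin n → F) :
    ((g⁻¹ : GL (Fin n) F) : Matrix (Fin n) (Fin n) F) *ᵥ ((g : Matrix (Fin n) (Fin n) F) *ᵥ x) = x := by
  rw [mulVec_mulVec, ← Units.val_mul, inv_mul_cancel, Units.val_one, one_mulVec]

theorem gl_mulVec_inv (g : GL (Fin n) F) (x : Fin n → F) :
    (g : Matrix (Fin n) (Fin n) F) *ᵥ (((g⁻¹ : GL (Fin n) F) : Matrix (Fin n) (Fin n) F) *ᵥ x) = x := by
  rw [mulVec_mulVec, ← Units.val_mul, mul_inv_cancel, Units.val_one, one_mulVec]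

theorem gl_mulVec_ne_zero (g : GL (Fin n) F) {x : Fin n → F} (hx : x ≠ 0) :
    (g : Matrix (Fin n) (Fin n) F) *ᵥ x ≠ 0 := by
  intro h0
  apply hx
  rw [← gl_inv_mulVec g x, h0, mulVec_zero]

/-- unitary transvections belong to `H` -/
theorem utv_mem_H (h : IsU σ B) (a : Fin n → F) (haa : B a a = 0) (l : F) (hl : σ l = -l) :
    ftvGL B a (l • a) (iso_smul_self a haa l) ∈ HH :=
  ⟨mem_sim_of_pres _ (ftvGL_pres h a haa l hl), ftvGL_SL _ _ _⟩

/-- **Lemma A**: a matrix all of whose conjugated unitary transvections are unitary is a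
similarity -/
theorem similitude_of_good (h : IsU σ B) (g : GL (Fin n) F) (e : Fin n → F) (he0 : e ≠ 0)
    (hee : B e e = 0)
    (hgood : ∀ a, a ≠ 0 → B a a = 0 → ∃ κ : F, σ κ = κ ∧
      ∀ x, B (((g⁻¹ : GL (Fin n) F) : Matrix (Fin n) (Fin n) F) *ᵥ x) a =
        κ * B x ((g : Matrix (Fin n) (Fin n) F) *ᵥ a)) :
    g ∈ Cfsg.Geo.similarityGroup (fun x y : Fin n → F => B x y) := by
  -- step 1
  have h1 : ∀ a, a ≠ 0 → B a a = 0 → ∃ μ : F, μ ≠ 0 ∧ σ μ = μ ∧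
      ∀ y, B ((g : Matrix (Fin n) (Fin n) F) *ᵥ y) ((g : Matrix (Fin n) (Fin n) F) *ᵥ a) =
        μ * B y a := by
    intro a ha0 haa
    obtain ⟨κ, hκ, hκe⟩ := hgood a ha0 haa
    have hκ' : ∀ y, B y a = κ * B ((g : Matrix (Fin n) (Fin n) F) *ᵥ y)
        ((g : Matrix (Fin n) (Fin n) F) *ᵥ a) := by
      intro y
      have := hκe ((g : Matrix (Fin n) (Fin n) F) *ᵥ y)
      rwa [gl_inv_mulVec] at this
    have hκ0 : κ ≠ 0 := by
      rintro rfl
      obtain ⟨x, hx⟩ := h.nd a ha0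
      apply hx
      rw [hκ', zero_mul]
    refine ⟨κ⁻¹, inv_ne_zero hκ0, by rw [map_inv₀, hκ], fun y => ?_⟩
    rw [hκ' y, ← mul_assoc, inv_mul_cancel₀ hκ0, one_mul]
  -- step 2
  have key : ∀ a a' μ μ', B a a' ≠ 0 → σ μ' = μ' →
      (∀ y, B ((g : Matrix (Fin n) (Fin n) F) *ᵥ y) ((g : Matrix (Fin n) (Fin n) F) *ᵥ a) =
        μ * B y a) →
      (∀ y, B ((g : Matrix (Fin n) (Fin n) F) *ᵥ y) ((g : Matrix (Fin n) (Fin n) F) *ᵥ a') =
        μ' * B y a') → μ = μ' := by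
    intro a a' μ μ' haa' hμ' e1 e2
    have f1 := e1 a'
    have f2 := e2 a
    have f3 : B ((g : Matrix (Fin n) (Fin n) F) *ᵥ a') ((g : Matrix (Fin n) (Fin n) F) *ᵥ a) =
        μ' * B a' a := by
      rw [h.herm, f2, map_mul, hμ', ← h.herm]
    have f4 : (μ - μ') * B a' a = 0 := by linear_combination f3 - f1
    rcases mul_eq_zero.mp f4 with h5 | h5
    · exact sub_eq_zero.mp h5
    · exact absurd h5 (h.swap_ne haa')
  obtain ⟨μe, hμe0, hμe, hμeq⟩ := h1 e he0 hee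
  have h2 : ∀ a, B a a = 0 → ∀ y,
      B ((g : Matrix (Fin n) (Fin n) F) *ᵥ y) ((g : Matrix (Fin n) (Fin n) F) *ᵥ a) = μe * B y a := by
    intro a haa y
    by_cases ha0 : a = 0
    · rw [ha0, mulVec_zero, inner_zero_right, inner_zero_right, mul_zero]
    · obtain ⟨μa, -, hμa, hμaeq⟩ := h1 a ha0 haa
      by_cases hea : B e a = 0
      · obtain ⟨a', -, ha'a', ha'e, ha'a⟩ := h.exists_conn ⊤ h.ndOn_top e a Submodule.mem_top
          Submodule.mem_top he0 ha0 hee hea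
        have ha'0 : a' ≠ 0 := by
          rintro rfl
          exact ha'e (inner_zero_left e)
        obtain ⟨μ', -, hμ', hμ'eq⟩ := h1 a' ha'0 ha'a'
        have e1 : μe = μ' := key e a' μe μ' (h.swap_ne ha'e) hμ' hμeq hμ'eq
        have e2 : μ' = μa := key a' a μ' μa ha'a hμa hμ'eq hμaeq
        rw [hμaeq, e1, e2]
      · have e1 : μe = μa := key e a μe μa hea hμa hμeq hμaeq
        rw [hμaeq, e1]
  refine ⟨Units.mk0 μe hμe0, fun y a => ?_⟩
  change B ((g : Matrix (Fin n) (Fin n) F) *ᵥ y) ((g : Matrix (Fin n) (Fin n) F) *ᵥ a) = μe * B y a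
  obtain ⟨a₁, -, a₂, -, ha₁, ha₂, rfl⟩ := h.exists_iso_sum ⊤ h.ndOn_top e Submodule.mem_top he0 hee a
    Submodule.mem_top
  rw [mulVec_add, inner_add_right, inner_add_right, h2 a₁ ha₁, h2 a₂ ha₂]
  ring

variable {M : Subgroup (GL (Fin n) F)}

/-- **Lemma B**: an isotropic `v` with `(v;u) ∈ 𝒯`, `u ∉ F v`, is enhanced -/
theorem enhanced_of_offline (h : IsU σ B) (hHM : HH ≤ M) (v u : Fin n → F) (hv0 : v ≠ 0)
    (hvv : B v v = 0) (hT : InT B M v u) (hu : ∀ ρ : F, u ≠ ρ • v) : ∀ μ : F, InT B M v (μ • v) := by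
  obtain ⟨z₀, hz₀v, hz₀u⟩ : ∃ z₀, B z₀ v = 0 ∧ B z₀ u ≠ 0 := by
    by_contra hcon
    push Not at hcon
    obtain ⟨ρ, hρ⟩ := h.exists_smul_of_perp v u hv0 hcon
    exact hu ρ hρ
  have hθ : B u z₀ ≠ 0 := h.swap_ne hz₀u
  have huv : B u v = 0 := h.swap_zero hT.1
  intro μ
  have hzv : B (σ (-μ / B u z₀) • z₀) v = 0 := by rw [inner_smul_left, hz₀v, mul_zero]
  have hvz : B v (σ (-μ / B u z₀) • z₀) = 0 := h.swap_zero hzv
  obtain ⟨c, hc⟩ := h.exists_tr (B (σ (-μ / B u z₀) • z₀) (σ (-μ / B u z₀) • z₀)) (h.fix _)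
  have hEM : eichGL h v (σ (-μ / B u z₀) • z₀) c hvv hzv ∈ M :=
    hHM ⟨mem_sim_of_pres _ (eichGL_pres h v _ c hvv hzv hc), eichGL_SL h v _ c hvv hzv⟩
  have h1 := hT.conj_iso hEM (eichGL_pres h v _ c hvv hzv hc)
  rw [eichGL_mulVec, eichGL_mulVec, hvz, hvv, huv] at h1
  simp only [zero_smul, sub_zero, add_zero] at h1
  rw [inner_smul_right, h.inv, div_mul_cancel₀ _ hθ] at h1
  have h2 := h1.sub hT
  have e : u - -μ • v - u = μ • v := by rw [neg_smul]; abel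
  rwa [e] at h2

/-- spreading enhancement along a hyperbolic line -/
theorem enhanced_step (h : IsU σ B) (hHM : HH ≤ M) (v x : Fin n → F) (hvv : B v v = 0)
    (hxx : B x x = 0) (hvx : B v x ≠ 0) (hv : ∀ μ : F, InT B M v (μ • v)) :
    ∀ μ : F, InT B M x (μ • x) := by
  obtain ⟨k, hk0, hk⟩ := h.exists_km
  have hxv : B x v ≠ 0 := h.swap_ne hvx
  obtain ⟨β, hβ⟩ : ∃ β, β = k / B x v := ⟨_, rfl⟩
  have hβ0 : β ≠ 0 := by rw [hβ]; exact div_ne_zero hk0 hxv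
  have hβk : β * B x v = k := by rw [hβ, div_mul_cancel₀ _ hxv]
  have hσβk : σ β * B v x = -k := by rw [h.herm v x, ← map_mul, hβk, hk]
  obtain ⟨w, hw⟩ : ∃ w, w = β • x + (-1 : F) • v := ⟨_, rfl⟩
  have hww : B w w = 0 := by
    rw [hw, h.norm_add_smul, h.norm_smul, hxx, hvv, inner_smul_left, hβk, hk, map_neg, map_one]
    ring
  have hvw : B v w = -k := by
    rw [hw, inner_add_smul_right, inner_smul_right, hvv, hσβk]
    ring
  have hl : σ k⁻¹ = -k⁻¹ := by rw [map_inv₀, hk, inv_neg]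
  have hTM : ftvGL B w (k⁻¹ • w) (iso_smul_self w hww k⁻¹) ∈ M := hHM (utv_mem_H h w hww _ hl)
  have hTv : (ftvGL B w (k⁻¹ • w) (iso_smul_self w hww k⁻¹) : Matrix (Fin n) (Fin n) F) *ᵥ v =
      β • x := by
    rw [ftvGL_mulVec, inner_smul_right, hl, hvw, hw]
    have : -k⁻¹ * -k = 1 := by field_simp
    rw [this, one_smul, neg_one_smul]
    abel
  intro μ
  have h1 := (hv (μ / (β * σ β))).conj_iso hTM (ftvGL_pres h w hww _ hl)
  rw [mulVec_smul, hTv] at h1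
  have h2 := h1.scale h
  have hσβ0 : σ β ≠ 0 := h.sigma_ne_zero hβ0
  have e : σ β • (μ / (β * σ β)) • β • x = μ • x := by
    rw [smul_smul, smul_smul]
    congr 1
    field_simp
  rwa [e] at h2

theorem enhanced_all (h : IsU σ B) (hHM : HH ≤ M) (v : Fin n → F) (hv0 : v ≠ 0) (hvv : B v v = 0)
    (hv : ∀ μ : F, InT B M v (μ • v)) : ∀ x, B x x = 0 → ∀ μ : F, InT B M x (μ • x) := by
  intro x hxx
  by_cases hx0 : x = 0
  · intro μ
    rw [hx0]
    exact InT.zero_left _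
  · by_cases hvx : B v x = 0
    · obtain ⟨a', -, ha'a', ha'v, ha'x⟩ := h.exists_conn ⊤ h.ndOn_top v x Submodule.mem_top
        Submodule.mem_top hv0 hx0 hvv hvx
      have h1 := enhanced_step h hHM v a' hvv ha'a' (h.swap_ne ha'v) hv
      exact enhanced_step h hHM a' x ha'a' hxx ha'x h1
    · exact enhanced_step h hHM v x hvv hxx hvx hv

theorem exists_partner (h : IsU σ B) (v : Fin n → F) (hv0 : v ≠ 0) (hvv : B v v = 0) :
    ∃ v', B v' v' = 0 ∧ B v v' = 1 := by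
  obtain ⟨y, hy⟩ := h.nd' v hv0
  obtain ⟨l, hl⟩ := h.exists_norm_eq v y hvv hy 0 (map_zero σ)
  have h1 : B v (y + l • v) ≠ 0 := by
    rw [inner_add_smul_right, hvv, mul_zero, add_zero]
    exact hy
  refine ⟨σ (B v (y + l • v))⁻¹ • (y + l • v), ?_, ?_⟩
  · rw [h.norm_smul, hl, mul_zero]
  · rw [inner_smul_right, h.inv, inv_mul_cancel₀ h1]

end gumax2

end Cfsg.Agent.Lib.Helper13
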