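import Mathlib
import Cfsg.Agent.Lib.Helper6.Dickson
import Cfsg.Agent.Lib.Helper15.Witt1
import Cfsg.Agent.Lib.Helper13.GUMax2

/-!
# Nondegenerate symmetric bilinear forms in odd characteristic

Existence lemmas (singular / nonsingular vectors in large subspaces, vectors of prescribed norm),
Siegel transformations as products of two linear transvections, and a few more rules for the
calculus `InT` of pairs `(b;u)` such that the transvection `x ↦ x + B(x,u) b` lies in a subgroup.
-/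

set_option autoImplicit false

namespace Cfsg.Agent.Lib.Helper13

open Matrix Module

section symform
variable {n : ℕ} {F : Type*} [Field F]

/-- a nondegenerate symmetric bilinear form in characteristic not two -/
structure IsS (B : (Fin n → F) →ₗ[F] (Fin n → F) →ₗ[F] F) : Prop where
  two : (2 : F) ≠ 0
  symm : ∀ v w, B v w = B w v
  nd : ∀ v, v ≠ 0 → ∃ x, B x v ≠ 0

variable {B : (Fin n → F) →ₗ[F] (Fin n → F) →ₗ[F] F}

theorem finrank_le_inf_ker_add_one' (P : Submodule F (Fin n → F)) (φ : (Fin n → F) →ₗ[F] F) :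
    finrank F P ≤ finrank F ↥(P ⊓ LinearMap.ker φ) + 1 := by
  by_cases h : ∃ y ∈ P, φ y ≠ 0
  · obtain ⟨y, hy, hφ⟩ := h
    rw [Cfsg.Agent.Lib.Helper6.finrank_inf_ker_add_one P φ y hy hφ]
  · push Not at h
    have : P ⊓ LinearMap.ker φ = P := inf_eq_left.mpr (fun y hy => LinearMap.mem_ker.mpr (h y hy))
    rw [this]
    omega

theorem finrank_top_fun : finrank F (⊤ : Submodule F (Fin n → F)) = n := by
  rw [finrank_top, Module.finrank_fintype_fun_eq_card, Fintype.card_fin]

/-- a nonzero singular vector in a subspace of dimension at least three -/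
theorem exists_singular_in [Finite F] (B : (Fin n → F) →ₗ[F] (Fin n → F) →ₗ[F] F)
    (S : Submodule F (Fin n → F)) (hS : 3 ≤ finrank F S) :
    ∃ z ∈ S, z ≠ 0 ∧ B z z = 0 := by
  obtain ⟨z, hz0, hz⟩ := Cfsg.Agent.Lib.Helper15.exists_singular_of_three_le_finrank
    ((LinearMap.BilinMap.toQuadraticMap B).comp S.subtype) hS
  refine ⟨(z : Fin n → F), z.2, fun h0 => hz0 (Subtype.ext h0), ?_⟩
  simpa using hz

theorem bin_value [Fintype F] (h2 : (2 : F) ≠ 0) (a b t : F) (ha : a ≠ 0) (hb : b ≠ 0) :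
    ∃ x y : F, a * x ^ 2 + b * y ^ 2 = t := by
  have hcard : Fintype.card F % 2 = 1 := FiniteField.odd_card_of_char_ne_two (by
    intro hc
    haveI : CharP F 2 := ringChar.of_eq hc
    exact h2 (CharTwo.two_eq_zero))
  obtain ⟨x, y, hxy⟩ := FiniteField.exists_root_sum_quadratic
    (f := Polynomial.C a * Polynomial.X ^ 2)
    (g := Polynomial.C b * Polynomial.X ^ 2 - Polynomial.C t)
    (by rw [Polynomial.degree_C_mul_X_pow 2 ha]; rfl)
    (by
      rw [Polynomial.degree_sub_eq_left_of_degree_lt]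
      · rw [Polynomial.degree_C_mul_X_pow 2 hb]; rfl
      · rw [Polynomial.degree_C_mul_X_pow 2 hb]
        exact lt_of_le_of_lt Polynomial.degree_C_le (by norm_num))
    hcard
  simp only [Polynomial.eval_mul, Polynomial.eval_C, Polynomial.eval_pow, Polynomial.eval_X,
    Polynomial.eval_sub] at hxy
  exact ⟨x, y, by linear_combination hxy⟩

namespace IsS

variable (h : IsS B)
include h

theorem nondeg : LinearMap.BilinForm.Nondegenerate B := by
  constructor
  · intro x hx
    by_contra h0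
    obtain ⟨y, hy⟩ := h.nd x h0
    exact hy (by rw [h.symm]; exact hx y)
  · intro y hy
    by_contra h0
    obtain ⟨x, hx⟩ := h.nd y h0
    exact hx (hy x)

theorem nd' (v : Fin n → F) (hv : v ≠ 0) : ∃ x, B v x ≠ 0 := by
  obtain ⟨x, hx⟩ := h.nd v hv
  exact ⟨x, by rw [h.symm]; exact hx⟩

theorem eq_zero_of_forall {u : Fin n → F} (hu : ∀ x, B x u = 0) : u = 0 := by
  by_contra h0
  obtain ⟨x, hx⟩ := h.nd u h0
  exact hx (hu x)

theorem ndOn_top : NDOn B ⊤ := fun s _ hs => by
  obtain ⟨x, hx⟩ := h.nd s hs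
  exact ⟨x, Submodule.mem_top, hx⟩

theorem norm_add_smul (x y : Fin n → F) (l : F) :
    B (x + l • y) (x + l • y) = B x x + l * l * B y y + 2 * l * B x y := by
  simp only [map_add, map_smul, LinearMap.add_apply, LinearMap.smul_apply, smul_eq_mul,
    h.symm y x]
  ring

/-- adjusting `y` along an isotropic `z` to any prescribed norm -/
theorem exists_norm_eq (z y : Fin n → F) (hz : B z z = 0) (hzy : B z y ≠ 0) (ν : F) :
    ∃ l : F, B (y + l • z) (y + l • z) = ν := by
  have hyz : B y z ≠ 0 := by rw [h.symm]; exact hzy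
  have h2 := h.two
  refine ⟨(ν - B y y) / (2 * B y z), ?_⟩
  rw [h.norm_add_smul, hz]
  field_simp
  ring

theorem exists_conn (a a'' : Fin n → F) (ha0 : a ≠ 0) (ha''0 : a'' ≠ 0) (haa : B a a = 0)
    (hperp : B a a'' = 0) : ∃ a', B a' a' = 0 ∧ B a' a ≠ 0 ∧ B a' a'' ≠ 0 := by
  obtain ⟨y, -, hya, hya''⟩ := exists_link_U ⊤ h.ndOn_top a a'' Submodule.mem_top
    Submodule.mem_top ha0 ha''0
  obtain ⟨l, hl⟩ := h.exists_norm_eq a y haa (by rw [h.symm]; exact hya) 0
  refine ⟨y + l • a, hl, ?_, ?_⟩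
  · simp only [map_add, map_smul, LinearMap.add_apply, LinearMap.smul_apply, smul_eq_mul, haa,
      mul_zero, add_zero]
    exact hya
  · simp only [map_add, map_smul, LinearMap.add_apply, LinearMap.smul_apply, smul_eq_mul, hperp,
      mul_zero, add_zero]
    exact hya''

/-- every vector is a sum of two isotropic vectors -/
theorem exists_iso_sum (e : Fin n → F) (he0 : e ≠ 0) (hee : B e e = 0) (x : Fin n → F) :
    ∃ x₁ x₂, B x₁ x₁ = 0 ∧ B x₂ x₂ = 0 ∧ x = x₁ + x₂ := by
  by_cases hx0 : x = 0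
  · exact ⟨0, 0, by simp, by simp, by rw [hx0, add_zero]⟩
  · obtain ⟨z, hzz, hzx⟩ : ∃ z, B z z = 0 ∧ B z x ≠ 0 := by
      by_cases hex : B e x = 0
      · obtain ⟨a', h1, -, h3⟩ := h.exists_conn e x he0 hx0 hee hex
        exact ⟨a', h1, h3⟩
      · exact ⟨e, hee, hex⟩
    obtain ⟨l, hl⟩ := h.exists_norm_eq z x hzz hzx 0
    refine ⟨x + l • z, (-l) • z, hl, ?_, ?_⟩
    · simp only [map_smul, LinearMap.smul_apply, smul_eq_mul, hzz, mul_zero]
    · rw [neg_smul]; abel

/-- a nonsingular vector in a subspace of dimension more than `n/2` -/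
theorem exists_noniso_in (S : Submodule F (Fin n → F)) (hS : n < 2 * finrank F S) :
    ∃ a ∈ S, B a a ≠ 0 := by
  by_contra hcon
  push Not at hcon
  have hti : ∀ a ∈ S, ∀ b ∈ S, B a b = 0 := by
    intro a ha b hb
    have h1 := hcon (a + b) (S.add_mem ha hb)
    simp only [map_add, LinearMap.add_apply, hcon a ha, hcon b hb, h.symm b a, zero_add,
      add_zero] at h1
    have h2 : 2 * B a b = 0 := by linear_combination h1
    rcases mul_eq_zero.mp h2 with h3 | h3
    · exact absurd h3 h.two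
    · exact h3
  have hle : S ≤ LinearMap.BilinForm.orthogonal B S := by
    intro b hb
    rw [LinearMap.BilinForm.mem_orthogonal_iff]
    intro a ha
    exact hti a ha b hb
  have h1 := Submodule.finrank_mono hle
  rw [LinearMap.BilinForm.finrank_orthogonal h.nondeg, Module.finrank_fintype_fun_eq_card,
    Fintype.card_fin] at h1
  omega

/-- vectors of every norm in a subspace of dimension more than `n/2 + 1` -/
theorem exists_norm_in [Fintype F] (S : Submodule F (Fin n → F)) (hS : n + 2 < 2 * finrank F S)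
    (ν : F) : ∃ t ∈ S, B t t = ν := by
  obtain ⟨a₁, ha₁S, ha₁⟩ := h.exists_noniso_in S (by omega)
  have hle := finrank_le_inf_ker_add_one' S (B a₁)
  obtain ⟨a₂, ha₂S, ha₂⟩ := h.exists_noniso_in (S ⊓ LinearMap.ker (B a₁)) (by omega)
  obtain ⟨ha₂S', ha₂k⟩ := Submodule.mem_inf.mp ha₂S
  have h12 : B a₁ a₂ = 0 := LinearMap.mem_ker.mp ha₂k
  obtain ⟨x, y, hxy⟩ := bin_value h.two (B a₁ a₁) (B a₂ a₂) ν ha₁ ha₂
  refine ⟨x • a₁ + y • a₂, S.add_mem (S.smul_mem _ ha₁S) (S.smul_mem _ ha₂S'), ?_⟩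
  simp only [map_add, map_smul, LinearMap.add_apply, LinearMap.smul_apply, smul_eq_mul, h12,
    h.symm a₂ a₁, mul_zero, add_zero, zero_add]
  linear_combination hxy

/-- a singular vector in the kernel of `φ` but not in the kernel of `ψ` -/
theorem exists_singular_sep [Fintype F] (hn : 9 ≤ n) (φ ψ : (Fin n → F) →ₗ[F] F)
    (y₁ : Fin n → F) (h1 : φ y₁ = 0) (h2 : ψ y₁ ≠ 0) :
    ∃ z, B z z = 0 ∧ φ z = 0 ∧ ψ z ≠ 0 := by
  have d1 := finrank_le_inf_ker_add_one' (⊤ : Submodule F (Fin n → F)) φ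
  have d2 := finrank_le_inf_ker_add_one' (⊤ ⊓ LinearMap.ker φ) ψ
  have d3 := finrank_le_inf_ker_add_one' ((⊤ ⊓ LinearMap.ker φ) ⊓ LinearMap.ker ψ) (B y₁)
  rw [finrank_top_fun] at d1
  obtain ⟨t, htS, ht⟩ := h.exists_norm_in
    (((⊤ ⊓ LinearMap.ker φ) ⊓ LinearMap.ker ψ) ⊓ LinearMap.ker (B y₁)) (by omega) (-(B y₁ y₁))
  simp only [Submodule.mem_inf, LinearMap.mem_ker, Submodule.mem_top, true_and] at htS
  obtain ⟨⟨hφt, hψt⟩, hyt⟩ := htS
  refine ⟨y₁ + t, ?_, ?_, ?_⟩
  · simp only [map_add, LinearMap.add_apply, hyt, h.symm t y₁, ht]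
    ring
  · rw [map_add, h1, hφt, add_zero]
  · rw [map_add, hψt, add_zero]
    exact h2

/-- Riesz representation -/
theorem exists_riesz (φ : Fin n → F) : ∃ u, ∀ x, B x u = φ ⬝ᵥ x := by
  obtain ⟨ψ, hψ⟩ : ∃ ψ : (Fin n → F) →ₗ[F] F, ∀ x, ψ x = φ ⬝ᵥ x :=
    ⟨∑ i, φ i • (LinearMap.proj i : (Fin n → F) →ₗ[F] F), fun x => by
      simp [dotProduct]⟩
  obtain ⟨u, hu⟩ := (LinearMap.BilinForm.toDual B h.nondeg).surjective ψ
  refine ⟨u, fun x => ?_⟩
  rw [h.symm, ← hψ, ← hu, LinearMap.BilinForm.toDual_def]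

end IsS

/-! ### Siegel transformations -/

theorem sieg_aux (z t : Fin n → F) (c : F) (hzz : B z z = 0) (htz : B t z = 0) :
    B (t + c • z) (-z) = 0 := by
  simp only [map_add, map_neg, map_smul, LinearMap.add_apply, LinearMap.smul_apply, smul_eq_mul,
    hzz, htz, mul_zero, add_zero, neg_zero]

/-- the Siegel transformation `x ↦ x + B(x,t) z - B(x,z) (t + c z)` -/
noncomputable def siegS (B : (Fin n → F) →ₗ[F] (Fin n → F) →ₗ[F] F) (z t : Fin n → F) (c : F)
    (hzz : B z z = 0) (hzt : B z t = 0) (htz : B t z = 0) : GL (Fin n) F :=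
  ftvGL B (t + c • z) (-z) (sieg_aux z t c hzz htz) * ftvGL B z t hzt

theorem siegS_mulVec (z t : Fin n → F) (c : F) (hzz : B z z = 0) (hzt : B z t = 0)
    (htz : B t z = 0) (x : Fin n → F) :
    (siegS B z t c hzz hzt htz : Matrix (Fin n) (Fin n) F) *ᵥ x =
      x + B x t • z - B x z • (t + c • z) := by
  unfold siegS
  rw [Units.val_mul, ← mulVec_mulVec, ftvGL_mulVec, ftvGL_mulVec]
  simp only [map_add, map_neg, map_smul, LinearMap.add_apply, LinearMap.smul_apply, smul_eq_mul,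
    hzz, mul_zero, add_zero, neg_smul]
  rw [sub_eq_add_neg]

theorem siegS_SL (z t : Fin n → F) (c : F) (hzz : B z z = 0) (hzt : B z t = 0)
    (htz : B t z = 0) : siegS B z t c hzz hzt htz ∈ Cfsg.Geo.specialLinear (Fin n) F :=
  Subgroup.mul_mem _ (ftvGL_SL _ _ _) (ftvGL_SL _ _ _)

theorem siegS_pres (h : IsS B) (z t : Fin n → F) (c : F) (hzz : B z z = 0) (hzt : B z t = 0)
    (htz : B t z = 0) (hc : 2 * c = B t t) (x y : Fin n → F) :
    B ((siegS B z t c hzz hzt htz : Matrix (Fin n) (Fin n) F) *ᵥ x)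
      ((siegS B z t c hzz hzt htz : Matrix (Fin n) (Fin n) F) *ᵥ y) = B x y := by
  rw [siegS_mulVec, siegS_mulVec]
  simp only [map_add, map_sub, map_smul, LinearMap.add_apply, LinearMap.sub_apply,
    LinearMap.smul_apply, smul_eq_mul, hzz, hzt, htz, h.symm z y, h.symm t y, mul_zero, add_zero,
    sub_zero, zero_add]
  linear_combination (-(B x z * B y z)) * hc

theorem siegS_mem (h : IsS B) (z t : Fin n → F) (c : F) (hzz : B z z = 0) (hzt : B z t = 0)
    (htz : B t z = 0) (hc : 2 * c = B t t) :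
    siegS B z t c hzz hzt htz ∈ Cfsg.Geo.similarityGroup (fun x y : Fin n → F => B x y) ⊓
      Cfsg.Geo.specialLinear (Fin n) F :=
  ⟨mem_sim_of_pres _ (siegS_pres h z t c hzz hzt htz hc), siegS_SL z t c hzz hzt htz⟩

/-! ### more rules for `InT` -/

variable {M : Subgroup (GL (Fin n) F)} {b b' u u' : Fin n → F}

theorem InT.congr_mat (h1 : InT B M b u) (hbu' : B b' u' = 0)
    (heq : tv b' (ucovec B u') = tv b (ucovec B u)) : InT B M b' u' :=
  ⟨hbu', fun k hk => h1.2 k (hk.trans heq)⟩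

theorem ucovec_smul_id (c : F) (u : Fin n → F) : ucovec B (c • u) = c • ucovec B u := by
  rw [ucovec_smul]
  rfl

theorem InT.smul_swap {l : F} (h1 : InT B M (l • b) u) : InT B M b (l • u) := by
  refine h1.congr_mat ?_ ?_
  · have := h1.1
    simp only [map_smul, LinearMap.smul_apply, smul_eq_mul] at this ⊢
    exact this
  · rw [ucovec_smul_id, tv, tv, smul_vecMulVec, vecMulVec_smul]

theorem InT.smul_swap' {l : F} (h1 : InT B M b (l • u)) : InT B M (l • b) u := by
  refine h1.congr_mat ?_ ?_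
  · have := h1.1
    simp only [map_smul, LinearMap.smul_apply, smul_eq_mul] at this ⊢
    exact this
  · rw [ucovec_smul_id, tv, tv, smul_vecMulVec, vecMulVec_smul]

theorem InT.add_left (h1 : InT B M b u) (h2 : InT B M b' u) : InT B M (b + b') u := by
  have hbu : B (b + b') u = 0 := by rw [map_add, LinearMap.add_apply, h1.1, h2.1, add_zero]
  refine ⟨hbu, fun k hk => ?_⟩
  have : k = ftvGL B b u h1.1 * ftvGL B b' u h2.1 := Units.ext (by
    rw [Units.val_mul, hk]
    apply mat_ext'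
    intro x
    rw [← mulVec_mulVec, ftvGL_mulVec, ftvGL_mulVec, tv_mulVec, ucovec_dot]
    simp only [map_add, map_smul, LinearMap.add_apply, LinearMap.smul_apply, smul_eq_mul, h2.1,
      mul_zero, add_zero]
    rw [smul_add]
    abel)
  rw [this]
  exact M.mul_mem h1.mem h2.mem

theorem InT.neg_left (h1 : InT B M b u) : InT B M (-b) u := by
  have h2 : InT B M b ((-1 : F) • u) := by
    rw [neg_one_smul]
    exact h1.neg
  have h3 := h2.smul_swap'
  rwa [neg_one_smul] at h3

end symform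

end Cfsg.Agent.Lib.Helper13
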