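import Mathlib
import Cfsg.Agent.Lib.Helper13.TensSODefs
import Cfsg.Agent.Lib.Helper20.SpODefs

/-!
# S5666: the two vocabularies `Helper13.TensSO` and `Helper20.SpO` are the same up to names  (helper13)

Conversion lemmas, so that a piece proved on one Defs file plugs into statements written on the other.
-/

set_option autoImplicit false

namespace Cfsg.Agent.Lib.Helper13.TensSOCompat

open Matrix Module
open Cfsg.Agent.Lib.Helper16.Tens Cfsg.Agent.Lib.Helper10.TensFund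
open Cfsg.Agent.Lib.Helper28.TensU (ctrL hypL ptL mem_ptL_iff rootGLL)
open Cfsg.Agent.Lib.Helper3.SpT (bf SympG)
open Cfsg.Agent.Lib.Helper13 Cfsg.Agent.Lib.Helper20
open scoped Kronecker

variable {F : Type*} [Field F]

theorem orthG_iff_symG {κ : Type} [Fintype κ] (J : Matrix κ κ F) : TensSO.OrthG J ↔ SpO.SymG J :=
  ⟨fun h => ⟨h.symm, h.nondeg⟩, fun h => ⟨h.symm, h.nondeg⟩⟩

variable {a b : ℕ} (J1 : Matrix (Fin a) (Fin a) F) (J2 : Matrix (Fin b) (Fin b) F)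

theorem isoG_eq_spB : TensSO.IsoG (J1 ⊗ₖ J2) = SpO.SpB J1 J2 := by
  ext g
  rfl

theorem mem_isoG_iff_mem_spB (g : GL (Fin a × Fin b) F) :
    g ∈ TensSO.IsoG (J1 ⊗ₖ J2) ↔ g ∈ SpO.SpB J1 J2 := by
  rw [isoG_eq_spB]

theorem rU_eq_rM (h1 : SympG J1) (u : Fin a → F) (c : F) :
    TensSO.rU (b := b) J1 h1 u c = SpO.rM J1 h1 u c := rfl

theorem isTv_iff (x : Fin a × Fin b → F) (c : F) (t : GL (Fin a × Fin b) F) :
    TensSO.IsTv (J1 ⊗ₖ J2) x c t ↔ ∀ v, act t v = v + (c * SpO.BB J1 J2 v x) • x := Iff.rfl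

theorem isTv_tvB (hBB : ∀ x, SpO.BB J1 J2 x x = 0) (x : Fin a × Fin b → F) (c : F) :
    TensSO.IsTv (J1 ⊗ₖ J2) x c (SpO.tvB J1 J2 hBB x c) :=
  fun v => SpO.act_tvB J1 J2 hBB x c v

theorem isTv_unique {κ : Type} [Fintype κ] [DecidableEq κ] (J : Matrix κ κ F) (x : κ → F) (c : F)
    (t t' : GL κ F) (h : TensSO.IsTv J x c t) (h' : TensSO.IsTv J x c t') : t = t' := by
  apply Units.ext
  ext i j
  have h1 := congrFun (h (Pi.single j 1)) i
  have h2 := congrFun (h' (Pi.single j 1)) i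
  rw [Matrix.mulVec_single_one] at h1 h2
  change (t : Matrix κ κ F) i j = _ at h1
  change (t' : Matrix κ κ F) i j = _ at h2
  rw [h1, h2]

theorem eq_tvB_of_isTv (hBB : ∀ x, SpO.BB J1 J2 x x = 0) (x : Fin a × Fin b → F) (c : F)
    (t : GL (Fin a × Fin b) F) (h : TensSO.IsTv (J1 ⊗ₖ J2) x c t) : t = SpO.tvB J1 J2 hBB x c :=
  isTv_unique _ x c t _ h (isTv_tvB J1 J2 hBB x c)

/-- "all transvections with centre `x` lie in `M`" in the two vocabularies -/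
theorem forall_isTv_iff (hBB : ∀ x, SpO.BB J1 J2 x x = 0) (M : Subgroup (GL (Fin a × Fin b) F))
    (x : Fin a × Fin b → F) :
    (∀ (c : F) (t : GL (Fin a × Fin b) F), TensSO.IsTv (J1 ⊗ₖ J2) x c t → t ∈ M) ↔
      ∀ c : F, SpO.tvB J1 J2 hBB x c ∈ M := by
  constructor
  · intro h c
    exact h c _ (isTv_tvB J1 J2 hBB x c)
  · intro h c t ht
    rw [eq_tvB_of_isTv J1 J2 hBB x c t ht]
    exact h c

theorem overS_iff (M : Subgroup (GL (Fin a × Fin b) F)) : TensSO.OverS J1 J2 M ↔ SpO.OverS J1 J2 M :=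
  ⟨fun h => ⟨h.le_iso, h.kron_mem⟩, fun h => ⟨h.le_Sp, h.kron_mem⟩⟩

theorem hypE1_iff (h1 : SympG J1) (M : Subgroup (GL (Fin a × Fin b) F)) :
    TensSO.HypE1 J1 h1 M ↔ SpO.HypE1M J1 h1 M := Iff.rfl

theorem hypAL_iff (M : Subgroup (GL (Fin a × Fin b) F)) : TensSO.HypAL J2 M ↔ SpO.HypAL J2 M := Iff.rfl

theorem hypA_of_hypAM (M : Subgroup (GL (Fin a × Fin b) F)) (h : SpO.HypAM M) : TensSO.HypA M :=
  fun m hm u u' hu _ himg => h m hm u u' hu himg

theorem hypAM_of_hypA (hb : 1 ≤ b) (M : Subgroup (GL (Fin a × Fin b) F)) (h : TensSO.HypA M) : SpO.HypAM M := by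
  intro m hm u u' hu himg
  refine h m hm u u' hu ?_ himg
  rintro rfl
  -- `ptL 0 = ⊥` but `img m (ptL u) ≠ ⊥`
  obtain ⟨i, hi⟩ : ∃ i, u i ≠ 0 := by
    by_contra hcon
    push Not at hcon
    exact hu (funext hcon)
  have hmem : act m (pur u (Pi.single (⟨0, by omega⟩ : Fin b) 1)) ∈ img m (ptL (b := b) u) :=
    Submodule.mem_map_of_mem (Cfsg.Agent.Lib.Helper28.TensU.pur_mem_ptL u _)
  rw [himg, mem_ptL_iff] at hmem
  obtain ⟨w, hw⟩ := hmem
  have h0 : pur (0 : Fin a → F) w = 0 := by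
    funext p
    simp [pur_apply]
  rw [h0] at hw
  have h1 : pur u (Pi.single (⟨0, by omega⟩ : Fin b) (1 : F)) = 0 := by
    have := congrArg (act m⁻¹) hw
    rw [map_zero] at this
    have e : act m⁻¹ (act m (pur u (Pi.single (⟨0, by omega⟩ : Fin b) (1 : F)))) =
        pur u (Pi.single (⟨0, by omega⟩ : Fin b) (1 : F)) := by
      rw [← act_mul, inv_mul_cancel, act_one]
    rw [e] at this
    exact this.symm
  have := congrFun h1 (i, ⟨0, by omega⟩)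
  simp [pur_apply] at this
  exact hi this

theorem setup_of_setupSO (h : TensSO.SetupSO J1 J2) : SpO.Setup J1 J2 :=
  ⟨h.h1, (orthG_iff_symG J2).1 h.h2, h.two⟩

theorem setupSO_of_setup (h : SpO.Setup J1 J2)
    (gen : ∀ M : Subgroup (GL (Fin a × Fin b) F),
      (∀ (x : Fin a × Fin b → F) (c : F) (t : GL (Fin a × Fin b) F),
        TensSO.IsTv (J1 ⊗ₖ J2) x c t → t ∈ M) → TensSO.IsoG (J1 ⊗ₖ J2) ≤ M) :
    TensSO.SetupSO J1 J2 :=
  ⟨h.h1, (orthG_iff_symG J2).2 h.h2, h.two_ne, gen⟩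

end Cfsg.Agent.Lib.Helper13.TensSOCompat
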