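import Mathlib
import Cfsg.Agent.Lib.Helper13.TensSODefs
import Cfsg.Agent.Lib.Helper13.TensSOCompat
import Cfsg.Agent.Lib.Helper23.S5637FOT3b

/-!
# S5666, T4 (assembly, hypothesis form): a full transvection group with pure centre `u ⊗ w`, `w` singular, in an overgroup `M`
of `N0 ⊓ IsoG` gives `IsoG ≤ M`   (helper13)

The two external inputs (the closure lemma `T4-CL` and the orthogonal-side lemma `T4-W`) are taken as hypotheses `hCL`, `hW`
with the exact skeleton statements.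
-/

set_option autoImplicit false
set_option linter.unusedSectionVars false
set_option linter.unusedVariables false

namespace Cfsg.Agent.Lib.Helper13.S5666T4

open Matrix Module
open Cfsg.Agent.Lib.Helper16.Tens Cfsg.Agent.Lib.Helper10.TensFund Cfsg.Agent.Lib.Helper13.TensSO
open Cfsg.Agent.Lib.Helper3.SpT (bf SympG bf_add_left bf_add_right bf_smul_left bf_smul_right bf_kron_pur
  pur_induction bf_zero_left bf_zero_right bf_neg_left bf_neg_right bf_sub_left bf_sub_right act_kronGL)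
open Cfsg.Agent.Lib.Helper23.S5637T3b (kronGL kronGL_mem_kron)
open Cfsg.Agent.Lib.Helper20
open scoped Kronecker

variable {F : Type*} [Field F] {a b : ℕ}
variable {J1 : Matrix (Fin a) (Fin a) F} {J2 : Matrix (Fin b) (Fin b) F}
variable {M : Subgroup (GL (Fin a × Fin b) F)}

local notation "K" => Cfsg.Geo.kroneckerSubgroup a b F
local notation "V" => (Fin a × Fin b → F)

/-! ### the form on `V` -/

theorem bf_kron_skew (hS : SetupSO J1 J2) (x y : V) :
    bf (J1 ⊗ₖ J2) x y = - bf (J1 ⊗ₖ J2) y x := by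
  refine pur_induction (p := fun x => bf (J1 ⊗ₖ J2) x y = - bf (J1 ⊗ₖ J2) y x) ?_ ?_ ?_ x
  · simp
  · intro x x' hx hx'
    rw [bf_add_left, bf_add_right, hx, hx']
    ring
  · intro u w
    refine pur_induction (p := fun y => bf (J1 ⊗ₖ J2) (pur u w) y = - bf (J1 ⊗ₖ J2) y (pur u w)) ?_ ?_ ?_ y
    · simp
    · intro y y' hy hy'
      rw [bf_add_left, bf_add_right, hy, hy']
      ring
    · intro u' w'
      rw [bf_kron_pur, bf_kron_pur, hS.h1.skew u u', hS.h2.symm w w']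
      ring

theorem bf_kron_alt (hS : SetupSO J1 J2) (v : V) : bf (J1 ⊗ₖ J2) v v = 0 := by
  have h := bf_kron_skew hS v v
  have h2 : (2 : F) * bf (J1 ⊗ₖ J2) v v = 0 := by linear_combination h
  rcases mul_eq_zero.mp h2 with h3 | h3
  · exact absurd h3 hS.two
  · exact h3

theorem hBB (hS : SetupSO J1 J2) : ∀ x, SpO.BB J1 J2 x x = 0 := fun x => bf_kron_alt hS x

/-- membership in `IsoG` can be tested on pure tensors -/
theorem mem_IsoG_of_pur (g : GL (Fin a × Fin b) F)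
    (h : ∀ (u u' : Fin a → F) (w w' : Fin b → F),
      bf (J1 ⊗ₖ J2) (act g (pur u w)) (act g (pur u' w')) = bf (J1 ⊗ₖ J2) (pur u w) (pur u' w')) :
    g ∈ IsoG (J1 ⊗ₖ J2) := by
  intro x y
  change bf (J1 ⊗ₖ J2) (act g x) (act g y) = bf (J1 ⊗ₖ J2) x y
  refine pur_induction (p := fun x => bf (J1 ⊗ₖ J2) (act g x) (act g y) = bf (J1 ⊗ₖ J2) x y) ?_ ?_ ?_ x
  · simp
  · intro x x' hx hx'
    rw [map_add, bf_add_left, bf_add_left, hx, hx']
  · intro u w
    refine pur_induction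
      (p := fun y => bf (J1 ⊗ₖ J2) (act g (pur u w)) (act g y) = bf (J1 ⊗ₖ J2) (pur u w) y) ?_ ?_ ?_ y
    · simp
    · intro y y' hy hy'
      rw [map_add, bf_add_right, bf_add_right, hy, hy']
    · intro u' w'
      exact h u u' w w'

theorem rU_mem_iso (hS : SetupSO J1 J2) (u : Fin a → F) (c : F) :
    rU (b := b) J1 hS.h1 u c ∈ IsoG (J1 ⊗ₖ J2) := by
  apply mem_IsoG_of_pur
  intro u1 u2 w1 w2
  rw [TensSOCompat.rU_eq_rM, SpO.act_rM_pur, SpO.act_rM_pur, bf_kron_pur, bf_kron_pur]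
  congr 1
  rw [bf_add_left, bf_add_right, bf_add_right, bf_smul_left, bf_smul_right, bf_smul_right, bf_smul_left,
    hS.h1.alt u, hS.h1.skew u u2]
  ring

theorem kron_one_mem_iso (hS : SetupSO J1 J2) (β : GL (Fin b) F) (hβ : β ∈ IsoG J2) :
    kronGL (1 : GL (Fin a) F) β ∈ IsoG (J1 ⊗ₖ J2) := by
  apply mem_IsoG_of_pur
  intro u1 u2 w1 w2
  rw [act_kronGL, act_kronGL, bf_kron_pur, bf_kron_pur, Units.val_one, Matrix.one_mulVec, Matrix.one_mulVec,
    hβ w1 w2]

/-! ### the set of transvection centres -/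

/-- the set of centres `x` all of whose transvections lie in `M` -/
def XX (J1 : Matrix (Fin a) (Fin a) F) (J2 : Matrix (Fin b) (Fin b) F) (M : Subgroup (GL (Fin a × Fin b) F)) :
    Set V := {x | ∀ (c : F) (t : GL (Fin a × Fin b) F), IsTv (J1 ⊗ₖ J2) x c t → t ∈ M}

theorem gl_ext {g h : GL (Fin a × Fin b) F} (H : ∀ v, act g v = act h v) : g = h := by
  apply Units.ext
  ext i j
  have := congrFun (H (Pi.single j 1)) i
  rwa [act_apply, act_apply, Matrix.mulVec_single_one, Matrix.mulVec_single_one] at this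

theorem zero_mem_XX : (0 : V) ∈ XX J1 J2 M := by
  intro c t ht
  have : t = 1 := by
    apply gl_ext
    intro v
    rw [act_apply, ht v, smul_zero, add_zero, act_one]
  rw [this]
  exact M.one_mem

theorem smul_mem_XX {x : V} (hx : x ∈ XX J1 J2 M) (l : F) : l • x ∈ XX J1 J2 M := by
  intro c t ht
  apply hx (l * l * c) t
  intro v
  rw [ht v, bf_smul_right, smul_smul]
  have e : c * (l * bf (J1 ⊗ₖ J2) v x) * l = l * l * c * bf (J1 ⊗ₖ J2) v x := by ring
  rw [e]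

theorem map_mem_XX (hM : OverS J1 J2 M) {x : V} (hx : x ∈ XX J1 J2 M) {g : GL (Fin a × Fin b) F}
    (hg : g ∈ M) : act g x ∈ XX J1 J2 M := by
  intro c t ht
  have hgi : g ∈ IsoG (J1 ⊗ₖ J2) := hM.le_iso hg
  have h1 : g⁻¹ * t * g ∈ M := by
    apply hx c
    intro v
    change act (g⁻¹ * t * g) v = _
    rw [act_mul, act_mul]
    have h2 : act t (act g v) = act g v + (c * bf (J1 ⊗ₖ J2) (act g v) (act g x)) • act g x := ht (act g v)
    rw [h2, map_add, act_inv_act, map_smul, act_inv_act]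
    have h3 : bf (J1 ⊗ₖ J2) (act g v) (act g x) = bf (J1 ⊗ₖ J2) v x := hgi v x
    rw [h3]
  have : t = g * (g⁻¹ * t * g) * g⁻¹ := by group
  rw [this]
  exact M.mul_mem (M.mul_mem hg h1) (M.inv_mem hg)

theorem rule_XX (hS : SetupSO J1 J2) (hM : OverS J1 J2 M) {x y : V} (hx : x ∈ XX J1 J2 M)
    (hy : y ∈ XX J1 J2 M) (hxy : bf (J1 ⊗ₖ J2) x y ≠ 0) (l : F) : x + l • y ∈ XX J1 J2 M := by
  have ht : SpO.tvB J1 J2 (hBB hS) y (l / bf (J1 ⊗ₖ J2) x y) ∈ M :=
    hy _ _ (TensSOCompat.isTv_tvB J1 J2 (hBB hS) y _)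
  have := map_mem_XX hM hx ht
  rw [SpO.act_tvB] at this
  have e : l / bf (J1 ⊗ₖ J2) x y * SpO.BB J1 J2 x y = l := by
    rw [SpO.BB_def]
    field_simp
  rwa [e] at this

/-! ### the `U`-side -/

theorem exists_both_ne_zero {E : Type*} [AddCommGroup E] [Module F E] (φ ψ : E →ₗ[F] F)
    (hφ : ∃ x, φ x ≠ 0) (hψ : ∃ x, ψ x ≠ 0) : ∃ x, φ x ≠ 0 ∧ ψ x ≠ 0 := by
  obtain ⟨x1, h1⟩ := hφ
  obtain ⟨x2, h2⟩ := hψ
  by_cases h3 : ψ x1 = 0
  · by_cases h4 : φ x2 = 0
    · refine ⟨x1 + x2, ?_, ?_⟩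
      · rw [map_add, h4, add_zero]; exact h1
      · rw [map_add, h3, zero_add]; exact h2
    · exact ⟨x2, h4, h2⟩
  · exact ⟨x1, h1, h3⟩

/-- `y ↦ f₁(u, y)` as a linear map -/
def bfL (J : Matrix (Fin a) (Fin a) F) (u : Fin a → F) : (Fin a → F) →ₗ[F] F where
  toFun y := bf J u y
  map_add' y y' := bf_add_right J u y y'
  map_smul' c y := by
    rw [bf_smul_right]
    rfl

/-- `y ↦ f₁(y, u)` as a linear map -/
def bfR (J : Matrix (Fin a) (Fin a) F) (u : Fin a → F) : (Fin a → F) →ₗ[F] F where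
  toFun y := bf J y u
  map_add' y y' := bf_add_left J y y' u
  map_smul' c y := by
    rw [bf_smul_left]
    rfl

theorem uside_step (hS : SetupSO J1 J2) (hM : OverS J1 J2 M) (u u'' : Fin a → F) (w : Fin b → F) (c : F)
    (h : pur u w ∈ XX J1 J2 M) : pur (u + (c * bf J1 u u'') • u'') w ∈ XX J1 J2 M := by
  have hg : rU (b := b) J1 hS.h1 u'' c ∈ M := hM.kron_mem _ (rU_mem_kron J1 hS.h1 u'' c) (rU_mem_iso hS u'' c)
  have := map_mem_XX hM h hg
  rwa [TensSOCompat.rU_eq_rM, SpO.act_rM_pur] at this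

theorem uside_of_ne (hS : SetupSO J1 J2) (hM : OverS J1 J2 M) (u u' : Fin a → F) (w : Fin b → F)
    (huu' : bf J1 u u' ≠ 0) (h : pur u w ∈ XX J1 J2 M) : pur u' w ∈ XX J1 J2 M := by
  have h1 := uside_step hS hM u (u' - u) w (1 / bf J1 u u') h
  have e : bf J1 u (u' - u) = bf J1 u u' := by
    rw [bf_sub_right, hS.h1.alt, sub_zero]
  rw [e, one_div, inv_mul_cancel₀ huu', one_smul, add_sub_cancel] at h1
  exact h1

theorem uside (hS : SetupSO J1 J2) (hM : OverS J1 J2 M) (u : Fin a → F) (hu : u ≠ 0) (w : Fin b → F)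
    (h : pur u w ∈ XX J1 J2 M) (u' : Fin a → F) : pur u' w ∈ XX J1 J2 M := by
  by_cases hu' : u' = 0
  · subst hu'
    have : pur (0 : Fin a → F) w = 0 := by
      funext p
      simp
    rw [this]
    exact zero_mem_XX
  · by_cases huu' : bf J1 u u' = 0
    · have hφ : ∃ x, bfL J1 u x ≠ 0 := by
        by_contra hcon
        push Not at hcon
        exact hu (hS.h1.nondeg u hcon)
      have hψ : ∃ x, bfR J1 u' x ≠ 0 := by
        by_contra hcon
        push Not at hcon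
        apply hu'
        apply hS.h1.nondeg u'
        intro y
        rw [hS.h1.skew, show bf J1 y u' = 0 from hcon y, neg_zero]
      obtain ⟨u3, h3, h3'⟩ := exists_both_ne_zero (bfL J1 u) (bfR J1 u') hφ hψ
      exact uside_of_ne hS hM u3 u' w h3' (uside_of_ne hS hM u u3 w h3 h)
    · exact uside_of_ne hS hM u u' w huu' h

/-! ### the `W`-side and the assembly -/

/-- `X_W` -/
def XW (J1 : Matrix (Fin a) (Fin a) F) (J2 : Matrix (Fin b) (Fin b) F) (M : Subgroup (GL (Fin a × Fin b) F)) :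
    Set (Fin b → F) := {w | ∀ u : Fin a → F, pur u w ∈ XX J1 J2 M}

theorem XW_smul {w : Fin b → F} (hw : w ∈ XW J1 J2 M) (l : F) : l • w ∈ XW J1 J2 M := by
  intro u
  rw [pur_smul_right]
  exact smul_mem_XX (hw u) l

theorem XW_iso (hS : SetupSO J1 J2) (hM : OverS J1 J2 M) (β : GL (Fin b) F) (hβ : β ∈ IsoG J2)
    {w : Fin b → F} (hw : w ∈ XW J1 J2 M) : (β : Matrix (Fin b) (Fin b) F) *ᵥ w ∈ XW J1 J2 M := by
  intro u
  have hg : kronGL (1 : GL (Fin a) F) β ∈ M :=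
    hM.kron_mem _ (kronGL_mem_kron _ _) (kron_one_mem_iso hS β hβ)
  have := map_mem_XX hM (hw u) hg
  rwa [act_kronGL, Units.val_one, Matrix.one_mulVec] at this

theorem XW_rule (hS : SetupSO J1 J2) (hM : OverS J1 J2 M) {w w' : Fin b → F} (hw : w ∈ XW J1 J2 M)
    (hw' : w' ∈ XW J1 J2 M) (hww' : bf J2 w w' ≠ 0) (l : F) (hl : bf J2 (w + l • w') w' ≠ 0) :
    w + l • w' ∈ XW J1 J2 M := by
  intro u
  by_cases hu : u = 0
  · subst hu
    have : pur (0 : Fin a → F) (w + l • w') = 0 := by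
      funext p
      simp
    rw [this]
    exact zero_mem_XX
  · -- `u'` with `f₁(u,u') = 1`
    obtain ⟨u0, hu0⟩ : ∃ x, bf J1 u x ≠ 0 := by
      by_contra hcon
      push Not at hcon
      exact hu (hS.h1.nondeg u hcon)
    set u' : Fin a → F := (bf J1 u u0)⁻¹ • u0 with hu'
    have h1 : bf J1 u u' = 1 := by
      rw [hu', bf_smul_right, inv_mul_cancel₀ hu0]
    have h1' : bf J1 u' u = -1 := by rw [hS.h1.skew, h1]
    -- `A = u ⊗ w + l u' ⊗ w'`
    have hA : pur u w + l • pur u' w' ∈ XX J1 J2 M := by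
      apply rule_XX hS hM (hw u) (hw' u')
      rw [bf_kron_pur, h1, one_mul]
      exact hww'
    have hB : pur (u - u') w' ∈ XX J1 J2 M := hw' _
    have hAB : bf (J1 ⊗ₖ J2) (pur u w + l • pur u' w') (pur (u - u') w') ≠ 0 := by
      rw [bf_add_left, bf_smul_left, bf_kron_pur, bf_kron_pur, bf_sub_right, bf_sub_right, hS.h1.alt, hS.h1.alt,
        h1, h1']
      have e : bf J2 (w + l • w') w' = bf J2 w w' + l * bf J2 w' w' := by
        rw [bf_add_left, bf_smul_left]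
      rw [e] at hl
      intro hcon
      apply hl
      linear_combination -hcon
    have := rule_XX hS hM hA hB hAB l
    have e : pur u w + l • pur u' w' + l • pur (u - u') w' = pur u (w + l • w') := by
      rw [pur_add_right, pur_smul_right]
      have : pur (u - u') w' = pur u w' - pur u' w' := by
        rw [sub_eq_add_neg, pur_add_left, pur_neg_left, ← sub_eq_add_neg]
      rw [this, smul_sub]
      abel
    rwa [e] at this

/-- **T4** in hypothesis form: `hCL` is `closure_univ`, `hW` is `wside_univ` of the skeleton -/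
theorem iso_le_of_transvection_aux (hS : SetupSO J1 J2) (hM : OverS J1 J2 M)
    (hCL : ∀ X : Set V, (0 : V) ∈ X →
      (∀ x ∈ X, ∀ y ∈ X, bf (J1 ⊗ₖ J2) x y ≠ 0 → ∀ l : F, x + l • y ∈ X) →
      (∀ (u : Fin a → F) (w : Fin b → F), pur u w ∈ X) → ∀ v : V, v ∈ X)
    (hW : ∀ S : Set (Fin b → F), (∀ w ∈ S, ∀ l : F, l • w ∈ S) →
      (∀ β : GL (Fin b) F, β ∈ IsoG J2 → ∀ w ∈ S, (β : Matrix (Fin b) (Fin b) F) *ᵥ w ∈ S) →
      (∀ w ∈ S, ∀ w' ∈ S, bf J2 w w' ≠ 0 → ∀ l : F, bf J2 (w + l • w') w' ≠ 0 → w + l • w' ∈ S) →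
      ∀ w₀ : Fin b → F, w₀ ≠ 0 → bf J2 w₀ w₀ = 0 → w₀ ∈ S → ∀ w : Fin b → F, w ∈ S)
    (u : Fin a → F) (w : Fin b → F) (hu : u ≠ 0) (hw : w ≠ 0) (hsing : bf J2 w w = 0)
    (hX : ∀ (c : F) (t : GL (Fin a × Fin b) F), IsTv (J1 ⊗ₖ J2) (pur u w) c t → t ∈ M) :
    IsoG (J1 ⊗ₖ J2) ≤ M := by
  have h0 : pur u w ∈ XX J1 J2 M := hX
  have hw0 : w ∈ XW J1 J2 M := fun u' => uside hS hM u hu w h0 u'
  have hall : ∀ w' : Fin b → F, w' ∈ XW J1 J2 M :=
    hW (XW J1 J2 M) (fun w hw l => XW_smul hw l) (fun β hβ w hw => XW_iso hS hM β hβ hw)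
      (fun w hw w' hw' hww' l hl => XW_rule hS hM hw hw' hww' l hl) w hw hsing hw0
  have hV : ∀ v : V, v ∈ XX J1 J2 M :=
    hCL (XX J1 J2 M) zero_mem_XX (fun x hx y hy hxy l => rule_XX hS hM hx hy hxy l)
      (fun u' w' => hall w' u')
  exact hS.gen M (fun x c t ht => hV x c t ht)

end Cfsg.Agent.Lib.Helper13.S5666T4
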