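import Mathlib
import Cfsg.Agent.Lib.Helper13.TensSODefs
import Cfsg.Agent.Lib.Helper13.TensSOCompat
import Cfsg.Agent.Lib.Helper13.S5666T4
import Cfsg.Agent.Lib.Helper25.S5670FOROOT

/-!
# S5666 farm-out pieces A-ROOT, A-PERP, A-VEC (helper13): the API of the M-root elements `rU`, orthogonality, vectors of `U`
-/

set_option autoImplicit false
set_option linter.unusedSectionVars false
set_option linter.unusedVariables false

namespace Cfsg.Agent.Lib.Helper13.S5666API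

open Matrix Module
open Cfsg.Agent.Lib.Helper16.Tens Cfsg.Agent.Lib.Helper10.TensFund Cfsg.Agent.Lib.Helper13.TensSO
open Cfsg.Agent.Lib.Helper28.TensU (ctrL ctrL_apply ctrL_pur hypL mem_hypL_iff ptL mem_ptL_iff pur_mem_ptL rootGLL
  rootGLL_val act_rootGLL rootGLL_mem_SL rootGLL_mem_kron rootML rootML_mul_rootML rootML_zero)
open Cfsg.Agent.Lib.Helper3.SpT (bf SympG bf_add_left bf_add_right bf_smul_left bf_smul_right bf_kron_pur
  pur_induction bf_zero_left bf_zero_right bf_neg_left bf_neg_right bf_sub_left bf_sub_right)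
open Cfsg.Agent.Lib.Helper20
open scoped Kronecker

variable {F : Type*} [Field F] {a b : ℕ}
variable {J1 : Matrix (Fin a) (Fin a) F} {J2 : Matrix (Fin b) (Fin b) F}

local notation "K" => Cfsg.Geo.kroneckerSubgroup a b F
local notation "V" => (Fin a × Fin b → F)

/-! ## A-ROOT -/

/-- A-ROOT (a) -/
theorem rU_mem_iso (hJ1 : SympG J1) (u : Fin a → F) (c : F) :
    rU (b := b) J1 hJ1 u c ∈ IsoG (J1 ⊗ₖ J2) := by
  apply S5666T4.mem_IsoG_of_pur
  intro u1 u2 w1 w2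
  rw [TensSOCompat.rU_eq_rM, SpO.act_rM_pur, SpO.act_rM_pur, bf_kron_pur, bf_kron_pur]
  congr 1
  rw [bf_add_left, bf_add_right, bf_add_right, bf_smul_left, bf_smul_right, bf_smul_right, bf_smul_left,
    hJ1.alt u, hJ1.skew u u2]
  ring

/-- A-ROOT (b) -/
theorem rU_pow_char (p : ℕ) [CharP F p] (hJ1 : SympG J1) (u : Fin a → F) (c : F) :
    (rU (b := b) J1 hJ1 u c) ^ p = 1 := by
  apply Units.ext
  rw [Units.val_pow_eq_pow_val, Units.val_one]
  unfold rU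
  rw [rootGLL_val, Cfsg.Agent.Lib.Helper25.S5670ROOT.rootML_pow _ _ (rU_aux J1 hJ1 u c),
    Cfsg.Agent.Lib.Helper25.S5670ROOT.nsmul_char_eq_zero, rootML_zero]

/-- A-ROOT (c): the fixed space of `rU u c` is `u^⊥ ⊗ W` -/
theorem act_rU_eq_self_iff (hJ1 : SympG J1) (u : Fin a → F) (c : F) (hu : u ≠ 0) (hc : c ≠ 0) (v : V) :
    act (rU J1 hJ1 u c) v = v ↔ v ∈ hypL (J1 *ᵥ u) := by
  rw [act_rU, mem_hypL_iff, add_eq_left, smul_eq_zero]
  constructor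
  · intro h
    rcases h with h | h
    · exact absurd h hc
    · exact (pur_eq_zero h).resolve_left hu
  · intro h
    right
    rw [h]
    funext p
    simp [pur_apply]

/-- A-ROOT (d) -/
theorem act_rU_sub_mem (hJ1 : SympG J1) (u : Fin a → F) (c : F) (v : V) :
    act (rU J1 hJ1 u c) v - v ∈ ptL (b := b) u := by
  rw [act_rU, add_sub_cancel_left, ← pur_smul_right]
  exact pur_mem_ptL _ _

theorem rU_ext {g h : GL (Fin a × Fin b) F} (H : ∀ v, act g v = act h v) : g = h := S5666T4.gl_ext H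

/-- A-ROOT (e) -/
theorem rU_mul (hJ1 : SympG J1) (u : Fin a → F) (c c' : F) :
    rU (b := b) J1 hJ1 u c * rU J1 hJ1 u c' = rU J1 hJ1 u (c + c') := by
  apply rU_ext
  intro v
  rw [act_mul, act_rU, act_rU, act_rU, map_add, map_smul, ctrL_pur]
  have h0 : u ⬝ᵥ J1 *ᵥ u = 0 := hJ1.alt u
  rw [h0, zero_smul, smul_zero, add_zero, add_smul]
  abel

/-- A-ROOT (f) -/
theorem rU_zero (hJ1 : SympG J1) (u : Fin a → F) : rU (b := b) J1 hJ1 u 0 = 1 := by
  apply rU_ext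
  intro v
  rw [act_rU, zero_smul, add_zero, act_one]

/-- A-ROOT (g): `rU` is quadratic -/
theorem rU_quad (hJ1 : SympG J1) (u : Fin a → F) (c : F) :
    (((rU (b := b) J1 hJ1 u c : GL (Fin a × Fin b) F) : Matrix (Fin a × Fin b) (Fin a × Fin b) F) - 1) *
      (((rU (b := b) J1 hJ1 u c : GL (Fin a × Fin b) F) : Matrix (Fin a × Fin b) (Fin a × Fin b) F) - 1) = 0 := by
  have h2 : rU (b := b) J1 hJ1 u c * rU J1 hJ1 u c = rU J1 hJ1 u (c + c) := rU_mul hJ1 u c c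
  -- compare the actions: (g - 1)^2 v = g^2 v - 2 g v + v
  apply Cfsg.Agent.Lib.Helper3.SpT.mat_ext_mulVec
  intro v
  rw [Matrix.zero_mulVec, ← Matrix.mulVec_mulVec, Matrix.sub_mulVec, Matrix.one_mulVec, Matrix.sub_mulVec,
    Matrix.one_mulVec]
  have e1 : ((rU (b := b) J1 hJ1 u c : GL (Fin a × Fin b) F) : Matrix (Fin a × Fin b) (Fin a × Fin b) F) *ᵥ v =
      v + c • pur u (ctrL (J1 *ᵥ u) v) := act_rU J1 hJ1 u c v
  rw [e1, add_sub_cancel_left]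
  have e2 : ((rU (b := b) J1 hJ1 u c : GL (Fin a × Fin b) F) : Matrix (Fin a × Fin b) (Fin a × Fin b) F) *ᵥ
      (c • pur u (ctrL (J1 *ᵥ u) v)) = c • pur u (ctrL (J1 *ᵥ u) v) := by
    have := act_rU (b := b) J1 hJ1 u c (c • pur u (ctrL (J1 *ᵥ u) v))
    rw [act_apply] at this
    rw [this, map_smul, ctrL_pur]
    have h0 : u ⬝ᵥ J1 *ᵥ u = 0 := hJ1.alt u
    rw [h0, zero_smul, smul_zero]
    have hz : pur u (0 : Fin b → F) = 0 := by
      funext p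
      simp [pur_apply]
    rw [hz, smul_zero, add_zero]
  rw [e2, sub_self]

/-- A-VEC (b) -/
theorem exists_bf_eq_one (hJ1 : SympG J1) (u : Fin a → F) (hu : u ≠ 0) : ∃ u' : Fin a → F, bf J1 u' u = 1 := by
  obtain ⟨x, hx⟩ : ∃ x, bf J1 u x ≠ 0 := by
    by_contra hcon
    push Not at hcon
    exact hu (hJ1.nondeg u hcon)
  have hx' : bf J1 x u ≠ 0 := by
    rw [hJ1.skew]
    exact neg_ne_zero.mpr hx
  refine ⟨(bf J1 x u)⁻¹ • x, ?_⟩
  rw [bf_smul_left, inv_mul_cancel₀ hx']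

/-- A-ROOT (h): every vector of `u ⊗ W` is a commutator `rU v - v` -/
theorem exists_act_rU_sub (hJ1 : SympG J1) (u : Fin a → F) (c : F) (hu : u ≠ 0) (hc : c ≠ 0) (x : V)
    (hx : x ∈ ptL (b := b) u) : ∃ v : V, act (rU J1 hJ1 u c) v - v = x := by
  obtain ⟨w, rfl⟩ := (mem_ptL_iff u x).1 hx
  obtain ⟨u', hu'⟩ := exists_bf_eq_one hJ1 u hu
  refine ⟨c⁻¹ • pur u' w, ?_⟩
  rw [act_rU, add_sub_cancel_left, map_smul, ctrL_pur]
  have h1 : u' ⬝ᵥ J1 *ᵥ u = 1 := hu'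
  rw [h1, one_smul, pur_smul_right, smul_smul, mul_inv_cancel₀ hc, one_smul]

/-- A-ROOT (i) -/
theorem rU_ne_one (hJ1 : SympG J1) (hb : 1 ≤ b) (u : Fin a → F) (c : F) (hu : u ≠ 0) (hc : c ≠ 0) :
    rU (b := b) J1 hJ1 u c ≠ 1 := by
  intro h
  let w : Fin b → F := Pi.single ⟨0, by omega⟩ 1
  have hw : w ≠ 0 := by
    intro hw
    have := congrFun hw ⟨0, by omega⟩
    simp [w] at this
  have hx : pur u w ∈ ptL (b := b) u := pur_mem_ptL u w
  obtain ⟨v, hv⟩ := exists_act_rU_sub hJ1 u c hu hc (pur u w) hx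
  rw [h, act_one, sub_self] at hv
  rcases pur_eq_zero hv.symm with h1 | h1
  · exact hu h1
  · exact hw h1

/-! ## A-PERP -/

/-- A-PERP (a0): `f(v, u ⊗ w) = f₂(ctrL (J1 u) v, w)` -/
theorem bf_kron_pur_right' (v : V) (u : Fin a → F) (w : Fin b → F) :
    bf (J1 ⊗ₖ J2) v (pur u w) = bf J2 (ctrL (J1 *ᵥ u) v) w := by
  refine pur_induction (p := fun v => bf (J1 ⊗ₖ J2) v (pur u w) = bf J2 (ctrL (J1 *ᵥ u) v) w) ?_ ?_ ?_ v
  · simp
  · intro x y hx hy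
    rw [bf_add_left, map_add, bf_add_left, hx, hy]
  · intro u' w'
    rw [bf_kron_pur, ctrL_pur, bf_smul_left]
    rfl

/-- A-PERP (a): `u^⊥ ⊗ W` is the orthogonal of `u ⊗ W` -/
theorem mem_hypL_iff_perp (hS : SetupSO J1 J2) (u : Fin a → F) (v : V) :
    v ∈ hypL (J1 *ᵥ u) ↔ ∀ x ∈ ptL (b := b) u, bf (J1 ⊗ₖ J2) v x = 0 := by
  rw [mem_hypL_iff]
  constructor
  · intro h x hx
    obtain ⟨w, rfl⟩ := (mem_ptL_iff u x).1 hx
    rw [bf_kron_pur_right', h, bf_zero_left]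
  · intro h
    apply hS.h2.nondeg
    intro w
    rw [← bf_kron_pur_right']
    exact h _ (pur_mem_ptL u w)

/-- A-PERP (b) -/
theorem mem_img_hypL_iff_perp (hS : SetupSO J1 J2) (g : GL (Fin a × Fin b) F) (hg : g ∈ IsoG (J1 ⊗ₖ J2))
    (u : Fin a → F) (v : V) :
    v ∈ img g (hypL (J1 *ᵥ u)) ↔ ∀ x ∈ img g (ptL (b := b) u), bf (J1 ⊗ₖ J2) v x = 0 := by
  rw [mem_img_iff, mem_hypL_iff_perp hS]
  have hgi : g⁻¹ ∈ IsoG (J1 ⊗ₖ J2) := (IsoG (J1 ⊗ₖ J2)).inv_mem hg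
  constructor
  · intro h x hx
    rw [mem_img_iff] at hx
    have := h _ hx
    have e : bf (J1 ⊗ₖ J2) (act g⁻¹ v) (act g⁻¹ x) = bf (J1 ⊗ₖ J2) v x := hgi v x
    rwa [e] at this
  · intro h x hx
    have hx' : act g x ∈ img g (ptL (b := b) u) := by
      rw [mem_img_iff, act_inv_act]
      exact hx
    have := h _ hx'
    have e : bf (J1 ⊗ₖ J2) (act g⁻¹ v) (act g⁻¹ (act g x)) = bf (J1 ⊗ₖ J2) v (act g x) := hgi v (act g x)
    rw [act_inv_act] at e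
    rw [e]
    exact this

/-- A-PERP (c) -/
theorem ptL_le_hypL (u u' : Fin a → F) (h : bf J1 u u' = 0) : ptL (b := b) u ≤ hypL (J1 *ᵥ u') := by
  intro x hx
  obtain ⟨w, rfl⟩ := (mem_ptL_iff u x).1 hx
  rw [mem_hypL_iff, ctrL_pur]
  have : u ⬝ᵥ J1 *ᵥ u' = 0 := h
  rw [this, zero_smul]

/-- A-PERP (d) -/
theorem supL_inf_hypL_le (hS : SetupSO J1 J2) (u u'' : Fin a → F) (h : bf J1 u'' u ≠ 0) :
    (ptL (b := b) u ⊔ ptL u'') ⊓ hypL (J1 *ᵥ u) ≤ ptL u := by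
  intro v hv
  obtain ⟨hv1, hv2⟩ := Submodule.mem_inf.1 hv
  obtain ⟨x, hx, y, hy, rfl⟩ := Submodule.mem_sup.1 hv1
  obtain ⟨w, rfl⟩ := (mem_ptL_iff u x).1 hx
  obtain ⟨w'', rfl⟩ := (mem_ptL_iff u'' y).1 hy
  rw [mem_hypL_iff, map_add, ctrL_pur, ctrL_pur] at hv2
  have h0 : u ⬝ᵥ J1 *ᵥ u = 0 := hS.h1.alt u
  have h1 : u'' ⬝ᵥ J1 *ᵥ u = bf J1 u'' u := rfl
  rw [h0, zero_smul, zero_add, h1] at hv2
  have hw'' : w'' = 0 := by
    rcases smul_eq_zero.1 hv2 with h2 | h2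
    · exact absurd h2 h
    · exact h2
  subst hw''
  have hz : pur u'' (0 : Fin b → F) = 0 := by
    funext p
    simp [pur_apply]
  rw [hz, add_zero]
  exact pur_mem_ptL u w

/-- A-PERP (e): the form on `V` is alternating -/
theorem bf_kron_alt (hS : SetupSO J1 J2) (v : V) : bf (J1 ⊗ₖ J2) v v = 0 := S5666T4.bf_kron_alt hS v

/-- A-PERP (f): the form on `V` is non-degenerate -/
theorem bf_kron_nondeg (hS : SetupSO J1 J2) (v : V) (h : ∀ y, bf (J1 ⊗ₖ J2) v y = 0) : v = 0 := by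
  -- `ctrL (J1 u) v = 0` for every `u`, hence all entries vanish
  have h1 : ∀ u : Fin a → F, ctrL (J1 *ᵥ u) v = 0 := by
    intro u
    apply hS.h2.nondeg
    intro w
    rw [← bf_kron_pur_right']
    exact h _
  -- `J1` is invertible, so every functional is `J1 *ᵥ u`
  have hdet : IsUnit J1.det := Cfsg.Agent.Lib.Helper3.SpT.SympG.isUnit_det hS.h1
  funext p
  obtain ⟨i, j⟩ := p
  have h2 := congrFun (h1 (J1⁻¹ *ᵥ Pi.single i 1)) j
  rw [Matrix.mulVec_mulVec, Matrix.mul_nonsing_inv _ hdet, Matrix.one_mulVec, ctrL_apply] at h2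
  simp only [Pi.zero_apply] at h2
  rw [Finset.sum_eq_single i] at h2
  · simpa using h2
  · intro i' _ hi'
    simp [Pi.single_apply, hi']
  · simp

/-- A-PERP (g): the factors of a Kronecker isometry are similitudes -/
theorem kron_iso_simil (hS : SetupSO J1 J2) (ha : 1 ≤ a) (hb : 1 ≤ b) (A : GL (Fin a) F) (B : GL (Fin b) F)
    (g : GL (Fin a × Fin b) F) (hg : g ∈ IsoG (J1 ⊗ₖ J2))
    (hgAB : (g : Matrix (Fin a × Fin b) (Fin a × Fin b) F) =
      (A : Matrix (Fin a) (Fin a) F) ⊗ₖ (B : Matrix (Fin b) (Fin b) F)) :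
    ∃ l : F, l ≠ 0 ∧
      (∀ x y, bf J1 ((A : Matrix (Fin a) (Fin a) F) *ᵥ x) ((A : Matrix (Fin a) (Fin a) F) *ᵥ y) = l * bf J1 x y) ∧
      (∀ x y, bf J2 ((B : Matrix (Fin b) (Fin b) F) *ᵥ x) ((B : Matrix (Fin b) (Fin b) F) *ᵥ y) = l⁻¹ * bf J2 x y) := by
  have key : ∀ (x y : Fin a → F) (w w' : Fin b → F),
      bf J1 ((A : Matrix (Fin a) (Fin a) F) *ᵥ x) ((A : Matrix (Fin a) (Fin a) F) *ᵥ y) *
        bf J2 ((B : Matrix (Fin b) (Fin b) F) *ᵥ w) ((B : Matrix (Fin b) (Fin b) F) *ᵥ w') =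
      bf J1 x y * bf J2 w w' := by
    intro x y w w'
    have h := hg (pur x w) (pur y w')
    rw [hgAB, kron_mulVec_pur, kron_mulVec_pur, bf_kron_pur, bf_kron_pur] at h
    exact h
  -- pick `x0, y0` with `f₁(x0,y0) ≠ 0` and `w0, w0'` with `f₂(w0,w0') ≠ 0`
  obtain ⟨x0, hx0⟩ : ∃ x0 : Fin a → F, x0 ≠ 0 := ⟨Pi.single ⟨0, by omega⟩ 1, fun h => by
    have := congrFun h ⟨0, by omega⟩
    simp at this⟩
  obtain ⟨y0, hy0⟩ : ∃ y, bf J1 x0 y ≠ 0 := by
    by_contra hcon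
    push Not at hcon
    exact hx0 (hS.h1.nondeg x0 hcon)
  obtain ⟨w0, hw0⟩ : ∃ w0 : Fin b → F, w0 ≠ 0 := ⟨Pi.single ⟨0, by omega⟩ 1, fun h => by
    have := congrFun h ⟨0, by omega⟩
    simp at this⟩
  obtain ⟨w0', hw0'⟩ : ∃ y, bf J2 w0 y ≠ 0 := by
    by_contra hcon
    push Not at hcon
    exact hw0 (hS.h2.nondeg w0 hcon)
  set α := bf J1 ((A : Matrix (Fin a) (Fin a) F) *ᵥ x0) ((A : Matrix (Fin a) (Fin a) F) *ᵥ y0) with hα
  set β := bf J2 ((B : Matrix (Fin b) (Fin b) F) *ᵥ w0) ((B : Matrix (Fin b) (Fin b) F) *ᵥ w0') with hβ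
  have h00 : α * β = bf J1 x0 y0 * bf J2 w0 w0' := key x0 y0 w0 w0'
  have hαβ : α * β ≠ 0 := by
    rw [h00]
    exact mul_ne_zero hy0 hw0'
  have hα0 : α ≠ 0 := left_ne_zero_of_mul hαβ
  have hβ0 : β ≠ 0 := right_ne_zero_of_mul hαβ
  refine ⟨bf J2 w0 w0' / β, div_ne_zero hw0' hβ0, ?_, ?_⟩
  · intro x y
    have h := key x y w0 w0'
    field_simp
    linear_combination h
  · intro w w'
    have h := key x0 y0 w w'
    rw [inv_div]
    have h2 : β / bf J2 w0 w0' = bf J1 x0 y0 / α := by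
      field_simp
      linear_combination h00
    rw [h2]
    field_simp
    linear_combination h

/-! ## A-VEC -/

theorem exists_ker_two {E : Type*} [AddCommGroup E] [Module F E] [FiniteDimensional F E]
    (h : 3 ≤ finrank F E) (φ ψ : E →ₗ[F] F) : ∃ x, x ≠ 0 ∧ φ x = 0 ∧ ψ x = 0 := by
  have h1 := LinearMap.finrank_range_add_finrank_ker (φ.prod ψ)
  have h2 : finrank F (LinearMap.range (φ.prod ψ)) ≤ 2 := by
    have := Submodule.finrank_le (LinearMap.range (φ.prod ψ))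
    rw [Module.finrank_prod, Module.finrank_self] at this
    exact this
  have h3 : 0 < finrank F (LinearMap.ker (φ.prod ψ)) := by omega
  obtain ⟨x, hx⟩ := Module.finrank_pos_iff_exists_ne_zero.1 h3
  have hx2 := x.2
  rw [LinearMap.mem_ker, LinearMap.prod_apply] at hx2
  have hx3 : (φ x.1, ψ x.1) = (0 : F × F) := hx2
  rw [Prod.mk_eq_zero] at hx3
  exact ⟨x.1, fun h => hx (Subtype.ext h), hx3.1, hx3.2⟩

/-- A-VEC (a) -/
theorem exists_perp_indep (hJ1 : SympG J1) (ha : 3 ≤ a) (u : Fin a → F) (hu : u ≠ 0) :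
    ∃ u₂ : Fin a → F, u₂ ≠ 0 ∧ bf J1 u u₂ = 0 ∧ ∀ c : F, u₂ ≠ c • u := by
  have h1 := LinearMap.finrank_range_add_finrank_ker (S5666T4.bfL J1 u)
  have h2 : finrank F (LinearMap.range (S5666T4.bfL J1 u)) ≤ 1 := by
    have := Submodule.finrank_le (LinearMap.range (S5666T4.bfL J1 u))
    rwa [Module.finrank_self] at this
  have h3 : finrank F (Fin a → F) = a := by simp
  have h4 : 2 ≤ finrank F (LinearMap.ker (S5666T4.bfL J1 u)) := by omega
  have h5 : ¬ LinearMap.ker (S5666T4.bfL J1 u) ≤ Submodule.span F {u} := by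
    intro hle
    have e1 := Submodule.finrank_mono hle
    have e2 : finrank F (Submodule.span F {u}) = 1 := finrank_span_singleton hu
    omega
  obtain ⟨x, hx, hx'⟩ := SetLike.not_le_iff_exists.1 h5
  refine ⟨x, ?_, LinearMap.mem_ker.1 hx, ?_⟩
  · rintro rfl
    exact hx' (Submodule.zero_mem _)
  · intro c hc
    exact hx' (hc ▸ Submodule.smul_mem _ c (Submodule.mem_span_singleton_self u))

/-- A-VEC (c) -/
theorem exists_perp_two (hJ1 : SympG J1) (ha : 3 ≤ a) (x y : Fin a → F) :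
    ∃ u₃ : Fin a → F, u₃ ≠ 0 ∧ bf J1 u₃ x = 0 ∧ bf J1 u₃ y = 0 := by
  have h3 : finrank F (Fin a → F) = a := by simp
  exact exists_ker_two (by omega) (S5666T4.bfR J1 x) (S5666T4.bfR J1 y)

end Cfsg.Agent.Lib.Helper13.S5666API
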