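import Mathlib

set_option autoImplicit false

/-!
Calculus of rank-one perturbations `T a α = 1 + a ⊗ α` of the identity inside a subgroup of
the special linear group (used for generation results by regular unipotent elements).
-/

namespace Cfsg.Agent.Lib.Helper13.RegUni

open Matrix

variable {F : Type*} [Field F] {ι : Type*} [Fintype ι] [DecidableEq ι]

/-- rank-one perturbation of the identity -/
def T (a α : ι → F) : Matrix ι ι F := 1 + vecMulVec a α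

theorem T_zero_left (α : ι → F) : T (0 : ι → F) α = 1 := by
  rw [T, zero_vecMulVec, add_zero]

theorem T_mul_T (a α b β : ι → F) :
    T a α * T b β = 1 + vecMulVec a α + vecMulVec b β + (α ⬝ᵥ b) • vecMulVec a β := by
  simp only [T, add_mul, mul_add, one_mul, mul_one, vecMulVec_mul_vecMulVec, vecMulVec_smul]
  abel

theorem T_mul_T_same {a b α : ι → F} (h : α ⬝ᵥ b = 0) : T a α * T b α = T (a + b) α := by
  rw [T_mul_T, h, zero_smul, add_zero, T, add_vecMulVec, add_assoc]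

theorem T_mul_T_neg {a α : ι → F} (h : α ⬝ᵥ a = 0) : T a α * T (-a) α = 1 := by
  rw [T_mul_T_same (by rw [dotProduct_neg, h, neg_zero]), add_neg_cancel, T_zero_left]

theorem T_neg_mul_T {a α : ι → F} (h : α ⬝ᵥ a = 0) : T (-a) α * T a α = 1 := by
  rw [T_mul_T_same h, neg_add_cancel, T_zero_left]

theorem T_mulVec (a α w : ι → F) : T a α *ᵥ w = w + (α ⬝ᵥ w) • a := by
  rw [T, add_mulVec, one_mulVec, vecMulVec_mulVec, op_smul_eq_smul]

theorem T_vecMul (a α w : ι → F) : w ᵥ* T a α = w + (w ⬝ᵥ a) • α := by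
  rw [T, vecMul_add, vecMul_one, vecMul_vecMulVec]

theorem conj_T {G G' : Matrix ι ι F} (h : G * G' = 1) (a α : ι → F) :
    G * T a α * G' = T (G *ᵥ a) (α ᵥ* G') := by
  rw [T, T, mul_add, add_mul, mul_one, h, mul_vecMulVec, vecMulVec_mul]

theorem ring_aux {R : Type*} [Ring R] (A B : R) :
    (1 + A + B) * (1 - A - B) = 1 - A * A - A * B - B * A - B * B := by
  noncomm_ring

theorem T_comm_eq {a α b β : ι → F} (h1 : α ⬝ᵥ a = 0) (h2 : β ⬝ᵥ b = 0) (h3 : α ⬝ᵥ b = 0) :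
    T a α * T b β * (T (-a) α * T (-b) β) = T ((-(β ⬝ᵥ a)) • b) α := by
  have e1 : T a α * T b β = 1 + vecMulVec a α + vecMulVec b β := by
    rw [T_mul_T, h3, zero_smul, add_zero]
  have e2 : T (-a) α * T (-b) β = 1 - vecMulVec a α - vecMulVec b β := by
    rw [T_mul_T, dotProduct_neg, h3, neg_zero, zero_smul, add_zero, neg_vecMulVec, neg_vecMulVec]
    abel
  have hAA : vecMulVec a α * vecMulVec a α = 0 := by
    rw [vecMulVec_mul_vecMulVec, h1, zero_smul, vecMulVec_zero]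
  have hBB : vecMulVec b β * vecMulVec b β = 0 := by
    rw [vecMulVec_mul_vecMulVec, h2, zero_smul, vecMulVec_zero]
  have hAB : vecMulVec a α * vecMulVec b β = 0 := by
    rw [vecMulVec_mul_vecMulVec, h3, zero_smul, vecMulVec_zero]
  have hBA : vecMulVec b β * vecMulVec a α = (β ⬝ᵥ a) • vecMulVec b α := by
    rw [vecMulVec_mul_vecMulVec, vecMulVec_smul]
  rw [e1, e2, ring_aux, hAA, hAB, hBA, hBB, sub_zero, sub_zero, sub_zero, T, smul_vecMulVec,
    neg_smul, sub_eq_add_neg]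

theorem vecMul_inv_of {χ ψ : ι → F} {G G' : Matrix ι ι F} (h : G * G' = 1) (hχ : χ ᵥ* G = ψ) :
    ψ ᵥ* G' = χ := by
  rw [← hχ, vecMul_vecMul, h, vecMul_one]

theorem coe_mul_coe_inv (g : Matrix.SpecialLinearGroup ι F) :
    (g : Matrix ι ι F) * ((g⁻¹ : Matrix.SpecialLinearGroup ι F) : Matrix ι ι F) = 1 := by
  rw [← Matrix.SpecialLinearGroup.coe_mul, mul_inv_cancel, Matrix.SpecialLinearGroup.coe_one]

theorem coe_inv_mul_coe (g : Matrix.SpecialLinearGroup ι F) :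
    ((g⁻¹ : Matrix.SpecialLinearGroup ι F) : Matrix ι ι F) * (g : Matrix ι ι F) = 1 := by
  rw [← Matrix.SpecialLinearGroup.coe_mul, inv_mul_cancel, Matrix.SpecialLinearGroup.coe_one]

/-- the matrix `M` is the matrix of an element of `H` -/
def MemM (H : Subgroup (Matrix.SpecialLinearGroup ι F)) (M : Matrix ι ι F) : Prop :=
  ∃ g ∈ H, (g : Matrix ι ι F) = M

variable {H : Subgroup (Matrix.SpecialLinearGroup ι F)}

theorem MemM.of_mem {g : Matrix.SpecialLinearGroup ι F} (hg : g ∈ H) : MemM H (g : Matrix ι ι F) :=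
  ⟨g, hg, rfl⟩

theorem MemM.mem {g : Matrix.SpecialLinearGroup ι F} (h : MemM H (g : Matrix ι ι F)) : g ∈ H := by
  obtain ⟨g', hg', he⟩ := h
  have : g' = g := Subtype.ext he
  rwa [← this]

theorem MemM.one : MemM H (1 : Matrix ι ι F) := ⟨1, H.one_mem, Matrix.SpecialLinearGroup.coe_one⟩

theorem MemM.mul {A B : Matrix ι ι F} (hA : MemM H A) (hB : MemM H B) : MemM H (A * B) := by
  obtain ⟨g, hg, rfl⟩ := hA
  obtain ⟨k, hk, rfl⟩ := hB
  exact ⟨g * k, H.mul_mem hg hk, Matrix.SpecialLinearGroup.coe_mul g k⟩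

theorem MemM.inv_of_mul_eq_one {A A' : Matrix ι ι F} (hA : MemM H A) (h : A * A' = 1) :
    MemM H A' := by
  obtain ⟨g, hg, rfl⟩ := hA
  refine ⟨g⁻¹, H.inv_mem hg, ?_⟩
  calc ((g⁻¹ : Matrix.SpecialLinearGroup ι F) : Matrix ι ι F)
      = ((g⁻¹ : Matrix.SpecialLinearGroup ι F) : Matrix ι ι F) * ((g : Matrix ι ι F) * A') := by
        rw [h, mul_one]
    _ = A' := by rw [← mul_assoc, coe_inv_mul_coe, one_mul]

theorem MemM.conjT {G G' : Matrix ι ι F} (hG : MemM H G) (h : G * G' = 1) {a α : ι → F}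
    (hT : MemM H (T a α)) : MemM H (T (G *ᵥ a) (α ᵥ* G')) := by
  rw [← conj_T h]
  exact (hG.mul hT).mul (hG.inv_of_mul_eq_one h)

theorem MemM.negT {a α : ι → F} (h : α ⬝ᵥ a = 0) (hT : MemM H (T a α)) : MemM H (T (-a) α) :=
  hT.inv_of_mul_eq_one (T_mul_T_neg h)

theorem MemM.addT {a b α : ι → F} (h : α ⬝ᵥ b = 0) (ha : MemM H (T a α)) (hb : MemM H (T b α)) :
    MemM H (T (a + b) α) := by
  rw [← T_mul_T_same h]
  exact ha.mul hb

theorem MemM.commT {a α b β : ι → F} (h1 : α ⬝ᵥ a = 0) (h2 : β ⬝ᵥ b = 0) (h3 : α ⬝ᵥ b = 0)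
    (ha : MemM H (T a α)) (hb : MemM H (T b β)) : MemM H (T ((-(β ⬝ᵥ a)) • b) α) := by
  rw [← T_comm_eq h1 h2 h3]
  exact (ha.mul hb).mul ((ha.negT h1).mul (hb.negT h2))

/-- `w` lies in the kernel of `α` and `T w α` lies in `H` -/
def InW (H : Subgroup (Matrix.SpecialLinearGroup ι F)) (α w : ι → F) : Prop :=
  α ⬝ᵥ w = 0 ∧ MemM H (T w α)

theorem InW.zero (α : ι → F) : InW H α 0 :=
  ⟨dotProduct_zero _, by rw [T_zero_left]; exact MemM.one⟩

theorem InW.add {α w w' : ι → F} (h : InW H α w) (h' : InW H α w') : InW H α (w + w') :=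
  ⟨by rw [dotProduct_add, h.1, h'.1, add_zero], MemM.addT h'.1 h.2 h'.2⟩

theorem InW.neg {α w : ι → F} (h : InW H α w) : InW H α (-w) :=
  ⟨by rw [dotProduct_neg, h.1, neg_zero], h.2.negT h.1⟩

theorem InW.sub {α w w' : ι → F} (h : InW H α w) (h' : InW H α w') : InW H α (w - w') := by
  rw [sub_eq_add_neg]
  exact h.add h'.neg

theorem InW.conj {G G' : Matrix ι ι F} (hG : MemM H G) (hGG' : G * G' = 1) {α w : ι → F}
    (h : InW H α w) : InW H (α ᵥ* G') (G *ᵥ w) := by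
  refine ⟨?_, hG.conjT hGG' h.2⟩
  have hG'G : G' * G = 1 := mul_eq_one_comm.mp hGG'
  rw [← dotProduct_mulVec, mulVec_mulVec, hG'G, one_mulVec]
  exact h.1

theorem InW.comm {α β a b : ι → F} (ha : InW H α a) (hb : InW H β b) (h3 : α ⬝ᵥ b = 0) :
    InW H α ((-(β ⬝ᵥ a)) • b) :=
  ⟨by rw [dotProduct_smul, h3, smul_zero], MemM.commT ha.1 hb.1 h3 ha.2 hb.2⟩

/-- all transvections with covector `ψ` lie in `H` -/
def Ax (H : Subgroup (Matrix.SpecialLinearGroup ι F)) (ψ : ι → F) : Prop :=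
  ∀ a : ι → F, ψ ⬝ᵥ a = 0 → MemM H (T a ψ)

theorem Ax.smul {ψ : ι → F} (h : Ax H ψ) (c : F) : Ax H (c • ψ) := by
  intro a ha
  have e : T a (c • ψ) = T (c • a) ψ := by
    rw [T, T, vecMulVec_smul, smul_vecMulVec]
  rw [e]
  apply h
  rw [dotProduct_smul, ← smul_dotProduct]
  exact ha

theorem Ax.conj {G G' : Matrix ι ι F} (hG : MemM H G) (h : G * G' = 1) {ψ : ι → F}
    (hψ : Ax H ψ) : Ax H (ψ ᵥ* G') := by
  intro a ha
  have h2 : G *ᵥ (G' *ᵥ a) = a := by rw [mulVec_mulVec, h, one_mulVec]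
  have h3 : ψ ⬝ᵥ (G' *ᵥ a) = 0 := by rw [dotProduct_mulVec]; exact ha
  have := hG.conjT h (hψ _ h3)
  rwa [h2] at this

theorem Ax.add_smul {ψ₁ ψ₂ : ι → F} (h1 : Ax H ψ₁) (h2 : Ax H ψ₂) (w : ι → F)
    (hw : ψ₂ ⬝ᵥ w = 0) : Ax H (ψ₁ + (ψ₁ ⬝ᵥ w) • ψ₂) := by
  have hw' : ψ₂ ⬝ᵥ (-w) = 0 := by rw [dotProduct_neg, hw, neg_zero]
  have hG : MemM H (T (-w) ψ₂) := h2 _ hw'
  have hGG : T (-w) ψ₂ * T w ψ₂ = 1 := T_neg_mul_T hw
  have := h1.conj hG hGG
  rwa [T_vecMul] at this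

theorem Ax.of_InW {α : ι → F} (h : ∀ w, α ⬝ᵥ w = 0 → InW H α w) : Ax H α :=
  fun a ha => (h a ha).2

end Cfsg.Agent.Lib.Helper13.RegUni
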