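import Mathlib
import Cfsg.Agent.Lib.Helper13.RegUniA
import Cfsg.Agent.Lib.Helper15.SLNormal

set_option autoImplicit false

/-!
`SL_n(F)` (`n ≥ 3`, `F` a finite field) is generated by three conjugate regular unipotent
elements.
-/

namespace Cfsg.Agent.Lib.Helper13.RegUni

open Matrix

section basic

variable (F : Type*) [Field F] (n : ℕ)

/-- standard basis vector, indexed by a natural number (zero when out of range) -/
def e (k : ℕ) : Fin n → F := fun i => if (i : ℕ) = k then 1 else 0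

theorem e_apply (k : ℕ) (i : Fin n) : e F n k i = if (i : ℕ) = k then 1 else 0 := rfl

theorem e_eq_single (k : ℕ) (hk : k < n) : e F n k = Pi.single (⟨k, hk⟩ : Fin n) (1 : F) := by
  funext i
  rw [e_apply, Pi.single_apply]
  by_cases h : (i : ℕ) = k
  · rw [if_pos h, if_pos (Fin.ext h)]
  · rw [if_neg h, if_neg (fun h' => h (by rw [h']))]

theorem e_of_le (k : ℕ) (hk : n ≤ k) : e F n k = 0 := by
  funext i
  have hi := i.2
  show (if (i : ℕ) = k then (1 : F) else 0) = 0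
  exact if_neg (by omega)

theorem e_dot (k : ℕ) (hk : k < n) (w : Fin n → F) : e F n k ⬝ᵥ w = w ⟨k, hk⟩ := by
  rw [e_eq_single F n k hk, single_one_dotProduct]

theorem dot_e (k : ℕ) (hk : k < n) (w : Fin n → F) : w ⬝ᵥ e F n k = w ⟨k, hk⟩ := by
  rw [e_eq_single F n k hk, dotProduct_single_one]

theorem e_dot_e_self (k : ℕ) (hk : k < n) : e F n k ⬝ᵥ e F n k = 1 := by
  rw [e_dot F n k hk]
  exact if_pos rfl

theorem e_dot_e_ne (k j : ℕ) (h : k ≠ j) : e F n k ⬝ᵥ e F n j = 0 := by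
  by_cases hk : k < n
  · rw [e_dot F n k hk]
    exact if_neg h
  · rw [e_of_le F n k (by omega), zero_dotProduct]

theorem e_vecMul (k : ℕ) (hk : k < n) (M : Matrix (Fin n) (Fin n) F) :
    e F n k ᵥ* M = M ⟨k, hk⟩ := by
  rw [e_eq_single F n k hk, single_one_vecMul]
  rfl

theorem mulVec_e (k : ℕ) (hk : k < n) (M : Matrix (Fin n) (Fin n) F) :
    M *ᵥ e F n k = fun i => M i ⟨k, hk⟩ := by
  rw [e_eq_single F n k hk, mulVec_single_one]
  rfl

/-- the nilpotent Jordan block -/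
def Nm : Matrix (Fin n) (Fin n) F := Matrix.of fun i j => if (i : ℕ) + 1 = (j : ℕ) then 1 else 0

theorem Nm_apply (i j : Fin n) : Nm F n i j = if (i : ℕ) + 1 = (j : ℕ) then 1 else 0 := rfl

theorem Nm_mulVec_e_succ (k : ℕ) (hk : k + 1 < n) : Nm F n *ᵥ e F n (k + 1) = e F n k := by
  rw [mulVec_e F n (k + 1) hk]
  funext i
  show (if (i : ℕ) + 1 = k + 1 then (1 : F) else 0) = if (i : ℕ) = k then 1 else 0
  by_cases h : (i : ℕ) = k
  · rw [if_pos h, if_pos (by omega)]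
  · rw [if_neg h, if_neg (by omega)]

theorem Nm_mulVec_e_zero (hn : 0 < n) : Nm F n *ᵥ e F n 0 = 0 := by
  rw [mulVec_e F n 0 hn]
  funext i
  show (if (i : ℕ) + 1 = 0 then (1 : F) else 0) = 0
  exact if_neg (by omega)

theorem e_vecMul_Nm (k : ℕ) : e F n k ᵥ* Nm F n = e F n (k + 1) := by
  by_cases hk : k < n
  · rw [e_vecMul F n k hk]
    funext j
    show (if k + 1 = (j : ℕ) then (1 : F) else 0) = if (j : ℕ) = k + 1 then 1 else 0
    by_cases h : (j : ℕ) = k + 1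
    · rw [if_pos h, if_pos h.symm]
    · rw [if_neg h, if_neg (fun h' => h h'.symm)]
  · rw [e_of_le F n k (by omega), e_of_le F n (k + 1) (by omega), zero_vecMul]

theorem Nm_pow_mulVec_e (k j : ℕ) (hj : j < n) (hkj : k ≤ j) :
    (Nm F n) ^ k *ᵥ e F n j = e F n (j - k) := by
  induction k with
  | zero => rw [pow_zero, one_mulVec, Nat.sub_zero]
  | succ k ih =>
    have h1 : j - k = (j - (k + 1)) + 1 := by omega
    rw [pow_succ', ← mulVec_mulVec, ih (by omega), h1, Nm_mulVec_e_succ F n _ (by omega)]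

theorem Nm_pow_mulVec_e_lt (k j : ℕ) (hj : j < n) (hjk : j < k) :
    (Nm F n) ^ k *ᵥ e F n j = 0 := by
  obtain ⟨d, rfl⟩ : ∃ d, k = d + (j + 1) := ⟨k - (j + 1), by omega⟩
  rw [pow_add, ← mulVec_mulVec, pow_succ', ← mulVec_mulVec, Nm_pow_mulVec_e F n j j hj le_rfl,
    Nat.sub_self, Nm_mulVec_e_zero F n (by omega), mulVec_zero]

theorem Nm_pow_n : (Nm F n) ^ n = 0 := by
  ext i j
  have h := congrFun (Nm_pow_mulVec_e_lt F n n (j : ℕ) j.2 j.2) i
  rw [mulVec_e F n (j : ℕ) j.2] at h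
  exact h

theorem Nm_pow_pred_ne (hn : 0 < n) : (Nm F n) ^ (n - 1) ≠ 0 := by
  intro h
  have h1 := Nm_pow_mulVec_e F n (n - 1) (n - 1) (by omega) le_rfl
  rw [h, zero_mulVec, Nat.sub_self] at h1
  have h2 := congrFun h1 ⟨0, hn⟩
  have h3 : e F n 0 ⟨0, hn⟩ = 1 := if_pos rfl
  rw [h3] at h2
  exact zero_ne_one h2

/-- the regular unipotent Jordan block -/
def Um : Matrix (Fin n) (Fin n) F := 1 + Nm F n

theorem Um_mulVec (w : Fin n → F) : Um F n *ᵥ w = w + Nm F n *ᵥ w := by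
  rw [Um, add_mulVec, one_mulVec]

theorem vecMul_Um (w : Fin n → F) : w ᵥ* Um F n = w + w ᵥ* Nm F n := by
  rw [Um, vecMul_add, vecMul_one]

theorem e_vecMul_Um (k : ℕ) : e F n k ᵥ* Um F n = e F n k + e F n (k + 1) := by
  rw [vecMul_Um, e_vecMul_Nm]

theorem det_Um : (Um F n).det = 1 := by
  have h : (Um F n).BlockTriangular id := by
    intro i j hij
    show (1 : Matrix (Fin n) (Fin n) F) i j + Nm F n i j = 0
    have hlt : (j : ℕ) < (i : ℕ) := hij
    have h1 : i ≠ j := fun h => by rw [h] at hlt; exact lt_irrefl _ hlt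
    rw [Matrix.one_apply_ne h1, Nm_apply, if_neg (by omega), add_zero]
  rw [Matrix.det_of_upperTriangular h]
  apply Finset.prod_eq_one
  intro i _
  show (1 : Matrix (Fin n) (Fin n) F) i i + Nm F n i i = 1
  rw [Matrix.one_apply_eq, Nm_apply, if_neg (by omega), add_zero]

/-- first row of the inverse of `Um` -/
def rv : Fin n → F := fun j => (-1) ^ (j : ℕ)

theorem rv_vecMul_Um (hn : 0 < n) : rv F n ᵥ* Um F n = e F n 0 := by
  funext j
  have hj := j.2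
  have h1 : (rv F n ᵥ* Um F n) j = rv F n ⬝ᵥ (Um F n *ᵥ e F n (j : ℕ)) := by
    rw [mulVec_e F n (j : ℕ) hj]
    rfl
  rw [h1, Um_mulVec]
  by_cases h0 : (j : ℕ) = 0
  · rw [h0, Nm_mulVec_e_zero F n hn, add_zero, dot_e F n 0 hn]
    show (-1 : F) ^ (0 : ℕ) = if (j : ℕ) = 0 then 1 else 0
    rw [if_pos h0, pow_zero]
  · obtain ⟨j', hj'⟩ : ∃ j', (j : ℕ) = j' + 1 := ⟨(j : ℕ) - 1, by omega⟩
    rw [hj', Nm_mulVec_e_succ F n j' (by omega), dotProduct_add, dot_e F n (j' + 1) (by omega),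
      dot_e F n j' (by omega)]
    show (-1 : F) ^ (j' + 1) + (-1) ^ j' = if (j : ℕ) = 0 then 1 else 0
    rw [if_neg h0, pow_succ]
    ring

theorem transvection_coe_eq_T' (i j : Fin n) (hij : i ≠ j) (b : F) :
    ((Matrix.SpecialLinearGroup.transvection hij b : Matrix.SpecialLinearGroup (Fin n) F) :
      Matrix (Fin n) (Fin n) F) = T (b • e F n (i : ℕ)) (e F n (j : ℕ)) := by
  rw [Matrix.SpecialLinearGroup.transvection_coe, T, e_eq_single F n (i : ℕ) i.2,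
    e_eq_single F n (j : ℕ) j.2, smul_vecMulVec, ← single_eq_single_vecMulVec_single, smul_single,
    smul_eq_mul, mul_one]

theorem transvection_coe_eq_T (i j : ℕ) (hi : i < n) (hj : j < n)
    (hij : (⟨i, hi⟩ : Fin n) ≠ ⟨j, hj⟩) (b : F) :
    ((Matrix.SpecialLinearGroup.transvection hij b : Matrix.SpecialLinearGroup (Fin n) F) :
      Matrix (Fin n) (Fin n) F) = T (b • e F n i) (e F n j) :=
  transvection_coe_eq_T' F n ⟨i, hi⟩ ⟨j, hj⟩ hij b

end basic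

section concrete

variable (F : Type*) [Field F] (m : ℕ)

local notation "ε" => e F (m + 3)

/-- matrix of the lower-left root element `x_{n,1}(1)` -/
def Hm : Matrix (Fin (m + 3)) (Fin (m + 3)) F := T (e F (m + 3) (m + 2)) (e F (m + 3) 0)

/-- matrix of the inverse of the lower-left root element -/
def Hm' : Matrix (Fin (m + 3)) (Fin (m + 3)) F := T (-e F (m + 3) (m + 2)) (e F (m + 3) 0)

theorem n0 : Nm F (m + 3) *ᵥ ε 0 = 0 := Nm_mulVec_e_zero F (m + 3) (by omega)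

theorem n2 : Nm F (m + 3) *ᵥ ε (m + 2) = ε (m + 1) := Nm_mulVec_e_succ F (m + 3) (m + 1) (by omega)

theorem v0 : ε 0 ᵥ* Nm F (m + 3) = ε 1 := e_vecMul_Nm F (m + 3) 0

theorem v1 : ε (m + 1) ᵥ* Nm F (m + 3) = ε (m + 2) := e_vecMul_Nm F (m + 3) (m + 1)

theorem v2 : ε (m + 2) ᵥ* Nm F (m + 3) = 0 := by
  rw [e_vecMul_Nm, e_of_le F (m + 3) (m + 2 + 1) (by omega)]

theorem V_mulVec_e0 : (Hm F m * Um F (m + 3) * Hm' F m) *ᵥ ε 0 = ε 0 - ε (m + 1) := by
  rw [← mulVec_mulVec, ← mulVec_mulVec]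
  simp (disch := omega) only [Hm, Hm', T_mulVec, Um_mulVec, mulVec_add, mulVec_smul, mulVec_neg,
    mulVec_zero, n0, n2, dotProduct_add, dotProduct_smul, dotProduct_neg, dotProduct_zero,
    e_dot_e_self, e_dot_e_ne, smul_eq_mul]
  module

theorem e2_vecMul_V : ε (m + 2) ᵥ* (Hm F m * Um F (m + 3) * Hm' F m) = ε (m + 2) + ε 1 := by
  rw [← vecMul_vecMul, ← vecMul_vecMul]
  simp (disch := omega) only [Hm, Hm', T_vecMul, vecMul_Um, add_vecMul, smul_vecMul, neg_vecMul,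
    zero_vecMul, v0, v1, v2, add_dotProduct, smul_dotProduct, dotProduct_neg, zero_dotProduct,
    e_dot_e_self, e_dot_e_ne, smul_eq_mul]
  module

theorem e1_vecMul_V :
    ε (m + 1) ᵥ* (Hm F m * Um F (m + 3) * Hm' F m) = ε (m + 1) + ε (m + 2) - ε 0 := by
  rw [← vecMul_vecMul, ← vecMul_vecMul]
  simp (disch := omega) only [Hm, Hm', T_vecMul, vecMul_Um, add_vecMul, smul_vecMul, neg_vecMul,
    zero_vecMul, v0, v1, v2, add_dotProduct, smul_dotProduct, dotProduct_neg, zero_dotProduct,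
    e_dot_e_self, e_dot_e_ne, smul_eq_mul]
  module

theorem phi_dot (U' : Matrix (Fin (m + 3)) (Fin (m + 3)) F) (hU2 : ε (m + 2) ᵥ* U' = ε (m + 2))
    (hU0 : ε 0 ᵥ* U' = rv F (m + 3)) :
    (ε (m + 2) ᵥ* (Hm F m * U' * Hm' F m)) ⬝ᵥ ε 0 = -(-1) ^ (m + 2) := by
  have r0 : rv F (m + 3) ⬝ᵥ ε 0 = 1 := by
    rw [dot_e F (m + 3) 0 (by omega)]
    show (-1 : F) ^ (0 : ℕ) = 1
    exact pow_zero _
  have r2 : rv F (m + 3) ⬝ᵥ ε (m + 2) = (-1) ^ (m + 2) := by
    rw [dot_e F (m + 3) (m + 2) (by omega)]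
    rfl
  rw [← vecMul_vecMul, ← vecMul_vecMul]
  simp (disch := omega) only [Hm, Hm', T_vecMul, add_vecMul, smul_vecMul, hU2, hU0,
    add_dotProduct, smul_dotProduct, dotProduct_neg, r0, r2,
    e_dot_e_self, e_dot_e_ne, smul_eq_mul]
  ring

theorem X_eq (s : F) (U' : Matrix (Fin (m + 3)) (Fin (m + 3)) F) (hUU' : Um F (m + 3) * U' = 1) :
    T (s • ε 0) (ε (m + 1)) * Um F (m + 3) * T ((-s) • ε 0) (ε (m + 1)) * U'
      = T (s • ε 0) (ε (m + 2)) := by
  have hv : (ε (m + 1) - ε (m + 2)) ᵥ* Um F (m + 3) = ε (m + 1) := by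
    rw [vecMul_Um, sub_vecMul, v1, v2]
    abel
  have hv' : ε (m + 1) ᵥ* U' = ε (m + 1) - ε (m + 2) := vecMul_inv_of hUU' hv
  have hu0 : Um F (m + 3) *ᵥ ((-s) • ε 0) = (-s) • ε 0 := by
    rw [Um_mulVec, mulVec_smul, n0, smul_zero, add_zero]
  rw [mul_assoc, mul_assoc, ← mul_assoc (Um F (m + 3)), conj_T hUU', hu0, hv', T_mul_T,
    dotProduct_smul, e_dot_e_ne F (m + 3) (m + 1) 0 (by omega), smul_zero, zero_smul, add_zero, T,
    neg_smul, neg_vecMulVec, vecMulVec_sub]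
  abel

end concrete

section setup

variable {F : Type*} [Field F] {m : ℕ}

local notation "ε" => e F (m + 3)

/-- the data used in the generation argument -/
structure Setup (H : Subgroup (Matrix.SpecialLinearGroup (Fin (m + 3)) F))
    (U' V V' : Matrix (Fin (m + 3)) (Fin (m + 3)) F) (φ₀ : F) : Prop where
  hU : MemM H (Um F (m + 3))
  hUU' : Um F (m + 3) * U' = 1
  hV : MemM H V
  hVV' : V * V' = 1
  hV0 : V *ᵥ e F (m + 3) 0 = e F (m + 3) 0 - e F (m + 3) (m + 1)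
  hV2 : e F (m + 3) (m + 2) ᵥ* V = e F (m + 3) (m + 2) + e F (m + 3) 1
  hV1 : e F (m + 3) (m + 1) ᵥ* V = e F (m + 3) (m + 1) + e F (m + 3) (m + 2) - e F (m + 3) 0
  hφ : (e F (m + 3) (m + 2) ᵥ* V') ⬝ᵥ e F (m + 3) 0 = φ₀
  hφ0 : φ₀ ≠ 0

variable {H : Subgroup (Matrix.SpecialLinearGroup (Fin (m + 3)) F)}
  {U' V V' : Matrix (Fin (m + 3)) (Fin (m + 3)) F} {φ₀ : F}

theorem Setup.el_vecMul_U' (S : Setup H U' V V' φ₀) : ε (m + 2) ᵥ* U' = ε (m + 2) :=
  vecMul_inv_of S.hUU' (by rw [vecMul_Um, v2, add_zero])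

theorem Setup.W_U (S : Setup H U' V V' φ₀) {w : Fin (m + 3) → F} (h : InW H (ε (m + 2)) w) :
    InW H (ε (m + 2)) (Um F (m + 3) *ᵥ w) := by
  have h1 := InW.conj S.hU S.hUU' h
  rw [S.el_vecMul_U'] at h1
  exact h1

theorem Setup.W_N (S : Setup H U' V V' φ₀) {w : Fin (m + 3) → F} (h : InW H (ε (m + 2)) w) :
    InW H (ε (m + 2)) (Nm F (m + 3) *ᵥ w) := by
  have h1 := (S.W_U h).sub h
  rw [Um_mulVec, add_sub_cancel_left] at h1
  exact h1

theorem Setup.W_Npow (S : Setup H U' V V' φ₀) (k : ℕ) {w : Fin (m + 3) → F}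
    (h : InW H (ε (m + 2)) w) : InW H (ε (m + 2)) ((Nm F (m + 3)) ^ k *ᵥ w) := by
  induction k with
  | zero => rw [pow_zero, one_mulVec]; exact h
  | succ k ih => rw [pow_succ', ← mulVec_mulVec]; exact S.W_N ih

theorem Setup.W_key (S : Setup H U' V V' φ₀) {s s' : F} (hs : InW H (ε (m + 2)) (s • ε 0))
    (hs' : InW H (ε (m + 2)) (s' • ε 0)) :
    InW H (ε (m + 2)) ((-(s * φ₀)) • s' • (ε 0 - ε (m + 1))) := by
  have hb := InW.conj S.hV S.hVV' hs'
  rw [mulVec_smul, S.hV0] at hb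
  have h3 : ε (m + 2) ⬝ᵥ (s' • (ε 0 - ε (m + 1))) = 0 := by
    rw [dotProduct_smul, dotProduct_sub, e_dot_e_ne F (m + 3) (m + 2) 0 (by omega),
      e_dot_e_ne F (m + 3) (m + 2) (m + 1) (by omega), sub_zero, smul_zero]
  have h4 := InW.comm hs hb h3
  rw [dotProduct_smul, S.hφ, smul_eq_mul] at h4
  exact h4

theorem Setup.S_mul (S : Setup H U' V V' φ₀) {s s' : F} (hs : InW H (ε (m + 2)) (s • ε 0))
    (hs' : InW H (ε (m + 2)) (s' • ε 0)) : InW H (ε (m + 2)) ((s * φ₀ * s') • ε 0) := by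
  have h1 := S.W_Npow (m + 1) (S.W_key hs hs')
  have p0 : (Nm F (m + 3)) ^ (m + 1) *ᵥ ε 0 = 0 :=
    Nm_pow_mulVec_e_lt F (m + 3) (m + 1) 0 (by omega) (by omega)
  have p1 : (Nm F (m + 3)) ^ (m + 1) *ᵥ ε (m + 1) = ε 0 := by
    have := Nm_pow_mulVec_e F (m + 3) (m + 1) (m + 1) (by omega) le_rfl
    rw [Nat.sub_self] at this
    exact this
  rw [mulVec_smul, mulVec_smul, mulVec_sub, p0, p1] at h1
  have e1 : (-(s * φ₀)) • s' • ((0 : Fin (m + 3) → F) - ε 0) = (s * φ₀ * s') • ε 0 := by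
    module
  rw [e1] at h1
  exact h1

theorem Setup.S_all (S : Setup H U' V V' φ₀) (ζ : F)
    (hζ : ∀ x : F, x ≠ 0 → ∃ k : ℕ, x = ζ ^ (k + 1))
    (hX : MemM H (T ((φ₀⁻¹ * ζ) • ε 0) (ε (m + 2)))) : ∀ t : F, InW H (ε (m + 2)) (t • ε 0) := by
  have hd : ∀ t : F, ε (m + 2) ⬝ᵥ (t • ε 0) = 0 := fun t => by
    rw [dotProduct_smul, e_dot_e_ne F (m + 3) (m + 2) 0 (by omega), smul_zero]
  have hX' : InW H (ε (m + 2)) ((φ₀⁻¹ * ζ) • ε 0) := ⟨hd _, hX⟩
  have hS : ∀ k : ℕ, InW H (ε (m + 2)) ((φ₀⁻¹ * ζ ^ (k + 1)) • ε 0) := by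
    intro k
    induction k with
    | zero => rw [zero_add, pow_one]; exact hX'
    | succ k ih =>
      have h1 := S.S_mul ih hX'
      have e1 : φ₀⁻¹ * ζ ^ (k + 1) * φ₀ * (φ₀⁻¹ * ζ) = φ₀⁻¹ * ζ ^ (k + 1 + 1) := by
        calc φ₀⁻¹ * ζ ^ (k + 1) * φ₀ * (φ₀⁻¹ * ζ)
            = φ₀⁻¹ * ζ ^ (k + 1) * ζ * (φ₀ * φ₀⁻¹) := by ring
          _ = φ₀⁻¹ * ζ ^ (k + 1 + 1) := by
            rw [mul_inv_cancel₀ S.hφ0, mul_one, pow_succ ζ (k + 1), mul_assoc]
      rw [e1] at h1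
      exact h1
  intro t
  by_cases ht : t = 0
  · rw [ht, zero_smul]
    exact InW.zero _
  · obtain ⟨k, hk⟩ := hζ (φ₀ * t) (mul_ne_zero S.hφ0 ht)
    have e2 : t = φ₀⁻¹ * ζ ^ (k + 1) := by
      rw [← hk, ← mul_assoc, inv_mul_cancel₀ S.hφ0, one_mul]
    rw [e2]
    exact hS k

theorem Setup.W_all (S : Setup H U' V V' φ₀) (h0 : ∀ t : F, InW H (ε (m + 2)) (t • ε 0)) :
    ∀ w : Fin (m + 3) → F, ε (m + 2) ⬝ᵥ w = 0 → InW H (ε (m + 2)) w := by
  have h1 : ∀ t : F, InW H (ε (m + 2)) (t • ε (m + 1)) := by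
    intro t
    have hk := S.W_key (h0 (-φ₀⁻¹)) (h0 t)
    have hc : (-(-φ₀⁻¹ * φ₀)) = (1 : F) := by rw [neg_mul, neg_neg, inv_mul_cancel₀ S.hφ0]
    rw [hc, one_smul] at hk
    have h2 := (h0 t).sub hk
    have e1 : t • ε 0 - t • (ε 0 - ε (m + 1)) = t • ε (m + 1) := by module
    rw [e1] at h2
    exact h2
  have h2 : ∀ k, k ≤ m + 1 → ∀ t : F, InW H (ε (m + 2)) (t • ε k) := by
    intro k hk t
    have h3 := S.W_Npow (m + 1 - k) (h1 t)
    rw [mulVec_smul, Nm_pow_mulVec_e F (m + 3) (m + 1 - k) (m + 1) (by omega) (by omega)] at h3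
    have e1 : m + 1 - (m + 1 - k) = k := by omega
    rw [e1] at h3
    exact h3
  intro w hw
  have hsum : w = ∑ i : Fin (m + 3), w i • ε (i : ℕ) := by
    funext j
    rw [Finset.sum_apply]
    simp only [Pi.smul_apply, e_apply, smul_eq_mul, mul_ite, mul_one, mul_zero]
    rw [Finset.sum_eq_single j]
    · rw [if_pos rfl]
    · intro b _ hb
      rw [if_neg]
      intro h
      exact hb (Fin.ext h.symm)
    · intro h
      exact absurd (Finset.mem_univ j) h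
  rw [hsum]
  apply Finset.sum_induction _ (InW H (ε (m + 2))) (fun a b ha hb => ha.add hb) (InW.zero _)
  intro i _
  by_cases hi : (i : ℕ) = m + 2
  · have hwi : w i = 0 := by
      rw [e_dot F (m + 3) (m + 2) (by omega)] at hw
      have hi' : i = ⟨m + 2, by omega⟩ := Fin.ext hi
      rw [hi']
      exact hw
    rw [hwi, zero_smul]
    exact InW.zero _
  · exact h2 _ (by have := i.2; omega) _

theorem Setup.Ax_all (S : Setup H U' V V' φ₀) (hU' : MemM H U') (hV' : MemM H V')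
    (h : Ax H (ε (m + 2))) : ∀ j, j < m + 3 → Ax H (ε j) := by
  have hU'U : U' * Um F (m + 3) = 1 := mul_eq_one_comm.mp S.hUU'
  have hV'V : V' * V = 1 := mul_eq_one_comm.mp S.hVV'
  have a1 : Ax H (ε 1) := by
    have h1 := h.conj hV' hV'V
    rw [S.hV2] at h1
    have h2 := h1.add_smul h (-ε 1)
      (by rw [dotProduct_neg, e_dot_e_ne F (m + 3) (m + 2) 1 (by omega), neg_zero])
    have e1 : ε (m + 2) + ε 1 + ((ε (m + 2) + ε 1) ⬝ᵥ (-ε 1)) • ε (m + 2) = ε 1 := by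
      simp (disch := omega) only [dotProduct_neg, add_dotProduct, e_dot_e_self, e_dot_e_ne]
      module
    rw [e1] at h2
    exact h2
  have hsucc : ∀ j, j + 2 < m + 3 → Ax H (ε (j + 1)) → Ax H (ε (j + 2)) := by
    intro j hj hA
    have h1 : Ax H (ε (j + 1) + ε (j + 2)) := by
      have h1 := hA.conj hU' hU'U
      rw [e_vecMul_Um] at h1
      exact h1
    have h2 := h1.add_smul hA (-ε (j + 2))
      (by rw [dotProduct_neg, e_dot_e_ne F (m + 3) (j + 1) (j + 2) (by omega), neg_zero])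
    have e1 : ε (j + 1) + ε (j + 2) + ((ε (j + 1) + ε (j + 2)) ⬝ᵥ (-ε (j + 2))) • ε (j + 1)
        = ε (j + 2) := by
      simp (disch := omega) only [dotProduct_neg, add_dotProduct, e_dot_e_self, e_dot_e_ne]
      module
    rw [e1] at h2
    exact h2
  have hpos : ∀ j, j + 1 < m + 3 → Ax H (ε (j + 1)) := by
    intro j
    induction j with
    | zero => intro _; exact a1
    | succ j ih => intro hj; exact hsucc j hj (ih (by omega))
  have a0 : Ax H (ε 0) := by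
    have h1 := (hpos m (by omega)).conj hV' hV'V
    rw [S.hV1] at h1
    have h2 := h1.add_smul h (-ε (m + 1))
      (by rw [dotProduct_neg, e_dot_e_ne F (m + 3) (m + 2) (m + 1) (by omega), neg_zero])
    have e2 : ε (m + 1) + ε (m + 2) - ε 0
        + ((ε (m + 1) + ε (m + 2) - ε 0) ⬝ᵥ (-ε (m + 1))) • ε (m + 2) = ε (m + 1) - ε 0 := by
      simp (disch := omega) only [dotProduct_neg, add_dotProduct, sub_dotProduct, e_dot_e_self,
        e_dot_e_ne]
      module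
    rw [e2] at h2
    have h3 := h2.add_smul (hpos m (by omega)) (ε 0)
      (e_dot_e_ne F (m + 3) (m + 1) 0 (by omega))
    have e3 : ε (m + 1) - ε 0 + ((ε (m + 1) - ε 0) ⬝ᵥ ε 0) • ε (m + 1) = -ε 0 := by
      simp (disch := omega) only [sub_dotProduct, e_dot_e_self, e_dot_e_ne]
      module
    rw [e3] at h3
    have h4 := h3.smul (-1)
    rw [smul_neg, neg_smul, one_smul, neg_neg] at h4
    exact h4
  intro j hj
  cases j with
  | zero => exact a0
  | succ j => exact hpos j hj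

theorem Setup.transvection_mem (S : Setup H U' V V' φ₀) (hU' : MemM H U') (hV' : MemM H V')
    (ζ : F) (hζ : ∀ x : F, x ≠ 0 → ∃ k : ℕ, x = ζ ^ (k + 1))
    (hX : MemM H (T ((φ₀⁻¹ * ζ) • ε 0) (ε (m + 2)))) (i j : Fin (m + 3)) (hij : i ≠ j) (c : F) :
    Matrix.SpecialLinearGroup.transvection hij c ∈ H := by
  have hW := S.W_all (S.S_all ζ hζ hX)
  have hA := S.Ax_all hU' hV' (Ax.of_InW hW)
  apply MemM.mem
  rw [transvection_coe_eq_T' F (m + 3) i j hij c]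
  apply hA (j : ℕ) j.2
  rw [dotProduct_smul, e_dot_e_ne F (m + 3) (j : ℕ) (i : ℕ) (fun h => hij (Fin.ext h.symm)),
    smul_zero]

end setup

end Cfsg.Agent.Lib.Helper13.RegUni
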