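import Mathlib
import Cfsg.Agent.Lib.Helper13.RegUniB

set_option autoImplicit false

/-!
Generation of `SL_3(F)` by a regular unipotent element, a long root element and a torus element:
abstract criterion `gen3`, plus a field generation lemma.
-/

namespace Cfsg.Agent.Lib.Helper13.RegUni

open Matrix

section general

variable {F : Type*} [Field F] {ι : Type*} [Fintype ι] [DecidableEq ι]
variable {H : Subgroup (Matrix.SpecialLinearGroup ι F)}

theorem MemM.pow {A : Matrix ι ι F} (hA : MemM H A) (k : ℕ) : MemM H (A ^ k) := by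
  induction k with
  | zero => rw [pow_zero]; exact MemM.one
  | succ k ih => rw [pow_succ]; exact ih.mul hA

theorem T_smul_right (c : F) (a α : ι → F) : T a (c • α) = T (c • a) α := by
  rw [T, T, vecMulVec_smul, smul_vecMulVec]

theorem InW.of_smul {c : F} {α w : ι → F} (h : InW H (c • α) w) : InW H α (c • w) :=
  ⟨by rw [dotProduct_smul, ← smul_dotProduct]; exact h.1, by rw [← T_smul_right]; exact h.2⟩

end general

section fieldgen

variable {F : Type*} [Field F] [Fintype F]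

/-- multipliers stabilizing an additive subgroup -/
def stab (S : AddSubgroup F) : Set F := {k | ∀ x ∈ S, k * x ∈ S}

theorem stab_mul {S : AddSubgroup F} {a b : F} (ha : a ∈ stab S) (hb : b ∈ stab S) :
    a * b ∈ stab S := fun x hx => by rw [mul_assoc]; exact ha _ (hb x hx)

theorem stab_one (S : AddSubgroup F) : (1 : F) ∈ stab S := fun x hx => by rw [one_mul]; exact hx

theorem stab_zero (S : AddSubgroup F) : (0 : F) ∈ stab S :=
  fun x _ => by rw [zero_mul]; exact S.zero_mem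

theorem stab_pow {S : AddSubgroup F} {a : F} (ha : a ∈ stab S) (k : ℕ) : a ^ k ∈ stab S := by
  induction k with
  | zero => rw [pow_zero]; exact stab_one S
  | succ k ih => rw [pow_succ]; exact stab_mul ih ha

theorem stab_inv {S : AddSubgroup F} {a : F} (ha : a ∈ stab S) : a⁻¹ ∈ stab S := by
  by_cases h0 : a = 0
  · rw [h0, _root_.inv_zero]; exact stab_zero S
  · have hq : 2 ≤ Fintype.card F := Fintype.one_lt_card
    have h1 : a * a ^ (Fintype.card F - 2) = 1 := by
      rw [← pow_succ', (show Fintype.card F - 2 + 1 = Fintype.card F - 1 by omega),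
        FiniteField.pow_card_sub_one_eq_one a h0]
    rw [inv_eq_of_mul_eq_one_right h1]
    exact stab_pow ha _

/-- the multipliers stabilizing an additive subgroup form a subfield -/
def stabSubfield (S : AddSubgroup F) : Subfield F where
  carrier := stab S
  mul_mem' := fun ha hb => stab_mul ha hb
  one_mem' := stab_one S
  add_mem' := fun {a b} ha hb x hx => by rw [add_mul]; exact S.add_mem (ha x hx) (hb x hx)
  zero_mem' := stab_zero S
  neg_mem' := fun {a} ha x hx => by rw [neg_mul]; exact S.neg_mem (ha x hx)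
  inv_mem' := fun _ ha => stab_inv ha

theorem mem_stabSubfield (S : AddSubgroup F) (k : F) :
    k ∈ stabSubfield S ↔ ∀ x ∈ S, k * x ∈ S := Iff.rfl

/-- If `ζ` has order `q - 1` and `q ≠ 4`, an additive subgroup of `F` stable under
multiplication by `ζ ^ 3` with a nonzero element is everything. -/
theorem addSubgroup_eq_top_of_cube (ζ : F) (hζ0 : ζ ≠ 0) (hord : orderOf ζ = Fintype.card F - 1)
    (h4 : Fintype.card F ≠ 4) (S : AddSubgroup F) (hS : ∀ x ∈ S, ζ ^ 3 * x ∈ S)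
    (hne : ∃ x ∈ S, x ≠ 0) : S = ⊤ := by
  classical
  obtain ⟨K, hK⟩ : ∃ K : Subfield F, ∀ k, k ∈ K ↔ ∀ x ∈ S, k * x ∈ S :=
    ⟨stabSubfield S, mem_stabSubfield S⟩
  have hζK : ζ ^ 3 ∈ K := (hK _).2 hS
  suffices htop : ∀ k : F, k ∈ K by
    obtain ⟨x₀, hx₀, hne₀⟩ := hne
    rw [eq_top_iff]
    intro y _
    have h1 := (hK (y * x₀⁻¹)).1 (htop _) x₀ hx₀
    rw [mul_assoc, inv_mul_cancel₀ hne₀, mul_one] at h1
    exact h1
  haveI : Fintype ↥K := Fintype.ofFinite _
  obtain ⟨m, hm⟩ : ∃ m, m = Fintype.card ↥K := ⟨_, rfl⟩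
  obtain ⟨q, hq⟩ : ∃ q, q = Fintype.card F := ⟨_, rfl⟩
  have hm2 : 2 ≤ m := by rw [hm]; exact Fintype.one_lt_card
  have hq2 : 2 ≤ q := by rw [hq]; exact Fintype.one_lt_card
  obtain ⟨d, hd⟩ : ∃ d, d = Module.finrank ↥K F := ⟨_, rfl⟩
  have hcard : q = m ^ d := by rw [hq, hm, hd]; exact Module.card_eq_pow_finrank
  have hz : (⟨ζ ^ 3, hζK⟩ : ↥K) ≠ 0 := by
    intro h
    have h1 := congrArg Subtype.val h
    exact hζ0 (pow_eq_zero_iff (by norm_num) |>.mp h1)
  have h1 := FiniteField.pow_card_sub_one_eq_one (⟨ζ ^ 3, hζK⟩ : ↥K) hz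
  have h1' : (ζ ^ 3) ^ (m - 1) = 1 := by
    have h2 := congrArg Subtype.val h1
    rw [hm]
    exact h2
  have hdvd : q - 1 ∣ 3 * (m - 1) := by
    rw [hq, ← hord]
    apply orderOf_dvd_of_pow_eq_one
    rw [pow_mul]
    exact h1'
  have hle : q - 1 ≤ 3 * (m - 1) := Nat.le_of_dvd (by omega) hdvd
  have hd1 : d = 1 := by
    rcases Nat.lt_or_ge d 2 with hlt | hge
    · interval_cases d
      · rw [pow_zero] at hcard; omega
      · rfl
    · exfalso
      have h3 : m ^ 2 ≤ q := by rw [hcard]; exact Nat.pow_le_pow_right (by omega) hge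
      rw [pow_two] at h3
      have hm_eq : m = 2 := by
        by_contra hne2
        have h5 : 3 ≤ m := by omega
        have h6 := Nat.mul_le_mul_right m h5
        omega
      rw [hm_eq] at h3 hle
      have : q = 4 := by omega
      exact h4 (by rw [← hq]; exact this)
  rw [hd1, pow_one] at hcard
  have hbij : Function.Bijective (Subtype.val : ↥K → F) :=
    (Fintype.bijective_iff_injective_and_card _).2
      ⟨Subtype.val_injective, by rw [← hm, ← hq, hcard]⟩
  intro k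
  obtain ⟨x, hx⟩ := hbij.2 k
  rw [← hx]
  exact x.2

end fieldgen

section gen3

variable {F : Type*} [Field F]

local notation "ε" => e F 3

theorem vec3_decomp (w : Fin 3 → F) : w = w 0 • ε 0 + w 1 • ε 1 + w 2 • ε 2 := by
  funext i
  fin_cases i <;> simp [e_apply]

/-- Generation criterion for `SL_3(F)`. -/
theorem gen3 {H : Subgroup (Matrix.SpecialLinearGroup (Fin 3) F)}
    (Um Um' Sg Sg' : Matrix (Fin 3) (Fin 3) F)
    (hU : MemM H Um) (hUU' : Um * Um' = 1) (hS : MemM H Sg) (hSS' : Sg * Sg' = 1)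
    (s : F) (hs : s ≠ 0) (hτ : MemM H (T (s • ε 0) (ε 2)))
    (hU0 : Um *ᵥ ε 0 = ε 0 + ε 1)
    (β2 : F) (hβ : ε 2 ᵥ* Um' = ε 0 - ε 1 + β2 • ε 2)
    (ρ2 : F) (hU2 : ε 2 ᵥ* Um = ε 1 + ρ2 • ε 2)
    (π1 π2 : F) (hU1 : ε 1 ᵥ* Um = ε 0 + π1 • ε 1 + π2 • ε 2)
    (a0 a1 b2 : F) (hS0 : Sg *ᵥ ε 0 = a0 • ε 0) (hS1 : Sg *ᵥ ε 1 = a1 • ε 1)
    (hS2 : ε 2 ᵥ* Sg' = b2 • ε 2) (hb2a0 : b2 * a0 = 1) (hc3 : b2 * a1 ≠ 1)
    (hgen : ∀ S : AddSubgroup F, (∀ x ∈ S, (b2 * a1) * x ∈ S) → (∃ x ∈ S, x ≠ 0) → S = ⊤)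
    (i j : Fin 3) (hij : i ≠ j) (c : F) :
    Matrix.SpecialLinearGroup.transvection hij c ∈ H := by
  have d20 : ε 2 ⬝ᵥ ε 0 = 0 := e_dot_e_ne F 3 2 0 (by omega)
  have d21 : ε 2 ⬝ᵥ ε 1 = 0 := e_dot_e_ne F 3 2 1 (by omega)
  have d10 : ε 1 ⬝ᵥ ε 0 = 0 := e_dot_e_ne F 3 1 0 (by omega)
  have hU' : MemM H Um' := hU.inv_of_mul_eq_one hUU'
  have hU'U : Um' * Um = 1 := mul_eq_one_comm.mp hUU'
  obtain ⟨β, hβdef⟩ : ∃ β : Fin 3 → F, β = ε 0 - ε 1 + β2 • ε 2 := ⟨_, rfl⟩
  have hβ0 : β ⬝ᵥ ε 0 = 1 := by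
    rw [hβdef]
    simp (disch := omega) only [add_dotProduct, sub_dotProduct, smul_dotProduct, e_dot_e_self,
      e_dot_e_ne, smul_eq_mul]
    ring
  have hβ1 : β ⬝ᵥ ε 1 = -1 := by
    rw [hβdef]
    simp (disch := omega) only [add_dotProduct, sub_dotProduct, smul_dotProduct, e_dot_e_self,
      e_dot_e_ne, smul_eq_mul]
    ring
  rw [← hβdef] at hβ
  -- step 1, 2
  have h1 : InW H (ε 2) (s • ε 0) := ⟨by rw [dotProduct_smul, d20, smul_zero], hτ⟩
  have h2 : InW H β (s • (ε 0 + ε 1)) := by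
    have h := InW.conj hU hUU' h1
    rw [hβ, mulVec_smul, hU0] at h
    exact h
  have h3 : ε 2 ⬝ᵥ (s • (ε 0 + ε 1)) = 0 := by
    rw [dotProduct_smul, dotProduct_add, d20, d21, add_zero, smul_zero]
  -- the torus action
  have hΦ : ∀ x y : F, InW H (ε 2) (x • ε 0 + y • ε 1) →
      InW H (ε 2) (x • ε 0 + ((b2 * a1) * y) • ε 1) := by
    intro x y hw
    have h := InW.conj hS hSS' hw
    rw [hS2] at h
    have h' := h.of_smul
    rw [mulVec_add, mulVec_smul, mulVec_smul, hS0, hS1] at h'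
    have e1 : b2 • (x • a0 • ε 0 + y • a1 • ε 1)
        = (b2 * a0 * x) • ε 0 + ((b2 * a1) * y) • ε 1 := by module
    rw [e1, hb2a0, one_mul] at h'
    exact h'
  -- step 3
  have h4 := InW.comm h1 h2 h3
  rw [dotProduct_smul, hβ0, smul_eq_mul, mul_one] at h4
  have h4' : InW H (ε 2) ((-(s * s)) • ε 0 + (-(s * s)) • ε 1) := by
    have e1 : (-s) • s • (ε 0 + ε 1) = (-(s * s)) • ε 0 + (-(s * s)) • ε 1 := by module
    rw [e1] at h4
    exact h4
  have h5 := (hΦ _ _ h4').sub h4'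
  have e5 : (-(s * s)) • ε 0 + ((b2 * a1) * (-(s * s))) • ε 1
      - ((-(s * s)) • ε 0 + (-(s * s)) • ε 1) = ((1 - b2 * a1) * (s * s)) • ε 1 := by module
  rw [e5] at h5
  -- step 5
  have hall1 : ∀ y : F, InW H (ε 2) (y • ε 1) := by
    obtain ⟨S, hSdef⟩ : ∃ S : AddSubgroup F, ∀ y, y ∈ S ↔ InW H (ε 2) (y • ε 1) :=
      ⟨{ carrier := {y | InW H (ε 2) (y • ε 1)}
         zero_mem' := by
           show InW H (ε 2) ((0 : F) • ε 1)
           rw [zero_smul]; exact InW.zero _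
         add_mem' := by
           intro a b ha hb
           show InW H (ε 2) ((a + b) • ε 1)
           rw [add_smul]; exact InW.add ha hb
         neg_mem' := by
           intro a ha
           show InW H (ε 2) ((-a) • ε 1)
           rw [neg_smul]; exact InW.neg ha }, fun y => Iff.rfl⟩
    have hclosed : ∀ x ∈ S, (b2 * a1) * x ∈ S := by
      intro x hx
      rw [hSdef] at hx ⊢
      have h := hΦ 0 x (by rw [zero_smul, zero_add]; exact hx)
      rw [zero_smul, zero_add] at h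
      exact h
    have hne : ∃ x ∈ S, x ≠ 0 :=
      ⟨(1 - b2 * a1) * (s * s), (hSdef _).2 h5,
        mul_ne_zero (sub_ne_zero.mpr (Ne.symm hc3)) (mul_ne_zero hs hs)⟩
    have htop := hgen S hclosed hne
    intro y
    rw [← hSdef, htop]
    exact AddSubgroup.mem_top y
  -- step 6
  have hall01 : ∀ t : F, InW H (ε 2) (t • (ε 0 + ε 1)) := by
    intro t
    have h := InW.comm (hall1 (t * s⁻¹)) h2 h3
    rw [dotProduct_smul, hβ1, smul_eq_mul, mul_neg, mul_one, neg_neg, smul_smul,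
      inv_mul_cancel_right₀ hs] at h
    exact h
  have hall0 : ∀ t : F, InW H (ε 2) (t • ε 0) := by
    intro t
    have h := (hall01 t).sub (hall1 t)
    have e1 : t • (ε 0 + ε 1) - t • ε 1 = t • ε 0 := by module
    rw [e1] at h
    exact h
  -- step 7
  have hA2 : Ax H (ε 2) := by
    apply Ax.of_InW
    intro w hw
    rw [e_dot F 3 2 (by omega)] at hw
    have hw2 : w 2 = 0 := hw
    rw [vec3_decomp w, hw2, zero_smul, add_zero]
    exact (hall0 _).add (hall1 _)
  -- step 8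
  have hA1 : Ax H (ε 1) := by
    have h := hA2.conj hU' hU'U
    rw [hU2] at h
    have h' := h.add_smul hA2 ((-ρ2) • ε 1) (by rw [dotProduct_smul, d21, smul_zero])
    have e1 : ε 1 + ρ2 • ε 2 + ((ε 1 + ρ2 • ε 2) ⬝ᵥ ((-ρ2) • ε 1)) • ε 2 = ε 1 := by
      simp (disch := omega) only [dotProduct_smul, add_dotProduct, smul_dotProduct, e_dot_e_self,
        e_dot_e_ne, smul_eq_mul]
      module
    rw [e1] at h'
    exact h'
  have hA0 : Ax H (ε 0) := by
    have h := hA1.conj hU' hU'U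
    rw [hU1] at h
    have h' := h.add_smul hA2 ((-π2) • ε 0) (by rw [dotProduct_smul, d20, smul_zero])
    have e1 : ε 0 + π1 • ε 1 + π2 • ε 2 + ((ε 0 + π1 • ε 1 + π2 • ε 2) ⬝ᵥ ((-π2) • ε 0)) • ε 2
        = ε 0 + π1 • ε 1 := by
      simp (disch := omega) only [dotProduct_smul, add_dotProduct, smul_dotProduct, e_dot_e_self,
        e_dot_e_ne, smul_eq_mul]
      module
    rw [e1] at h'
    have h'' := h'.add_smul hA1 ((-π1) • ε 0) (by rw [dotProduct_smul, d10, smul_zero])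
    have e2 : ε 0 + π1 • ε 1 + ((ε 0 + π1 • ε 1) ⬝ᵥ ((-π1) • ε 0)) • ε 1 = ε 0 := by
      simp (disch := omega) only [dotProduct_smul, add_dotProduct, smul_dotProduct, e_dot_e_self,
        e_dot_e_ne, smul_eq_mul]
      module
    rw [e2] at h''
    exact h''
  have hA : ∀ k, k < 3 → Ax H (ε k) := by
    intro k hk
    interval_cases k
    · exact hA0
    · exact hA1
    · exact hA2
  apply MemM.mem
  rw [transvection_coe_eq_T' F 3 i j hij c]
  apply hA (j : ℕ) j.2
  rw [dotProduct_smul, e_dot_e_ne F 3 (j : ℕ) (i : ℕ) (fun h => hij (Fin.ext h.symm)), smul_zero]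

end gen3

end Cfsg.Agent.Lib.Helper13.RegUni
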