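import Mathlib
import Cfsg.Agent.Lib.Helper13.RegUniD

set_option autoImplicit false

/-!
`SL_3(F)` is generated by two conjugate regular unipotent elements when `|F| ∉ {2, 4}`:
an explicit one-parameter family.
-/

namespace Cfsg.Agent.Lib.Helper13.RegUni

open Matrix

section lam

variable {F : Type*} [Field F]

local notation "ε" => e F 3

/-- the parameter `ν` -/
def nuL (l : F) : F := -((l - 1) * (l + 2)) / (l ^ 2 + l + 1)

/-- the regular unipotent element -/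
def ULm (l : F) : Matrix (Fin 3) (Fin 3) F :=
  !![1, 0, 0; 1, 1 + nuL l, -(nuL l) ^ 2; 0, 1, 1 - nuL l]

/-- its inverse -/
def ULm' (l : F) : Matrix (Fin 3) (Fin 3) F :=
  !![1, 0, 0; nuL l - 1, 1 - nuL l, (nuL l) ^ 2; 1, -1, 1 + nuL l]

/-- the conjugating element -/
def GLm (l : F) : Matrix (Fin 3) (Fin 3) F :=
  !![1 / l, -(l - 1) / l ^ 2, (l - 1) ^ 3 * (l + 1) / (l ^ 2 * (l ^ 2 + l + 1));
     0, l, (l - 1) * (2 * l ^ 2 + 2 * l - 1) / (l ^ 2 + l + 1);
     0, 0, 1]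

/-- the transvection coefficient -/
def sL (l : F) : F := (l - 1) ^ 3 / l ^ 3

/-- the commutator of `ULm` and `GLm` -/
def MLm (l : F) : Matrix (Fin 3) (Fin 3) F :=
  !![l, 0, -(l * sL l); 0, 1 / l ^ 2, 0; 0, 0, l]

/-- the torus element -/
def DLm (l : F) : Matrix (Fin 3) (Fin 3) F :=
  !![l, 0, 0; 0, 1 / l ^ 2, 0; 0, 0, l]

/-- the inverse torus element -/
def DLm' (l : F) : Matrix (Fin 3) (Fin 3) F :=
  !![1 / l, 0, 0; 0, l ^ 2, 0; 0, 0, 1 / l]

theorem UL_mul_ULm' (l : F) : ULm l * ULm' l = 1 := by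
  ext i j
  fin_cases i <;> fin_cases j <;>
    simp [ULm, ULm', Matrix.mul_apply, Fin.sum_univ_three] <;> ring

theorem det_UL (l : F) : (ULm l).det = 1 := by
  rw [Matrix.det_fin_three]
  simp [ULm]
  ring

theorem det_GL (l : F) (hl : l ≠ 0) : (GLm l).det = 1 := by
  rw [Matrix.det_fin_three]
  simp [GLm]
  field_simp

theorem UL_GL (l : F) (hl : l ≠ 0) (hk : l ^ 2 + l + 1 ≠ 0) :
    ULm l * GLm l = MLm l * GLm l * ULm l := by
  obtain ⟨k, hkd⟩ : ∃ k, k = l ^ 2 + l + 1 := ⟨_, rfl⟩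
  have hk0 : k ≠ 0 := by rw [hkd]; exact hk
  ext i j
  fin_cases i <;> fin_cases j <;>
    simp [ULm, GLm, MLm, sL, nuL, Matrix.mul_apply, Fin.sum_univ_three] <;>
    (try rw [← hkd]) <;> (try field_simp) <;> (try rw [hkd]) <;> ring

theorem DLm'_mul_DL (l : F) (hl : l ≠ 0) : DLm' l * DLm l = 1 := by
  ext i j
  fin_cases i <;> fin_cases j <;>
    simp [DLm, DLm', Matrix.mul_apply, Fin.sum_univ_three] <;> field_simp

theorem ML_pow (l : F) (k : ℕ) :
    MLm l ^ k = !![l ^ k, 0, -((k : F) * l ^ k * sL l); 0, (1 / l ^ 2) ^ k, 0; 0, 0, l ^ k] := by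
  induction k with
  | zero =>
    ext i j
    fin_cases i <;> fin_cases j <;> simp
  | succ k ih =>
    rw [pow_succ, ih]
    ext i j
    fin_cases i <;> fin_cases j <;>
      simp [MLm, Matrix.mul_apply, Fin.sum_univ_three] <;> ring

theorem T_e0_e2 (s : F) : T (s • ε 0) (ε 2) = !![1, 0, s; 0, 1, 0; 0, 0, 1] := by
  ext i j
  fin_cases i <;> fin_cases j <;> simp [T, vecMulVec_apply, e_apply, Matrix.one_apply]

theorem ULm_sub_one (l : F) :
    ULm l - 1 = !![0, 0, 0; 1, nuL l, -(nuL l) ^ 2; 0, 1, -nuL l] := by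
  ext i j
  fin_cases i <;> fin_cases j <;> simp [ULm]

theorem UL_sub_one_pow_three (l : F) : (ULm l - 1) ^ 3 = 0 := by
  rw [ULm_sub_one, pow_succ, pow_succ, pow_one, Matrix.mul_fin_three, Matrix.mul_fin_three]
  ext i j
  fin_cases i <;> fin_cases j <;> simp <;> first | ring1 | (left; ring1)

theorem UL_sub_one_sq_ne (l : F) : (ULm l - 1) ^ 2 ≠ 0 := by
  rw [ULm_sub_one, pow_succ, pow_one, Matrix.mul_fin_three]
  intro h
  have h1 := congrFun (congrFun h 2) 0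
  simp at h1

theorem UL_mulVec_e0 (l : F) : ULm l *ᵥ ε 0 = ε 0 + ε 1 := by
  funext i
  fin_cases i <;> simp [ULm, Matrix.mulVec, dotProduct, Fin.sum_univ_three, e_apply]

theorem e2_vecMul_ULm' (l : F) : ε 2 ᵥ* ULm' l = ε 0 - ε 1 + (1 + nuL l) • ε 2 := by
  funext j
  fin_cases j <;> simp [ULm', Matrix.vecMul, dotProduct, Fin.sum_univ_three, e_apply]

theorem e2_vecMul_UL (l : F) : ε 2 ᵥ* ULm l = ε 1 + (1 - nuL l) • ε 2 := by
  funext j
  fin_cases j <;> simp [ULm, Matrix.vecMul, dotProduct, Fin.sum_univ_three, e_apply]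

theorem e1_vecMul_UL (l : F) :
    ε 1 ᵥ* ULm l = ε 0 + (1 + nuL l) • ε 1 + (-(nuL l) ^ 2) • ε 2 := by
  funext j
  fin_cases j <;> simp [ULm, Matrix.vecMul, dotProduct, Fin.sum_univ_three, e_apply]

theorem DLm'_mulVec_e0 (l : F) : DLm' l *ᵥ ε 0 = (1 / l) • ε 0 := by
  funext i
  fin_cases i <;> simp [DLm', Matrix.mulVec, dotProduct, Fin.sum_univ_three, e_apply]

theorem DLm'_mulVec_e1 (l : F) : DLm' l *ᵥ ε 1 = (l ^ 2) • ε 1 := by
  funext i
  fin_cases i <;> simp [DLm', Matrix.mulVec, dotProduct, Fin.sum_univ_three, e_apply]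

theorem e2_vecMul_DL (l : F) : ε 2 ᵥ* DLm l = l • ε 2 := by
  funext j
  fin_cases j <;> simp [DLm, Matrix.vecMul, dotProduct, Fin.sum_univ_three, e_apply]

theorem eq_of_mul_eq_mul_right_of_inv {X M Y Y' : Matrix (Fin 3) (Fin 3) F} (hY : Y * Y' = 1)
    (h : X * Y = M * Y) : X = M := by
  calc X = X * (Y * Y') := by rw [hY, mul_one]
    _ = (X * Y) * Y' := (mul_assoc _ _ _).symm
    _ = (M * Y) * Y' := by rw [h]
    _ = M * (Y * Y') := mul_assoc _ _ _
    _ = M := by rw [hY, mul_one]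

end lam

section main

variable {F : Type*} [Field F] [Fintype F]

local notation "ε" => e F 3

theorem ML_pow_card_sub_one (l : F) (hl : l ≠ 0) :
    MLm l ^ (Fintype.card F - 1) = T (sL l • ε 0) (ε 2) := by
  have hq : 1 ≤ Fintype.card F := Fintype.card_pos
  have h2 : (1 / l ^ 2 : F) ≠ 0 := one_div_ne_zero (pow_ne_zero _ hl)
  rw [ML_pow, T_e0_e2, FiniteField.pow_card_sub_one_eq_one l hl,
    FiniteField.pow_card_sub_one_eq_one _ h2, Nat.cast_sub hq, FiniteField.cast_card_eq_zero,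
    Nat.cast_one]
  ext i j
  fin_cases i <;> fin_cases j <;> simp

theorem ML_pow_card (l : F) : MLm l ^ (Fintype.card F) = DLm l := by
  rw [ML_pow, FiniteField.pow_card, FiniteField.pow_card, FiniteField.cast_card_eq_zero, DLm]
  ext i j
  fin_cases i <;> fin_cases j <;> simp

/-- `SL_3(F)` is generated by two conjugate regular unipotent elements if `|F| ∉ {2, 4}`. -/
theorem sl3_two_conj_generic (h2 : Fintype.card F ≠ 2) (h4 : Fintype.card F ≠ 4) :
    ∃ u g : Matrix.SpecialLinearGroup (Fin 3) F,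
      IsNilpotent ((u : Matrix (Fin 3) (Fin 3) F) - 1) ∧
      ((u : Matrix (Fin 3) (Fin 3) F) - 1) ^ (3 - 1) ≠ 0 ∧
      Subgroup.closure ({u, g * u * g⁻¹} : Set (Matrix.SpecialLinearGroup (Fin 3) F)) = ⊤ := by
  classical
  obtain ⟨z, hz⟩ := IsCyclic.exists_generator (α := Fˣ)
  obtain ⟨l, hldef⟩ : ∃ l : F, l = (z : F) := ⟨_, rfl⟩
  have hl0 : l ≠ 0 := by rw [hldef]; exact z.ne_zero
  have hq2 : 2 ≤ Fintype.card F := Fintype.one_lt_card
  have hord : orderOf l = Fintype.card F - 1 := by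
    rw [hldef, orderOf_units, orderOf_eq_card_of_forall_mem_zpowers hz, Nat.card_eq_fintype_card,
      Fintype.card_units]
  have hl3 : l ^ 3 ≠ 1 := by
    intro h
    have hdvd := orderOf_dvd_of_pow_eq_one h
    rw [hord] at hdvd
    rcases (Nat.dvd_prime Nat.prime_three).mp hdvd with h1 | h3
    · exact h2 (by omega)
    · exact h4 (by omega)
  have hl1 : l ≠ 1 := by
    intro h
    exact hl3 (by rw [h, one_pow])
  have hk : l ^ 2 + l + 1 ≠ 0 := by
    intro h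
    apply hl3
    have : l ^ 3 - 1 = (l - 1) * (l ^ 2 + l + 1) := by ring
    rw [h, mul_zero] at this
    exact sub_eq_zero.mp this
  have hs : sL l ≠ 0 :=
    div_ne_zero (pow_ne_zero _ (sub_ne_zero.mpr hl1)) (pow_ne_zero _ hl0)
  obtain ⟨u, hu_def⟩ : ∃ u : Matrix.SpecialLinearGroup (Fin 3) F,
      (u : Matrix (Fin 3) (Fin 3) F) = ULm l := ⟨⟨ULm l, det_UL l⟩, rfl⟩
  obtain ⟨g, hg_def⟩ : ∃ g : Matrix.SpecialLinearGroup (Fin 3) F,
      (g : Matrix (Fin 3) (Fin 3) F) = GLm l := ⟨⟨GLm l, det_GL l hl0⟩, rfl⟩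
  refine ⟨u, g, ?_, ?_, ?_⟩
  · rw [hu_def]
    exact ⟨3, UL_sub_one_pow_three l⟩
  · rw [hu_def]
    exact UL_sub_one_sq_ne l
  obtain ⟨H, hH⟩ : ∃ H : Subgroup (Matrix.SpecialLinearGroup (Fin 3) F),
      H = Subgroup.closure ({u, g * u * g⁻¹} :
        Set (Matrix.SpecialLinearGroup (Fin 3) F)) := ⟨_, rfl⟩
  rw [← hH]
  have hu : u ∈ H := by
    rw [hH]; exact Subgroup.subset_closure (by simp)
  have hv : g * u * g⁻¹ ∈ H := by
    rw [hH]; exact Subgroup.subset_closure (by simp)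
  have hm : u * g * u⁻¹ * g⁻¹ ∈ H := by
    have e1 : u * g * u⁻¹ * g⁻¹ = u * (g * u * g⁻¹)⁻¹ := by group
    rw [e1]
    exact H.mul_mem hu (H.inv_mem hv)
  have hM : MemM H (MLm l) := by
    obtain ⟨m, hm_def⟩ : ∃ m : Matrix.SpecialLinearGroup (Fin 3) F, m = u * g * u⁻¹ * g⁻¹ :=
      ⟨_, rfl⟩
    have h1 : MemM H (m : Matrix (Fin 3) (Fin 3) F) := by
      rw [hm_def]; exact MemM.of_mem hm
    have e1 : m * (g * u) = u * g := by rw [hm_def]; group
    have e2 : (m : Matrix (Fin 3) (Fin 3) F) *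
        ((g : Matrix (Fin 3) (Fin 3) F) * (u : Matrix (Fin 3) (Fin 3) F))
        = (u : Matrix (Fin 3) (Fin 3) F) * (g : Matrix (Fin 3) (Fin 3) F) := by
      rw [← Matrix.SpecialLinearGroup.coe_mul, ← Matrix.SpecialLinearGroup.coe_mul,
        ← Matrix.SpecialLinearGroup.coe_mul, e1]
    have e3 : ((g : Matrix (Fin 3) (Fin 3) F) * (u : Matrix (Fin 3) (Fin 3) F))
        * (((g * u)⁻¹ : Matrix.SpecialLinearGroup (Fin 3) F) : Matrix (Fin 3) (Fin 3) F) = 1 := by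
      rw [← Matrix.SpecialLinearGroup.coe_mul]
      exact coe_mul_coe_inv (g * u)
    have e5 : MLm l * ((g : Matrix (Fin 3) (Fin 3) F) * (u : Matrix (Fin 3) (Fin 3) F))
        = (u : Matrix (Fin 3) (Fin 3) F) * (g : Matrix (Fin 3) (Fin 3) F) := by
      rw [hu_def, hg_def, UL_GL l hl0 hk, mul_assoc]
    have e4 : (m : Matrix (Fin 3) (Fin 3) F) = MLm l :=
      eq_of_mul_eq_mul_right_of_inv e3 (e2.trans e5.symm)
    rw [e4] at h1
    exact h1
  have hτ : MemM H (T (sL l • ε 0) (ε 2)) := by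
    rw [← ML_pow_card_sub_one l hl0]
    exact hM.pow _
  have hD : MemM H (DLm l) := by
    rw [← ML_pow_card l]
    exact hM.pow _
  have hDD : DLm' l * DLm l = 1 := DLm'_mul_DL l hl0
  have hD' : MemM H (DLm' l) := hD.inv_of_mul_eq_one (mul_eq_one_comm.mp hDD)
  have hU : MemM H (ULm l) := by
    rw [← hu_def]; exact MemM.of_mem hu
  have htr := gen3 (H := H) (ULm l) (ULm' l) (DLm' l) (DLm l) hU (UL_mul_ULm' l) hD' hDD (sL l) hs hτ
    (UL_mulVec_e0 l) (1 + nuL l) (e2_vecMul_ULm' l) (1 - nuL l) (e2_vecMul_UL l)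
    (1 + nuL l) (-(nuL l) ^ 2) (e1_vecMul_UL l) (1 / l) (l ^ 2) l
    (DLm'_mulVec_e0 l) (DLm'_mulVec_e1 l) (e2_vecMul_DL l) (by field_simp)
    (by
      intro h
      apply hl3
      rw [← h]; ring)
    (fun S hS hne => addSubgroup_eq_top_of_cube l hl0 hord h4 S
      (by
        intro x hx
        have h := hS x hx
        rw [show l * l ^ 2 = l ^ 3 by ring] at h
        exact h) hne)
  rw [eq_top_iff]
  intro A _
  exact Cfsg.Agent.Lib.Helper15.SLn_transvection_induction (fun A => A ∈ H)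
    (fun i j hij c => htr i j hij c) (fun _ _ => H.mul_mem) A

end main

end Cfsg.Agent.Lib.Helper13.RegUni
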