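import Mathlib
import Cfsg.Agent.Lib.Helper13.RegUniE

set_option autoImplicit false

/-!
`SL_3(F)` for `|F| = 2` and `|F| = 4`: generation by two conjugate regular unipotent elements,
by explicit words (checked by `decide` in a model over `ZMod 2`).
-/

namespace Cfsg.Agent.Lib.Helper13.RegUni

open Matrix

section model

/-- model matrices over the prime field -/
abbrev M2 : Type := Matrix (Fin 3) (Fin 3) (ZMod 2)

/-- model of matrices over the field with four elements: `A + ω B` -/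
abbrev P4 : Type := M2 × M2

/-- product in the model, using `ω ^ 2 = ω + 1` -/
def pmul4 (x y : P4) : P4 := (x.1 * y.1 + x.2 * y.2, x.1 * y.2 + x.2 * y.1 + x.2 * y.2)

/-- unit of the model -/
def pone4 : P4 := (1, 0)

def U4 : P4 := (!![1, 1, 0; 0, 1, 1; 0, 0, 1], 0)
def V4 : P4 := (!![0, 0, 1; 0, 0, 1; 0, 0, 1], !![0, 1, 1; 1, 0, 0; 0, 1, 0])
def U4' : P4 := (!![1, 1, 1; 0, 1, 1; 0, 0, 1], 0)
def V4' : P4 := (!![0, 1, 0; 0, 0, 1; 1, 0, 1], !![1, 1, 1; 1, 0, 0; 1, 0, 1])
def G4 : P4 := (!![1, 1, 0; 0, 1, 0; 0, 0, 1], !![0, 1, 0; 0, 0, 0; 1, 0, 0])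
def G4' : P4 := (!![1, 1, 0; 0, 1, 0; 0, 1, 1], !![0, 1, 0; 0, 0, 0; 1, 0, 0])

/-- the four letters `u, v, u⁻¹, v⁻¹` -/
def gen4 : Fin 4 → P4 := ![U4, V4, U4', V4']

/-- evaluation of a word in the model -/
def word4 (L : List (Fin 4)) : P4 := (L.map gen4).foldr pmul4 pone4

/-- words for the root elements `x_{ij}(1)` (`false`) and `x_{ij}(ω)` (`true`) -/
def tbl4 : Fin 3 → Fin 3 → Bool → List (Fin 4) :=
  ![![fun _ => [],
      fun b => if b then [0, 1, 0, 0, 3, 0, 1, 1, 0, 3, 0, 3, 2]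
        else [0, 1, 0, 0, 3, 0, 0, 1, 0, 0, 3],
      fun b => if b then [1, 0, 3, 2, 3, 0, 1] else [0, 0]],
    ![fun b => if b then [0, 0, 1, 1, 0, 3, 2, 3, 2] else [0, 0, 1, 0, 0, 3, 0, 0],
      fun _ => [],
      fun b => if b then [3, 0, 0, 3, 0, 1, 1, 2, 1, 0, 0, 1]
        else [0, 0, 1, 0, 0, 3, 0, 0, 1, 0, 0, 3]],
    ![fun b => if b then [3, 0, 1, 1, 2, 1] else [0, 1, 2, 1, 0, 0, 3, 0, 3, 2],
      fun b => if b then [0, 1, 0, 1, 1, 0, 3, 2, 1, 1, 2] else [0, 1, 0, 1, 0, 0, 3, 2, 3, 2],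
      fun _ => []]]

set_option maxRecDepth 1000000 in
theorem tbl4_spec : ∀ i j : Fin 3, i ≠ j →
    word4 (tbl4 i j false) = (1 + Matrix.single i j 1, 0) ∧
    word4 (tbl4 i j true) = (1, Matrix.single i j 1) := by
  decide

theorem model4_facts : pmul4 U4 U4' = pone4 ∧ pmul4 V4 V4' = pone4 ∧ pmul4 G4 G4' = pone4 ∧
    pmul4 (pmul4 G4 U4) G4' = V4 := by
  decide

def U2 : M2 := !![1, 1, 0; 0, 1, 1; 0, 0, 1]
def V2 : M2 := !![1, 0, 0; 1, 1, 0; 0, 1, 1]
def U2' : M2 := !![1, 1, 1; 0, 1, 1; 0, 0, 1]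
def V2' : M2 := !![1, 0, 0; 1, 1, 0; 1, 1, 1]
def G2 : M2 := !![0, 0, 1; 0, 1, 0; 1, 0, 0]

/-- the four letters `u, v, u⁻¹, v⁻¹` -/
def gen2 : Fin 4 → M2 := ![U2, V2, U2', V2']

/-- evaluation of a word in the model -/
def word2 (L : List (Fin 4)) : M2 := (L.map gen2).foldr (· * ·) 1

/-- words for the root elements `x_{ij}(1)` -/
def tbl2 : Fin 3 → Fin 3 → List (Fin 4) :=
  ![![[], [1, 0, 1, 0, 0, 1], [0, 0]],
    ![[0, 1, 1, 0, 1, 0], [], [1, 0, 0, 1, 0, 1]],
    ![[1, 1], [0, 1, 0, 1, 1, 0], []]]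

theorem tbl2_spec : ∀ i j : Fin 3, i ≠ j → word2 (tbl2 i j) = 1 + Matrix.single i j 1 := by
  decide

theorem model2_facts : U2 * U2' = 1 ∧ V2 * V2' = 1 ∧ G2 * G2 = 1 ∧ G2 * U2 * G2 = V2 := by
  decide

end model

section small

variable {F : Type*} [Field F]

theorem memM_foldr {H : Subgroup (Matrix.SpecialLinearGroup (Fin 3) F)} {P : Type*}
    (val : P → Matrix (Fin 3) (Fin 3) F) (pmul : P → P → P) (pone : P)
    (hone : val pone = 1) (hmul : ∀ x y, val (pmul x y) = val x * val y)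
    (L : List P) (h : ∀ x ∈ L, MemM H (val x)) : MemM H (val (L.foldr pmul pone)) := by
  induction L with
  | nil => rw [List.foldr_nil, hone]; exact MemM.one
  | cons a L ih =>
    rw [List.foldr_cons, hmul]
    exact (h a List.mem_cons_self).mul (ih (fun x hx => h x (List.mem_cons_of_mem _ hx)))

theorem coe_inv_eq_of_mul_eq_one {g : Matrix.SpecialLinearGroup (Fin 3) F}
    {A' : Matrix (Fin 3) (Fin 3) F} (h : (g : Matrix (Fin 3) (Fin 3) F) * A' = 1) :
    ((g⁻¹ : Matrix.SpecialLinearGroup (Fin 3) F) : Matrix (Fin 3) (Fin 3) F) = A' := by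
  calc ((g⁻¹ : Matrix.SpecialLinearGroup (Fin 3) F) : Matrix (Fin 3) (Fin 3) F)
      = ((g⁻¹ : Matrix.SpecialLinearGroup (Fin 3) F) : Matrix (Fin 3) (Fin 3) F) *
          ((g : Matrix (Fin 3) (Fin 3) F) * A') := by rw [h, mul_one]
    _ = A' := by rw [← mul_assoc, coe_inv_mul_coe, one_mul]

theorem Um3_sub_one : Um F 3 - 1 = Nm F 3 := by rw [Um, add_sub_cancel_left]

theorem Um3_eq : Um F 3 = !![1, 1, 0; 0, 1, 1; 0, 0, 1] := by
  ext i j
  fin_cases i <;> fin_cases j <;> simp [Um, Nm_apply, Matrix.one_apply]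

variable [CharP F 2]

/-- cast of model matrices from the prime field -/
def cm : M2 →+* Matrix (Fin 3) (Fin 3) F := (ZMod.castHom (dvd_refl 2) F).mapMatrix

theorem cm_apply (A : M2) (i j : Fin 3) :
    cm (F := F) A i j = (ZMod.castHom (dvd_refl 2) F) (A i j) := rfl

theorem cm_one_add_single (i j : Fin 3) :
    cm (F := F) (1 + Matrix.single i j 1) = 1 + Matrix.single i j 1 := by
  rw [map_add, map_one, cm, RingHom.mapMatrix_apply, Matrix.map_single, map_one]

theorem cm_single (i j : Fin 3) : cm (F := F) (Matrix.single i j 1) = Matrix.single i j 1 := by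
  rw [cm, RingHom.mapMatrix_apply, Matrix.map_single, map_one]

/-- value of a model element -/
def pval4 (ω : F) (x : P4) : Matrix (Fin 3) (Fin 3) F := cm x.1 + ω • cm x.2

theorem pval4_one (ω : F) : pval4 ω pone4 = 1 := by
  simp [pval4, pone4]

theorem pval4_mul (ω : F) (hω : ω * ω = ω + 1) (x y : P4) :
    pval4 ω (pmul4 x y) = pval4 ω x * pval4 ω y := by
  simp only [pval4, pmul4, map_add, map_mul, add_mul, mul_add, smul_mul_assoc, mul_smul_comm,
    smul_smul, hω, add_smul, one_smul, smul_add]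
  abel

/-- the conjugating matrix for four elements -/
def G4F (ω : F) : Matrix (Fin 3) (Fin 3) F := !![1, 1 + ω, 0; 0, 1, 0; ω, 0, 1]

theorem det_G4F (ω : F) : (G4F ω).det = 1 := by
  rw [Matrix.det_fin_three]
  simp [G4F]

theorem pval4_G4 (ω : F) : pval4 ω G4 = G4F ω := by
  ext i j
  fin_cases i <;> fin_cases j <;> simp [pval4, G4, G4F, cm_apply]

theorem pval4_U4 (ω : F) : pval4 ω U4 = Um F 3 := by
  rw [Um3_eq]
  ext i j
  fin_cases i <;> fin_cases j <;> simp [pval4, U4, cm_apply]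

end small

section four

variable {F : Type*} [Field F] [Fintype F]

theorem exists_omega (h4 : Fintype.card F = 4) [CharP F 2] :
    ∃ ω : F, ω * ω = ω + 1 ∧ ∀ c : F, c = 0 ∨ c = 1 ∨ c = ω ∨ c = ω + 1 := by
  classical
  have h2 : (2 : F) = 0 := by
    have := CharP.cast_eq_zero F 2
    exact_mod_cast this
  obtain ⟨ω, hω0, hω1⟩ : ∃ ω : F, ω ≠ 0 ∧ ω ≠ 1 := by
    by_contra hcon
    push Not at hcon
    have hsub : (Finset.univ : Finset F) ⊆ {0, 1} := by
      intro x _
      by_cases hx : x = 0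
      · simp [hx]
      · simp [hcon x hx]
    have := Finset.card_le_card hsub
    rw [Finset.card_univ, h4] at this
    have h3 : ({0, 1} : Finset F).card ≤ 2 := Finset.card_le_two
    omega
  have hω3 : ω ^ 3 = 1 := by
    have := FiniteField.pow_card_sub_one_eq_one ω hω0
    rw [h4] at this
    exact this
  have hω : ω * ω = ω + 1 := by
    have h1 : (ω - 1) * (ω * ω + ω + 1) = 0 := by
      have : (ω - 1) * (ω * ω + ω + 1) = ω ^ 3 - 1 := by ring
      rw [this, hω3, sub_self]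
    rcases mul_eq_zero.mp h1 with h | h
    · exact absurd (sub_eq_zero.mp h) hω1
    · linear_combination h - (ω + 1) * h2
  refine ⟨ω, hω, ?_⟩
  have hne1 : ω ≠ ω + 1 := by
    intro h
    have : (1 : F) = 0 := by linear_combination -h
    exact one_ne_zero this
  have hne2 : (1 : F) ≠ ω + 1 := by
    intro h
    apply hω0
    linear_combination -h
  have hne3 : (0 : F) ≠ ω + 1 := by
    intro h
    apply hω1
    linear_combination -h - h2
  have hS : ({0, 1, ω, ω + 1} : Finset F).card = 4 := by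
    rw [Finset.card_insert_of_notMem, Finset.card_insert_of_notMem,
      Finset.card_insert_of_notMem, Finset.card_singleton]
    · simp only [Finset.mem_singleton]
      exact hne1
    · simp only [Finset.mem_insert, Finset.mem_singleton, not_or]
      exact ⟨hω1.symm, hne2⟩
    · simp only [Finset.mem_insert, Finset.mem_singleton, not_or]
      exact ⟨zero_ne_one, hω0.symm, hne3⟩
  have hSu : ({0, 1, ω, ω + 1} : Finset F) = Finset.univ :=
    Finset.eq_univ_of_card _ (by rw [hS, h4])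
  intro c
  have hc := Finset.mem_univ c
  rw [← hSu] at hc
  simp only [Finset.mem_insert, Finset.mem_singleton] at hc
  exact hc

/-- `SL_3(F)` is generated by two conjugate regular unipotent elements if `|F| = 4`. -/
theorem sl3_two_conj_four (h4 : Fintype.card F = 4) :
    ∃ u g : Matrix.SpecialLinearGroup (Fin 3) F,
      IsNilpotent ((u : Matrix (Fin 3) (Fin 3) F) - 1) ∧
      ((u : Matrix (Fin 3) (Fin 3) F) - 1) ^ (3 - 1) ≠ 0 ∧
      Subgroup.closure ({u, g * u * g⁻¹} : Set (Matrix.SpecialLinearGroup (Fin 3) F)) = ⊤ := by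
  classical
  have : Fact (Nat.Prime 2) := ⟨Nat.prime_two⟩
  have : CharP F 2 := charP_of_card_eq_prime_pow (p := 2) (f := 2) (by rw [h4]; norm_num)
  obtain ⟨ω, hω, hall⟩ := exists_omega h4
  obtain ⟨u, hu_def⟩ : ∃ u : Matrix.SpecialLinearGroup (Fin 3) F,
      (u : Matrix (Fin 3) (Fin 3) F) = Um F 3 := ⟨⟨Um F 3, det_Um F 3⟩, rfl⟩
  obtain ⟨g, hg_def⟩ : ∃ g : Matrix.SpecialLinearGroup (Fin 3) F,
      (g : Matrix (Fin 3) (Fin 3) F) = G4F ω := ⟨⟨G4F ω, det_G4F ω⟩, rfl⟩
  refine ⟨u, g, ?_, ?_, ?_⟩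
  · rw [hu_def, Um3_sub_one]
    exact ⟨3, Nm_pow_n F 3⟩
  · rw [hu_def, Um3_sub_one]
    exact Nm_pow_pred_ne F 3 (by omega)
  obtain ⟨H, hH⟩ : ∃ H : Subgroup (Matrix.SpecialLinearGroup (Fin 3) F),
      H = Subgroup.closure ({u, g * u * g⁻¹} :
        Set (Matrix.SpecialLinearGroup (Fin 3) F)) := ⟨_, rfl⟩
  rw [← hH]
  have hu : u ∈ H := by
    rw [hH]; exact Subgroup.subset_closure (by simp)
  have hv : g * u * g⁻¹ ∈ H := by
    rw [hH]; exact Subgroup.subset_closure (by simp)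
  obtain ⟨hm1, hm2, hm3, hm4⟩ := model4_facts
  have hmul := pval4_mul ω hω
  have hU : MemM H (pval4 ω U4) := by
    rw [pval4_U4, ← hu_def]; exact MemM.of_mem hu
  have hginv : ((g⁻¹ : Matrix.SpecialLinearGroup (Fin 3) F) : Matrix (Fin 3) (Fin 3) F)
      = pval4 ω G4' := by
    apply coe_inv_eq_of_mul_eq_one
    rw [hg_def, ← pval4_G4, ← hmul, hm3, pval4_one]
  have hV : MemM H (pval4 ω V4) := by
    have h1 : MemM H ((g * u * g⁻¹ : Matrix.SpecialLinearGroup (Fin 3) F) :
        Matrix (Fin 3) (Fin 3) F) := MemM.of_mem hv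
    rw [Matrix.SpecialLinearGroup.coe_mul, Matrix.SpecialLinearGroup.coe_mul, hginv, hg_def,
      hu_def, ← pval4_G4, ← pval4_U4 ω, ← hmul, ← hmul, hm4] at h1
    exact h1
  have hU' : MemM H (pval4 ω U4') :=
    hU.inv_of_mul_eq_one (by rw [← hmul, hm1, pval4_one])
  have hV' : MemM H (pval4 ω V4') :=
    hV.inv_of_mul_eq_one (by rw [← hmul, hm2, pval4_one])
  have hgen : ∀ k : Fin 4, MemM H (pval4 ω (gen4 k)) := by
    intro k
    fin_cases k
    · exact hU
    · exact hV
    · exact hU'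
    · exact hV'
  have hword : ∀ L : List (Fin 4), MemM H (pval4 ω (word4 L)) := by
    intro L
    apply memM_foldr (pval4 ω) pmul4 pone4 (pval4_one ω) hmul
    intro x hx
    obtain ⟨k, _, rfl⟩ := List.mem_map.mp hx
    exact hgen k
  have htr : ∀ (i j : Fin 3) (hij : i ≠ j) (c : F),
      Matrix.SpecialLinearGroup.transvection hij c ∈ H := by
    intro i j hij c
    obtain ⟨hs1, hs2⟩ := tbl4_spec i j hij
    have t1 : Matrix.SpecialLinearGroup.transvection hij (1 : F) ∈ H := by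
      apply MemM.mem
      have h := hword (tbl4 i j false)
      rw [hs1] at h
      rw [Matrix.SpecialLinearGroup.transvection_coe]
      simpa [pval4, cm_one_add_single] using h
    have tω : Matrix.SpecialLinearGroup.transvection hij ω ∈ H := by
      apply MemM.mem
      have h := hword (tbl4 i j true)
      rw [hs2] at h
      rw [Matrix.SpecialLinearGroup.transvection_coe]
      simpa [pval4, cm_single, Matrix.smul_single] using h
    rcases hall c with rfl | rfl | rfl | rfl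
    · rw [Matrix.SpecialLinearGroup.transvection_coeff_zero]; exact H.one_mem
    · exact t1
    · exact tω
    · rw [Matrix.SpecialLinearGroup.transvection_add]; exact H.mul_mem tω t1
  rw [eq_top_iff]
  intro A _
  exact Cfsg.Agent.Lib.Helper15.SLn_transvection_induction (fun A => A ∈ H)
    (fun i j hij c => htr i j hij c) (fun _ _ => H.mul_mem) A

end four

section two

variable {F : Type*} [Field F] [Fintype F]

/-- the conjugating matrix for two elements -/
def G2F : Matrix (Fin 3) (Fin 3) F := !![0, 0, 1; 0, 1, 0; 1, 0, 0]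

theorem det_G2F [CharP F 2] : (G2F (F := F)).det = 1 := by
  rw [Matrix.det_fin_three]
  simp [G2F]
  exact CharTwo.neg_eq 1

theorem cm_G2 [CharP F 2] : cm (F := F) G2 = G2F := by
  ext i j
  fin_cases i <;> fin_cases j <;> simp [G2, G2F, cm_apply]

theorem cm_U2 [CharP F 2] : cm (F := F) U2 = Um F 3 := by
  rw [Um3_eq]
  ext i j
  fin_cases i <;> fin_cases j <;> simp [U2, cm_apply]

/-- `SL_3(F)` is generated by two conjugate regular unipotent elements if `|F| = 2`. -/
theorem sl3_two_conj_two (h2 : Fintype.card F = 2) :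
    ∃ u g : Matrix.SpecialLinearGroup (Fin 3) F,
      IsNilpotent ((u : Matrix (Fin 3) (Fin 3) F) - 1) ∧
      ((u : Matrix (Fin 3) (Fin 3) F) - 1) ^ (3 - 1) ≠ 0 ∧
      Subgroup.closure ({u, g * u * g⁻¹} : Set (Matrix.SpecialLinearGroup (Fin 3) F)) = ⊤ := by
  classical
  have : Fact (Nat.Prime 2) := ⟨Nat.prime_two⟩
  have : CharP F 2 := charP_of_card_eq_prime (p := 2) h2
  have hall : ∀ c : F, c = 0 ∨ c = 1 := by
    have hS : ({0, 1} : Finset F) = Finset.univ :=
      Finset.eq_univ_of_card _ (by rw [Finset.card_pair zero_ne_one, h2])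
    intro c
    have hc := Finset.mem_univ c
    rw [← hS] at hc
    simp only [Finset.mem_insert, Finset.mem_singleton] at hc
    exact hc
  obtain ⟨u, hu_def⟩ : ∃ u : Matrix.SpecialLinearGroup (Fin 3) F,
      (u : Matrix (Fin 3) (Fin 3) F) = Um F 3 := ⟨⟨Um F 3, det_Um F 3⟩, rfl⟩
  obtain ⟨g, hg_def⟩ : ∃ g : Matrix.SpecialLinearGroup (Fin 3) F,
      (g : Matrix (Fin 3) (Fin 3) F) = G2F := ⟨⟨G2F, det_G2F⟩, rfl⟩
  refine ⟨u, g, ?_, ?_, ?_⟩
  · rw [hu_def, Um3_sub_one]
    exact ⟨3, Nm_pow_n F 3⟩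
  · rw [hu_def, Um3_sub_one]
    exact Nm_pow_pred_ne F 3 (by omega)
  obtain ⟨H, hH⟩ : ∃ H : Subgroup (Matrix.SpecialLinearGroup (Fin 3) F),
      H = Subgroup.closure ({u, g * u * g⁻¹} :
        Set (Matrix.SpecialLinearGroup (Fin 3) F)) := ⟨_, rfl⟩
  rw [← hH]
  have hu : u ∈ H := by
    rw [hH]; exact Subgroup.subset_closure (by simp)
  have hv : g * u * g⁻¹ ∈ H := by
    rw [hH]; exact Subgroup.subset_closure (by simp)
  obtain ⟨hm1, hm2, hm3, hm4⟩ := model2_facts
  have hU : MemM H (cm (F := F) U2) := by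
    rw [cm_U2, ← hu_def]; exact MemM.of_mem hu
  have hginv : ((g⁻¹ : Matrix.SpecialLinearGroup (Fin 3) F) : Matrix (Fin 3) (Fin 3) F)
      = cm (F := F) G2 := by
    apply coe_inv_eq_of_mul_eq_one
    rw [hg_def, ← cm_G2, ← map_mul, hm3, map_one]
  have hV : MemM H (cm (F := F) V2) := by
    have h1 : MemM H ((g * u * g⁻¹ : Matrix.SpecialLinearGroup (Fin 3) F) :
        Matrix (Fin 3) (Fin 3) F) := MemM.of_mem hv
    rw [Matrix.SpecialLinearGroup.coe_mul, Matrix.SpecialLinearGroup.coe_mul, hginv, hg_def,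
      hu_def, ← cm_G2, ← cm_U2, ← map_mul, ← map_mul, hm4] at h1
    exact h1
  have hU' : MemM H (cm (F := F) U2') :=
    hU.inv_of_mul_eq_one (by rw [← map_mul, hm1, map_one])
  have hV' : MemM H (cm (F := F) V2') :=
    hV.inv_of_mul_eq_one (by rw [← map_mul, hm2, map_one])
  have hgen : ∀ k : Fin 4, MemM H (cm (F := F) (gen2 k)) := by
    intro k
    fin_cases k
    · exact hU
    · exact hV
    · exact hU'
    · exact hV'
  have hword : ∀ L : List (Fin 4), MemM H (cm (F := F) (word2 L)) := by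
    intro L
    apply memM_foldr (cm (F := F)) (· * ·) 1 (map_one _) (fun x y => map_mul _ x y)
    intro x hx
    obtain ⟨k, _, rfl⟩ := List.mem_map.mp hx
    exact hgen k
  have htr : ∀ (i j : Fin 3) (hij : i ≠ j) (c : F),
      Matrix.SpecialLinearGroup.transvection hij c ∈ H := by
    intro i j hij c
    have hs1 := tbl2_spec i j hij
    have t1 : Matrix.SpecialLinearGroup.transvection hij (1 : F) ∈ H := by
      apply MemM.mem
      have h := hword (tbl2 i j)
      rw [hs1, cm_one_add_single] at h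
      rw [Matrix.SpecialLinearGroup.transvection_coe]
      exact h
    rcases hall c with rfl | rfl
    · rw [Matrix.SpecialLinearGroup.transvection_coeff_zero]; exact H.one_mem
    · exact t1
  rw [eq_top_iff]
  intro A _
  exact Cfsg.Agent.Lib.Helper15.SLn_transvection_induction (fun A => A ∈ H)
    (fun i j hij c => htr i j hij c) (fun _ _ => H.mul_mem) A

end two

/-- `SL_3(F)`, `F` a finite field, is generated by two conjugate regular unipotent elements. -/
theorem sl3_two_conj {F : Type*} [Field F] [Fintype F] :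
    ∃ u g : Matrix.SpecialLinearGroup (Fin 3) F,
      IsNilpotent ((u : Matrix (Fin 3) (Fin 3) F) - 1) ∧
      ((u : Matrix (Fin 3) (Fin 3) F) - 1) ^ (3 - 1) ≠ 0 ∧
      Subgroup.closure ({u, g * u * g⁻¹} : Set (Matrix.SpecialLinearGroup (Fin 3) F)) = ⊤ := by
  by_cases h2 : Fintype.card F = 2
  · exact sl3_two_conj_two h2
  · by_cases h4 : Fintype.card F = 4
    · exact sl3_two_conj_four h4
    · exact sl3_two_conj_generic h2 h4

end Cfsg.Agent.Lib.Helper13.RegUni
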