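import Cfsg.Agent.Lib.Helper13.StCCBBMDefs

set_option autoImplicit false

/-! Piece [BM] of Steinberg's Theorem 10, PART B: the table and the certificate for `chevB2`. -/

namespace Cfsg.Agent.Lib.Helper14.StCC.B.Helper13

open Cfsg.Lie Cfsg.Agent.Lib.Helper8.Chev

set_option maxHeartbeats 0 in
/-- the vectors `(aco D (D.simple i) s)_i` for `chevB2` -/
def tabB2 : List (List ℤ) :=
  [[-2, 0], [0, -1], [-2, 1], [2, -2], [-2, 2], [2, -1], [0, 1], [2, 0]]

set_option maxHeartbeats 0 in
/-- for every root `r` a few coroot vectors orthogonal to `r` -/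
def certB2 : List (List (List ℤ)) :=
  [[[0, 1]], [[1, 0]], [[1, 2]], [[1, 1]], [[1, 1]], [[1, 2]], [[1, 0]], [[0, 1]]]

theorem checkTab_B2 : checkTab chevB2 tabB2 = true := by decide +kernel

theorem checkCert_B2 : checkCert chevB2.nroots tabB2 certB2 = true := by decide +kernel

end Cfsg.Agent.Lib.Helper14.StCC.B.Helper13
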