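import Cfsg.Agent.Lib.Helper13.StCCBBMDefs

set_option autoImplicit false

/-! Piece [BM] of Steinberg's Theorem 10, PART B: the table and the certificate for `chevE6`. -/

namespace Cfsg.Agent.Lib.Helper14.StCC.B.Helper13

open Cfsg.Lie Cfsg.Agent.Lib.Helper8.Chev

set_option maxHeartbeats 0 in
/-- the vectors `(aco D (D.simple i) s)_i` for `chevE6` -/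
def tabE6 : List (List ℤ) :=
  [[0, -1, 0, 0, 0, 0], [0, 1, 0, -1, 0, 0], [0, 0, -1, 1, -1, 0], [0, 0, -1, 0, 1, -1],
  [0, 0, -1, 0, 0, 1], [-1, 0, 1, 0, -1, 0], [-1, 0, 1, -1, 1, -1], [-1, 0, 1, -1, 0, 1],
  [-1, -1, 0, 1, 0, -1], [-1, -1, 0, 1, -1, 1], [-1, -1, 0, 0, 1, 0], [-1, 1, 0, 0, 0, -1],
  [-1, 1, 0, 0, -1, 1], [-1, 1, 0, -1, 1, 0], [-1, 0, -1, 1, 0, 0], [-2, 0, 1, 0, 0, 0],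
  [1, 0, 0, 0, -1, 0], [1, 0, 0, -1, 1, -1], [1, 0, 0, -1, 0, 1], [1, -1, -1, 1, 0, -1],
  [1, -1, -1, 1, -1, 1], [1, -1, -1, 0, 1, 0], [0, -1, 1, 0, 0, -1], [0, -1, 1, 0, -1, 1],
  [0, -1, 1, -1, 1, 0], [0, -2, 0, 1, 0, 0], [1, 1, -1, 0, 0, -1], [1, 1, -1, 0, -1, 1],
  [1, 1, -1, -1, 1, 0], [1, 0, -2, 1, 0, 0], [0, 1, 1, -1, 0, -1], [0, 1, 1, -1, -1, 1],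
  [0, 1, 1, -2, 1, 0], [0, 0, 0, 1, -1, -1], [0, 0, 0, 1, -2, 1], [0, 0, 0, 0, 1, -2],
  [0, 0, 0, 0, -1, 2], [0, 0, 0, -1, 2, -1], [0, 0, 0, -1, 1, 1], [0, -1, -1, 2, -1, 0],
  [0, -1, -1, 1, 1, -1], [0, -1, -1, 1, 0, 1], [-1, 0, 2, -1, 0, 0], [-1, -1, 1, 1, -1, 0],
  [-1, -1, 1, 0, 1, -1], [-1, -1, 1, 0, 0, 1], [0, 2, 0, -1, 0, 0], [0, 1, -1, 1, -1, 0],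
  [0, 1, -1, 0, 1, -1], [0, 1, -1, 0, 0, 1], [-1, 1, 1, 0, -1, 0], [-1, 1, 1, -1, 1, -1],
  [-1, 1, 1, -1, 0, 1], [-1, 0, 0, 1, 0, -1], [-1, 0, 0, 1, -1, 1], [-1, 0, 0, 0, 1, 0],
  [2, 0, -1, 0, 0, 0], [1, 0, 1, -1, 0, 0], [1, -1, 0, 1, -1, 0], [1, -1, 0, 0, 1, -1],
  [1, -1, 0, 0, 0, 1], [1, 1, 0, 0, -1, 0], [1, 1, 0, -1, 1, -1], [1, 1, 0, -1, 0, 1],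
  [1, 0, -1, 1, 0, -1], [1, 0, -1, 1, -1, 1], [1, 0, -1, 0, 1, 0], [0, 0, 1, 0, 0, -1],
  [0, 0, 1, 0, -1, 1], [0, 0, 1, -1, 1, 0], [0, -1, 0, 1, 0, 0], [0, 1, 0, 0, 0, 0]]

set_option maxHeartbeats 0 in
/-- for every root `r` a few coroot vectors orthogonal to `r` -/
def certE6 : List (List (List ℤ)) :=
  [[[0, 0, 0, 0, 0, 1], [0, 0, 0, 0, 1, 0], [0, 0, 0, 1, 0, 0], [0, 0, 1, 0, 0, 0]],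
  [[0, 0, 0, 0, 0, 1], [0, 0, 0, 0, 1, 0], [0, 1, 0, 1, 0, 0], [0, 0, 1, 0, 0, 0]],
  [[0, 0, 0, 0, 0, 1], [0, 0, 0, 1, 1, 0], [0, 1, 0, 0, 0, 0], [0, 0, 1, 1, 0, 0]],
  [[0, 0, 0, 0, 1, 1], [0, 0, 0, 1, 0, 0], [0, 1, 0, 0, 0, 0], [0, 0, 1, 1, 1, 0]],
  [[0, 0, 0, 0, 1, 0], [0, 0, 0, 1, 0, 0], [0, 1, 0, 0, 0, 0], [0, 0, 1, 1, 1, 1]],
  [[0, 0, 0, 0, 0, 1], [0, 0, 0, 1, 0, 0], [1, 1, 1, 1, 0, 0]], [[0, 0, 0, 0, 1, 1],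
  [0, 0, 0, 1, 1, 0], [1, 1, 1, 1, 1, 0]], [[0, 0, 0, 0, 1, 0], [0, 0, 0, 1, 1, 1],
  [1, 1, 1, 1, 1, 1]], [[0, 0, 0, 0, 1, 0], [0, 0, 0, 1, 1, 1], [1, 1, 1, 2, 1, 0]],
  [[0, 0, 0, 0, 1, 1], [0, 0, 0, 1, 1, 0], [1, 1, 1, 2, 1, 1]], [[0, 0, 0, 0, 0, 1],
  [0, 0, 0, 1, 0, 0], [1, 1, 1, 2, 2, 1]], [[0, 0, 0, 0, 1, 0], [0, 0, 0, 1, 0, 0],
  [0, 0, 1, 0, 0, 0], [0, 1, 0, 1, 1, 1]], [[0, 0, 0, 0, 1, 1], [0, 0, 0, 1, 0, 0],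
  [0, 0, 1, 0, 0, 0], [0, 1, 0, 1, 1, 0]], [[0, 0, 0, 0, 0, 1], [0, 0, 0, 1, 1, 0],
  [0, 0, 1, 0, 0, 0], [0, 1, 0, 1, 0, 0]], [[0, 0, 0, 0, 0, 1], [0, 0, 0, 0, 1, 0],
  [0, 0, 1, 1, 0, 0], [0, 1, 0, 0, 0, 0]], [[0, 0, 0, 0, 0, 1], [0, 0, 0, 0, 1, 0],
  [0, 0, 0, 1, 0, 0], [0, 1, 0, 0, 0, 0]], [[0, 0, 0, 0, 0, 1], [0, 0, 0, 1, 0, 0],
  [0, 1, 1, 1, 0, 0]], [[0, 0, 0, 0, 1, 1], [0, 0, 0, 1, 1, 0], [0, 1, 1, 1, 1, 0]],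
  [[0, 0, 0, 0, 1, 0], [0, 0, 0, 1, 1, 1], [0, 1, 1, 1, 1, 1]], [[0, 0, 0, 0, 1, 0],
  [0, 0, 0, 1, 1, 1], [0, 1, 1, 2, 1, 0]], [[0, 0, 0, 0, 1, 1], [0, 0, 0, 1, 1, 0],
  [0, 1, 1, 2, 1, 1]], [[0, 0, 0, 0, 0, 1], [0, 0, 0, 1, 0, 0], [0, 1, 1, 2, 2, 1]],
  [[0, 0, 0, 0, 1, 0], [0, 0, 0, 1, 0, 0], [0, 1, 1, 1, 0, 0], [0, 0, 1, 1, 1, 1]],
  [[0, 0, 0, 0, 1, 1], [0, 0, 0, 1, 0, 0], [0, 1, 1, 1, 0, 0], [0, 0, 1, 1, 1, 0]],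
  [[0, 0, 0, 0, 0, 1], [0, 0, 0, 1, 1, 0], [0, 1, 1, 1, 1, 0], [0, 0, 1, 1, 0, 0]],
  [[0, 0, 0, 0, 0, 1], [0, 0, 0, 0, 1, 0], [0, 1, 1, 2, 1, 0], [0, 0, 1, 0, 0, 0]],
  [[0, 0, 0, 0, 1, 0], [0, 0, 0, 1, 0, 0], [0, 1, 1, 1, 0, 0], [0, 1, 0, 1, 1, 1]],
  [[0, 0, 0, 0, 1, 1], [0, 0, 0, 1, 0, 0], [0, 1, 1, 1, 0, 0], [0, 1, 0, 1, 1, 0]],
  [[0, 0, 0, 0, 0, 1], [0, 0, 0, 1, 1, 0], [0, 1, 1, 1, 1, 0], [0, 1, 0, 1, 0, 0]],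
  [[0, 0, 0, 0, 0, 1], [0, 0, 0, 0, 1, 0], [0, 1, 1, 2, 1, 0], [0, 1, 0, 0, 0, 0]],
  [[0, 0, 0, 0, 1, 0], [0, 0, 1, 1, 0, 0], [0, 1, 0, 1, 0, 0], [0, 1, 1, 1, 1, 1]],
  [[0, 0, 0, 0, 1, 1], [0, 0, 1, 1, 0, 0], [0, 1, 0, 1, 0, 0], [0, 1, 1, 1, 1, 0]],
  [[0, 0, 0, 0, 0, 1], [0, 0, 1, 1, 1, 0], [0, 1, 0, 1, 1, 0], [0, 1, 1, 1, 0, 0]],
  [[0, 0, 0, 1, 1, 0], [0, 0, 1, 0, 0, 0], [0, 1, 0, 0, 0, 0], [0, 1, 1, 2, 1, 1]],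
  [[0, 0, 0, 1, 1, 1], [0, 0, 1, 0, 0, 0], [0, 1, 0, 0, 0, 0], [0, 1, 1, 2, 1, 0]],
  [[0, 0, 0, 1, 0, 0], [0, 0, 1, 0, 0, 0], [0, 1, 0, 0, 0, 0], [0, 1, 1, 2, 2, 1]],
  [[0, 0, 0, 1, 0, 0], [0, 0, 1, 0, 0, 0], [0, 1, 0, 0, 0, 0], [0, 1, 1, 2, 2, 1]],
  [[0, 0, 0, 1, 1, 1], [0, 0, 1, 0, 0, 0], [0, 1, 0, 0, 0, 0], [0, 1, 1, 2, 1, 0]],
  [[0, 0, 0, 1, 1, 0], [0, 0, 1, 0, 0, 0], [0, 1, 0, 0, 0, 0], [0, 1, 1, 2, 1, 1]],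
  [[0, 0, 0, 0, 0, 1], [0, 0, 1, 1, 1, 0], [0, 1, 0, 1, 1, 0], [0, 1, 1, 1, 0, 0]],
  [[0, 0, 0, 0, 1, 1], [0, 0, 1, 1, 0, 0], [0, 1, 0, 1, 0, 0], [0, 1, 1, 1, 1, 0]],
  [[0, 0, 0, 0, 1, 0], [0, 0, 1, 1, 0, 0], [0, 1, 0, 1, 0, 0], [0, 1, 1, 1, 1, 1]],
  [[0, 0, 0, 0, 0, 1], [0, 0, 0, 0, 1, 0], [0, 1, 1, 2, 1, 0], [0, 1, 0, 0, 0, 0]],
  [[0, 0, 0, 0, 0, 1], [0, 0, 0, 1, 1, 0], [0, 1, 1, 1, 1, 0], [0, 1, 0, 1, 0, 0]],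
  [[0, 0, 0, 0, 1, 1], [0, 0, 0, 1, 0, 0], [0, 1, 1, 1, 0, 0], [0, 1, 0, 1, 1, 0]],
  [[0, 0, 0, 0, 1, 0], [0, 0, 0, 1, 0, 0], [0, 1, 1, 1, 0, 0], [0, 1, 0, 1, 1, 1]],
  [[0, 0, 0, 0, 0, 1], [0, 0, 0, 0, 1, 0], [0, 1, 1, 2, 1, 0], [0, 0, 1, 0, 0, 0]],
  [[0, 0, 0, 0, 0, 1], [0, 0, 0, 1, 1, 0], [0, 1, 1, 1, 1, 0], [0, 0, 1, 1, 0, 0]],
  [[0, 0, 0, 0, 1, 1], [0, 0, 0, 1, 0, 0], [0, 1, 1, 1, 0, 0], [0, 0, 1, 1, 1, 0]],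
  [[0, 0, 0, 0, 1, 0], [0, 0, 0, 1, 0, 0], [0, 1, 1, 1, 0, 0], [0, 0, 1, 1, 1, 1]],
  [[0, 0, 0, 0, 0, 1], [0, 0, 0, 1, 0, 0], [0, 1, 1, 2, 2, 1]], [[0, 0, 0, 0, 1, 1],
  [0, 0, 0, 1, 1, 0], [0, 1, 1, 2, 1, 1]], [[0, 0, 0, 0, 1, 0], [0, 0, 0, 1, 1, 1],
  [0, 1, 1, 2, 1, 0]], [[0, 0, 0, 0, 1, 0], [0, 0, 0, 1, 1, 1], [0, 1, 1, 1, 1, 1]],
  [[0, 0, 0, 0, 1, 1], [0, 0, 0, 1, 1, 0], [0, 1, 1, 1, 1, 0]], [[0, 0, 0, 0, 0, 1],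
  [0, 0, 0, 1, 0, 0], [0, 1, 1, 1, 0, 0]], [[0, 0, 0, 0, 0, 1], [0, 0, 0, 0, 1, 0],
  [0, 0, 0, 1, 0, 0], [0, 1, 0, 0, 0, 0]], [[0, 0, 0, 0, 0, 1], [0, 0, 0, 0, 1, 0],
  [0, 0, 1, 1, 0, 0], [0, 1, 0, 0, 0, 0]], [[0, 0, 0, 0, 0, 1], [0, 0, 0, 1, 1, 0],
  [0, 0, 1, 0, 0, 0], [0, 1, 0, 1, 0, 0]], [[0, 0, 0, 0, 1, 1], [0, 0, 0, 1, 0, 0],
  [0, 0, 1, 0, 0, 0], [0, 1, 0, 1, 1, 0]], [[0, 0, 0, 0, 1, 0], [0, 0, 0, 1, 0, 0],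
  [0, 0, 1, 0, 0, 0], [0, 1, 0, 1, 1, 1]], [[0, 0, 0, 0, 0, 1], [0, 0, 0, 1, 0, 0],
  [1, 1, 1, 2, 2, 1]], [[0, 0, 0, 0, 1, 1], [0, 0, 0, 1, 1, 0], [1, 1, 1, 2, 1, 1]],
  [[0, 0, 0, 0, 1, 0], [0, 0, 0, 1, 1, 1], [1, 1, 1, 2, 1, 0]], [[0, 0, 0, 0, 1, 0],
  [0, 0, 0, 1, 1, 1], [1, 1, 1, 1, 1, 1]], [[0, 0, 0, 0, 1, 1], [0, 0, 0, 1, 1, 0],
  [1, 1, 1, 1, 1, 0]], [[0, 0, 0, 0, 0, 1], [0, 0, 0, 1, 0, 0], [1, 1, 1, 1, 0, 0]],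
  [[0, 0, 0, 0, 1, 0], [0, 0, 0, 1, 0, 0], [0, 1, 0, 0, 0, 0], [0, 0, 1, 1, 1, 1]],
  [[0, 0, 0, 0, 1, 1], [0, 0, 0, 1, 0, 0], [0, 1, 0, 0, 0, 0], [0, 0, 1, 1, 1, 0]],
  [[0, 0, 0, 0, 0, 1], [0, 0, 0, 1, 1, 0], [0, 1, 0, 0, 0, 0], [0, 0, 1, 1, 0, 0]],
  [[0, 0, 0, 0, 0, 1], [0, 0, 0, 0, 1, 0], [0, 1, 0, 1, 0, 0], [0, 0, 1, 0, 0, 0]],
  [[0, 0, 0, 0, 0, 1], [0, 0, 0, 0, 1, 0], [0, 0, 0, 1, 0, 0], [0, 0, 1, 0, 0, 0]]]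

theorem checkTab_E6 : checkTab chevE6 tabE6 = true := by decide +kernel

theorem checkCert_E6 : checkCert chevE6.nroots tabE6 certE6 = true := by decide +kernel

end Cfsg.Agent.Lib.Helper14.StCC.B.Helper13
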