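import Cfsg.Agent.Lib.Helper13.StCCBBMG2
import Cfsg.Agent.Lib.Helper13.StCCBBMB2
import Cfsg.Agent.Lib.Helper13.StCCBBMD4
import Cfsg.Agent.Lib.Helper13.StCCBBMF4
import Cfsg.Agent.Lib.Helper13.StCCBBME6
import Cfsg.Agent.Lib.Helper13.StCCBBME7
import Cfsg.Agent.Lib.Helper13.StCCBBME8

set_option autoImplicit false

/-! Steinberg's Theorem 10, PART B, piece [BM]: a coweight orthogonal to `r` and not to `s`. -/

namespace Cfsg.Agent.Lib.Helper14.StCC.B

open Cfsg.Lie Cfsg.Agent.Lib.Helper8.Chev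

variable {D : ChevalleyDatum}

/-- [BM] a coweight orthogonal to `r` and not to `s` -/
theorem exists_perp (hD : D ∈ [chevG2, chevB2, chevD4, chevF4, chevE6, chevE7, chevE8])
    {r s : ℕ} (hr : r < D.nroots) (hs : s < D.nroots) (h1 : s ≠ r) (h2 : s ≠ D.neg r) :
    ∃ m : ℕ → ℤ, wt D m r = 0 ∧ wt D m s ≠ 0 ∧ -3 ≤ wt D m s ∧ wt D m s ≤ 3 := by
  have V := (validJ_of_mem hD).V
  simp only [List.mem_cons, List.not_mem_nil, or_false] at hD
  rcases hD with rfl | rfl | rfl | rfl | rfl | rfl | rfl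
  · exact Helper13.exists_perp_of_check V Helper13.checkTab_G2 Helper13.checkCert_G2 hr hs h1 h2
  · exact Helper13.exists_perp_of_check V Helper13.checkTab_B2 Helper13.checkCert_B2 hr hs h1 h2
  · exact Helper13.exists_perp_of_check V Helper13.checkTab_D4 Helper13.checkCert_D4 hr hs h1 h2
  · exact Helper13.exists_perp_of_check V Helper13.checkTab_F4 Helper13.checkCert_F4 hr hs h1 h2
  · exact Helper13.exists_perp_of_check V Helper13.checkTab_E6 Helper13.checkCert_E6 hr hs h1 h2
  · exact Helper13.exists_perp_of_check V Helper13.checkTab_E7 Helper13.checkCert_E7 hr hs h1 h2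
  · exact Helper13.exists_perp_of_check V Helper13.checkTab_E8 Helper13.checkCert_E8 hr hs h1 h2

end Cfsg.Agent.Lib.Helper14.StCC.B
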