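import Mathlib

set_option autoImplicit false

universe u v

namespace Cfsg.Agent.Lib.Helper10.Weak

theorem card_map_eq_of_inf_ker {G : Type u} {H : Type v} [Group G] [Group H] (f : G →* H)
    (K : Subgroup G) (h : K ⊓ f.ker = ⊥) : Nat.card (K.map f) = Nat.card K := by
  symm
  refine Nat.card_congr (Equiv.ofBijective
    (fun x : K => (⟨f x.1, Subgroup.mem_map_of_mem f x.2⟩ : K.map f)) ⟨?_, ?_⟩)
  · intro x y hxy
    have hxy' : f x.1 = f y.1 := congrArg Subtype.val hxy
    have hker : x.1⁻¹ * y.1 ∈ f.ker := by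
      rw [MonoidHom.mem_ker, map_mul, map_inv, hxy', inv_mul_cancel]
    have hmem : x.1⁻¹ * y.1 ∈ K ⊓ f.ker :=
      Subgroup.mem_inf.mpr ⟨K.mul_mem (K.inv_mem x.2) y.2, hker⟩
    rw [h, Subgroup.mem_bot] at hmem
    apply Subtype.ext
    exact inv_mul_eq_one.mp hmem
  · rintro ⟨y, hy⟩
    obtain ⟨x, hx, rfl⟩ := Subgroup.mem_map.mp hy
    exact ⟨⟨x, hx⟩, rfl⟩

theorem card_dvd_card_map_mul_card_ker {G : Type u} {H : Type v} [Group G] [Finite G] [Group H]
    (f : G →* H) (K : Subgroup G) : Nat.card K ∣ Nat.card (K.map f) * Nat.card f.ker := by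
  set g : K →* H := f.comp K.subtype with hg
  have hrange : Nat.card g.range = Nat.card (K.map f) := by
    have : g.range = K.map f := by
      ext y
      constructor
      · rintro ⟨x, rfl⟩
        exact Subgroup.mem_map_of_mem f x.2
      · intro hy
        obtain ⟨x, hx, rfl⟩ := Subgroup.mem_map.mp hy
        exact ⟨⟨x, hx⟩, rfl⟩
    rw [this]
  have h1 : Nat.card K = Nat.card (K ⧸ g.ker) * Nat.card g.ker :=
    Subgroup.card_eq_card_quotient_mul_card_subgroup g.ker
  have h2 : Nat.card (K ⧸ g.ker) = Nat.card g.range :=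
    Nat.card_congr (QuotientGroup.quotientKerEquivRange g).toEquiv
  have h3 : Nat.card g.ker ∣ Nat.card f.ker := by
    -- `g.ker` embeds into `f.ker`
    have hmemker : ∀ x : g.ker, x.1.1 ∈ f.ker := by
      intro x
      have := x.2
      rw [MonoidHom.mem_ker] at this ⊢
      exact this
    let φ : g.ker →* f.ker :=
      { toFun := fun x => ⟨x.1.1, hmemker x⟩
        map_one' := rfl
        map_mul' := fun _ _ => rfl }
    have hinj : Function.Injective φ := by
      intro x y hxy
      have h' : (φ x).1 = (φ y).1 := congrArg Subtype.val hxy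
      have : x.1.1 = y.1.1 := h'
      exact Subtype.ext (Subtype.ext this)
    exact Subgroup.card_dvd_of_injective φ hinj
  rw [h1, h2, hrange]
  exact Nat.mul_dvd_mul_left _ h3

end Cfsg.Agent.Lib.Helper10.Weak
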