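import Mathlib
import Cfsg.Agent.Lib.Helper11.M11A
import Cfsg.Agent.Lib.Helper18.SylowFix

/-!
Farm-out lemmas for the simple groups of order 7920 (helper13, for helper11):
an involution centralizer never has order 720.
-/

set_option autoImplicit false

namespace Cfsg.Agent.Lib.Helper13.M11FO

open MulAction Cfsg.Agent.Lib.Helper11.M11 Cfsg.Agent.Lib.Helper10.Ord7920

variable {G : Type*} [Group G] [Finite G]

theorem not_comm [IsSimpleGroup G] (hord : Nat.card G = 7920) : ¬ IsMulCommutative G := by
  intro h
  haveI : Fact (Nat.Prime 11) := ⟨by norm_num⟩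
  obtain ⟨x, hx⟩ := exists_prime_orderOf_dvd_card' (G := G) 11 (by rw [hord]; norm_num)
  haveI : (Subgroup.zpowers x).Normal :=
    ⟨fun n hn g => by rw [h.is_comm.comm g n, mul_inv_cancel_right]; exact hn⟩
  have := normal_card_cases hord (Subgroup.zpowers x)
  rw [Nat.card_zpowers, hx] at this
  omega

/-- point stabilizers in the coset action on a subgroup of order 720 have order 720 -/
theorem card_stabilizer (hord : Nat.card G = 7920) (K : Subgroup G) (hK : Nat.card K = 720)
    (a : G ⧸ K) : Nat.card (stabilizer G a) = 720 := by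
  have hidx : K.index = 11 := by
    have := Subgroup.card_mul_index K
    rw [hK, hord] at this
    omega
  have h1 : (stabilizer G a).index = Nat.card (G ⧸ K) :=
    MulAction.index_stabilizer_of_transitive G a
  rw [← Subgroup.index_eq_card, hidx] at h1
  have h2 := Subgroup.card_mul_index (stabilizer G a)
  rw [h1, hord] at h2
  omega

theorem eq_one_of_mem_sylow_of_fixed (hord : Nat.card G = 7920) (K : Subgroup G)
    (hK : Nat.card K = 720) (R : Sylow 11 G) (c : G) (hc : c ∈ (R : Subgroup G))
    (a : G ⧸ K) (hca : c • a = a) : c = 1 := by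
  have h1 : orderOf c ∣ 11 := by
    have := Subgroup.orderOf_dvd_natCard (R : Subgroup G) hc
    rwa [card_sylow_eleven hord R] at this
  have h2 : orderOf c ∣ 720 := by
    have := Subgroup.orderOf_dvd_natCard (stabilizer G a) (show c ∈ stabilizer G a from hca)
    rwa [card_stabilizer hord K hK a] at this
  have h3 : orderOf c ∣ Nat.gcd 11 720 := Nat.dvd_gcd h1 h2
  have h4 : Nat.gcd 11 720 = 1 := by norm_num
  rw [h4, Nat.dvd_one] at h3
  exact orderOf_eq_one_iff.mp h3

/-- a Sylow `11`-subgroup is transitive on the `11` cosets -/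
theorem exists_smul_eq_of_sylow (hord : Nat.card G = 7920) (K : Subgroup G)
    (hK : Nat.card K = 720) (R : Sylow 11 G) (a b : G ⧸ K) :
    ∃ r ∈ (R : Subgroup G), r • a = b := by
  have hidx : Nat.card (G ⧸ K) = 11 := by
    rw [← Subgroup.index_eq_card]
    have := Subgroup.card_mul_index K
    rw [hK, hord] at this
    omega
  let f : ↥(R : Subgroup G) → G ⧸ K := fun r => (r : G) • a
  have hinj : Function.Injective f := by
    intro r r' h
    have h' : ((r' : G)⁻¹ * r) • a = a := by
      rw [mul_smul]
      show (r' : G)⁻¹ • f r = a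
      rw [h]
      show (r' : G)⁻¹ • ((r' : G) • a) = a
      rw [inv_smul_smul]
    have h1 := eq_one_of_mem_sylow_of_fixed hord K hK R _
      ((R : Subgroup G).mul_mem ((R : Subgroup G).inv_mem r'.2) r.2) a h'
    apply Subtype.ext
    exact (inv_mul_eq_one.mp h1).symm
  have hbij : Function.Bijective f :=
    hinj.bijective_of_nat_card_le (by rw [hidx, card_sylow_eleven hord R])
  obtain ⟨r, hr⟩ := hbij.2 b
  exact ⟨r, r.2, hr⟩

/-- an element of order `5` has at most one fixed point on the `11` cosets -/
theorem fixed_unique_of_order_five [IsSimpleGroup G] (hord : Nat.card G = 7920)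
    (K : Subgroup G) (hK : Nat.card K = 720) (y : G) (hy : orderOf y = 5) (a b : G ⧸ K)
    (ha : y • a = a) (hb : y • b = b) : a = b := by
  haveI : Fact (Nat.Prime 5) := ⟨by norm_num⟩
  haveI : Fact (Nat.Prime 11) := ⟨by norm_num⟩
  have hP : IsPGroup 5 (Subgroup.zpowers y) :=
    IsPGroup.of_card (n := 1) (by rw [Nat.card_zpowers, hy, pow_one])
  have hnd : ¬ 5 ∣ Nat.card (Sylow 11 G) := by
    rw [card_sylow_eleven_eq hord]; norm_num
  obtain ⟨R, hR⟩ := hP.nonempty_fixed_point_of_prime_not_dvd_card (Sylow 11 G) hnd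
  have hyR : y ∈ Subgroup.normalizer ((R : Subgroup G) : Set G) := by
    exact Sylow.smul_eq_iff_mem_normalizer.mp (hR ⟨y, Subgroup.mem_zpowers y⟩)
  obtain ⟨r, hrR, hr⟩ := exists_smul_eq_of_sylow hord K hK R a b
  have hc_mem : r⁻¹ * (y * r * y⁻¹) ∈ (R : Subgroup G) := by
    apply (R : Subgroup G).mul_mem ((R : Subgroup G).inv_mem hrR)
    exact (Subgroup.mem_normalizer_iff.mp hyR r).mp hrR
  have hc_fix : (r⁻¹ * (y * r * y⁻¹)) • a = a := by
    have hya : y⁻¹ • a = a := by rw [inv_smul_eq_iff, ha]
    rw [mul_smul, mul_smul, mul_smul, hya, hr, hb, ← hr, inv_smul_smul]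
  have hc1 := eq_one_of_mem_sylow_of_fixed hord K hK R _ hc_mem a hc_fix
  have hcomm : y * r = r * y := by
    have h1 : y * r * y⁻¹ = r := (inv_mul_eq_one.mp hc1).symm
    calc y * r = (y * r * y⁻¹) * y := by group
      _ = r * y := by rw [h1]
  by_cases hr1 : r = 1
  · rw [hr1, one_smul] at hr
    exact hr
  · exfalso
    have hro : orderOf r = 11 := by
      have h1 : orderOf r ∣ 11 := by
        have := Subgroup.orderOf_dvd_natCard (R : Subgroup G) hrR
        rwa [card_sylow_eleven hord R] at this
      rcases (Nat.dvd_prime (by norm_num : Nat.Prime 11)).mp h1 with h | h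
      · exact absurd (orderOf_eq_one_iff.mp h) hr1
      · exact h
    have hmem := orderOf_eq_of_commute_eleven hord hro (show Commute y r from hcomm)
    have hdvd : orderOf y ∣ 11 := by
      have := Subgroup.orderOf_dvd_natCard (Subgroup.zpowers r) hmem
      rwa [Nat.card_zpowers, hro] at this
    rw [hy] at hdvd
    norm_num at hdvd

/-- FO-A2: in a simple group of order 7920 no involution centralizer has order 720 -/
theorem centralizer_involution_ne_720 {G : Type*} [Group G] [Finite G] [IsSimpleGroup G]
    (hord : Nat.card G = 7920) (t : G) (ht : orderOf t = 2) :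
    Nat.card (Subgroup.centralizer ({t} : Set G)) ≠ 720 := by
  classical
  intro hK
  obtain ⟨K, hKdef⟩ : ∃ K : Subgroup G, K = Subgroup.centralizer ({t} : Set G) := ⟨_, rfl⟩
  rw [← hKdef] at hK
  haveI : Fact (Nat.Prime 5) := ⟨by norm_num⟩
  have hG := not_comm hord
  letI : Fintype (G ⧸ K) := Fintype.ofFinite _
  have hcardΩ : Fintype.card (G ⧸ K) = 11 := by
    rw [← Nat.card_eq_fintype_card, ← Subgroup.index_eq_card]
    have := Subgroup.card_mul_index K
    rw [hK, hord] at this
    omega
  have ht2 : t ^ 2 = 1 := by rw [← ht]; exact pow_orderOf_eq_one t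
  have hmemK : ∀ g : G, g ∈ K ↔ g * t = t * g := by
    intro g
    rw [hKdef, Subgroup.mem_centralizer_iff]
    constructor
    · intro h; exact (h t (Set.mem_singleton t)).symm
    · intro h x hx
      rw [Set.mem_singleton_iff] at hx
      rw [hx]; exact h.symm
  have htK : t ∈ K := (hmemK t).mpr rfl
  -- an element of order 5 in K
  obtain ⟨y', hy'⟩ := exists_prime_orderOf_dvd_card' (G := K) 5 (by rw [hK]; norm_num)
  have hy : orderOf (y' : G) = 5 := by rw [Subgroup.orderOf_coe]; exact hy'
  -- the base point
  obtain ⟨o, ho⟩ : ∃ o : G ⧸ K, o = (QuotientGroup.mk 1 : G ⧸ K) := ⟨_, rfl⟩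
  have hfix_iff : ∀ g : G, g • o = o ↔ g ∈ K := by
    intro g
    rw [ho, MulAction.Quotient.smul_mk, QuotientGroup.eq]
    simp
  -- t moves some point
  have hmove : ∃ x : G ⧸ K, t • x ≠ x := by
    by_contra hall
    push Not at hall
    have hker : t ∈ (MulAction.toPermHom G (G ⧸ K)).ker := by
      rw [MonoidHom.mem_ker]
      ext x
      exact hall x
    rcases (MonoidHom.normal_ker (MulAction.toPermHom G (G ⧸ K))).eq_bot_or_eq_top with h | h
    · rw [h, Subgroup.mem_bot] at hker
      rw [hker, orderOf_one] at ht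
      norm_num at ht
    · have hKtop : K = ⊤ := by
        rw [eq_top_iff]
        intro g _
        have hg : g ∈ (MulAction.toPermHom G (G ⧸ K)).ker := by rw [h]; trivial
        have hgo : g • o = o := by
          have h1 := MonoidHom.mem_ker.mp hg
          have h2 := congrArg (fun σ : Equiv.Perm (G ⧸ K) => σ o) h1
          exact h2
        exact (hfix_iff g).mp hgo
      rw [hKtop, Subgroup.card_top, hord] at hK
      norm_num at hK
  obtain ⟨m, hm0, hm⟩ := Cfsg.Agent.Lib.Helper18.SylowFix.card_fixed_involution hG t ht2 hmove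
  rw [hcardΩ] at hm
  -- the 5-group generated by y' acts on the fixed points of t
  obtain ⟨H, hHdef⟩ : ∃ H : Subgroup G, H = Subgroup.zpowers (y' : G) := ⟨_, rfl⟩
  have hH5 : IsPGroup 5 H :=
    IsPGroup.of_card (n := 1) (by rw [hHdef, Nat.card_zpowers, hy, pow_one])
  have hHK : H ≤ K := by
    rw [hHdef, Subgroup.zpowers_le]
    exact y'.2
  have hyH : (y' : G) ∈ H := by rw [hHdef]; exact Subgroup.mem_zpowers _
  have hHt : ∀ c ∈ H, c * t = t * c := fun c hc => (hmemK c).mp (hHK hc)
  let F : SubMulAction H (G ⧸ K) :=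
    { carrier := {x | t • x = x}
      smul_mem' := by
        intro c x hx
        show t • ((c : G) • x) = (c : G) • x
        rw [← mul_smul, ← hHt _ c.2, mul_smul]
        have hx' : t • x = x := hx
        rw [hx'] }
  have h1 := hH5.card_modEq_card_fixedPoints F
  have h2 : Nat.card (fixedPoints H F) = 1 := by
    rw [Nat.card_eq_one_iff_unique]
    constructor
    · constructor
      rintro ⟨⟨x, hxF⟩, hx⟩ ⟨⟨x', hxF'⟩, hx'⟩
      have e1 : (y' : G) • x = x := by
        have := hx ⟨(y' : G), hyH⟩
        exact congrArg Subtype.val this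
      have e2 : (y' : G) • x' = x' := by
        have := hx' ⟨(y' : G), hyH⟩
        exact congrArg Subtype.val this
      have := fixed_unique_of_order_five hord K hK (y' : G) hy x x' e1 e2
      subst this
      rfl
    · refine ⟨⟨⟨o, ?_⟩, ?_⟩⟩
      · show t • o = o
        exact (hfix_iff t).mpr htK
      · intro c
        apply Subtype.ext
        show (c : G) • o = o
        exact (hfix_iff _).mpr (hHK c.2)
  rw [h2] at h1
  have key : ∀ (inst : DecidablePred (fun x : G ⧸ K => t • x = x)),
      (@Finset.filter _ (fun x : G ⧸ K => t • x = x) inst Finset.univ).card = Nat.card F := by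
    intro inst
    have h3 : Nat.card F = Nat.card {x : G ⧸ K // t • x = x} := rfl
    rw [h3, Nat.card_eq_fintype_card, Fintype.card_subtype]
  rw [key] at hm
  unfold Nat.ModEq at h1
  omega

end Cfsg.Agent.Lib.Helper13.M11FO
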