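import Mathlib
import Cfsg.Agent.Lib.Helper13.SUMax
import Cfsg.Agent.Lib.Helper13.SubfPairs
import Cfsg.Agent.Lib.Helper13.SubfField

/-!
# The symplectic subfield subgroup is maximal in `SU_n(q)`

`F` has `q^2` elements, `K` is the subfield with `q` elements and `P` is a rational structure on
which `ζ h` is a `K`-valued alternating form `f`.  Every vector is `ι a + θ ι b` with `a, b`
rational, isotropic iff `f a b = 0`.  The unitary transvections with rational centre act on the
pairs `(a, b)` as the symplectic transvections of `f`, which are transitive on independent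
orthogonal pairs; an element outside the subfield group maps some rational vector to a vector with
independent components.
-/

set_option autoImplicit false
set_option linter.unusedSectionVars false

namespace Cfsg.Agent.Lib.Helper13

open Matrix Module Cfsg.Agent.Lib.Helper6 Cfsg.Agent.S0779 Cfsg.Agent.S0781
open Cfsg.Agent.Lib.Helper6.SUG

section subfsu
variable {F : Type*} [Field F] [Fintype F] {q n : ℕ}

local notation "hh" => Cfsg.hermForm n F q

/-- it suffices to have the transvections with trace-zero parameter -/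
theorem SuX.of_tv (hF : Fintype.card F = q ^ 2) {M : Subgroup (GL (Fin n) F)} {a : Fin n → F}
    (haa : hh a a = 0)
    (h : ∀ (c : F) (hc : c ^ q = -c), suGL n F q (SUG.tv hF a c haa hc) ∈ M) : SuX q M a := by
  refine ⟨haa, ?_⟩
  intro A c hA
  by_cases ha0 : a = 0
  · subst ha0
    exact (SuX.zero M).2 A c hA
  · have hAx : ∀ x, av A x = x + (c * hh x a) • a := by
      intro x
      change ((A : Matrix.SpecialLinearGroup (Fin n) F) : Matrix (Fin n) (Fin n) F) *ᵥ x = _
      rw [hA, transvection_mulVec]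
    have hc : c ^ q = -c := by
      obtain ⟨y, hy⟩ := exists_herm_ne_zero hF a ha0
      have hya : hh y a ≠ 0 := by
        rw [← herm_conj hF a y]
        exact pow_ne_zero _ hy
      have h1 := herm_av A y y
      rw [hAx, herm_add_left, herm_add_right hF, herm_add_right hF, herm_smul_left, herm_smul_left,
        herm_smul_right, herm_smul_right, haa, ← herm_conj hF y a, mul_pow] at h1
      have h3 : (c ^ q + c) * (hh y a * (hh y a) ^ q) = 0 := by linear_combination h1
      rcases mul_eq_zero.mp h3 with h4 | h4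
      · exact eq_neg_of_add_eq_zero_left h4
      · exfalso
        rcases mul_eq_zero.mp h4 with h5 | h5
        · exact hya h5
        · exact hya (pow_eq_zero_iff (q_pos hF).ne' |>.mp h5)
    have hAe : A = SUG.tv hF a c haa hc := ext_av (fun x => by rw [av_tv, hAx])
    rw [hAe]
    exact h c hc

/-- the embedding of `K^n` as the rational structure given by `P` -/
def iot (K : Subfield F) (P : GL (Fin n) F) (u : Fin n → K) : Fin n → F :=
  (P : Matrix (Fin n) (Fin n) F) *ᵥ rvec K u

theorem iot_add (K : Subfield F) (P : GL (Fin n) F) (u v : Fin n → K) :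
    iot K P (u + v) = iot K P u + iot K P v := by
  unfold iot
  rw [rvec_add, mulVec_add]

theorem iot_smul (K : Subfield F) (P : GL (Fin n) F) (k : K) (u : Fin n → K) :
    iot K P (k • u) = (k : F) • iot K P u := by
  unfold iot
  rw [rvec_smul, mulVec_smul]

theorem iot_zero (K : Subfield F) (P : GL (Fin n) F) : iot K P (0 : Fin n → K) = 0 := by
  unfold iot
  rw [rvec_zero, mulVec_zero]

theorem gl_mulVec_inj (P : GL (Fin n) F) {x y : Fin n → F}
    (h : (P : Matrix (Fin n) (Fin n) F) *ᵥ x = (P : Matrix (Fin n) (Fin n) F) *ᵥ y) : x = y := by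
  have := congrArg (fun v => (P⁻¹ : GL (Fin n) F).val *ᵥ v) h
  simpa [mulVec_mulVec, ← Units.val_mul] using this

theorem iot_inj (K : Subfield F) (P : GL (Fin n) F) {u v : Fin n → K}
    (h : iot K P u = iot K P v) : u = v :=
  rvec_inj K (gl_mulVec_inj P h)

/-- the vector with rational components `a`, `b` -/
def subE (K : Subfield F) (θ : F) (P : GL (Fin n) F) (a b : Fin n → K) : Fin n → F :=
  iot K P a + θ • iot K P b

theorem subE_eq (K : Subfield F) (θ : F) (P : GL (Fin n) F) (a b : Fin n → K) :
    subE K θ P a b = (P : Matrix (Fin n) (Fin n) F) *ᵥ (rvec K a + θ • rvec K b) := by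
  unfold subE iot
  rw [mulVec_add, mulVec_smul]

theorem exists_subE {K : Subfield F} {θ : F} (h : SubfData q K θ) (P : GL (Fin n) F)
    (v : Fin n → F) : ∃ a b : Fin n → K, v = subE K θ P a b := by
  have hdec := fun i => h.dec (((P⁻¹ : GL (Fin n) F).val *ᵥ v) i)
  choose a b hab using hdec
  refine ⟨a, b, ?_⟩
  rw [subE_eq]
  have e : rvec K a + θ • rvec K b = (P⁻¹ : GL (Fin n) F).val *ᵥ v := by
    ext i
    rw [hab i]
    rfl
  rw [e, mulVec_mulVec, ← Units.val_mul, mul_inv_cancel, Units.val_one, one_mulVec]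

theorem subE_inj {K : Subfield F} {θ : F} (h : SubfData q K θ) (P : GL (Fin n) F)
    {a b a' b' : Fin n → K} (e : subE K θ P a b = subE K θ P a' b') : a = a' ∧ b = b' := by
  rw [subE_eq, subE_eq] at e
  have e2 := gl_mulVec_inj P e
  have e3 : ∀ i, a i = a' i ∧ b i = b' i := by
    intro i
    have := congrFun e2 i
    exact h.uniq this
  exact ⟨funext fun i => (e3 i).1, funext fun i => (e3 i).2⟩

/-- the hypotheses: a rational structure on which `ζ h` is `K`-valued and alternating -/
structure SpSub (q : ℕ) (K : Subfield F) (ζ θ : F) (P : GL (Fin n) F) : Prop where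
  hF : Fintype.card F = q ^ 2
  sd : SubfData q K θ
  ζ0 : ζ ≠ 0
  ζq : ζ ^ q = -ζ
  rat : ∀ u v : Fin n → K, ζ * Cfsg.hermForm n F q (iot K P u) (iot K P v) ∈ K
  alt : ∀ u : Fin n → K, Cfsg.hermForm n F q (iot K P u) (iot K P u) = 0

variable {K : Subfield F} {ζ θ : F} {P : GL (Fin n) F}

/-- the `K`-valued alternating form -/
def subF (h : SpSub q K ζ θ P) (u v : Fin n → K) : K :=
  ⟨ζ * Cfsg.hermForm n F q (iot K P u) (iot K P v), h.rat u v⟩

theorem subF_coe (h : SpSub q K ζ θ P) (u v : Fin n → K) :
    (subF h u v : F) = ζ * hh (iot K P u) (iot K P v) := rfl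

theorem SpSub.herm_swap (h : SpSub q K ζ θ P) (x y : Fin n → K) :
    hh (iot K P x) (iot K P y) = - hh (iot K P y) (iot K P x) := by
  have h1 := h.alt (x + y)
  rw [iot_add, herm_add_left, herm_add_right h.hF, herm_add_right h.hF, h.alt, h.alt] at h1
  linear_combination h1

theorem SpSub.herm_subE_iot (h : SpSub q K ζ θ P) (a b u : Fin n → K) :
    ζ * hh (subE K θ P a b) (iot K P u) = (subF h a u : F) + θ * (subF h b u : F) := by
  rw [subF_coe, subF_coe]
  unfold subE
  rw [herm_add_left, herm_smul_left]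
  ring

theorem SpSub.herm_subE_self (h : SpSub q K ζ θ P) (a b : Fin n → K) :
    ζ * hh (subE K θ P a b) (subE K θ P a b) = (θ ^ q - θ) * (subF h a b : F) := by
  rw [subF_coe]
  unfold subE
  rw [herm_add_left, herm_add_right h.hF, herm_add_right h.hF, herm_smul_left, herm_smul_left,
    herm_smul_right, herm_smul_right, h.alt, h.alt, h.herm_swap b a]
  ring

theorem SpSub.iso_iff (h : SpSub q K ζ θ P) (a b : Fin n → K) :
    hh (subE K θ P a b) (subE K θ P a b) = 0 ↔ subF h a b = 0 := by
  have h1 := h.herm_subE_self a b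
  have hθ : θ ^ q - θ ≠ 0 := sub_ne_zero.mpr h.sd.θq
  constructor
  · intro h0
    rw [h0, mul_zero] at h1
    have h2 : (subF h a b : F) = 0 := (mul_eq_zero.mp h1.symm).resolve_left hθ
    exact_mod_cast h2
  · intro h0
    rw [h0] at h1
    have h2 : ζ * hh (subE K θ P a b) (subE K θ P a b) = 0 := by
      rw [h1]
      simp
    exact (mul_eq_zero.mp h2).resolve_left h.ζ0

theorem SpSub.altF (h : SpSub q K ζ θ P) : AltF (subF h) := by
  have hswap : ∀ x y, subF h x y = - subF h y x := by
    intro x y
    apply Subtype.ext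
    change ζ * hh (iot K P x) (iot K P y) = -(ζ * hh (iot K P y) (iot K P x))
    rw [h.herm_swap x y]
    ring
  refine ⟨?_, ?_, ?_, hswap, ?_⟩
  · intro x y z
    apply Subtype.ext
    change ζ * hh (iot K P (x + y)) (iot K P z) =
      ζ * hh (iot K P x) (iot K P z) + ζ * hh (iot K P y) (iot K P z)
    rw [iot_add, herm_add_left, mul_add]
  · intro c x z
    apply Subtype.ext
    change ζ * hh (iot K P (c • x)) (iot K P z) = (c : F) * (ζ * hh (iot K P x) (iot K P z))
    rw [iot_smul, herm_smul_left]
    ring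
  · intro x
    apply Subtype.ext
    change ζ * hh (iot K P x) (iot K P x) = 0
    rw [h.alt, mul_zero]
  · intro x hx
    have hx0 : iot K P x ≠ 0 := by
      intro h0
      apply hx
      apply iot_inj K P
      rw [h0, iot_zero]
    obtain ⟨w, hw⟩ := exists_herm_ne_zero h.hF (iot K P x) hx0
    have hw' : hh w (iot K P x) ≠ 0 := by
      rw [← herm_conj h.hF (iot K P x) w]
      exact pow_ne_zero _ hw
    obtain ⟨a, b, rfl⟩ := exists_subE h.sd P w
    have h1 := h.herm_subE_iot a b x
    by_contra hne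
    push Not at hne
    rw [hne a, hne b] at h1
    apply hw'
    have h2 : ζ * hh (subE K θ P a b) (iot K P x) = 0 := by
      rw [h1]
      simp
    exact (mul_eq_zero.mp h2).resolve_left h.ζ0

/-- the transvection with rational centre and parameter `k ζ` -/
noncomputable def subTv (h : SpSub q K ζ θ P) (u : Fin n → K) (k : K) : ↥(Cfsg.SU n F q) :=
  SUG.tv h.hF (iot K P u) ((k : F) * ζ) (h.alt u)
    (by rw [mul_pow, h.sd.fixK, h.ζq]; ring)

theorem subTv_iot (h : SpSub q K ζ θ P) (u : Fin n → K) (k : K) (x : Fin n → K) :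
    av (subTv h u k) (iot K P x) = iot K P (altT (subF h) u k x) := by
  unfold subTv altT
  rw [av_tv, iot_add, iot_smul]
  congr 2
  push_cast
  rw [subF_coe]
  ring

theorem subTv_subE (h : SpSub q K ζ θ P) (u : Fin n → K) (k : K) (a b : Fin n → K) :
    av (subTv h u k) (subE K θ P a b) =
      subE K θ P (altT (subF h) u k a) (altT (subF h) u k b) := by
  unfold subE
  rw [av_add, av_smul, subTv_iot, subTv_iot]

theorem subTv_mem (h : SpSub q K ζ θ P) (u : Fin n → K) (k : K) :
    suGL n F q (subTv h u k) ∈ Cfsg.Geo.subfieldSubgroup K P := by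
  refine mem_subfieldSubgroup_of_eq K P _ 1 one_ne_zero
    (fun i j => altT (subF h) u k (Pi.single j 1) i) ?_
  rw [one_smul]
  ext i j
  have h1 : ((P⁻¹ * suGL n F q (subTv h u k) * P : GL (Fin n) F) : Matrix (Fin n) (Fin n) F) *ᵥ
      (Pi.single j 1) = rvec K (altT (subF h) u k (Pi.single j 1)) := by
    rw [Units.val_mul, Units.val_mul, ← mulVec_mulVec, ← mulVec_mulVec, ← rvec_single K j]
    change (P⁻¹ : GL (Fin n) F).val *ᵥ ((suGL n F q (subTv h u k) : GL (Fin n) F).val *ᵥ
      iot K P (Pi.single j 1)) = _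
    rw [suGL_mulVec, subTv_iot]
    unfold iot
    rw [mulVec_mulVec, ← Units.val_mul, inv_mul_cancel, Units.val_one, one_mulVec]
  have h2 := congrFun h1 i
  rw [Matrix.mulVec_single_one] at h2
  exact h2

/-- every trace-zero parameter is a rational multiple of `ζ` -/
theorem SpSub.exists_param (h : SpSub q K ζ θ P) (c : F) (hc : c ^ q = -c) :
    ∃ k : K, c = (k : F) * ζ := by
  have h1 : (c / ζ) ^ q = c / ζ := by
    rw [div_pow, hc, h.ζq, neg_div_neg_eq]
  obtain ⟨k, hk⟩ := h.sd.mem_of_pow h.hF (c / ζ) h1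
  refine ⟨k, ?_⟩
  rw [← hk, div_mul_cancel₀ _ h.ζ0]

/-- rational vectors are centres of transvections of any overgroup of the subfield group -/
theorem SpSub.suX_iot (h : SpSub q K ζ θ P) {M : Subgroup (GL (Fin n) F)}
    (hHM : Cfsg.Geo.subfieldSubgroup K P ⊓ (Cfsg.GU n F q ⊓ Cfsg.Geo.specialLinear (Fin n) F) ≤ M)
    (u : Fin n → K) : SuX q M (iot K P u) := by
  apply SuX.of_tv h.hF (h.alt u)
  intro c hc
  obtain ⟨k, hk⟩ := h.exists_param c hc
  have e : SUG.tv h.hF (iot K P u) c (h.alt u) hc = subTv h u k := by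
    unfold subTv
    congr 1
  rw [e]
  exact hHM ⟨subTv_mem h u k, suGL_mem _⟩

/-- an element outside the subfield group maps a rational vector to one with independent
components -/
theorem SpSub.exists_nonpure (h : SpSub q K ζ θ P) (hn : 0 < n) (g : GL (Fin n) F)
    (hg : g ∉ Cfsg.Geo.subfieldSubgroup K P) :
    ∃ u a b : Fin n → K, (g : Matrix (Fin n) (Fin n) F) *ᵥ iot K P u = subE K θ P a b ∧
      a ≠ 0 ∧ ∀ k : K, b ≠ k • a := by
  by_contra hne
  push Not at hne
  apply hg
  have hA : ∀ u : Fin n → K, ∃ (l : F) (r : Fin n → K),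
      ((P⁻¹ * g * P : GL (Fin n) F) : Matrix (Fin n) (Fin n) F) *ᵥ rvec K u = l • rvec K r := by
    intro u
    obtain ⟨a, b, hab⟩ := exists_subE h.sd P ((g : Matrix (Fin n) (Fin n) F) *ᵥ iot K P u)
    have e : ((P⁻¹ * g * P : GL (Fin n) F) : Matrix (Fin n) (Fin n) F) *ᵥ rvec K u =
        rvec K a + θ • rvec K b := by
      rw [Units.val_mul, Units.val_mul, ← mulVec_mulVec, ← mulVec_mulVec]
      change (P⁻¹ : GL (Fin n) F).val *ᵥ ((g : Matrix (Fin n) (Fin n) F) *ᵥ iot K P u) = _
      rw [hab, subE_eq, mulVec_mulVec, ← Units.val_mul, inv_mul_cancel, Units.val_one, one_mulVec]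
    by_cases ha : a = 0
    · refine ⟨θ, b, ?_⟩
      rw [e, ha, rvec_zero, zero_add]
    · obtain ⟨k, hk⟩ := hne u a b hab ha
      refine ⟨1 + θ * (k : F), a, ?_⟩
      rw [e, hk, rvec_smul, smul_smul, add_smul, one_smul]
  obtain ⟨l, B, hl, hB⟩ := exists_rational_of_pure hn K (P⁻¹ * g * P) hA
  exact mem_subfieldSubgroup_of_eq K P g l hl B hB

/-- **The symplectic subfield subgroup is maximal in `SU_n(q)`.** -/
theorem sp_subfield_maximal (h : SpSub q K ζ θ P) (hn : 4 ≤ n) :
    Cfsg.Geo.IsMaximalIn (Cfsg.GU n F q ⊓ Cfsg.Geo.specialLinear (Fin n) F)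
      (Cfsg.Geo.subfieldSubgroup K P ⊓
        (Cfsg.GU n F q ⊓ Cfsg.Geo.specialLinear (Fin n) F)) := by
  classical
  have hA := h.altF
  refine ⟨lt_of_le_of_ne inf_le_right ?_, ?_⟩
  · intro heq
    -- a rational configuration a ⟂ b, f a u = 1, f b u = 0
    obtain ⟨a, ha⟩ : ∃ a : Fin n → K, a ≠ 0 := by
      refine ⟨Pi.single ⟨0, by omega⟩ 1, ?_⟩
      intro h0
      have := congrFun h0 ⟨0, by omega⟩
      simp at this
    obtain ⟨u₀, hu₀⟩ := hA.nd a ha
    obtain ⟨u, hu⟩ : ∃ u : Fin n → K, subF h a u = 1 := by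
      refine ⟨(-(subF h u₀ a)⁻¹) • u₀, ?_⟩
      rw [hA.smul_right, hA.swap a u₀]
      field_simp
    have hy : ∃ y : Fin n → K, y ∉ Submodule.span K ({a, u} : Set (Fin n → K)) := by
      by_contra hne
      push Not at hne
      have htop : Submodule.span K ({a, u} : Set (Fin n → K)) = ⊤ :=
        Submodule.eq_top_iff'.mpr hne
      have h1 : finrank K (Submodule.span K (({a, u} : Finset (Fin n → K)) : Set (Fin n → K))) ≤ 2 :=
        (finrank_span_finset_le_card (R := K) ({a, u} : Finset (Fin n → K))).trans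
          Finset.card_le_two
      rw [Finset.coe_insert, Finset.coe_singleton, htop, finrank_top,
        Module.finrank_fintype_fun_eq_card, Fintype.card_fin] at h1
      omega
    obtain ⟨y, hy⟩ := hy
    obtain ⟨b, hb⟩ : ∃ b : Fin n → K, b = y - subF h y u • a + subF h y a • u := ⟨_, rfl⟩
    have hb0 : b ≠ 0 := by
      intro h0
      apply hy
      have : y = subF h y u • a - subF h y a • u := by
        rw [h0] at hb
        rw [eq_sub_iff_add_eq, ← sub_eq_zero]
        rw [hb]
        abel
      rw [this]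
      exact Submodule.sub_mem _
        (Submodule.smul_mem _ _ (Submodule.subset_span (by simp)))
        (Submodule.smul_mem _ _ (Submodule.subset_span (by simp)))
    have hua : subF h u a = -1 := by rw [hA.swap, hu]
    have hab : subF h a b = 0 := by
      rw [hb, hA.add_right, hA.sub_right, hA.smul_right, hA.smul_right, hA.self, hu,
        hA.swap a y]
      ring
    have hbu : subF h b u = 0 := by
      rw [hb, hA.add_left, hA.sub_left, hA.smul_left, hA.smul_left, hA.self, hu]
      ring
    have hiso : hh (subE K θ P a b) (subE K θ P a b) = 0 := (h.iso_iff a b).mpr hab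
    -- the transvection with centre `E a b`
    have hmem : suGL n F q (SUG.tv h.hF (subE K θ P a b) ζ hiso h.ζq) ∈
        Cfsg.Geo.subfieldSubgroup K P ⊓
          (Cfsg.GU n F q ⊓ Cfsg.Geo.specialLinear (Fin n) F) := by
      rw [heq]
      exact suGL_mem _
    obtain ⟨l, B, hB⟩ := exists_eq_of_mem_subfieldSubgroup K P _ hmem.1
    -- image of `ι u`
    have e1 : av (SUG.tv h.hF (subE K θ P a b) ζ hiso h.ζq) (iot K P u) =
        subE K θ P (u - a) (-b) := by
      rw [av_tv]
      have h1 := h.herm_subE_iot a b u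
      rw [hu, hbu] at h1
      have h2 : hh (subE K θ P a b) (iot K P u) = ζ⁻¹ := by
        have h1' : ζ * hh (subE K θ P a b) (iot K P u) = 1 := by
          rw [h1]
          simp
        exact eq_inv_of_mul_eq_one_right h1'
      have h3 : hh (iot K P u) (subE K θ P a b) = -ζ⁻¹ := by
        rw [← herm_conj h.hF (subE K θ P a b) (iot K P u), h2, inv_pow, h.ζq, inv_neg]
      rw [h3, mul_neg, mul_inv_cancel₀ h.ζ0, neg_smul, one_smul]
      unfold subE
      have e2 : iot K P (u - a) = iot K P u - iot K P a := by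
        rw [sub_eq_add_neg, iot_add, ← neg_one_smul K a, iot_smul]
        simp [sub_eq_add_neg]
      have e3 : iot K P (-b) = - iot K P b := by
        rw [← neg_one_smul K b, iot_smul]
        simp
      rw [e2, e3, smul_neg]
      abel
    have e4 : av (SUG.tv h.hF (subE K θ P a b) ζ hiso h.ζq) (iot K P u) =
        l • iot K P (B *ᵥ u) := by
      rw [← suGL_mulVec]
      have h5 : (suGL n F q (SUG.tv h.hF (subE K θ P a b) ζ hiso h.ζq) : GL (Fin n) F) =
          P * (P⁻¹ * suGL n F q (SUG.tv h.hF (subE K θ P a b) ζ hiso h.ζq) * P) * P⁻¹ := by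
        group
      rw [h5, Units.val_mul, Units.val_mul, hB]
      unfold iot
      rw [← mulVec_mulVec, ← mulVec_mulVec, mulVec_mulVec (rvec K u), ← Units.val_mul,
        inv_mul_cancel, Units.val_one, one_mulVec, smul_mulVec, rmat_mulVec, mulVec_smul]
    obtain ⟨l₁, l₂, hl⟩ := h.sd.dec l
    have e5 : l • iot K P (B *ᵥ u) = subE K θ P (l₁ • (B *ᵥ u)) (l₂ • (B *ᵥ u)) := by
      unfold subE
      rw [iot_smul, iot_smul, hl, smul_smul, add_smul, mul_smul]
    rw [e1, e5] at e4
    obtain ⟨h6, h7⟩ := subE_inj h.sd P e4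
    -- f a (u - a) = 1 but f a (-b) = 0
    have h8 : subF h a (l₁ • (B *ᵥ u)) = 1 := by
      rw [← h6, hA.sub_right, hu, hA.self, sub_zero]
    have h9 : subF h a (l₂ • (B *ᵥ u)) = 0 := by
      rw [← h7, ← neg_one_smul K b, hA.smul_right, hab, mul_zero]
    rw [hA.smul_right] at h8 h9
    have h10 : subF h a (B *ᵥ u) ≠ 0 := by
      intro h0
      rw [h0, mul_zero] at h8
      exact zero_ne_one h8
    have h11 : l₂ = 0 := (mul_eq_zero.mp h9).resolve_right h10
    apply hb0
    have : -b = 0 := by rw [h7, h11, zero_smul]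
    exact neg_eq_zero.mp this
  · intro M hHM hMS
    by_cases hMH : M ≤ Cfsg.Geo.subfieldSubgroup K P ⊓
        (Cfsg.GU n F q ⊓ Cfsg.Geo.specialLinear (Fin n) F)
    · exact Or.inl (le_antisymm hMH hHM)
    right
    have h32 : ¬ (n = 3 ∧ q = 2) := by omega
    refine le_antisymm hMS (suGL_le_of_forall h.hF (by omega) h32 M ?_)
    obtain ⟨g, hgM, hgH⟩ := SetLike.not_le_iff_exists.mp hMH
    have hgS := hMS hgM
    have hgK : g ∉ Cfsg.Geo.subfieldSubgroup K P := fun hk => hgH ⟨hk, hgS⟩
    obtain ⟨u₀, a, b, hgu, ha, hb⟩ := h.exists_nonpure (by omega) g hgK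
    obtain ⟨g', hg'⟩ := exists_suGL_eq g hgS
    have hX₀ : SuX q M (subE K θ P a b) := by
      have h1 := (h.suX_iot hHM u₀).map g' (by rw [hg']; exact hgM)
      have h2 : av g' (iot K P u₀) = subE K θ P a b := by
        rw [← suGL_mulVec, hg']
        exact hgu
      rwa [h2] at h1
    have hab : subF h a b = 0 := (h.iso_iff a b).mp hX₀.1
    -- closure under the rational transvections
    have hcl : ∀ (u : Fin n → K) (c : K) (a b : Fin n → K), SuX q M (subE K θ P a b) →
        SuX q M (subE K θ P (altT (subF h) u c a) (altT (subF h) u c b)) := by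
      intro u c a b hX
      have h1 := hX.map (subTv h u c) (hHM ⟨subTv_mem h u c, suGL_mem _⟩)
      rwa [subTv_subE] at h1
    intro v hv
    obtain ⟨a', b', rfl⟩ := exists_subE h.sd P v
    have hab' : subF h a' b' = 0 := (h.iso_iff a' b').mp hv
    by_cases ha' : a' = 0
    · have e : subE K θ P a' b' = θ • iot K P b' := by
        unfold subE
        rw [ha', iot_zero, zero_add]
      rw [e]
      exact (h.suX_iot hHM b').smul θ
    · by_cases hb' : ∃ k : K, b' = k • a'
      · obtain ⟨k, hk⟩ := hb'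
        have e : subE K θ P a' b' = (1 + θ * (k : F)) • iot K P a' := by
          unfold subE
          rw [hk, iot_smul, smul_smul, add_smul, one_smul]
        rw [e]
        exact (h.suX_iot hHM a').smul _
      · push Not at hb'
        exact pairs_all (PP := fun a b => SuX q M (subE K θ P a b)) hA hcl hX₀ ha hb hab ha' hb'
          hab'

end subfsu

end Cfsg.Agent.Lib.Helper13
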