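import Mathlib
import Cfsg.Agent.Lib.Helper13.SubfSU
import Cfsg.Agent.Lib.Helper13.OrthMax
import Cfsg.Agent.Lib.Helper15.Witt1

/-!
# The orthogonal subfield subgroup of `SU_n(q)`, `q` odd: definitions

`F` has `q^2` elements, `K` is the subfield with `q` elements, `θ^q = -θ`, and `P` is a rational
structure on which the Hermitian form `h` is `K`-valued, hence restricts to a nondegenerate
symmetric bilinear form `oB` on `K^n`.  Every vector is `ι a + θ ι b`.  We set up the form `oB`,
the formulas for `h` in terms of `oB`, abstract symmetric forms `SymF` with the existence of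
singular vectors orthogonal to a short list of vectors, and the rational Eichler elements
`oEich`, which lie in the subfield group.
-/

set_option autoImplicit false
set_option linter.unusedSectionVars false

namespace Cfsg.Agent.Lib.Helper13

open Matrix Module Cfsg.Agent.Lib.Helper6 Cfsg.Agent.S0779 Cfsg.Agent.S0781
open Cfsg.Agent.Lib.Helper6.SUG

section symf
variable {K : Type*} [Field K] {n : ℕ}

/-- a nondegenerate symmetric bilinear form on `K^n` given as a function -/
structure SymF (f : (Fin n → K) → (Fin n → K) → K) : Prop where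
  add_left : ∀ x y z, f (x + y) z = f x z + f y z
  smul_left : ∀ (c : K) x z, f (c • x) z = c * f x z
  symm : ∀ x y, f x y = f y x
  nd : ∀ x, x ≠ 0 → ∃ y, f x y ≠ 0

variable {f : (Fin n → K) → (Fin n → K) → K}

theorem SymF.add_right (hf : SymF f) (x y z : Fin n → K) : f x (y + z) = f x y + f x z := by
  rw [hf.symm x (y + z), hf.add_left, hf.symm y x, hf.symm z x]

theorem SymF.smul_right (hf : SymF f) (c : K) (x z : Fin n → K) : f x (c • z) = c * f x z := by
  rw [hf.symm x (c • z), hf.smul_left, hf.symm z x]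

theorem SymF.zero_left (hf : SymF f) (x : Fin n → K) : f 0 x = 0 := by
  have := hf.smul_left 0 0 x
  rwa [zero_smul, zero_mul] at this

theorem SymF.zero_right (hf : SymF f) (x : Fin n → K) : f x 0 = 0 := by
  rw [hf.symm, hf.zero_left]

theorem SymF.neg_left (hf : SymF f) (x y : Fin n → K) : f (-x) y = - f x y := by
  have := hf.smul_left (-1) x y
  rwa [neg_one_smul, neg_one_mul] at this

theorem SymF.neg_right (hf : SymF f) (x y : Fin n → K) : f x (-y) = - f x y := by
  rw [hf.symm, hf.neg_left, hf.symm]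

theorem SymF.sub_left (hf : SymF f) (x y z : Fin n → K) : f (x - y) z = f x z - f y z := by
  rw [sub_eq_add_neg, hf.add_left, hf.neg_left, sub_eq_add_neg]

theorem SymF.sub_right (hf : SymF f) (x y z : Fin n → K) : f x (y - z) = f x y - f x z := by
  rw [sub_eq_add_neg, hf.add_right, hf.neg_right, sub_eq_add_neg]

/-- the bilinear form -/
def SymF.toBilin (hf : SymF f) : LinearMap.BilinForm K (Fin n → K) :=
  LinearMap.mk₂ K f hf.add_left hf.smul_left hf.add_right hf.smul_right

theorem SymF.toBilin_apply (hf : SymF f) (x y : Fin n → K) : hf.toBilin x y = f x y := rfl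

/-- the quadratic form `x ↦ f x x` -/
def SymF.toQ (hf : SymF f) : QuadraticForm K (Fin n → K) := hf.toBilin.toQuadraticMap

theorem SymF.toQ_apply (hf : SymF f) (x : Fin n → K) : hf.toQ x = f x x := rfl

/-- the subspace of the vectors orthogonal to all members of a list -/
def SymF.perpL (hf : SymF f) : List (Fin n → K) → Submodule K (Fin n → K)
  | [] => ⊤
  | v :: L => hf.perpL L ⊓ LinearMap.ker (hf.toBilin v)

theorem SymF.mem_perpL (hf : SymF f) (L : List (Fin n → K)) (z : Fin n → K) :
    z ∈ hf.perpL L ↔ ∀ v ∈ L, f v z = 0 := by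
  induction L with
  | nil => simp [SymF.perpL]
  | cons v L ih =>
    simp only [SymF.perpL, Submodule.mem_inf, ih, LinearMap.mem_ker, hf.toBilin_apply,
      List.mem_cons, forall_eq_or_imp]
    tauto

theorem SymF.finrank_perpL (hf : SymF f) (L : List (Fin n → K)) :
    n ≤ finrank K ↥(hf.perpL L) + L.length := by
  induction L with
  | nil =>
    change n ≤ finrank K ↥(⊤ : Submodule K (Fin n → K)) + 0
    rw [finrank_top, Module.finrank_fintype_fun_eq_card, Fintype.card_fin, add_zero]
  | cons v L ih =>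
    have h1 := finrank_le_inf_ker_add_one (hf.perpL L) (hf.toBilin v)
    change n ≤ finrank K ↥(hf.perpL L ⊓ LinearMap.ker (hf.toBilin v)) + (L.length + 1)
    omega

/-- a subspace of dimension at least three contains a nonzero singular vector -/
theorem SymF.exists_singular_sub [Finite K] (hf : SymF f) (S : Submodule K (Fin n → K))
    (hS : 3 ≤ finrank K S) : ∃ z ∈ S, z ≠ 0 ∧ f z z = 0 := by
  obtain ⟨z, hz0, hz⟩ := Cfsg.Agent.Lib.Helper15.exists_singular_of_three_le_finrank
    (hf.toQ.comp S.subtype) hS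
  exact ⟨(z : Fin n → K), z.2, fun h0 => hz0 (Subtype.ext h0), hz⟩

/-- a nonzero singular vector orthogonal to a short list of vectors -/
theorem SymF.exists_singular_perp [Finite K] (hf : SymF f) (L : List (Fin n → K))
    (hL : L.length + 3 ≤ n) : ∃ z : Fin n → K, z ≠ 0 ∧ f z z = 0 ∧ ∀ v ∈ L, f v z = 0 := by
  have h1 := hf.finrank_perpL L
  obtain ⟨z, hzS, hz0, hz⟩ := hf.exists_singular_sub (hf.perpL L) (by omega)
  exact ⟨z, hz0, hz, (hf.mem_perpL L z).mp hzS⟩

/-- a nonzero vector orthogonal to a short list of vectors -/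
theorem SymF.exists_ne_zero_perp (hf : SymF f) (L : List (Fin n → K))
    (hL : L.length + 1 ≤ n) : ∃ z : Fin n → K, z ≠ 0 ∧ ∀ v ∈ L, f v z = 0 := by
  have h1 := hf.finrank_perpL L
  have hpos : 0 < finrank K ↥(hf.perpL L) := by omega
  obtain ⟨⟨z, hzS⟩, hz0⟩ := Module.finrank_pos_iff_exists_ne_zero.mp hpos
  exact ⟨z, fun h => hz0 (Subtype.ext h), (hf.mem_perpL L z).mp hzS⟩

/-- the rational Eichler (Siegel) transformation of `K^n` -/
def SymF.sieg (_hf : SymF f) (u c x : Fin n → K) : Fin n → K :=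
  x + f x u • (c - (f c c / 2) • u) - f x c • u

end symf

section osub
variable {F : Type*} [Field F] [Fintype F] {q n : ℕ}

local notation "hh" => Cfsg.hermForm n F q

/-- the hypotheses: a rational structure on which `h` is `K`-valued, `q` odd -/
structure OSub (q : ℕ) (K : Subfield F) (θ : F) (P : GL (Fin n) F) : Prop where
  hF : Fintype.card F = q ^ 2
  sd : SubfData q K θ
  θq : θ ^ q = -θ
  two : (2 : F) ≠ 0
  rat : ∀ u v : Fin n → K, Cfsg.hermForm n F q (iot K P u) (iot K P v) ∈ K

variable {K : Subfield F} {θ : F} {P : GL (Fin n) F}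

/-- the `K`-valued symmetric form -/
def oB (h : OSub q K θ P) (u v : Fin n → K) : K :=
  ⟨Cfsg.hermForm n F q (iot K P u) (iot K P v), h.rat u v⟩

theorem oB_coe (h : OSub q K θ P) (u v : Fin n → K) :
    (oB h u v : F) = hh (iot K P u) (iot K P v) := rfl

theorem OSub.θ0 (h : OSub q K θ P) : θ ≠ 0 := by
  intro h0
  apply h.sd.θq
  rw [h0, zero_pow]
  intro hq
  have h1 := h.hF
  rw [hq] at h1
  have h2 : 0 < Fintype.card F := Fintype.card_pos
  omega

theorem OSub.two' (h : OSub q K θ P) : (2 : K) ≠ 0 := by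
  intro h0
  apply h.two
  have h1 := congrArg (fun x : K => (x : F)) h0
  exact h1

theorem OSub.θsq_mem (h : OSub q K θ P) : θ ^ 2 ∈ K := by
  have h1 : (θ ^ 2) ^ q = θ ^ 2 := by
    rw [← pow_mul, mul_comm, pow_mul, h.θq]
    ring
  obtain ⟨k, hk⟩ := h.sd.mem_of_pow h.hF (θ ^ 2) h1
  rw [hk]
  exact k.2

/-- `ε = θ²`, a nonsquare of `K` -/
def oEps (h : OSub q K θ P) : K := ⟨θ ^ 2, h.θsq_mem⟩

theorem oEps_coe (h : OSub q K θ P) : (oEps h : F) = θ ^ 2 := rfl

theorem oEps_ne_zero (h : OSub q K θ P) : oEps h ≠ 0 := by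
  intro h0
  have := congrArg (fun x : K => (x : F)) h0
  simp only [oEps_coe, ZeroMemClass.coe_zero] at this
  exact h.θ0 (pow_eq_zero_iff two_ne_zero |>.mp this)

theorem OSub.symF (h : OSub q K θ P) : SymF (oB h) := by
  refine ⟨?_, ?_, ?_, ?_⟩
  · intro x y z
    apply Subtype.ext
    change hh (iot K P (x + y)) (iot K P z) = hh (iot K P x) (iot K P z) + hh (iot K P y) (iot K P z)
    rw [iot_add, herm_add_left]
  · intro c x z
    apply Subtype.ext
    change hh (iot K P (c • x)) (iot K P z) = (c : F) * hh (iot K P x) (iot K P z)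
    rw [iot_smul, herm_smul_left]
  · intro x y
    apply Subtype.ext
    change hh (iot K P x) (iot K P y) = hh (iot K P y) (iot K P x)
    rw [← herm_conj h.hF (iot K P x) (iot K P y), ← oB_coe h x y, h.sd.fixK]
  · intro x hx
    have hx0 : iot K P x ≠ 0 := by
      intro h0
      apply hx
      apply iot_inj K P
      rw [h0, iot_zero]
    obtain ⟨w, hw⟩ := exists_herm_ne_zero h.hF (iot K P x) hx0
    obtain ⟨a, b, rfl⟩ := exists_subE h.sd P w
    by_contra hne
    push Not at hne
    apply hw
    unfold subE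
    rw [herm_add_right h.hF, herm_smul_right, ← oB_coe h x a, ← oB_coe h x b, hne a, hne b]
    simp

theorem OSub.herm_subE_iot (h : OSub q K θ P) (a b u : Fin n → K) :
    hh (subE K θ P a b) (iot K P u) = (oB h a u : F) + θ * (oB h b u : F) := by
  rw [oB_coe, oB_coe]
  unfold subE
  rw [herm_add_left, herm_smul_left]

theorem OSub.herm_iot_subE (h : OSub q K θ P) (a b u : Fin n → K) :
    hh (iot K P u) (subE K θ P a b) = (oB h u a : F) - θ * (oB h u b : F) := by
  rw [oB_coe, oB_coe]
  unfold subE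
  rw [herm_add_right h.hF, herm_smul_right, h.θq]
  ring

theorem OSub.herm_subE_subE (h : OSub q K θ P) (a b c d : Fin n → K) :
    hh (subE K θ P a b) (subE K θ P c d) =
      (oB h a c : F) - θ ^ 2 * (oB h b d : F) + θ * ((oB h b c : F) - (oB h a d : F)) := by
  rw [oB_coe, oB_coe, oB_coe, oB_coe]
  unfold subE
  rw [herm_add_left, herm_add_right h.hF, herm_add_right h.hF, herm_smul_left, herm_smul_left,
    herm_smul_right, herm_smul_right, h.θq]
  ring

theorem OSub.herm_subE_self (h : OSub q K θ P) (a b : Fin n → K) :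
    hh (subE K θ P a b) (subE K θ P a b) = (oB h a a : F) - θ ^ 2 * (oB h b b : F) := by
  rw [h.herm_subE_subE, h.symF.symm b a]
  ring

theorem OSub.iso_iff (h : OSub q K θ P) (a b : Fin n → K) :
    hh (subE K θ P a b) (subE K θ P a b) = 0 ↔ oB h a a = oEps h * oB h b b := by
  rw [h.herm_subE_self]
  constructor
  · intro h0
    apply Subtype.ext
    push_cast
    rw [oEps_coe]
    linear_combination h0
  · intro h0
    have := congrArg (fun x : K => (x : F)) h0
    simp only [Subfield.coe_mul, oEps_coe] at this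
    linear_combination this

theorem OSub.iso_iot_iff (h : OSub q K θ P) (a : Fin n → K) :
    hh (iot K P a) (iot K P a) = 0 ↔ oB h a a = 0 := by
  rw [← oB_coe h a a]
  constructor
  · intro h0
    exact_mod_cast h0
  · intro h0
    rw [h0]
    rfl

theorem subE_zero_right (K : Subfield F) (θ : F) (P : GL (Fin n) F) (a : Fin n → K) :
    subE K θ P a 0 = iot K P a := by
  unfold subE
  rw [iot_zero, smul_zero, add_zero]

theorem subE_add (K : Subfield F) (θ : F) (P : GL (Fin n) F) (a b c d : Fin n → K) :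
    subE K θ P (a + c) (b + d) = subE K θ P a b + subE K θ P c d := by
  unfold subE
  rw [iot_add, iot_add, smul_add]
  abel

theorem subE_smul (K : Subfield F) (θ : F) (P : GL (Fin n) F) (k : K) (a b : Fin n → K) :
    subE K θ P (k • a) (k • b) = (k : F) • subE K θ P a b := by
  unfold subE
  rw [iot_smul, iot_smul, smul_add, smul_comm]

/-- multiplication by `θ` -/
theorem subE_theta (h : OSub q K θ P) (a b : Fin n → K) :
    θ • subE K θ P a b = subE K θ P (oEps h • b) a := by
  unfold subE
  rw [iot_smul, oEps_coe, smul_add, smul_smul, add_comm, pow_two]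

/-- trace-zero parameters are the rational multiples of `θ` -/
theorem OSub.exists_param (h : OSub q K θ P) (c : F) (hc : c ^ q = -c) :
    ∃ k : K, c = (k : F) * θ := by
  have h1 : (c / θ) ^ q = c / θ := by
    rw [div_pow, hc, h.θq, neg_div_neg_eq]
  obtain ⟨k, hk⟩ := h.sd.mem_of_pow h.hF (c / θ) h1
  refine ⟨k, ?_⟩
  rw [← hk, div_mul_cancel₀ _ h.θ0]

theorem OSub.param_pow (h : OSub q K θ P) (k : K) : ((k : F) * θ) ^ q = -((k : F) * θ) := by
  rw [mul_pow, h.sd.fixK, h.θq]
  ring

theorem OSub.half_add (h : OSub q K θ P) (k : K) :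
    (k : F) / 2 + ((k : F) / 2) ^ q = k := by
  have h2' : (2 : F) ^ q = 2 := h.sd.fixK 2
  rw [div_pow, h.sd.fixK, h2']
  have := h.two
  field_simp
  ring

/-- the hypotheses of the statement give the data -/
theorem exists_osub (hF : Fintype.card F = q ^ 2) (hodd : Odd q) (K : Subfield F)
    (hcard : Fintype.card F = Nat.card K ^ 2) (P : GL (Fin n) F)
    (hP : Cfsg.Geo.IsFormRationalStructure (Cfsg.hermForm n F q) K 1 P) :
    ∃ θ, OSub q K θ P := by
  obtain ⟨θ₀, sd₀⟩ := exists_subfData hF K hcard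
  have two : (2 : F) ≠ 0 := by
    intro h2
    have h1 : ((Fintype.card F : ℕ) : F) = 0 := Nat.cast_card_eq_zero F
    rw [hF] at h1
    push_cast at h1
    have h3 : (q : F) = 0 := pow_eq_zero_iff two_ne_zero |>.mp h1
    obtain ⟨k, hk⟩ := hodd
    rw [hk] at h3
    push_cast at h3
    rw [h2, zero_mul, zero_add] at h3
    exact one_ne_zero h3
  have hθq : (θ₀ - θ₀ ^ q) ^ q = -(θ₀ - θ₀ ^ q) := by
    rw [sub_pow_q hF, pow_q_q hF]
    ring
  have hθ0 : θ₀ - θ₀ ^ q ≠ 0 := fun h0 => sd₀.θq (sub_eq_zero.mp h0).symm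
  have hθne : (θ₀ - θ₀ ^ q) ^ q ≠ θ₀ - θ₀ ^ q := by
    rw [hθq]
    intro h0
    have h1 : (2 : F) * (θ₀ - θ₀ ^ q) = 0 := by linear_combination -h0
    rcases mul_eq_zero.mp h1 with h2 | h2
    · exact two h2
    · exact hθ0 h2
  refine ⟨θ₀ - θ₀ ^ q, hF, ⟨sd₀.fixK, hθne, ?_⟩, hθq, two, ?_⟩
  · obtain ⟨c, d, hcd⟩ := sd₀.dec (θ₀ ^ q)
    have hd : (1 : K) - d ≠ 0 := by
      intro h0
      apply hθne
      have h1 : ((1 - d : K) : F) = 0 := by rw [h0]; rfl
      push_cast at h1
      have h2 : θ₀ - θ₀ ^ q = ((-c : K) : F) := by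
        push_cast
        rw [hcd]
        linear_combination θ₀ * h1
      rw [h2]
      exact sd₀.fixK _
    have hd' : (1 : F) - (d : F) ≠ 0 := by
      intro h0
      apply hd
      apply Subtype.ext
      push_cast
      exact h0
    intro x
    obtain ⟨a, b, hab⟩ := sd₀.dec x
    refine ⟨a + b * c / (1 - d), b / (1 - d), ?_⟩
    push_cast
    rw [hab, hcd]
    field_simp
    ring
  · intro u v
    have := hP (rvec K u) (rvec K v) (fun i => (u i).2) (fun i => (v i).2)
    rwa [one_mul] at this

/-- the rational Eichler element with centre `ι u` and direction `ι c` -/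
noncomputable def oEich (h : OSub q K θ P) (u c : Fin n → K) (hu : oB h u u = 0)
    (huc : oB h u c = 0) : ↥(Cfsg.SU n F q) :=
  eich h.hF (iot K P u) (iot K P c) ((oB h c c : F) / 2)
    ((h.iso_iot_iff u).mpr hu)
    (by rw [← oB_coe h u c, huc]; rfl)
    (by rw [h.half_add, oB_coe])

theorem oEich_iot (h : OSub q K θ P) (u c : Fin n → K) (hu : oB h u u = 0)
    (huc : oB h u c = 0) (x : Fin n → K) :
    av (oEich h u c hu huc) (iot K P x) = iot K P (h.symF.sieg u c x) := by
  unfold oEich SymF.sieg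
  rw [av_eich, ← oB_coe, ← oB_coe]
  have e1 : ∀ a b : Fin n → K, iot K P (a - b) = iot K P a - iot K P b := by
    intro a b
    rw [sub_eq_add_neg, iot_add, ← neg_one_smul K b, iot_smul]
    simp [sub_eq_add_neg]
  rw [e1, iot_add, iot_smul, iot_smul, e1, iot_smul]
  have e2 : ((oB h c c / 2 : K) : F) = (oB h c c : F) / 2 := by
    push_cast
    rfl
  rw [e2]

theorem oEich_mem (h : OSub q K θ P) (u c : Fin n → K) (hu : oB h u u = 0)
    (huc : oB h u c = 0) :
    suGL n F q (oEich h u c hu huc) ∈ Cfsg.Geo.subfieldSubgroup K P := by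
  refine mem_subfieldSubgroup_of_eq K P _ 1 one_ne_zero
    (fun i j => h.symF.sieg u c (Pi.single j 1) i) ?_
  rw [one_smul]
  ext i j
  have h1 : ((P⁻¹ * suGL n F q (oEich h u c hu huc) * P : GL (Fin n) F) :
      Matrix (Fin n) (Fin n) F) *ᵥ (Pi.single j 1) =
        rvec K (h.symF.sieg u c (Pi.single j 1)) := by
    rw [Units.val_mul, Units.val_mul, ← mulVec_mulVec, ← mulVec_mulVec, ← rvec_single K j]
    change (P⁻¹ : GL (Fin n) F).val *ᵥ ((suGL n F q (oEich h u c hu huc) : GL (Fin n) F).val *ᵥ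
      iot K P (Pi.single j 1)) = _
    rw [suGL_mulVec, oEich_iot]
    unfold iot
    rw [mulVec_mulVec, ← Units.val_mul, inv_mul_cancel, Units.val_one, one_mulVec]
  have h2 := congrFun h1 i
  rw [Matrix.mulVec_single_one] at h2
  exact h2

/-- the rational Eichler elements lie in every overgroup of the subfield group -/
theorem oEich_mem_of_le (h : OSub q K θ P) {M : Subgroup (GL (Fin n) F)}
    (hHM : Cfsg.Geo.subfieldSubgroup K P ⊓ (Cfsg.GU n F q ⊓ Cfsg.Geo.specialLinear (Fin n) F) ≤ M)
    (u c : Fin n → K) (hu : oB h u u = 0) (huc : oB h u c = 0) :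
    suGL n F q (oEich h u c hu huc) ∈ M :=
  hHM ⟨oEich_mem h u c hu huc, suGL_mem _⟩

/-- the transvection with rational singular centre and parameter `k θ` -/
noncomputable def oTv (h : OSub q K θ P) (u : Fin n → K) (hu : oB h u u = 0) (k : K) :
    ↥(Cfsg.SU n F q) :=
  SUG.tv h.hF (iot K P u) ((k : F) * θ) ((h.iso_iot_iff u).mpr hu) (h.param_pow k)

theorem oTv_subE (h : OSub q K θ P) (u : Fin n → K) (hu : oB h u u = 0) (k : K)
    (a b : Fin n → K) :
    av (oTv h u hu k) (subE K θ P a b) =
      subE K θ P (a + (k * oEps h * oB h b u) • u) (b + (k * oB h a u) • u) := by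
  unfold oTv
  rw [av_tv, h.herm_subE_iot]
  unfold subE
  rw [iot_add, iot_add, iot_smul, iot_smul]
  push_cast
  rw [oEps_coe]
  module

end osub

end Cfsg.Agent.Lib.Helper13
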