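import Mathlib
import Cfsg.Agent.Lib.Helper13.OSubDefs
import Cfsg.Agent.Lib.Helper13.SymForm

/-!
# Bridge from `SymF` to the toolkit `IsS` of `SymForm.lean`
-/

set_option autoImplicit false

namespace Cfsg.Agent.Lib.Helper13

open Matrix Module

section bridge
variable {K : Type*} [Field K] {n : ℕ} {f : (Fin n → K) → (Fin n → K) → K}

theorem SymF.isS (hf : SymF f) (h2 : (2 : K) ≠ 0) : IsS hf.toBilin := by
  refine ⟨h2, fun v w => hf.symm v w, ?_⟩
  intro v hv
  obtain ⟨y, hy⟩ := hf.nd v hv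
  exact ⟨y, by rw [hf.toBilin_apply, hf.symm]; exact hy⟩

end bridge

end Cfsg.Agent.Lib.Helper13
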