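import Mathlib
import Cfsg.Agent.Lib.Helper13.OrthNondeg
import Cfsg.Agent.Lib.Helper13.OrthMax3

/-!
# Stabilisers of pairs of complementary maximal totally singular subspaces in `Ω⁺`

`V = A ⊕ B` with `A`, `B` totally singular of even dimension `k ≥ 8`.  The stabiliser `H` of
`{A, B}` in `Ω` contains the Siegel transformations `ρ_{a,b}` (`a ∈ A`, `b ∈ B`, `a ⟂ b`) and an
element interchanging `A` and `B` (a product of `k` reflections).  An overgroup containing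
`γ ∉ H` contains a conjugate `ρ_{γa,γb}` which does not stabilise both `A` and `B`; conjugating
`ρ_{x,β}` by it yields a Siegel transformation `ρ_{x,w}` with `x, w ∈ A` independent, and then all
Siegel transformations centred at `x` lie in the overgroup.
-/

set_option autoImplicit false
set_option linter.unusedSectionVars false
set_option linter.unusedVariables false

namespace Cfsg.Agent.Lib.Helper13.OTP

open Matrix Module QuadraticMap Cfsg.Agent.Lib.Helper6 Cfsg.Agent.Lib.Helper13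
  Cfsg.Agent.Lib.Helper13.OND

section swap
variable {F V : Type*} [Field F] [Finite F] [AddCommGroup V] [Module F V] [FiniteDimensional F V]
  (Q : QuadraticForm F V)

/-- an isometry interchanging two totally singular subspaces in duality, as a product of
`dim A` reflections of norm `-1` -/
theorem exists_swap (hQ : (polarBilin Q).Nondegenerate) (v₀ : V) (hv₀ : Q v₀ = -1) :
    ∀ (d : ℕ) (A B : Submodule F V), (∀ a ∈ A, Q a = 0) → (∀ b ∈ B, Q b = 0) →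
      (∀ a ∈ A, a ≠ 0 → ∃ b ∈ B, polar Q a b ≠ 0) →
      (∀ b ∈ B, b ≠ 0 → ∃ a ∈ A, polar Q a b ≠ 0) →
      finrank F A = d →
      ∃ g : isoGroup Q, (∀ a ∈ A, g.1 a ∈ B) ∧ (∀ b ∈ B, g.1 b ∈ A) ∧
        (∀ x, (∀ a ∈ A, polar Q a x = 0) → (∀ b ∈ B, polar Q b x = 0) → g.1 x = x) ∧
        Abelianization.of g = (Abelianization.of (reflA Q v₀)) ^ d := by
  intro d
  induction d with
  | zero =>
    intro A B hA hB hAB hBA hd
    have hA0 : A = ⊥ := Submodule.finrank_eq_zero.mp hd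
    have hB0 : ∀ b ∈ B, b = 0 := by
      intro b hb
      by_contra hb0
      obtain ⟨a, ha, hab⟩ := hBA b hb hb0
      rw [hA0, Submodule.mem_bot] at ha
      rw [ha, polar_zero_left] at hab
      exact hab rfl
    refine ⟨1, fun a ha => ?_, fun b hb => ?_, fun x _ _ => rfl, by rw [map_one, pow_zero]⟩
    · rw [hA0, Submodule.mem_bot] at ha
      rw [ha, map_zero]
      exact B.zero_mem
    · rw [hB0 b hb, map_zero]
      exact A.zero_mem
  | succ d ih =>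
    intro A B hA hB hAB hBA hd
    have hpolA : ∀ a ∈ A, ∀ a' ∈ A, polar Q a a' = 0 := by
      intro a ha a' ha'
      unfold polar
      rw [hA _ (A.add_mem ha ha'), hA a ha, hA a' ha']
      simp
    have hpolB : ∀ b ∈ B, ∀ b' ∈ B, polar Q b b' = 0 := by
      intro b hb b' hb'
      unfold polar
      rw [hB _ (B.add_mem hb hb'), hB b hb, hB b' hb']
      simp
    have hpos : 0 < finrank F A := by omega
    obtain ⟨⟨a, haA⟩, ha⟩ := Module.finrank_pos_iff_exists_ne_zero.mp hpos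
    have ha0 : a ≠ 0 := fun h => ha (Subtype.ext h)
    obtain ⟨y, hyB, hy⟩ := hAB a haA ha0
    obtain ⟨b, hbB, hab⟩ : ∃ b ∈ B, polar Q a b = 1 :=
      ⟨(polar Q a y)⁻¹ • y, B.smul_mem _ hyB, by
        rw [polar_smul_right, smul_eq_mul, inv_mul_cancel₀ hy]⟩
    have hba : polar Q b a = 1 := by rw [polar_comm]; exact hab
    obtain ⟨A', hA'⟩ : ∃ A' : Submodule F V, A' = A ⊓ LinearMap.ker (polarBilin Q b) := ⟨_, rfl⟩
    obtain ⟨B', hB'⟩ : ∃ B' : Submodule F V, B' = B ⊓ LinearMap.ker (polarBilin Q a) := ⟨_, rfl⟩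
    have hmemA' : ∀ x, x ∈ A' ↔ x ∈ A ∧ polar Q b x = 0 := by
      intro x
      rw [hA', Submodule.mem_inf, LinearMap.mem_ker, polarBilin_apply_apply]
    have hmemB' : ∀ x, x ∈ B' ↔ x ∈ B ∧ polar Q a x = 0 := by
      intro x
      rw [hB', Submodule.mem_inf, LinearMap.mem_ker, polarBilin_apply_apply]
    have hfrA' : finrank F A' = d := by
      have h1 := finrank_inf_ker_add_one A (polarBilin Q b) a haA (by
        rw [polarBilin_apply_apply, hba]; exact one_ne_zero)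
      rw [← hA'] at h1
      omega
    obtain ⟨g, hgA, hgB, hgfix, hgab⟩ := ih A' B'
      (fun x hx => hA x ((hmemA' x).mp hx).1) (fun x hx => hB x ((hmemB' x).mp hx).1)
      (by
        intro a' ha' ha'0
        obtain ⟨ha'A, hba'⟩ := (hmemA' a').mp ha'
        obtain ⟨b'', hb''B, hb''⟩ := hAB a' ha'A ha'0
        refine ⟨b'' - polar Q a b'' • b,
          (hmemB' _).mpr ⟨B.sub_mem hb''B (B.smul_mem _ hbB), ?_⟩, ?_⟩
        · rw [polar_sub_right, polar_smul_right, hab, smul_eq_mul, mul_one, sub_self]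
        · rw [polar_sub_right, polar_smul_right, polar_comm Q a' b, hba', smul_zero, sub_zero]
          exact hb'')
      (by
        intro b' hb' hb'0
        obtain ⟨hb'B, hab'⟩ := (hmemB' b').mp hb'
        obtain ⟨a'', ha''A, ha''⟩ := hBA b' hb'B hb'0
        refine ⟨a'' - polar Q b a'' • a,
          (hmemA' _).mpr ⟨A.sub_mem ha''A (A.smul_mem _ haA), ?_⟩, ?_⟩
        · rw [polar_sub_right, polar_smul_right, hba, smul_eq_mul, mul_one, sub_self]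
        · rw [polar_sub_left, polar_smul_left, hab', smul_zero, sub_zero]
          exact ha'')
      hfrA'
    have hQv : Q (a - b) = -1 := by
      rw [sub_eq_add_neg, QuadraticMap.map_add Q, QuadraticMap.map_neg, polar_neg_right,
        hA a haA, hB b hbB, hab]
      ring
    have hQv0 : Q (a - b) ≠ 0 := by
      rw [hQv]
      exact neg_ne_zero.mpr one_ne_zero
    have hr : ∀ x, (reflA Q (a - b)).1 x = x + polar Q (a - b) x • (a - b) := by
      intro x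
      rw [reflA_apply, hQv, inv_neg_one]
      module
    have hra : (reflA Q (a - b)).1 a = b := by
      rw [hr, polar_sub_left, hpolA a haA a haA, hba]
      module
    have hrb : (reflA Q (a - b)).1 b = a := by
      rw [hr, polar_sub_left, hab, hpolB b hbB b hbB]
      module
    have hga : g.1 a = a := by
      apply hgfix
      · intro a' ha'
        exact hpolA a' ((hmemA' a').mp ha').1 a haA
      · intro b' hb'
        rw [polar_comm]
        exact ((hmemB' b').mp hb').2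
    have hgb : g.1 b = b := by
      apply hgfix
      · intro a' ha'
        rw [polar_comm]
        exact ((hmemA' a').mp ha').2
      · intro b' hb'
        exact hpolB b' ((hmemB' b').mp hb').1 b hbB
    refine ⟨reflA Q (a - b) * g, ?_, ?_, ?_, ?_⟩
    · intro x hx
      obtain ⟨t, ht⟩ : ∃ t, t = polar Q b x := ⟨_, rfl⟩
      have hx' : x - t • a ∈ A' := by
        rw [hmemA']
        refine ⟨A.sub_mem hx (A.smul_mem _ haA), ?_⟩
        rw [polar_sub_right, polar_smul_right, hba, smul_eq_mul, mul_one, ht, sub_self]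
      have hgx' := hgA _ hx'
      obtain ⟨hgx'B, hgx'a⟩ := (hmemB' _).mp hgx'
      have e : x = (x - t • a) + t • a := by abel
      change (reflA Q (a - b)).1 (g.1 x) ∈ B
      rw [e, map_add, map_smul, hga, map_add, map_smul, hra]
      refine B.add_mem ?_ (B.smul_mem _ hbB)
      rw [reflA_apply_of_orth]
      · exact hgx'B
      · rw [polar_sub_left, hgx'a, hpolB b hbB _ hgx'B, sub_zero]
    · intro x hx
      obtain ⟨t, ht⟩ : ∃ t, t = polar Q a x := ⟨_, rfl⟩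
      have hx' : x - t • b ∈ B' := by
        rw [hmemB']
        refine ⟨B.sub_mem hx (B.smul_mem _ hbB), ?_⟩
        rw [polar_sub_right, polar_smul_right, hab, smul_eq_mul, mul_one, ht, sub_self]
      have hgx' := hgB _ hx'
      obtain ⟨hgx'A, hgx'b⟩ := (hmemA' _).mp hgx'
      have e : x = (x - t • b) + t • b := by abel
      change (reflA Q (a - b)).1 (g.1 x) ∈ A
      rw [e, map_add, map_smul, hgb, map_add, map_smul, hrb]
      refine A.add_mem ?_ (A.smul_mem _ haA)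
      rw [reflA_apply_of_orth]
      · exact hgx'A
      · rw [polar_sub_left, hpolA a haA _ hgx'A, hgx'b, sub_zero]
    · intro x hxA hxB
      change (reflA Q (a - b)).1 (g.1 x) = x
      rw [hgfix x (fun a' ha' => hxA a' ((hmemA' a').mp ha').1)
        (fun b' hb' => hxB b' ((hmemB' b').mp hb').1)]
      apply reflA_apply_of_orth
      rw [polar_sub_left, hxA a haA, hxB b hbB, sub_zero]
    · rw [map_mul, hgab, ab_reflA_eq_of_eq Q hQ (a - b) v₀ hQv0 (by rw [hQv, hv₀]), pow_succ']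

/-- for even dimension the interchanging isometry lies in the commutator subgroup -/
theorem exists_swap_comm (hQ : (polarBilin Q).Nondegenerate) (A B : Submodule F V)
    (hA : ∀ a ∈ A, Q a = 0) (hB : ∀ b ∈ B, Q b = 0)
    (hAB : ∀ a ∈ A, a ≠ 0 → ∃ b ∈ B, polar Q a b ≠ 0)
    (hBA : ∀ b ∈ B, b ≠ 0 → ∃ a ∈ A, polar Q a b ≠ 0)
    (hev : Even (finrank F A)) (hpos : 0 < finrank F A) :
    ∃ g : isoGroup Q, g ∈ commutator (isoGroup Q) ∧ (∀ a ∈ A, g.1 a ∈ B) ∧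
      (∀ b ∈ B, g.1 b ∈ A) := by
  obtain ⟨⟨a, haA⟩, ha⟩ := Module.finrank_pos_iff_exists_ne_zero.mp hpos
  have ha0 : a ≠ 0 := fun h => ha (Subtype.ext h)
  obtain ⟨y, hyB, hy⟩ := hAB a haA ha0
  obtain ⟨b, hbB, hab⟩ : ∃ b ∈ B, polar Q a b = 1 :=
    ⟨(polar Q a y)⁻¹ • y, B.smul_mem _ hyB, by
      rw [polar_smul_right, smul_eq_mul, inv_mul_cancel₀ hy]⟩
  have hQv : Q (a - b) = -1 := by
    rw [sub_eq_add_neg, QuadraticMap.map_add Q, QuadraticMap.map_neg, polar_neg_right,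
      hA a haA, hB b hbB, hab]
    ring
  obtain ⟨g, hgA, hgB, _, hgab⟩ :=
    exists_swap Q hQ (a - b) hQv (finrank F A) A B hA hB hAB hBA rfl
  refine ⟨g, ?_, hgA, hgB⟩
  obtain ⟨m, hm⟩ := hev
  rw [← Abelianization.ker_of, MonoidHom.mem_ker, hgab, hm, pow_add, ← mul_pow,
    ab_reflA_mul_self, one_pow]

end swap

section main
universe u
variable {F : Type u} [Field F] [Fintype F] {ι : Type} [Fintype ι] [DecidableEq ι]
variable (Q : QuadraticForm F (ι → F))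

/-- a decomposition into two totally singular subspaces -/
structure TsPair (A B : Submodule F (ι → F)) : Prop where
  tsA : ∀ a ∈ A, Q a = 0
  tsB : ∀ b ∈ B, Q b = 0
  dec : ∀ x : ι → F, ∃ a ∈ A, ∃ b ∈ B, x = a + b

variable {Q} {A B : Submodule F (ι → F)} {M : Subgroup (GL ι F)}

theorem TsPair.symm (h : TsPair Q A B) : TsPair Q B A :=
  ⟨h.tsB, h.tsA, fun x => by
    obtain ⟨a, ha, b, hb, rfl⟩ := h.dec x
    exact ⟨b, hb, a, ha, add_comm a b⟩⟩

theorem TsPair.polA (h : TsPair Q A B) {a a' : ι → F} (ha : a ∈ A) (ha' : a' ∈ A) :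
    polar (⇑Q) a a' = 0 := by
  unfold polar
  rw [h.tsA _ (A.add_mem ha ha'), h.tsA a ha, h.tsA a' ha']
  simp

theorem TsPair.polB (h : TsPair Q A B) {b b' : ι → F} (hb : b ∈ B) (hb' : b' ∈ B) :
    polar (⇑Q) b b' = 0 := h.symm.polA hb hb'

theorem TsPair.partner (hQ : (polarBilin Q).Nondegenerate) (h : TsPair Q A B) {a : ι → F}
    (ha : a ∈ A) (ha0 : a ≠ 0) : ∃ b ∈ B, polar (⇑Q) a b = 1 := by
  obtain ⟨y, hy⟩ : ∃ y, polar (⇑Q) a y ≠ 0 := by
    by_contra hne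
    push Not at hne
    exact ha0 (hQ.1 a hne)
  obtain ⟨yA, hyA, yB, hyB, rfl⟩ := h.dec y
  rw [polar_add_right, h.polA ha hyA, zero_add] at hy
  exact ⟨(polar (⇑Q) a yB)⁻¹ • yB, B.smul_mem _ hyB, by
    rw [polar_smul_right, smul_eq_mul, inv_mul_cancel₀ hy]⟩

theorem TsPair.inter (hQ : (polarBilin Q).Nondegenerate) (h : TsPair Q A B) {x : ι → F}
    (hxA : x ∈ A) (hxB : x ∈ B) : x = 0 := by
  by_contra hx0
  obtain ⟨b, hb, hxb⟩ := h.partner hQ hxA hx0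
  rw [h.polB hxB hb] at hxb
  exact zero_ne_one hxb

theorem TsPair.dual (hQ : (polarBilin Q).Nondegenerate) (h : TsPair Q A B) {x w : ι → F}
    (hx : x ∈ A) (hx0 : x ≠ 0) (hw : w ∈ A)
    (hxw : ∀ b ∈ B, polar (⇑Q) x b = 0 → polar (⇑Q) w b = 0) : ∃ c : F, w = c • x := by
  obtain ⟨bs, hbs, hxbs⟩ := h.partner hQ hx hx0
  refine ⟨polar (⇑Q) w bs, ?_⟩
  have hz : w - polar (⇑Q) w bs • x = 0 := by
    apply hQ.1
    intro y
    obtain ⟨yA, hyA, yB, hyB, rfl⟩ := h.dec y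
    rw [polarBilin_apply_apply]
    have hwA : w - polar (⇑Q) w bs • x ∈ A := A.sub_mem hw (A.smul_mem _ hx)
    rw [polar_add_right, h.polA hwA hyA, zero_add]
    obtain ⟨t, ht⟩ : ∃ t, t = polar (⇑Q) x yB := ⟨_, rfl⟩
    have h1 : polar (⇑Q) x (yB - t • bs) = 0 := by
      rw [polar_sub_right, polar_smul_right, hxbs, smul_eq_mul, mul_one, ht, sub_self]
    have h2 := hxw _ (B.sub_mem hyB (B.smul_mem _ hbs)) h1
    rw [polar_sub_right, polar_smul_right, sub_eq_zero, smul_eq_mul] at h2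
    rw [polar_sub_left, polar_smul_left, h2, ← ht, smul_eq_mul]
    ring
  exact sub_eq_zero.mp hz

/-! ### membership in the stabiliser of the decomposition -/

theorem map_eq_of_forall (g : GL ι F) (U W : Submodule F (ι → F))
    (hfr : finrank F U = finrank F W)
    (h : ∀ x ∈ U, (g : Matrix ι ι F) *ᵥ x ∈ W) :
    U.map (Matrix.toLin' (g : Matrix ι ι F)) = W := by
  have hle : U.map (Matrix.toLin' (g : Matrix ι ι F)) ≤ W := by
    rintro _ ⟨y, hy, rfl⟩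
    rw [Matrix.toLin'_apply]
    exact h y hy
  have hinj : Function.Injective (Matrix.toLin' (g : Matrix ι ι F)) := by
    intro a b hab
    rw [Matrix.toLin'_apply, Matrix.toLin'_apply] at hab
    have h2 := congrArg (fun z => ((g⁻¹ : GL ι F) : Matrix ι ι F) *ᵥ z) hab
    simp only [mulVec_mulVec, ← Units.val_mul, inv_mul_cancel, Units.val_one, one_mulVec] at h2
    exact h2
  exact Submodule.eq_of_le_of_finrank_eq hle
    ((Submodule.equivMapOfInjective _ hinj U).finrank_eq.symm.trans hfr)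

theorem mem_decStab_of_stab (D : Fin 2 → Submodule F (ι → F)) (g : GL ι F)
    (h0 : ∀ x ∈ D 0, (g : Matrix ι ι F) *ᵥ x ∈ D 0)
    (h1 : ∀ x ∈ D 1, (g : Matrix ι ι F) *ᵥ x ∈ D 1) :
    g ∈ Cfsg.Geo.decompositionStabilizer D := by
  refine ⟨1, fun i => ?_⟩
  have hfin2 : ∀ x : Fin 2, x = 0 ∨ x = 1 := by decide
  rw [Equiv.Perm.one_apply]
  rcases hfin2 i with rfl | rfl
  · exact map_eq_of_forall g _ _ rfl h0
  · exact map_eq_of_forall g _ _ rfl h1

theorem mem_decStab_of_swap (D : Fin 2 → Submodule F (ι → F)) (g : GL ι F)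
    (hfr : finrank F (D 0) = finrank F (D 1))
    (h0 : ∀ x ∈ D 0, (g : Matrix ι ι F) *ᵥ x ∈ D 1)
    (h1 : ∀ x ∈ D 1, (g : Matrix ι ι F) *ᵥ x ∈ D 0) :
    g ∈ Cfsg.Geo.decompositionStabilizer D := by
  refine ⟨Equiv.swap 0 1, fun i => ?_⟩
  have hfin2 : ∀ x : Fin 2, x = 0 ∨ x = 1 := by decide
  rcases hfin2 i with rfl | rfl
  · rw [Equiv.swap_apply_left]
    exact map_eq_of_forall g _ _ hfr h0
  · rw [Equiv.swap_apply_right]
    exact map_eq_of_forall g _ _ hfr.symm h1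

theorem decStab_cases (D : Fin 2 → Submodule F (ι → F)) (g : GL ι F)
    (hg : g ∈ Cfsg.Geo.decompositionStabilizer D) {x : ι → F} (hx : x ∈ D 1) :
    (g : Matrix ι ι F) *ᵥ x ∈ D 1 ∨ (g : Matrix ι ι F) *ᵥ x ∈ D 0 := by
  obtain ⟨σ, hσ⟩ := hg
  have hfin2 : ∀ x : Fin 2, x = 0 ∨ x = 1 := by decide
  have hm : (g : Matrix ι ι F) *ᵥ x ∈ D (σ 1) := by
    rw [← hσ 1]
    exact ⟨x, hx, Matrix.toLin'_apply _ _⟩
  rcases hfin2 (σ 1) with h | h
  · right
    rwa [h] at hm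
  · left
    rwa [h] at hm

/-! ### an isometry all of whose conjugated Siegel transformations stabilise both subspaces -/

theorem pure_image (hQ : (polarBilin Q).Nondegenerate) (hT : TsPair Q A B)
    (h4 : 4 ≤ finrank F B) (γ : ↥(Cfsg.isometryGroup F ⇑Q))
    (hc : ∀ a ∈ A, ∀ b ∈ B, polar (⇑Q) a b = 0 →
      (∀ x ∈ A, polar (⇑Q) (gact Q γ b) x • gact Q γ a -
        polar (⇑Q) (gact Q γ a) x • gact Q γ b ∈ A) ∧
      (∀ x ∈ B, polar (⇑Q) (gact Q γ b) x • gact Q γ a -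
        polar (⇑Q) (gact Q γ a) x • gact Q γ b ∈ B)) :
    ∀ a ∈ A, gact Q γ a ∈ A ∨ gact Q γ a ∈ B := by
  intro a ha
  obtain ⟨pA, hpA, pB, hpB, hp⟩ := hT.dec (gact Q γ a)
  by_cases hpB0 : pB = 0
  · left
    rw [hp, hpB0, add_zero]
    exact hpA
  by_cases hpA0 : pA = 0
  · right
    rw [hp, hpA0, zero_add]
    exact hpB
  exfalso
  obtain ⟨x₁, hx₁, hpx₁⟩ := hT.symm.partner hQ hpB hpB0
  obtain ⟨x₂, hx₂, hpx₂⟩ := hT.partner hQ hpA hpA0
  obtain ⟨b, hb, hb0, hab, hb1, hb2⟩ :=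
    exists_ne_zero_cut3 Q B a (gact Q γ⁻¹ x₁) (gact Q γ⁻¹ x₂) h4
  have hq1 : polar (⇑Q) (gact Q γ b) x₁ = 0 := by
    rw [← polar_gact Q γ⁻¹, gact_inv_gact, polar_comm]
    exact hb1
  have hq2 : polar (⇑Q) (gact Q γ b) x₂ = 0 := by
    rw [← polar_gact Q γ⁻¹, gact_inv_gact, polar_comm]
    exact hb2
  obtain ⟨hcA, hcB⟩ := hc a ha b hb hab
  have h1 := hcA x₁ hx₁
  have h2 := hcB x₂ hx₂
  have e1 : polar (⇑Q) (gact Q γ a) x₁ = 1 := by
    rw [hp, polar_add_left, hT.polA hpA hx₁, zero_add, hpx₁]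
  have e2 : polar (⇑Q) (gact Q γ a) x₂ = 1 := by
    rw [hp, polar_add_left, hpx₂, hT.polB hpB hx₂, add_zero]
  rw [hq1, e1, zero_smul, zero_sub, one_smul] at h1
  rw [hq2, e2, zero_smul, zero_sub, one_smul] at h2
  have h3 : gact Q γ b = 0 :=
    hT.inter hQ (by simpa using A.neg_mem h1) (by simpa using B.neg_mem h2)
  exact hb0 ((gact_eq_zero_iff Q γ b).mp h3)

theorem union_sub (γ : ↥(Cfsg.isometryGroup F ⇑Q)) (U X Y : Submodule F (ι → F))
    (h : ∀ u ∈ U, gact Q γ u ∈ X ∨ gact Q γ u ∈ Y) :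
    (∀ u ∈ U, gact Q γ u ∈ X) ∨ (∀ u ∈ U, gact Q γ u ∈ Y) := by
  by_contra hne
  push Not at hne
  obtain ⟨⟨u₁, hu₁, h1⟩, ⟨u₂, hu₂, h2⟩⟩ := hne
  have h1' : gact Q γ u₁ ∈ Y := (h u₁ hu₁).resolve_left h1
  have h2' : gact Q γ u₂ ∈ X := (h u₂ hu₂).resolve_right h2
  rcases h (u₁ + u₂) (U.add_mem hu₁ hu₂) with h3 | h3
  · rw [gact_add] at h3
    apply h1
    have := X.sub_mem h3 h2'
    rwa [add_sub_cancel_right] at this
  · rw [gact_add] at h3
    apply h2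
    have := Y.sub_mem h3 h1'
    rwa [add_sub_cancel_left] at this

theorem stab_or_swap (hQ : (polarBilin Q).Nondegenerate) (hT : TsPair Q A B)
    (h4A : 4 ≤ finrank F A) (h4 : 4 ≤ finrank F B) (γ : ↥(Cfsg.isometryGroup F ⇑Q))
    (hc : ∀ a ∈ A, ∀ b ∈ B, polar (⇑Q) a b = 0 →
      (∀ x ∈ A, polar (⇑Q) (gact Q γ b) x • gact Q γ a -
        polar (⇑Q) (gact Q γ a) x • gact Q γ b ∈ A) ∧
      (∀ x ∈ B, polar (⇑Q) (gact Q γ b) x • gact Q γ a -
        polar (⇑Q) (gact Q γ a) x • gact Q γ b ∈ B)) :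
    ((∀ a ∈ A, gact Q γ a ∈ A) ∧ (∀ b ∈ B, gact Q γ b ∈ B)) ∨
    ((∀ a ∈ A, gact Q γ a ∈ B) ∧ (∀ b ∈ B, gact Q γ b ∈ A)) := by
  have hA := pure_image hQ hT h4 γ hc
  have hB := pure_image hQ hT.symm h4A γ (by
    intro b hb a ha hba
    obtain ⟨h1, h2⟩ := hc a ha b hb (by rw [polar_comm]; exact hba)
    refine ⟨fun x hx => ?_, fun x hx => ?_⟩
    · have := B.neg_mem (h2 x hx)
      rwa [neg_sub] at this
    · have := A.neg_mem (h1 x hx)
      rwa [neg_sub] at this)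
  have hA' := union_sub γ A A B hA
  have hB' := union_sub γ B B A hB
  have hBpos : 0 < finrank F B := by omega
  obtain ⟨⟨b₀, hb₀B⟩, hb₀⟩ := Module.finrank_pos_iff_exists_ne_zero.mp hBpos
  have hb₀0 : b₀ ≠ 0 := fun h => hb₀ (Subtype.ext h)
  have hApos : 0 < finrank F A := by omega
  obtain ⟨⟨a₀, ha₀A⟩, ha₀⟩ := Module.finrank_pos_iff_exists_ne_zero.mp hApos
  have ha₀0 : a₀ ≠ 0 := fun h => ha₀ (Subtype.ext h)
  have hall : ∀ X : Submodule F (ι → F), (∀ a ∈ A, gact Q γ a ∈ X) →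
      (∀ b ∈ B, gact Q γ b ∈ X) → ∀ y, y ∈ X := by
    intro X h1 h2 y
    obtain ⟨a, ha, b, hb, hab⟩ := hT.dec (gact Q γ⁻¹ y)
    have : y = gact Q γ a + gact Q γ b := by
      rw [← gact_add, ← hab, gact_gact_inv]
    rw [this]
    exact X.add_mem (h1 a ha) (h2 b hb)
  rcases hA' with hAA | hAB
  · rcases hB' with hBB | hBA
    · exact Or.inl ⟨hAA, hBB⟩
    · exfalso
      exact hb₀0 (hT.inter hQ (hall A hAA hBA b₀) hb₀B)
  · rcases hB' with hBB | hBA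
    · exfalso
      exact ha₀0 (hT.inter hQ ha₀A (hall B hAB hBB a₀))
    · exact Or.inr ⟨hAB, hBA⟩

/-! ### the core argument -/

theorem SIn_of_hSM (hT : TsPair Q A B)
    (hSM : ∀ a ∈ A, ∀ b ∈ B, ∀ (ha : Q a = 0) (hab : polar (⇑Q) a b = 0),
      ((siegIso Q a b ha hab : ↥(Cfsg.isometryGroup F ⇑Q)) : GL ι F) ∈ M)
    {x v : ι → F} (hx : x ∈ A) (hv : v ∈ B) (hxv : polar (⇑Q) x v = 0) : SIn Q M x v :=
  ⟨hT.tsA x hx, hxv, fun t hx' hxv' => hSM x hx (t • v) (B.smul_mem _ hv) hx' hxv'⟩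

theorem core (hQ : (polarBilin Q).Nondegenerate) (hT : TsPair Q A B) (h8 : 8 ≤ finrank F A)
    (hSM : ∀ a ∈ A, ∀ b ∈ B, ∀ (ha : Q a = 0) (hab : polar (⇑Q) a b = 0),
      ((siegIso Q a b ha hab : ↥(Cfsg.isometryGroup F ⇑Q)) : GL ι F) ∈ M)
    (p q : ι → F) (hp : Q p = 0) (hq : Q q = 0) (hpq : polar (⇑Q) p q = 0)
    (hρ : ((siegIso Q p q hp hpq : ↥(Cfsg.isometryGroup F ⇑Q)) : GL ι F) ∈ M)
    (β₀ : ι → F) (hβ₀ : β₀ ∈ B)
    (hw : polar (⇑Q) q β₀ • p - polar (⇑Q) p β₀ • q ∉ B) :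
    ∃ x ∈ A, x ≠ 0 ∧ OrX Q M x := by
  obtain ⟨pA, hpA, pB, hpB, hpdec⟩ := hT.dec p
  obtain ⟨qA, hqA, qB, hqB, hqdec⟩ := hT.dec q
  obtain ⟨c₁, hc₁⟩ : ∃ c, c = polar (⇑Q) q β₀ := ⟨_, rfl⟩
  obtain ⟨c₂, hc₂⟩ : ∃ c, c = polar (⇑Q) p β₀ := ⟨_, rfl⟩
  rw [← hc₁, ← hc₂] at hw
  obtain ⟨wA, hwAdef⟩ : ∃ w, w = c₁ • pA - c₂ • qA := ⟨_, rfl⟩
  obtain ⟨wB, hwBdef⟩ : ∃ w, w = c₁ • pB - c₂ • qB := ⟨_, rfl⟩
  have hwA : wA ∈ A := by
    rw [hwAdef]
    exact A.sub_mem (A.smul_mem _ hpA) (A.smul_mem _ hqA)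
  have hwB : wB ∈ B := by
    rw [hwBdef]
    exact B.sub_mem (B.smul_mem _ hpB) (B.smul_mem _ hqB)
  have hwsum : c₁ • p - c₂ • q = wA + wB := by
    rw [hwAdef, hwBdef, hpdec, hqdec]
    module
  have hwA0 : wA ≠ 0 := by
    intro h0
    apply hw
    rw [hwsum, h0, zero_add]
    exact hwB
  obtain ⟨β₁, hβ₁, hwβ₁⟩ := hT.partner hQ hwA hwA0
  have hfr := finrank_le_inf_ker_add_one A (polarBilin Q p)
  obtain ⟨x, hxP, hx0, hqx, hβ₀x, hβ₁x⟩ :=
    exists_ne_zero_cut3 Q (A ⊓ LinearMap.ker (polarBilin Q p)) q β₀ β₁ (by omega)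
  obtain ⟨hxA, hpx⟩ : x ∈ A ∧ polar (⇑Q) p x = 0 := by
    simpa only [Submodule.mem_inf, LinearMap.mem_ker, polarBilin_apply_apply] using hxP
  have hQx : Q x = 0 := hT.tsA x hxA
  have hρx : gact Q (siegIso Q p q hp hpq) x = x := by
    rw [gact_siegIso, hqx, hpx]
    simp
  have hρβ : gact Q (siegIso Q p q hp hpq) β₀ = β₀ + (wA + wB) := by
    rw [gact_siegIso, hq, ← hc₁, ← hc₂, ← hwsum]
    module
  have hxβ₀ : polar (⇑Q) x β₀ = 0 := by rw [polar_comm]; exact hβ₀x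
  have hS0 : SIn Q M x β₀ := SIn_of_hSM hT hSM hxA hβ₀ hxβ₀
  have hS1 := hS0.conj (siegIso Q p q hp hpq) hρ
  rw [hρx, hρβ] at hS1
  have hxwA : polar (⇑Q) x wA = 0 := hT.polA hxA hwA
  have hxwB : polar (⇑Q) x (β₀ + wB) = 0 := by
    have h1 : polar (⇑Q) x (β₀ + wB) =
        polar (⇑Q) x (β₀ + (wA + wB)) - polar (⇑Q) x wA := by
      simp only [polar_add_right]
      ring
    rw [h1, hS1.2.1, hxwA, sub_zero]
  have hS2 : SIn Q M x (β₀ + wB) := SIn_of_hSM hT hSM hxA (B.add_mem hβ₀ hwB) hxwB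
  have hS3 : SIn Q M x wA := by
    have := hS1.sub hS2
    have e : β₀ + (wA + wB) - (β₀ + wB) = wA := by abel
    rwa [e] at this
  have hxβ₁ : polar (⇑Q) x β₁ = 0 := by rw [polar_comm]; exact hβ₁x
  obtain ⟨b₁, hb₁, hxb₁, hwb₁⟩ : ∃ b₁ ∈ B, polar (⇑Q) x b₁ = 0 ∧ polar (⇑Q) wA b₁ ≠ 0 := by
    by_contra hne
    push Not at hne
    obtain ⟨c, hc⟩ := hT.dual hQ hxA hx0 hwA hne
    rw [hc, polar_smul_left, hxβ₁, smul_zero] at hwβ₁
    exact zero_ne_one hwβ₁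
  obtain ⟨κ, hκ⟩ : ∃ κ, κ = polar (⇑Q) b₁ wA := ⟨_, rfl⟩
  have hκ0 : κ ≠ 0 := by rw [hκ, polar_comm]; exact hwb₁
  have hb₁x : polar (⇑Q) b₁ x = 0 := by rw [polar_comm]; exact hxb₁
  have hQb₁ : Q b₁ = 0 := hT.tsB b₁ hb₁
  have hS4 : ∀ a₁ ∈ A, polar (⇑Q) a₁ b₁ = 0 → SIn Q M x a₁ := by
    intro a₁ ha₁ ha₁b₁
    have hQa₁ : Q a₁ = 0 := hT.tsA a₁ ha₁
    have hm := hSM a₁ ha₁ b₁ hb₁ hQa₁ ha₁b₁
    have h1 := hS3.conj (siegIso Q a₁ b₁ hQa₁ ha₁b₁) hm
    have e1 : gact Q (siegIso Q a₁ b₁ hQa₁ ha₁b₁) x = x := by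
      rw [gact_siegIso, hb₁x, hT.polA ha₁ hxA]
      simp
    have e2 : gact Q (siegIso Q a₁ b₁ hQa₁ ha₁b₁) wA = wA + κ • a₁ := by
      rw [gact_siegIso, hQb₁, ← hκ, hT.polA ha₁ hwA]
      simp
    rw [e1, e2] at h1
    have h2 := (h1.sub hS3).smul κ⁻¹
    have e3 : κ⁻¹ • (wA + κ • a₁ - wA) = a₁ := by
      rw [add_sub_cancel_left, smul_smul, inv_mul_cancel₀ hκ0, one_smul]
    rwa [e3] at h2
  have hS5 : ∀ a' ∈ A, SIn Q M x a' := by
    intro a' ha'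
    obtain ⟨c, hc⟩ : ∃ c, c = polar (⇑Q) a' b₁ / κ := ⟨_, rfl⟩
    have h1 : polar (⇑Q) (a' - c • wA) b₁ = 0 := by
      rw [polar_sub_left, polar_smul_left, polar_comm (⇑Q) wA b₁, ← hκ, hc, smul_eq_mul,
        div_mul_cancel₀ _ hκ0, sub_self]
    have h2 := hS4 _ (A.sub_mem ha' (A.smul_mem _ hwA)) h1
    have h3 := h2.add (hS3.smul c)
    rwa [sub_add_cancel] at h3
  refine ⟨x, hxA, hx0, OrX_of_SIn hQx ?_⟩
  intro v hxv
  obtain ⟨vA, hvA, vB, hvB, rfl⟩ := hT.dec v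
  have hxvB : polar (⇑Q) x vB = 0 := by
    rw [polar_add_right, hT.polA hxA hvA, zero_add] at hxv
    exact hxv
  exact (hS5 vA hvA).add (SIn_of_hSM hT hSM hxA hvB hxvB)

theorem OrX_all_A (hQ : (polarBilin Q).Nondegenerate) (hT : TsPair Q A B)
    (hSM : ∀ a ∈ A, ∀ b ∈ B, ∀ (ha : Q a = 0) (hab : polar (⇑Q) a b = 0),
      ((siegIso Q a b ha hab : ↥(Cfsg.isometryGroup F ⇑Q)) : GL ι F) ∈ M)
    {x : ι → F} (hxA : x ∈ A) (hx0 : x ≠ 0) (hX : OrX Q M x) : ∀ a ∈ A, OrX Q M a := by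
  intro a ha
  by_cases hax : ∃ c : F, a = c • x
  · obtain ⟨c, rfl⟩ := hax
    exact hX.smul c
  have hd0 : a - x ≠ 0 := by
    intro h
    apply hax
    exact ⟨1, by rw [one_smul]; exact sub_eq_zero.mp h⟩
  have hdA : a - x ∈ A := A.sub_mem ha hxA
  obtain ⟨b, hb, hdb, hxb⟩ : ∃ b ∈ B, polar (⇑Q) (a - x) b = 0 ∧ polar (⇑Q) x b ≠ 0 := by
    by_contra hne
    push Not at hne
    obtain ⟨c, hc⟩ := hT.dual hQ hdA hd0 hxA hne
    by_cases hc0 : c = 0
    · rw [hc0, zero_smul] at hc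
      exact hx0 hc
    · apply hax
      refine ⟨(1 + c) / c, ?_⟩
      have h1 : c • a = (1 + c) • x := by
        have h2 : c • a = c • (a - x) + c • x := by module
        rw [h2, ← hc]
        module
      rw [div_eq_inv_mul, mul_smul, ← h1, smul_smul, inv_mul_cancel₀ hc0, one_smul]
  obtain ⟨κ, hκ⟩ : ∃ κ, κ = polar (⇑Q) x b := ⟨_, rfl⟩
  have hκ0 : κ ≠ 0 := by rw [hκ]; exact hxb
  have hb' : κ⁻¹ • b ∈ B := B.smul_mem _ hb
  have hQd : Q (a - x) = 0 := hT.tsA _ hdA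
  have hdb' : polar (⇑Q) (a - x) (κ⁻¹ • b) = 0 := by rw [polar_smul_right, hdb, smul_zero]
  have hm := hSM _ hdA _ hb' hQd hdb'
  have h1 := hX.map (siegIso Q (a - x) (κ⁻¹ • b) hQd hdb') hm
  have e : gact Q (siegIso Q (a - x) (κ⁻¹ • b) hQd hdb') x = a := by
    rw [gact_siegIso, hT.tsB _ hb', hT.polA hdA hxA, polar_smul_left, polar_comm (⇑Q) b x, ← hκ,
      smul_eq_mul, inv_mul_cancel₀ hκ0]
    simp
  rwa [e] at h1

theorem omega_le_of_OrX (hQ : (polarBilin Q).Nondegenerate) (h5 : 5 ≤ Fintype.card ι)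
    (hT : TsPair Q A B)
    (hSM : ∀ a ∈ A, ∀ b ∈ B, ∀ (ha : Q a = 0) (hab : polar (⇑Q) a b = 0),
      ((siegIso Q a b ha hab : ↥(Cfsg.isometryGroup F ⇑Q)) : GL ι F) ∈ M)
    (τ : ↥(Cfsg.isometryGroup F ⇑Q)) (hτM : (τ : GL ι F) ∈ M)
    (hτ : ∀ b ∈ B, gact Q τ b ∈ A)
    {x : ι → F} (hxA : x ∈ A) (hx0 : x ≠ 0) (hX : OrX Q M x) :
    Cfsg.Geo.omegaGL ⇑Q ≤ M := by
  have hallA := OrX_all_A hQ hT hSM hxA hx0 hX
  obtain ⟨b, hb, hxb⟩ := hT.partner hQ hxA hx0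
  have hXb : OrX Q M b := by
    have h1 := (hallA _ (hτ b hb)).map τ⁻¹ (M.inv_mem hτM)
    rwa [gact_inv_gact] at h1
  apply omegaGL_le_of_forall hQ h5
  intro z hz
  exact hX.all hQ hXb (by rw [hxb]; exact one_ne_zero) z hz

/-- **Maximality of the stabiliser of a pair of complementary totally singular subspaces of even
dimension at least `8`.** -/
theorem ts_pair_maximal' (hQ : (polarBilin Q).Nondegenerate) (D : Fin 2 → Submodule F (ι → F))
    (hT : TsPair Q (D 0) (D 1)) (h8 : 8 ≤ finrank F (D 0))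
    (hfr : finrank F (D 0) = finrank F (D 1)) (hev : Even (finrank F (D 0))) :
    Cfsg.Geo.IsMaximalIn (Cfsg.Geo.omegaGL ⇑Q)
      (Cfsg.Geo.decompositionStabilizer D ⊓ Cfsg.Geo.omegaGL ⇑Q) := by
  have h5 : 5 ≤ Fintype.card ι := by
    have := Submodule.finrank_le (D 0)
    rw [Module.finrank_fintype_fun_eq_card] at this
    omega
  have hSH : ∀ a ∈ D 0, ∀ b ∈ D 1, ∀ (ha : Q a = 0) (hab : polar (⇑Q) a b = 0),
      ((siegIso Q a b ha hab : ↥(Cfsg.isometryGroup F ⇑Q)) : GL ι F) ∈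
        Cfsg.Geo.decompositionStabilizer D ⊓ Cfsg.Geo.omegaGL ⇑Q := by
    intro a ha b hb hQa hab
    refine ⟨mem_decStab_of_stab D _ ?_ ?_,
      (mem_omegaGL_iff Q _).mpr ⟨_, siegIso_mem_Omega Q hQ h5 a b hQa hab, rfl⟩⟩
    · intro x hx
      change gact Q (siegIso Q a b hQa hab) x ∈ D 0
      rw [gact_siegIso, hT.polA ha hx]
      simp only [mul_zero, sub_zero, neg_zero, zero_smul, add_zero]
      exact (D 0).add_mem hx ((D 0).smul_mem _ ha)
    · intro x hx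
      change gact Q (siegIso Q a b hQa hab) x ∈ D 1
      rw [gact_siegIso, hT.polB hb hx, hT.tsB b hb]
      simp only [zero_mul, sub_zero, zero_smul, add_zero]
      exact (D 1).add_mem hx ((D 1).smul_mem _ hb)
  have hSH' : ∀ b ∈ D 1, ∀ a ∈ D 0, ∀ (hb' : Q b = 0) (hba : polar (⇑Q) b a = 0),
      ((siegIso Q b a hb' hba : ↥(Cfsg.isometryGroup F ⇑Q)) : GL ι F) ∈
        Cfsg.Geo.decompositionStabilizer D ⊓ Cfsg.Geo.omegaGL ⇑Q := by
    intro b hb a ha hQb hba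
    refine ⟨mem_decStab_of_stab D _ ?_ ?_,
      (mem_omegaGL_iff Q _).mpr ⟨_, siegIso_mem_Omega Q hQ h5 b a hQb hba, rfl⟩⟩
    · intro x hx
      change gact Q (siegIso Q b a hQb hba) x ∈ D 0
      rw [gact_siegIso, hT.polA ha hx, hT.tsA a ha]
      simp only [zero_mul, sub_zero, zero_smul, add_zero]
      exact (D 0).add_mem hx ((D 0).smul_mem _ ha)
    · intro x hx
      change gact Q (siegIso Q b a hQb hba) x ∈ D 1
      rw [gact_siegIso, hT.polB hb hx]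
      simp only [mul_zero, sub_zero, neg_zero, zero_smul, add_zero]
      exact (D 1).add_mem hx ((D 1).smul_mem _ hb)
  -- the interchanging element
  obtain ⟨g, hgc, hgA, hgB⟩ := exists_swap_comm Q hQ (D 0) (D 1) hT.tsA hT.tsB
    (fun a ha ha0 => by
      obtain ⟨b, hb, hab⟩ := hT.partner hQ ha ha0
      exact ⟨b, hb, by rw [hab]; exact one_ne_zero⟩)
    (fun b hb hb0 => by
      obtain ⟨a, ha, hba⟩ := hT.symm.partner hQ hb hb0
      exact ⟨a, ha, by rw [polar_comm, hba]; exact one_ne_zero⟩)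
    hev (by omega)
  obtain ⟨τ, hτdef⟩ : ∃ τ : ↥(Cfsg.isometryGroup F ⇑Q),
      τ = (isoEquiv (⇑Q) Q (fun _ => rfl)).symm g := ⟨_, rfl⟩
  have hτact : ∀ x, gact Q τ x = g.1 x := by
    intro x
    rw [hτdef, gact_def]
    exact isoEquiv_symm_mulVec (⇑Q) Q (fun _ => rfl) g x
  have hτΩ : τ ∈ Cfsg.Omega F ⇑Q := by
    show τ ∈ commutator _
    rw [mem_commutator_iff_of_equiv (isoEquiv (⇑Q) Q (fun _ => rfl)), hτdef,
      MulEquiv.apply_symm_apply]
    exact hgc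
  have hτA : ∀ a ∈ D 0, gact Q τ a ∈ D 1 := fun a ha => by
    rw [hτact]
    exact hgA a ha
  have hτB : ∀ b ∈ D 1, gact Q τ b ∈ D 0 := fun b hb => by
    rw [hτact]
    exact hgB b hb
  have hτH : (τ : GL ι F) ∈
      Cfsg.Geo.decompositionStabilizer D ⊓ Cfsg.Geo.omegaGL ⇑Q :=
    ⟨mem_decStab_of_swap D _ hfr hτA hτB, (mem_omegaGL_iff Q _).mpr ⟨τ, hτΩ, rfl⟩⟩
  -- properness
  have hlt : Cfsg.Geo.decompositionStabilizer D ⊓ Cfsg.Geo.omegaGL ⇑Q <
      Cfsg.Geo.omegaGL ⇑Q := by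
    refine lt_of_le_of_ne inf_le_right ?_
    intro heq
    have hpos : 0 < finrank F (D 0) := by omega
    obtain ⟨⟨x, hxA⟩, hx⟩ := Module.finrank_pos_iff_exists_ne_zero.mp hpos
    have hx0 : x ≠ 0 := fun h => hx (Subtype.ext h)
    obtain ⟨β, hβ, hxβ⟩ := hT.partner hQ hxA hx0
    obtain ⟨w, hwA, hw0, hβw, _⟩ := exists_ne_zero_cut2 Q (D 0) β β (by omega)
    have hQx := hT.tsA x hxA
    have hxw : polar (⇑Q) x w = 0 := hT.polA hxA hwA
    have hmem : ((siegIso Q x w hQx hxw : ↥(Cfsg.isometryGroup F ⇑Q)) : GL ι F) ∈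
        Cfsg.Geo.omegaGL ⇑Q :=
      (mem_omegaGL_iff Q _).mpr ⟨_, siegIso_mem_Omega Q hQ h5 x w hQx hxw, rfl⟩
    rw [← heq] at hmem
    have hcases := decStab_cases D _ hmem.1 hβ
    have e : gact Q (siegIso Q x w hQx hxw) β = β - w := by
      rw [gact_siegIso, hT.tsA w hwA, hxβ, polar_comm (⇑Q) w β, hβw]
      module
    change gact Q (siegIso Q x w hQx hxw) β ∈ D 1 ∨
      gact Q (siegIso Q x w hQx hxw) β ∈ D 0 at hcases
    rw [e] at hcases
    rcases hcases with h | h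
    · have hwB : w ∈ D 1 := by
        have := (D 1).sub_mem hβ h
        rwa [sub_sub_cancel] at this
      exact hw0 (hT.inter hQ hwA hwB)
    · have hβA : β ∈ D 0 := by
        have := (D 0).add_mem h hwA
        rwa [sub_add_cancel] at this
      have h0 := hT.inter hQ hβA hβ
      rw [h0, polar_zero_right] at hxβ
      exact zero_ne_one hxβ
  refine ⟨hlt, fun M hHM hMΩ => ?_⟩
  by_cases hMH : M ≤ Cfsg.Geo.decompositionStabilizer D ⊓ Cfsg.Geo.omegaGL ⇑Q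
  · exact Or.inl (le_antisymm hMH hHM)
  right
  apply le_antisymm hMΩ
  obtain ⟨g₀, hg₀M, hg₀H⟩ := SetLike.not_le_iff_exists.mp hMH
  obtain ⟨γ, hγΩ, rfl⟩ := (mem_omegaGL_iff Q g₀).mp (hMΩ hg₀M)
  have hγD : (γ : GL ι F) ∉ Cfsg.Geo.decompositionStabilizer D :=
    fun h => hg₀H ⟨h, hMΩ hg₀M⟩
  have hSM : ∀ a ∈ D 0, ∀ b ∈ D 1, ∀ (ha : Q a = 0) (hab : polar (⇑Q) a b = 0),
      ((siegIso Q a b ha hab : ↥(Cfsg.isometryGroup F ⇑Q)) : GL ι F) ∈ M :=
    fun a ha b hb hQa hab => hHM (hSH a ha b hb hQa hab)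
  have hSM' : ∀ b ∈ D 1, ∀ a ∈ D 0, ∀ (hb' : Q b = 0) (hba : polar (⇑Q) b a = 0),
      ((siegIso Q b a hb' hba : ↥(Cfsg.isometryGroup F ⇑Q)) : GL ι F) ∈ M :=
    fun b hb a ha hQb hba => hHM (hSH' b hb a ha hQb hba)
  have hex : ∃ a ∈ D 0, ∃ b ∈ D 1, polar (⇑Q) a b = 0 ∧
      ¬ ((∀ x ∈ D 0, polar (⇑Q) (gact Q γ b) x • gact Q γ a -
          polar (⇑Q) (gact Q γ a) x • gact Q γ b ∈ D 0) ∧
        (∀ x ∈ D 1, polar (⇑Q) (gact Q γ b) x • gact Q γ a -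
          polar (⇑Q) (gact Q γ a) x • gact Q γ b ∈ D 1)) := by
    by_contra hne
    apply hγD
    have hc : ∀ a ∈ D 0, ∀ b ∈ D 1, polar (⇑Q) a b = 0 →
        (∀ x ∈ D 0, polar (⇑Q) (gact Q γ b) x • gact Q γ a -
          polar (⇑Q) (gact Q γ a) x • gact Q γ b ∈ D 0) ∧
        (∀ x ∈ D 1, polar (⇑Q) (gact Q γ b) x • gact Q γ a -
          polar (⇑Q) (gact Q γ a) x • gact Q γ b ∈ D 1) := by
      intro a ha b hb hab
      by_contra hn
      exact hne ⟨a, ha, b, hb, hab, hn⟩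
    rcases stab_or_swap hQ hT (by omega) (by omega) γ hc with ⟨h1, h2⟩ | ⟨h1, h2⟩
    · exact mem_decStab_of_stab D _ h1 h2
    · exact mem_decStab_of_swap D _ hfr h1 h2
  obtain ⟨a, ha, b, hb, hab, hfail⟩ := hex
  have hQa := hT.tsA a ha
  have hp : Q (gact Q γ a) = 0 := by rw [Q_gact, hQa]
  have hq : Q (gact Q γ b) = 0 := by rw [Q_gact, hT.tsB b hb]
  have hpq : polar (⇑Q) (gact Q γ a) (gact Q γ b) = 0 := by rw [polar_gact, hab]
  have hρM : ((siegIso Q (gact Q γ a) (gact Q γ b) hp hpq : ↥(Cfsg.isometryGroup F ⇑Q)) :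
      GL ι F) ∈ M := by
    have e := conj_siegIso Q γ a b hQa hab
    have hm : ((γ * siegIso Q a b hQa hab * γ⁻¹ : ↥(Cfsg.isometryGroup F ⇑Q)) : GL ι F) ∈ M :=
      M.mul_mem (M.mul_mem hg₀M (hSM a ha b hb hQa hab)) (M.inv_mem hg₀M)
    rw [e] at hm
    exact hm
  rw [not_and_or] at hfail
  rcases hfail with hf | hf
  · push Not at hf
    obtain ⟨α₀, hα₀, hwα⟩ := hf
    obtain ⟨x, hxB, hx0, hX⟩ := core hQ hT.symm (by omega) hSM' _ _ hp hq hpq hρM α₀ hα₀ hwα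
    exact omega_le_of_OrX hQ h5 hT.symm hSM' τ (hHM hτH) hτA hxB hx0 hX
  · push Not at hf
    obtain ⟨β₀, hβ₀, hwβ⟩ := hf
    obtain ⟨x, hxA, hx0, hX⟩ := core hQ hT (by omega) hSM _ _ hp hq hpq hρM β₀ hβ₀ hwβ
    exact omega_le_of_OrX hQ h5 hT hSM τ (hHM hτH) hτB hxA hx0 hX

end main

section fin
universe u
variable {F : Type u} [Field F] [Fintype F] {n : ℕ}

open Cfsg.Geo

/-- **Stabilisers of pairs of complementary totally singular `n/2`-spaces, `n/2` even, are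
maximal in `Ω⁺_n(q)`.** -/
theorem ts_pair_maximal (Q : QuadraticForm F (Fin n → F))
    (hQ : (polarBilin Q).Nondegenerate) (hn : 13 ≤ n) (k : ℕ) (hk : 2 * k = n) (hke : Even k)
    (D : Fin 2 → Submodule F (Fin n → F)) (hD : IsMDecomposition k D)
    (hts : ∀ i, IsTotallySingularQuad ⇑Q (D i)) :
    IsMaximalIn (omegaGL ⇑Q) (decompositionStabilizer D ⊓ omegaGL ⇑Q) := by
  have hfin2 : ∀ x : Fin 2, x = 0 ∨ x = 1 := by decide
  have hsup : D 0 ⊔ D 1 = ⊤ := by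
    rw [eq_top_iff, ← hD.iSup_eq_top]
    apply iSup_le
    intro i
    rcases hfin2 i with h | h
    · rw [h]
      exact le_sup_left
    · rw [h]
      exact le_sup_right
  have hT : TsPair Q (D 0) (D 1) := by
    refine ⟨hts 0, hts 1, fun x => ?_⟩
    have hx : x ∈ D 0 ⊔ D 1 := by
      rw [hsup]
      exact Submodule.mem_top
    obtain ⟨a, ha, b, hb, hab⟩ := Submodule.mem_sup.mp hx
    exact ⟨a, ha, b, hb, hab.symm⟩
  have hk8 : 8 ≤ k := by
    obtain ⟨m, hm⟩ := hke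
    omega
  refine ts_pair_maximal' hQ D hT ?_ ?_ ?_
  · rw [hD.finrank_eq 0]
    exact hk8
  · rw [hD.finrank_eq 0, hD.finrank_eq 1]
  · rw [hD.finrank_eq 0]
    exact hke

end fin

end Cfsg.Agent.Lib.Helper13.OTP
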