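import Mathlib
import Cfsg.Agent.Lib.Helper13.SpMax2
import Cfsg.Agent.Lib.Helper13.OrthTsPair
import Cfsg.Agent.Lib.Helper6.Spinor3

/-!
# Stabilisers of pairs of complementary Lagrangian subspaces in `Sp_{2m}(q)`, `q` odd

`V = A ⊕ B` with `A`, `B` totally singular.  The stabiliser `H` of `{A, B}` contains the Siegel
elements `x ↦ x + f(x,a) b + f(x,b) a` (`a ∈ A`, `b ∈ B`, `a ⟂ b`) and an element interchanging `A`
and `B`.  An overgroup containing `γ ∉ H` contains a conjugated Siegel element not stabilising both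
subspaces; conjugating Siegel elements centred at a suitable `x ∈ A` by it and taking commutators
(a Heisenberg group, `q` odd) gives all transvections in direction `x`.
-/

set_option autoImplicit false
set_option linter.unusedSectionVars false
set_option linter.unusedVariables false

namespace Cfsg.Agent.Lib.Helper13.STP

open Matrix Module Cfsg.Agent.Lib.Helper6 Cfsg.Agent.Lib.Helper13 Cfsg.Agent.Lib.Helper13.OTP

section generic
variable {F : Type*} [Field F]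

theorem exists_ne_zero_ker3 {V : Type*} [AddCommGroup V] [Module F V] [FiniteDimensional F V]
    (P : Submodule F V) (φ₁ φ₂ φ₃ : V →ₗ[F] F) (h : 4 ≤ finrank F P) :
    ∃ x ∈ P, x ≠ 0 ∧ φ₁ x = 0 ∧ φ₂ x = 0 ∧ φ₃ x = 0 := by
  have h1 := finrank_le_inf_ker_add_one P φ₁
  have h2 := finrank_le_inf_ker_add_one (P ⊓ LinearMap.ker φ₁) φ₂
  have h3 := finrank_le_inf_ker_add_one ((P ⊓ LinearMap.ker φ₁) ⊓ LinearMap.ker φ₂) φ₃
  have hpos : 0 < finrank F ↥(((P ⊓ LinearMap.ker φ₁) ⊓ LinearMap.ker φ₂) ⊓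
      LinearMap.ker φ₃) := by omega
  obtain ⟨⟨x, hx⟩, hx0⟩ := Module.finrank_pos_iff_exists_ne_zero.mp hpos
  simp only [Submodule.mem_inf, LinearMap.mem_ker] at hx
  exact ⟨x, hx.1.1.1, fun h => hx0 (Subtype.ext h), hx.1.1.2, hx.1.2, hx.2⟩

end generic

section stp
variable {m : ℕ} {F : Type*} [Field F]

local notation "ff" => Cfsg.sympForm m F

/-- the action on column vectors -/
def act (g : GL (Fin m ⊕ Fin m) F) (x : Fin m ⊕ Fin m → F) : Fin m ⊕ Fin m → F :=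
  (g : Matrix (Fin m ⊕ Fin m) (Fin m ⊕ Fin m) F) *ᵥ x

theorem act_add (g : GL (Fin m ⊕ Fin m) F) (x y : Fin m ⊕ Fin m → F) :
    act g (x + y) = act g x + act g y := Matrix.mulVec_add _ _ _

theorem act_sub (g : GL (Fin m ⊕ Fin m) F) (x y : Fin m ⊕ Fin m → F) :
    act g (x - y) = act g x - act g y := Matrix.mulVec_sub _ _ _

theorem act_smul (g : GL (Fin m ⊕ Fin m) F) (c : F) (x : Fin m ⊕ Fin m → F) :
    act g (c • x) = c • act g x := Matrix.mulVec_smul _ _ _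

theorem act_zero (g : GL (Fin m ⊕ Fin m) F) : act g 0 = 0 := Matrix.mulVec_zero _

theorem act_mul (g h : GL (Fin m ⊕ Fin m) F) (x : Fin m ⊕ Fin m → F) :
    act (g * h) x = act g (act h x) := by
  unfold act
  rw [Units.val_mul, Matrix.mulVec_mulVec]

theorem act_one (x : Fin m ⊕ Fin m → F) : act (1 : GL (Fin m ⊕ Fin m) F) x = x := by
  unfold act
  rw [Units.val_one, Matrix.one_mulVec]

theorem act_inv_act (g : GL (Fin m ⊕ Fin m) F) (x : Fin m ⊕ Fin m → F) :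
    act g⁻¹ (act g x) = x := by
  rw [← act_mul, inv_mul_cancel, act_one]

theorem act_act_inv (g : GL (Fin m ⊕ Fin m) F) (x : Fin m ⊕ Fin m → F) :
    act g (act g⁻¹ x) = x := by
  rw [← act_mul, mul_inv_cancel, act_one]

theorem act_eq_zero (g : GL (Fin m ⊕ Fin m) F) (x : Fin m ⊕ Fin m → F) (h : act g x = 0) :
    x = 0 := by
  have := congrArg (act g⁻¹) h
  rwa [act_inv_act, act_zero] at this

theorem ff_act (g : GL (Fin m ⊕ Fin m) F) (hg : g ∈ Cfsg.spGL m F)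
    (x y : Fin m ⊕ Fin m → F) : ff (act g x) (act g y) = ff x y := hg x y

theorem act_sieg (w v : Fin m ⊕ Fin m → F) (hwv : ff w v = 0) (x : Fin m ⊕ Fin m → F) :
    act (sieg w v) x = x + ff x w • v + ff x v • w := sieg_mulVec w v hwv x

theorem act_transv (v : Fin m ⊕ Fin m → F) (c : F) (x : Fin m ⊕ Fin m → F) :
    act (sympTransvGL v c) x = x + (c * ff x v) • v := sympTransvGL_mulVec v c x

theorem gl_ext {g h : GL (Fin m ⊕ Fin m) F} (H : ∀ x, act g x = act h x) : g = h :=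
  Units.ext (matrix_ext_mulVec H)

theorem conj_sieg (k : GL (Fin m ⊕ Fin m) F) (hk : k ∈ Cfsg.spGL m F)
    (w v : Fin m ⊕ Fin m → F) (hwv : ff w v = 0) :
    k * sieg w v * k⁻¹ = sieg (act k w) (act k v) := by
  apply gl_ext
  intro x
  have hwv' : ff (act k w) (act k v) = 0 := by rw [ff_act k hk, hwv]
  have h1 : ∀ z, ff (act k⁻¹ x) z = ff x (act k z) := by
    intro z
    rw [← ff_act k hk, act_act_inv]
  rw [act_mul, act_mul, act_sieg w v hwv, act_sieg _ _ hwv', act_add, act_add, act_smul,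
    act_smul, act_act_inv, h1, h1]

/-- the commutator of two Siegel elements with the same centre is a transvection -/
theorem transv_of_sieg (M : Subgroup (GL (Fin m ⊕ Fin m) F)) (x w w' : Fin m ⊕ Fin m → F)
    (hxw : ff x w = 0) (hxw' : ff x w' = 0) (h1 : sieg x w ∈ M) (h2 : sieg x w' ∈ M) :
    sympTransvGL x (ff w' w - ff w w') ∈ M := by
  have hwx : ff w x = 0 := by rw [sympForm_swap, hxw, neg_zero]
  have hw'x : ff w' x = 0 := by rw [sympForm_swap, hxw', neg_zero]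
  have e : sieg x w * sieg x w' =
      sympTransvGL x (ff w' w - ff w w') * (sieg x w' * sieg x w) := by
    apply gl_ext
    intro y
    rw [act_mul, act_mul, act_mul, act_sieg x w' hxw', act_sieg x w hxw, act_sieg x w hxw,
      act_sieg x w' hxw', act_transv]
    simp only [sympForm_add_left, sympForm_smul_left, sympForm_self, hxw, hxw', hwx, hw'x,
      mul_zero, add_zero]
    module
  have h3 : sympTransvGL x (ff w' w - ff w w') =
      sieg x w * sieg x w' * (sieg x w' * sieg x w)⁻¹ := by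
    rw [e, mul_inv_cancel_right]
  rw [h3]
  exact M.mul_mem (M.mul_mem h1 h2) (M.inv_mem (M.mul_mem h2 h1))

/-- a decomposition into two totally singular subspaces -/
structure SpPair (A B : Submodule F (Fin m ⊕ Fin m → F)) : Prop where
  tsA : ∀ a ∈ A, ∀ a' ∈ A, ff a a' = 0
  tsB : ∀ b ∈ B, ∀ b' ∈ B, ff b b' = 0
  dec : ∀ x : Fin m ⊕ Fin m → F, ∃ a ∈ A, ∃ b ∈ B, x = a + b

variable {A B : Submodule F (Fin m ⊕ Fin m → F)} {M : Subgroup (GL (Fin m ⊕ Fin m) F)}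

theorem SpPair.symm (h : SpPair A B) : SpPair B A :=
  ⟨h.tsB, h.tsA, fun x => by
    obtain ⟨a, ha, b, hb, rfl⟩ := h.dec x
    exact ⟨b, hb, a, ha, add_comm a b⟩⟩

theorem SpPair.partner (h : SpPair A B) {a : Fin m ⊕ Fin m → F}
    (ha : a ∈ A) (ha0 : a ≠ 0) : ∃ b ∈ B, ff a b = 1 := by
  obtain ⟨y, hy⟩ : ∃ y, ff a y ≠ 0 := by
    by_contra hne
    push Not at hne
    exact ha0 (Cfsg.Agent.Lib.Helper15.stdSymp_nondeg a hne)
  obtain ⟨yA, hyA, yB, hyB, rfl⟩ := h.dec y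
  rw [sympForm_add_right, h.tsA a ha yA hyA, zero_add] at hy
  exact ⟨(ff a yB)⁻¹ • yB, B.smul_mem _ hyB, by
    rw [sympForm_smul_right, inv_mul_cancel₀ hy]⟩

theorem SpPair.inter (h : SpPair A B) {x : Fin m ⊕ Fin m → F}
    (hxA : x ∈ A) (hxB : x ∈ B) : x = 0 := by
  by_contra hx0
  obtain ⟨b, hb, hxb⟩ := h.partner hxA hx0
  rw [h.tsB x hxB b hb] at hxb
  exact zero_ne_one hxb

theorem SpPair.dual (h : SpPair A B) {x w : Fin m ⊕ Fin m → F}
    (hx : x ∈ A) (hx0 : x ≠ 0) (hw : w ∈ A)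
    (hxw : ∀ b ∈ B, ff x b = 0 → ff w b = 0) : ∃ c : F, w = c • x := by
  obtain ⟨bs, hbs, hxbs⟩ := h.partner hx hx0
  refine ⟨ff w bs, ?_⟩
  have hz : w - ff w bs • x = 0 := by
    apply Cfsg.Agent.Lib.Helper15.stdSymp_nondeg
    intro y
    obtain ⟨yA, hyA, yB, hyB, rfl⟩ := h.dec y
    rw [Cfsg.Agent.Lib.Helper15.stdSymp_apply]
    have hwA : w - ff w bs • x ∈ A := A.sub_mem hw (A.smul_mem _ hx)
    rw [sympForm_add_right, h.tsA _ hwA yA hyA, zero_add]
    obtain ⟨t, ht⟩ : ∃ t, t = ff x yB := ⟨_, rfl⟩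
    have h1 : ff x (yB - t • bs) = 0 := by
      rw [sympForm_sub_right, sympForm_smul_right, hxbs, mul_one, ht, sub_self]
    have h2 := hxw _ (B.sub_mem hyB (B.smul_mem _ hbs)) h1
    rw [sympForm_sub_right, sympForm_smul_right, sub_eq_zero] at h2
    rw [sympForm_sub_left, sympForm_smul_left, h2, ← ht]
    ring
  exact sub_eq_zero.mp hz

/-! ### an isometry all of whose conjugated Siegel elements stabilise both subspaces -/

theorem pure_image (hT : SpPair A B) (h4 : 4 ≤ finrank F B) (γ : GL (Fin m ⊕ Fin m) F)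
    (hγ : γ ∈ Cfsg.spGL m F)
    (hc : ∀ a ∈ A, ∀ b ∈ B, ff a b = 0 →
      (∀ y ∈ A, ff y (act γ a) • act γ b + ff y (act γ b) • act γ a ∈ A) ∧
      (∀ y ∈ B, ff y (act γ a) • act γ b + ff y (act γ b) • act γ a ∈ B)) :
    ∀ a ∈ A, act γ a ∈ A ∨ act γ a ∈ B := by
  intro a ha
  obtain ⟨pA, hpA, pB, hpB, hp⟩ := hT.dec (act γ a)
  by_cases hpB0 : pB = 0
  · left
    rw [hp, hpB0, add_zero]
    exact hpA
  by_cases hpA0 : pA = 0
  · right
    rw [hp, hpA0, zero_add]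
    exact hpB
  exfalso
  obtain ⟨x₁, hx₁, hpx₁⟩ := hT.symm.partner hpB hpB0
  obtain ⟨x₂, hx₂, hpx₂⟩ := hT.partner hpA hpA0
  obtain ⟨b, hb, hb0, hab, hb1, hb2⟩ := exists_ne_zero_ker3 B
    (Cfsg.Agent.Lib.Helper15.stdSymp m F a)
    (Cfsg.Agent.Lib.Helper15.stdSymp m F (act γ⁻¹ x₁))
    (Cfsg.Agent.Lib.Helper15.stdSymp m F (act γ⁻¹ x₂)) h4
  rw [Cfsg.Agent.Lib.Helper15.stdSymp_apply] at hab hb1 hb2
  have hγi : γ⁻¹ ∈ Cfsg.spGL m F := (Cfsg.spGL m F).inv_mem hγ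
  have hq1 : ff x₁ (act γ b) = 0 := by
    rw [← ff_act γ⁻¹ hγi, act_inv_act]
    exact hb1
  have hq2 : ff x₂ (act γ b) = 0 := by
    rw [← ff_act γ⁻¹ hγi, act_inv_act]
    exact hb2
  obtain ⟨hcA, hcB⟩ := hc a ha b hb hab
  have h1 := hcA x₁ hx₁
  have h2 := hcB x₂ hx₂
  have e1 : ff x₁ (act γ a) = -1 := by
    rw [hp, sympForm_add_right, hT.tsA x₁ hx₁ pA hpA, zero_add, sympForm_swap, hpx₁]
  have e2 : ff x₂ (act γ a) = -1 := by
    rw [hp, sympForm_add_right, hT.tsB x₂ hx₂ pB hpB, add_zero, sympForm_swap, hpx₂]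
  rw [hq1, e1, zero_smul, add_zero, neg_one_smul] at h1
  rw [hq2, e2, zero_smul, add_zero, neg_one_smul] at h2
  have h3 : act γ b = 0 :=
    hT.inter (by simpa using A.neg_mem h1) (by simpa using B.neg_mem h2)
  exact hb0 (act_eq_zero γ b h3)

theorem union_sub (γ : GL (Fin m ⊕ Fin m) F) (U X Y : Submodule F (Fin m ⊕ Fin m → F))
    (h : ∀ u ∈ U, act γ u ∈ X ∨ act γ u ∈ Y) :
    (∀ u ∈ U, act γ u ∈ X) ∨ (∀ u ∈ U, act γ u ∈ Y) := by
  by_contra hne
  push Not at hne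
  obtain ⟨⟨u₁, hu₁, h1⟩, ⟨u₂, hu₂, h2⟩⟩ := hne
  have h1' : act γ u₁ ∈ Y := (h u₁ hu₁).resolve_left h1
  have h2' : act γ u₂ ∈ X := (h u₂ hu₂).resolve_right h2
  rcases h (u₁ + u₂) (U.add_mem hu₁ hu₂) with h3 | h3
  · rw [act_add] at h3
    apply h1
    have := X.sub_mem h3 h2'
    rwa [add_sub_cancel_right] at this
  · rw [act_add] at h3
    apply h2
    have := Y.sub_mem h3 h1'
    rwa [add_sub_cancel_left] at this

theorem stab_or_swap (hT : SpPair A B) (h4A : 4 ≤ finrank F A) (h4 : 4 ≤ finrank F B)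
    (γ : GL (Fin m ⊕ Fin m) F) (hγ : γ ∈ Cfsg.spGL m F)
    (hc : ∀ a ∈ A, ∀ b ∈ B, ff a b = 0 →
      (∀ y ∈ A, ff y (act γ a) • act γ b + ff y (act γ b) • act γ a ∈ A) ∧
      (∀ y ∈ B, ff y (act γ a) • act γ b + ff y (act γ b) • act γ a ∈ B)) :
    ((∀ a ∈ A, act γ a ∈ A) ∧ (∀ b ∈ B, act γ b ∈ B)) ∨
    ((∀ a ∈ A, act γ a ∈ B) ∧ (∀ b ∈ B, act γ b ∈ A)) := by
  have hA := pure_image hT h4 γ hγ hc
  have hB := pure_image hT.symm h4A γ hγ (by
    intro b hb a ha hba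
    obtain ⟨h1, h2⟩ := hc a ha b hb (by rw [sympForm_swap, hba, neg_zero])
    refine ⟨fun y hy => ?_, fun y hy => ?_⟩
    · have := h2 y hy
      rwa [add_comm] at this
    · have := h1 y hy
      rwa [add_comm] at this)
  have hA' := union_sub γ A A B hA
  have hB' := union_sub γ B B A hB
  have hBpos : 0 < finrank F B := by omega
  obtain ⟨⟨b₀, hb₀B⟩, hb₀⟩ := Module.finrank_pos_iff_exists_ne_zero.mp hBpos
  have hb₀0 : b₀ ≠ 0 := fun h => hb₀ (Subtype.ext h)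
  have hApos : 0 < finrank F A := by omega
  obtain ⟨⟨a₀, ha₀A⟩, ha₀⟩ := Module.finrank_pos_iff_exists_ne_zero.mp hApos
  have ha₀0 : a₀ ≠ 0 := fun h => ha₀ (Subtype.ext h)
  have hall : ∀ X : Submodule F (Fin m ⊕ Fin m → F), (∀ a ∈ A, act γ a ∈ X) →
      (∀ b ∈ B, act γ b ∈ X) → ∀ y, y ∈ X := by
    intro X h1 h2 y
    obtain ⟨a, ha, b, hb, hab⟩ := hT.dec (act γ⁻¹ y)
    have : y = act γ a + act γ b := by
      rw [← act_add, ← hab, act_act_inv]
    rw [this]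
    exact X.add_mem (h1 a ha) (h2 b hb)
  rcases hA' with hAA | hAB
  · rcases hB' with hBB | hBA
    · exact Or.inl ⟨hAA, hBB⟩
    · exfalso
      exact hb₀0 (hT.inter (hall A hAA hBA b₀) hb₀B)
  · rcases hB' with hBB | hBA
    · exfalso
      exact ha₀0 (hT.inter ha₀A (hall B hAB hBB a₀))
    · exact Or.inr ⟨hAB, hBA⟩

/-! ### the core argument -/

theorem core (hT : SpPair A B) (h7 : 7 ≤ finrank F A) (h2 : (2 : F) ≠ 0)
    (hSM : ∀ a ∈ A, ∀ b ∈ B, ff a b = 0 → sieg a b ∈ M)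
    (p q : Fin m ⊕ Fin m → F) (hpq : ff p q = 0) (hρ : sieg p q ∈ M)
    (β₀ : Fin m ⊕ Fin m → F) (hβ₀ : β₀ ∈ B)
    (hw : ff β₀ p • q + ff β₀ q • p ∉ B) :
    ∃ x ∈ A, x ≠ 0 ∧ SpX M x := by
  obtain ⟨pA, hpA, pB, hpB, hpdec⟩ := hT.dec p
  obtain ⟨qA, hqA, qB, hqB, hqdec⟩ := hT.dec q
  obtain ⟨c₁, hc₁⟩ : ∃ c, c = ff β₀ p := ⟨_, rfl⟩
  obtain ⟨c₂, hc₂⟩ : ∃ c, c = ff β₀ q := ⟨_, rfl⟩
  rw [← hc₁, ← hc₂] at hw
  obtain ⟨wA, hwAdef⟩ : ∃ w, w = c₁ • qA + c₂ • pA := ⟨_, rfl⟩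
  obtain ⟨wB, hwBdef⟩ : ∃ w, w = c₁ • qB + c₂ • pB := ⟨_, rfl⟩
  have hwA : wA ∈ A := by
    rw [hwAdef]
    exact A.add_mem (A.smul_mem _ hqA) (A.smul_mem _ hpA)
  have hwB : wB ∈ B := by
    rw [hwBdef]
    exact B.add_mem (B.smul_mem _ hqB) (B.smul_mem _ hpB)
  have hwsum : c₁ • q + c₂ • p = wA + wB := by
    rw [hwAdef, hwBdef, hpdec, hqdec]
    module
  have hwA0 : wA ≠ 0 := by
    intro h0
    apply hw
    rw [hwsum, h0, zero_add]
    exact hwB
  obtain ⟨β₁, hβ₁, hwβ₁⟩ := hT.partner hwA hwA0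
  have hfr := finrank_le_inf_ker_add_one A (Cfsg.Agent.Lib.Helper15.stdSymp m F p)
  obtain ⟨x, hxP, hx0, hqx, hβ₀x, hβ₁x⟩ := exists_ne_zero_ker3
    (A ⊓ LinearMap.ker (Cfsg.Agent.Lib.Helper15.stdSymp m F p))
    (Cfsg.Agent.Lib.Helper15.stdSymp m F q) (Cfsg.Agent.Lib.Helper15.stdSymp m F β₀)
    (Cfsg.Agent.Lib.Helper15.stdSymp m F β₁) (by omega)
  rw [Cfsg.Agent.Lib.Helper15.stdSymp_apply] at hqx hβ₀x hβ₁x
  obtain ⟨hxA, hpx⟩ : x ∈ A ∧ ff p x = 0 := by
    simpa only [Submodule.mem_inf, LinearMap.mem_ker,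
      Cfsg.Agent.Lib.Helper15.stdSymp_apply] using hxP
  have hxp : ff x p = 0 := by rw [sympForm_swap, hpx, neg_zero]
  have hxq : ff x q = 0 := by rw [sympForm_swap, hqx, neg_zero]
  have hxβ₀ : ff x β₀ = 0 := by rw [sympForm_swap, hβ₀x, neg_zero]
  have hxβ₁ : ff x β₁ = 0 := by rw [sympForm_swap, hβ₁x, neg_zero]
  have hρx : act (sieg p q) x = x := by
    rw [act_sieg p q hpq, hxp, hxq, zero_smul, zero_smul, add_zero, add_zero]
  have hρβ : act (sieg p q) β₀ = β₀ + (wA + wB) := by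
    rw [act_sieg p q hpq, ← hc₁, ← hc₂, ← hwsum, add_assoc]
  -- the new Siegel elements
  have hnew : ∀ t : F, sieg x (t • (β₀ + (wA + wB))) ∈ M := by
    intro t
    have h0 : ff x (t • β₀) = 0 := by rw [sympForm_smul_right, hxβ₀, mul_zero]
    have h1 := hSM x hxA (t • β₀) (B.smul_mem _ hβ₀) h0
    have h3 := conj_sieg (sieg p q) (sieg_mem p q) x (t • β₀) h0
    have h4 : sieg p q * sieg x (t • β₀) * (sieg p q)⁻¹ ∈ M :=
      M.mul_mem (M.mul_mem hρ h1) (M.inv_mem hρ)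
    rw [h3, hρx, act_smul, hρβ] at h4
    exact h4
  have hxW : ff x (β₀ + (wA + wB)) = 0 := by
    rw [← hρβ]
    have := ff_act (sieg p q) (sieg_mem p q) x β₀
    rw [hρx] at this
    rw [this]
    exact hxβ₀
  obtain ⟨w', hw'B, hxw', hww'⟩ : ∃ w' ∈ B, ff x w' = 0 ∧ ff wA w' ≠ 0 := by
    by_contra hne
    push Not at hne
    obtain ⟨c, hc⟩ := hT.dual hxA hx0 hwA hne
    rw [hc, sympForm_smul_left, hxβ₁, mul_zero] at hwβ₁
    exact zero_ne_one hwβ₁
  have hsw' : sieg x w' ∈ M := hSM x hxA w' hw'B hxw'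
  refine ⟨x, hxA, hx0, fun c₀ => ?_⟩
  obtain ⟨t, ht⟩ : ∃ t, t = -c₀ / (2 * ff wA w') := ⟨_, rfl⟩
  have hxW' : ff x (t • (β₀ + (wA + wB))) = 0 := by
    rw [sympForm_smul_right, hxW, mul_zero]
  have key := transv_of_sieg M x (t • (β₀ + (wA + wB))) w' hxW' hxw' (hnew t) hsw'
  have e : ff w' (t • (β₀ + (wA + wB))) - ff (t • (β₀ + (wA + wB))) w' = c₀ := by
    rw [sympForm_swap w' _, sympForm_smul_left, sympForm_add_left, sympForm_add_left,
      hT.tsB β₀ hβ₀ w' hw'B, hT.tsB wB hwB w' hw'B, ht]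
    field_simp
    ring
  rw [e] at key
  exact key

theorem SpX_all_A (hT : SpPair A B) (hMS : M ≤ Cfsg.spGL m F)
    (hSM : ∀ a ∈ A, ∀ b ∈ B, ff a b = 0 → sieg a b ∈ M)
    {x : Fin m ⊕ Fin m → F} (hxA : x ∈ A) (hx0 : x ≠ 0) (hX : SpX M x) :
    ∀ a ∈ A, SpX M a := by
  intro a ha
  by_cases hax : ∃ c : F, a = c • x
  · obtain ⟨c, rfl⟩ := hax
    exact hX.smul c
  have hd0 : a - x ≠ 0 := by
    intro h
    apply hax
    exact ⟨1, by rw [one_smul]; exact sub_eq_zero.mp h⟩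
  have hdA : a - x ∈ A := A.sub_mem ha hxA
  obtain ⟨b, hb, hdb, hxb⟩ : ∃ b ∈ B, ff (a - x) b = 0 ∧ ff x b ≠ 0 := by
    by_contra hne
    push Not at hne
    obtain ⟨c, hc⟩ := hT.dual hdA hd0 hxA hne
    by_cases hc0 : c = 0
    · rw [hc0, zero_smul] at hc
      exact hx0 hc
    · apply hax
      refine ⟨(1 + c) / c, ?_⟩
      have h1 : c • a = (1 + c) • x := by
        have h2 : c • a = c • (a - x) + c • x := by module
        rw [h2, ← hc]
        module
      rw [div_eq_inv_mul, mul_smul, ← h1, smul_smul, inv_mul_cancel₀ hc0, one_smul]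
  obtain ⟨κ, hκ⟩ : ∃ κ, κ = ff x b := ⟨_, rfl⟩
  have hκ0 : κ ≠ 0 := by rw [hκ]; exact hxb
  have hb' : κ⁻¹ • b ∈ B := B.smul_mem _ hb
  have hdb' : ff (a - x) (κ⁻¹ • b) = 0 := by rw [sympForm_smul_right, hdb, mul_zero]
  have hm := hSM _ hdA _ hb' hdb'
  have h1 := hX.map hMS hm
  have e : ((sieg (a - x) (κ⁻¹ • b) : GL (Fin m ⊕ Fin m) F) :
      Matrix (Fin m ⊕ Fin m) (Fin m ⊕ Fin m) F) *ᵥ x = a := by
    change act (sieg (a - x) (κ⁻¹ • b)) x = a
    rw [act_sieg _ _ hdb', hT.tsA x hxA _ hdA, sympForm_smul_right, ← hκ, inv_mul_cancel₀ hκ0]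
    module
  rwa [e] at h1

theorem sp_le_of_SpX (hT : SpPair A B) (hMS : M ≤ Cfsg.spGL m F)
    (hSM : ∀ a ∈ A, ∀ b ∈ B, ff a b = 0 → sieg a b ∈ M)
    (τ : GL (Fin m ⊕ Fin m) F) (hτM : τ ∈ M) (hτ : ∀ b ∈ B, act τ b ∈ A)
    {x : Fin m ⊕ Fin m → F} (hxA : x ∈ A) (hx0 : x ≠ 0) (hX : SpX M x) :
    Cfsg.spGL m F ≤ M := by
  have hallA := SpX_all_A hT hMS hSM hxA hx0 hX
  have hallB : ∀ b ∈ B, SpX M b := by
    intro b hb
    have h1 := (hallA _ (hτ b hb)).map hMS (M.inv_mem hτM)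
    have e : ((τ⁻¹ : GL (Fin m ⊕ Fin m) F) : Matrix (Fin m ⊕ Fin m) (Fin m ⊕ Fin m) F) *ᵥ
        act τ b = b := act_inv_act τ b
    rwa [e] at h1
  apply spGL_le_of_transvections
  intro v
  obtain ⟨vA, hvA, vB, hvB, rfl⟩ := hT.dec v
  by_cases hvA0 : vA = 0
  · rw [hvA0, zero_add]
    exact hallB vB hvB
  by_cases hAB : ff vA vB = 0
  · obtain ⟨b', hb', hvb'⟩ := hT.partner hvA hvA0
    have h1 := (hallA vA hvA).rule hMS (hallB b' hb') (by rw [hvb']; exact one_ne_zero) 1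
    have h2 := hallB (vB - b') (B.sub_mem hvB hb')
    have h3 : ff (vA + (1 : F) • b') (vB - b') ≠ 0 := by
      rw [one_smul, sympForm_add_left, sympForm_sub_right, sympForm_sub_right, hAB, hvb',
        hT.tsB b' hb' vB hvB, hT.tsB b' hb' b' hb']
      simp
    have h4 := h1.rule hMS h2 h3 1
    have e : vA + (1 : F) • b' + (1 : F) • (vB - b') = vA + vB := by module
    rwa [e] at h4
  · have h1 := (hallA vA hvA).rule hMS (hallB vB hvB) hAB 1
    rwa [one_smul] at h1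

/-! ### the interchanging element -/

theorem exists_swap_sp :
    ∀ (d : ℕ) (A B : Submodule F (Fin m ⊕ Fin m → F)), (∀ a ∈ A, ∀ a' ∈ A, ff a a' = 0) →
      (∀ b ∈ B, ∀ b' ∈ B, ff b b' = 0) →
      (∀ a ∈ A, a ≠ 0 → ∃ b ∈ B, ff a b ≠ 0) →
      (∀ b ∈ B, b ≠ 0 → ∃ a ∈ A, ff a b ≠ 0) →
      finrank F A = d →
      ∃ g : GL (Fin m ⊕ Fin m) F, g ∈ Cfsg.spGL m F ∧ (∀ a ∈ A, act g a ∈ B) ∧
        (∀ b ∈ B, act g b ∈ A) ∧
        (∀ x, (∀ a ∈ A, ff a x = 0) → (∀ b ∈ B, ff b x = 0) → act g x = x) := by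
  intro d
  induction d with
  | zero =>
    intro A B hA hB hAB hBA hd
    have hA0 : A = ⊥ := Submodule.finrank_eq_zero.mp hd
    have hB0 : ∀ b ∈ B, b = 0 := by
      intro b hb
      by_contra hb0
      obtain ⟨a, ha, hab⟩ := hBA b hb hb0
      rw [hA0, Submodule.mem_bot] at ha
      rw [ha, sympForm_zero_left] at hab
      exact hab rfl
    refine ⟨1, (Cfsg.spGL m F).one_mem, fun a ha => ?_, fun b hb => ?_, fun x _ _ => act_one x⟩
    · rw [hA0, Submodule.mem_bot] at ha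
      rw [ha, act_zero]
      exact B.zero_mem
    · rw [hB0 b hb, act_zero]
      exact A.zero_mem
  | succ d ih =>
    intro A B hA hB hAB hBA hd
    have hpos : 0 < finrank F A := by omega
    obtain ⟨⟨a, haA⟩, ha⟩ := Module.finrank_pos_iff_exists_ne_zero.mp hpos
    have ha0 : a ≠ 0 := fun h => ha (Subtype.ext h)
    obtain ⟨y, hyB, hy⟩ := hAB a haA ha0
    obtain ⟨b, hbB, hab⟩ : ∃ b ∈ B, ff a b = 1 :=
      ⟨(ff a y)⁻¹ • y, B.smul_mem _ hyB, by
        rw [sympForm_smul_right, inv_mul_cancel₀ hy]⟩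
    have hba : ff b a = -1 := by rw [sympForm_swap, hab]
    obtain ⟨A', hA'⟩ : ∃ A' : Submodule F (Fin m ⊕ Fin m → F),
        A' = A ⊓ LinearMap.ker (Cfsg.Agent.Lib.Helper15.stdSymp m F b) := ⟨_, rfl⟩
    obtain ⟨B', hB'⟩ : ∃ B' : Submodule F (Fin m ⊕ Fin m → F),
        B' = B ⊓ LinearMap.ker (Cfsg.Agent.Lib.Helper15.stdSymp m F a) := ⟨_, rfl⟩
    have hmemA' : ∀ x, x ∈ A' ↔ x ∈ A ∧ ff b x = 0 := by
      intro x
      rw [hA', Submodule.mem_inf, LinearMap.mem_ker, Cfsg.Agent.Lib.Helper15.stdSymp_apply]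
    have hmemB' : ∀ x, x ∈ B' ↔ x ∈ B ∧ ff a x = 0 := by
      intro x
      rw [hB', Submodule.mem_inf, LinearMap.mem_ker, Cfsg.Agent.Lib.Helper15.stdSymp_apply]
    have hfrA' : finrank F A' = d := by
      have h1 := finrank_inf_ker_add_one A (Cfsg.Agent.Lib.Helper15.stdSymp m F b) a haA (by
        rw [Cfsg.Agent.Lib.Helper15.stdSymp_apply, hba]
        exact neg_ne_zero.mpr one_ne_zero)
      rw [← hA'] at h1
      omega
    obtain ⟨g, hgS, hgA, hgB, hgfix⟩ := ih A' B'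
      (fun x hx y hy => hA x ((hmemA' x).mp hx).1 y ((hmemA' y).mp hy).1)
      (fun x hx y hy => hB x ((hmemB' x).mp hx).1 y ((hmemB' y).mp hy).1)
      (by
        intro a' ha' ha'0
        obtain ⟨ha'A, hba'⟩ := (hmemA' a').mp ha'
        obtain ⟨b'', hb''B, hb''⟩ := hAB a' ha'A ha'0
        have ha'b : ff a' b = 0 := by rw [sympForm_swap, hba', neg_zero]
        refine ⟨b'' - ff a b'' • b,
          (hmemB' _).mpr ⟨B.sub_mem hb''B (B.smul_mem _ hbB), ?_⟩, ?_⟩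
        · rw [sympForm_sub_right, sympForm_smul_right, hab, mul_one, sub_self]
        · rw [sympForm_sub_right, sympForm_smul_right, ha'b, mul_zero, sub_zero]
          exact hb'')
      (by
        intro b' hb' hb'0
        obtain ⟨hb'B, hab'⟩ := (hmemB' b').mp hb'
        obtain ⟨a'', ha''A, ha''⟩ := hBA b' hb'B hb'0
        refine ⟨a'' - ff a'' b • a,
          (hmemA' _).mpr ⟨A.sub_mem ha''A (A.smul_mem _ haA), ?_⟩, ?_⟩
        · rw [sympForm_sub_right, sympForm_smul_right, hba, sympForm_swap b a'']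
          ring
        · rw [sympForm_sub_left, sympForm_smul_left, hab', mul_zero, sub_zero]
          exact ha'')
      hfrA'
    obtain ⟨n, hn⟩ : ∃ n : GL (Fin m ⊕ Fin m) F,
        n = sympTransvGL a 1 * sympTransvGL b 1 * sympTransvGL a 1 := ⟨_, rfl⟩
    have hnS : n ∈ Cfsg.spGL m F := by
      rw [hn]
      exact (Cfsg.spGL m F).mul_mem ((Cfsg.spGL m F).mul_mem (sympTransvGL_mem _ _)
        (sympTransvGL_mem _ _)) (sympTransvGL_mem _ _)
    have hnact : ∀ y, act n y = act (sympTransvGL a 1) (act (sympTransvGL b 1)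
        (act (sympTransvGL a 1) y)) := by
      intro y
      rw [hn, act_mul, act_mul]
    have hna : act n a = b := by
      rw [hnact, act_transv, act_transv, act_transv]
      simp only [sympForm_add_left, sympForm_smul_left, sympForm_self, hab, hba]
      module
    have hnb : act n b = -a := by
      rw [hnact, act_transv, act_transv, act_transv]
      simp only [sympForm_add_left, sympForm_smul_left, sympForm_self, hab, hba]
      module
    have hnfix : ∀ y, ff a y = 0 → ff b y = 0 → act n y = y := by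
      intro y hay hby
      have hya : ff y a = 0 := by rw [sympForm_swap, hay, neg_zero]
      have hyb : ff y b = 0 := by rw [sympForm_swap, hby, neg_zero]
      have hfixt : ∀ (v : Fin m ⊕ Fin m → F) (c : F), ff y v = 0 →
          act (sympTransvGL v c) y = y := by
        intro v c hv
        rw [act_transv, hv, mul_zero, zero_smul, add_zero]
      rw [hnact, hfixt a 1 hya, hfixt b 1 hyb, hfixt a 1 hya]
    have hga : act g a = a := by
      apply hgfix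
      · intro a' ha'
        exact hA a' ((hmemA' a').mp ha').1 a haA
      · intro b' hb'
        rw [sympForm_swap, ((hmemB' b').mp hb').2, neg_zero]
    have hgb : act g b = b := by
      apply hgfix
      · intro a' ha'
        rw [sympForm_swap, ((hmemA' a').mp ha').2, neg_zero]
      · intro b' hb'
        exact hB b' ((hmemB' b').mp hb').1 b hbB
    refine ⟨n * g, (Cfsg.spGL m F).mul_mem hnS hgS, ?_, ?_, ?_⟩
    · intro x hx
      obtain ⟨t, ht⟩ : ∃ t, t = ff x b := ⟨_, rfl⟩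
      have hx' : x - t • a ∈ A' := by
        rw [hmemA']
        refine ⟨A.sub_mem hx (A.smul_mem _ haA), ?_⟩
        rw [sympForm_sub_right, sympForm_smul_right, hba, ht, sympForm_swap b x]
        ring
      have hgx' := hgA _ hx'
      obtain ⟨hgx'B, hgx'a⟩ := (hmemB' _).mp hgx'
      have e : x = (x - t • a) + t • a := by abel
      rw [act_mul, e, act_add, act_smul, hga, act_add, act_smul, hna]
      refine B.add_mem ?_ (B.smul_mem _ hbB)
      rw [hnfix _ hgx'a (hB b hbB _ hgx'B)]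
      exact hgx'B
    · intro x hx
      obtain ⟨t, ht⟩ : ∃ t, t = ff a x := ⟨_, rfl⟩
      have hx' : x - t • b ∈ B' := by
        rw [hmemB']
        refine ⟨B.sub_mem hx (B.smul_mem _ hbB), ?_⟩
        rw [sympForm_sub_right, sympForm_smul_right, hab, mul_one, ht, sub_self]
      have hgx' := hgB _ hx'
      obtain ⟨hgx'A, hgx'b⟩ := (hmemA' _).mp hgx'
      have e : x = (x - t • b) + t • b := by abel
      rw [act_mul, e, act_add, act_smul, hgb, act_add, act_smul, hnb]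
      refine A.add_mem ?_ (A.smul_mem _ (A.neg_mem haA))
      rw [hnfix _ (hA a haA _ hgx'A) hgx'b]
      exact hgx'A
    · intro x hxA hxB
      rw [act_mul, hgfix x (fun a' ha' => hxA a' ((hmemA' a').mp ha').1)
        (fun b' hb' => hxB b' ((hmemB' b').mp hb').1)]
      exact hnfix x (hxA a haA) (hxB b hbB)

/-- **Maximality of the stabiliser of a pair of complementary Lagrangian subspaces in
`Sp_{2m}(q)`, `q` odd.** -/
theorem sp_ts_pair_maximal [Fintype F] (hm : 7 ≤ m) (h2 : (2 : F) ≠ 0)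
    (D : Fin 2 → Submodule F (Fin m ⊕ Fin m → F)) (hD : Cfsg.Geo.IsMDecomposition m D)
    (hts : ∀ i, Cfsg.Geo.IsTotallySingularFor (Cfsg.sympForm m F) (D i)) :
    Cfsg.Geo.IsMaximalIn (Cfsg.spGL m F)
      (Cfsg.Geo.decompositionStabilizer D ⊓ Cfsg.spGL m F) := by
  have hfin2 : ∀ x : Fin 2, x = 0 ∨ x = 1 := by decide
  have hsup : D 0 ⊔ D 1 = ⊤ := by
    rw [eq_top_iff, ← hD.iSup_eq_top]
    apply iSup_le
    intro i
    rcases hfin2 i with h | h
    · rw [h]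
      exact le_sup_left
    · rw [h]
      exact le_sup_right
  have hT : SpPair (D 0) (D 1) := by
    refine ⟨hts 0, hts 1, fun x => ?_⟩
    have hx : x ∈ D 0 ⊔ D 1 := by
      rw [hsup]
      exact Submodule.mem_top
    obtain ⟨a, ha, b, hb, hab⟩ := Submodule.mem_sup.mp hx
    exact ⟨a, ha, b, hb, hab.symm⟩
  have hfr0 : finrank F (D 0) = m := hD.finrank_eq 0
  have hfr1 : finrank F (D 1) = m := hD.finrank_eq 1
  have hSH : ∀ a ∈ D 0, ∀ b ∈ D 1, ff a b = 0 →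
      sieg a b ∈ Cfsg.Geo.decompositionStabilizer D ⊓ Cfsg.spGL m F := by
    intro a ha b hb hab
    refine ⟨mem_decStab_of_stab D _ ?_ ?_, sieg_mem a b⟩
    · intro x hx
      change act (sieg a b) x ∈ D 0
      rw [act_sieg a b hab, hT.tsA x hx a ha, zero_smul, add_zero]
      exact (D 0).add_mem hx ((D 0).smul_mem _ ha)
    · intro x hx
      change act (sieg a b) x ∈ D 1
      rw [act_sieg a b hab, hT.tsB x hx b hb, zero_smul, add_zero]
      exact (D 1).add_mem hx ((D 1).smul_mem _ hb)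
  have hSH' : ∀ b ∈ D 1, ∀ a ∈ D 0, ff b a = 0 →
      sieg b a ∈ Cfsg.Geo.decompositionStabilizer D ⊓ Cfsg.spGL m F := by
    intro b hb a ha hba
    refine ⟨mem_decStab_of_stab D _ ?_ ?_, sieg_mem b a⟩
    · intro x hx
      change act (sieg b a) x ∈ D 0
      rw [act_sieg b a hba, hT.tsA x hx a ha, zero_smul, add_zero]
      exact (D 0).add_mem hx ((D 0).smul_mem _ ha)
    · intro x hx
      change act (sieg b a) x ∈ D 1
      rw [act_sieg b a hba, hT.tsB x hx b hb, zero_smul, add_zero]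
      exact (D 1).add_mem hx ((D 1).smul_mem _ hb)
  obtain ⟨τ, hτS, hτA, hτB, _⟩ := exists_swap_sp (finrank F (D 0)) (D 0) (D 1) hT.tsA hT.tsB
    (fun a ha ha0 => by
      obtain ⟨b, hb, hab⟩ := hT.partner ha ha0
      exact ⟨b, hb, by rw [hab]; exact one_ne_zero⟩)
    (fun b hb hb0 => by
      obtain ⟨a, ha, hba⟩ := hT.symm.partner hb hb0
      exact ⟨a, ha, by rw [sympForm_swap, hba]; exact neg_ne_zero.mpr one_ne_zero⟩)
    rfl
  have hτH : τ ∈ Cfsg.Geo.decompositionStabilizer D ⊓ Cfsg.spGL m F :=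
    ⟨mem_decStab_of_swap D τ (by rw [hfr0, hfr1]) hτA hτB, hτS⟩
  have hlt : Cfsg.Geo.decompositionStabilizer D ⊓ Cfsg.spGL m F < Cfsg.spGL m F := by
    refine lt_of_le_of_ne inf_le_right ?_
    intro heq
    have hpos : 0 < finrank F (D 0) := by omega
    obtain ⟨⟨x, hxA⟩, hx⟩ := Module.finrank_pos_iff_exists_ne_zero.mp hpos
    have hx0 : x ≠ 0 := fun h => hx (Subtype.ext h)
    obtain ⟨β, hβ, hxβ⟩ := hT.partner hxA hx0
    have hmem : sympTransvGL x 1 ∈ Cfsg.spGL m F := sympTransvGL_mem x 1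
    rw [← heq] at hmem
    have hcases := decStab_cases D _ hmem.1 hβ
    change act (sympTransvGL x 1) β ∈ D 1 ∨ act (sympTransvGL x 1) β ∈ D 0 at hcases
    have e : act (sympTransvGL x 1) β = β - x := by
      rw [act_transv, sympForm_swap, hxβ]
      module
    rw [e] at hcases
    rcases hcases with h | h
    · have hxB : x ∈ D 1 := by
        have := (D 1).sub_mem hβ h
        rwa [sub_sub_cancel] at this
      exact hx0 (hT.inter hxA hxB)
    · have hβA : β ∈ D 0 := by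
        have := (D 0).add_mem h hxA
        rwa [sub_add_cancel] at this
      have h0 := hT.inter hβA hβ
      rw [h0, sympForm_zero_right] at hxβ
      exact zero_ne_one hxβ
  refine ⟨hlt, fun M hHM hMΩ => ?_⟩
  by_cases hMH : M ≤ Cfsg.Geo.decompositionStabilizer D ⊓ Cfsg.spGL m F
  · exact Or.inl (le_antisymm hMH hHM)
  right
  apply le_antisymm hMΩ
  obtain ⟨γ, hγM, hγH⟩ := SetLike.not_le_iff_exists.mp hMH
  have hγS : γ ∈ Cfsg.spGL m F := hMΩ hγM
  have hγD : γ ∉ Cfsg.Geo.decompositionStabilizer D := fun h => hγH ⟨h, hγS⟩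
  have hSM : ∀ a ∈ D 0, ∀ b ∈ D 1, ff a b = 0 → sieg a b ∈ M :=
    fun a ha b hb hab => hHM (hSH a ha b hb hab)
  have hSM' : ∀ b ∈ D 1, ∀ a ∈ D 0, ff b a = 0 → sieg b a ∈ M :=
    fun b hb a ha hba => hHM (hSH' b hb a ha hba)
  have hex : ∃ a ∈ D 0, ∃ b ∈ D 1, ff a b = 0 ∧
      ¬ ((∀ y ∈ D 0, ff y (act γ a) • act γ b + ff y (act γ b) • act γ a ∈ D 0) ∧
        (∀ y ∈ D 1, ff y (act γ a) • act γ b + ff y (act γ b) • act γ a ∈ D 1)) := by
    by_contra hne
    apply hγD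
    have hc : ∀ a ∈ D 0, ∀ b ∈ D 1, ff a b = 0 →
        (∀ y ∈ D 0, ff y (act γ a) • act γ b + ff y (act γ b) • act γ a ∈ D 0) ∧
        (∀ y ∈ D 1, ff y (act γ a) • act γ b + ff y (act γ b) • act γ a ∈ D 1) := by
      intro a ha b hb hab
      by_contra hn
      exact hne ⟨a, ha, b, hb, hab, hn⟩
    rcases stab_or_swap hT (by omega) (by omega) γ hγS hc with ⟨h1, h2⟩ | ⟨h1, h2⟩
    · exact mem_decStab_of_stab D _ h1 h2
    · exact mem_decStab_of_swap D _ (by rw [hfr0, hfr1]) h1 h2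
  obtain ⟨a, ha, b, hb, hab, hfail⟩ := hex
  have hpq : ff (act γ a) (act γ b) = 0 := by rw [ff_act γ hγS, hab]
  have hρM : sieg (act γ a) (act γ b) ∈ M := by
    rw [← conj_sieg γ hγS a b hab]
    exact M.mul_mem (M.mul_mem hγM (hSM a ha b hb hab)) (M.inv_mem hγM)
  rw [not_and_or] at hfail
  rcases hfail with hf | hf
  · push Not at hf
    obtain ⟨α₀, hα₀, hwα⟩ := hf
    obtain ⟨x, hxB, hx0, hX⟩ := core hT.symm (by omega) h2 hSM' _ _ hpq hρM α₀ hα₀ hwα
    exact sp_le_of_SpX hT.symm hMΩ hSM' τ (hHM hτH) hτA hxB hx0 hX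
  · push Not at hf
    obtain ⟨β₀, hβ₀, hwβ⟩ := hf
    obtain ⟨x, hxA, hx0, hX⟩ := core hT (by omega) h2 hSM _ _ hpq hρM β₀ hβ₀ hwβ
    exact sp_le_of_SpX hT hMΩ hSM τ (hHM hτH) hτB hxA hx0 hX

end stp

end Cfsg.Agent.Lib.Helper13.STP
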