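import Mathlib
import Cfsg.Agent.Lib.Helper13.SUMax
import Cfsg.Agent.Lib.Helper13.SpTsPair

/-!
# Stabilisers of pairs of complementary maximal totally isotropic subspaces in `SU_{2k}(q)`

Same strategy as for the symplectic and orthogonal groups: the stabiliser `H` of `{A, B}` contains
the Siegel elements `x ↦ x + h(x,u) v - h(x,v) u` (`u ∈ A`, `v ∈ B` perpendicular) and an element
interchanging `A` and `B` (a product of transvections).  An overgroup containing `γ ∉ H` contains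
a conjugated Siegel element not stabilising both subspaces; conjugating by it and taking
commutators (Heisenberg group) gives all transvections in a direction `x ∈ A`.
-/

set_option autoImplicit false
set_option linter.unusedSectionVars false
set_option linter.unusedVariables false

namespace Cfsg.Agent.Lib.Helper13.UTP

open Matrix Module Cfsg.Agent.Lib.Helper6 Cfsg.Agent.S0779 Cfsg.Agent.S0781
  Cfsg.Agent.Lib.Helper6.SUG Cfsg.Agent.Lib.Helper13 Cfsg.Agent.Lib.Helper13.OTP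

section utp
variable {F : Type*} [Field F] [Fintype F] {q n : ℕ}

local notation "hh" => Cfsg.hermForm n F q

/-- `y ↦ h(y, a)` as a linear functional -/
def hermL (q : ℕ) (a : Fin n → F) : (Fin n → F) →ₗ[F] F where
  toFun y := Cfsg.hermForm n F q y a
  map_add' x y := herm_add_left x y a
  map_smul' c x := herm_smul_left c x a

theorem hermL_apply (a y : Fin n → F) : hermL q a y = hh y a := rfl

theorem av_sub' (g : ↥(Cfsg.SU n F q)) (x y : Fin n → F) : av g (x - y) = av g x - av g y := by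
  unfold av
  rw [Matrix.mulVec_sub]

theorem av_zero' (g : ↥(Cfsg.SU n F q)) : av g (0 : Fin n → F) = 0 := by
  unfold av
  rw [Matrix.mulVec_zero]

theorem av_eq_zero (g : ↥(Cfsg.SU n F q)) (x : Fin n → F) (h : av g x = 0) : x = 0 := by
  have := congrArg (av g⁻¹) h
  rwa [av_inv_av, av_zero'] at this

/-- a decomposition into two totally isotropic subspaces -/
structure HPair (q : ℕ) (A B : Submodule F (Fin n → F)) : Prop where
  tsA : ∀ a ∈ A, ∀ a' ∈ A, Cfsg.hermForm n F q a a' = 0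
  tsB : ∀ b ∈ B, ∀ b' ∈ B, Cfsg.hermForm n F q b b' = 0
  dec : ∀ x : Fin n → F, ∃ a ∈ A, ∃ b ∈ B, x = a + b

variable {A B : Submodule F (Fin n → F)} {M : Subgroup (GL (Fin n) F)}

theorem HPair.symm (h : HPair q A B) : HPair q B A :=
  ⟨h.tsB, h.tsA, fun x => by
    obtain ⟨a, ha, b, hb, rfl⟩ := h.dec x
    exact ⟨b, hb, a, ha, add_comm a b⟩⟩

theorem HPair.partner (hF : Fintype.card F = q ^ 2) (h : HPair q A B) {a : Fin n → F}
    (ha : a ∈ A) (ha0 : a ≠ 0) : ∃ b ∈ B, hh b a = 1 ∧ hh a b = 1 := by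
  obtain ⟨y, hy⟩ := exists_herm_ne_zero hF a ha0
  obtain ⟨yA, hyA, yB, hyB, rfl⟩ := h.dec y
  rw [herm_add_right hF, h.tsA a ha yA hyA, zero_add] at hy
  have hy' : hh yB a ≠ 0 := fun h0 => hy (herm_swap_zero hF h0)
  refine ⟨(hh yB a)⁻¹ • yB, B.smul_mem _ hyB, ?_, ?_⟩
  · rw [herm_smul_left, inv_mul_cancel₀ hy']
  · rw [← herm_conj hF, herm_smul_left, inv_mul_cancel₀ hy', one_pow]

theorem HPair.inter (hF : Fintype.card F = q ^ 2) (h : HPair q A B) {x : Fin n → F}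
    (hxA : x ∈ A) (hxB : x ∈ B) : x = 0 := by
  by_contra hx0
  obtain ⟨b, hb, hbx, -⟩ := h.partner hF hxA hx0
  rw [h.tsB b hb x hxB] at hbx
  exact zero_ne_one hbx

theorem HPair.dual (hF : Fintype.card F = q ^ 2) (h : HPair q A B) {x w : Fin n → F}
    (hx : x ∈ A) (hx0 : x ≠ 0) (hw : w ∈ A)
    (hxw : ∀ b ∈ B, hh x b = 0 → hh w b = 0) : ∃ c : F, w = c • x := by
  obtain ⟨bs, hbs, -, hxbs⟩ := h.partner hF hx hx0
  refine ⟨hh w bs, ?_⟩
  have hz : w - hh w bs • x = 0 := by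
    apply herm_nondeg hF
    intro y
    obtain ⟨yA, hyA, yB, hyB, rfl⟩ := h.dec y
    have hwA : w - hh w bs • x ∈ A := A.sub_mem hw (A.smul_mem _ hx)
    rw [herm_add_right hF, h.tsA _ hwA yA hyA, zero_add]
    obtain ⟨t, ht⟩ : ∃ t, t = hh x yB := ⟨_, rfl⟩
    have h1 : hh x (yB - (t ^ q) • bs) = 0 := by
      rw [herm_sub_right hF, herm_smul_right, pow_q_q hF, hxbs, mul_one, ht, sub_self]
    have h2 := hxw _ (B.sub_mem hyB (B.smul_mem _ hbs)) h1
    rw [herm_sub_right hF, herm_smul_right, pow_q_q hF, sub_eq_zero] at h2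
    rw [herm_sub_left', herm_smul_left, h2, ← ht]
    ring
  exact sub_eq_zero.mp hz

/-! ### Siegel elements -/

theorem sieg_mem_congr (hF : Fintype.card F = q ^ 2) {u u' a a' : Fin n → F}
    {h1 : hh u u = 0} {h2 : hh a a = 0} {h3 : hh a u = 0}
    {h1' : hh u' u' = 0} {h2' : hh a' a' = 0} {h3' : hh a' u' = 0}
    (e1 : u = u') (e2 : a = a')
    (h : suGL n F q (SUG.sieg hF u a h1 h2 h3) ∈ M) :
    suGL n F q (SUG.sieg hF u' a' h1' h2' h3') ∈ M := by
  subst e1 e2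
  exact h

theorem conj_sieg (hF : Fintype.card F = q ^ 2) (g : ↥(Cfsg.SU n F q)) (u a : Fin n → F)
    (huu : hh u u = 0) (haa : hh a a = 0) (hau : hh a u = 0)
    (huu' : hh (av g u) (av g u) = 0) (haa' : hh (av g a) (av g a) = 0)
    (hau' : hh (av g a) (av g u) = 0) :
    g * SUG.sieg hF u a huu haa hau * g⁻¹ = SUG.sieg hF (av g u) (av g a) huu' haa' hau' := by
  apply ext_av
  intro x
  have h1 : ∀ z, hh (av g⁻¹ x) z = hh x (av g z) := by
    intro z
    rw [← herm_av g, av_av_inv]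
  rw [av_mul, av_mul, SUG.av_sieg, SUG.av_sieg, h1, h1, av_sub', av_add, av_smul, av_smul,
    av_av_inv]

/-- all the Siegel elements `E(x, s • v)` lie in `M` -/
def SuS (hF : Fintype.card F = q ^ 2) (M : Subgroup (GL (Fin n) F)) (x v : Fin n → F) : Prop :=
  ∀ (s : F) (h1 : hh x x = 0) (h2 : hh (s • v) (s • v) = 0) (h3 : hh (s • v) x = 0),
    suGL n F q (SUG.sieg hF x (s • v) h1 h2 h3) ∈ M

theorem SuS.conj (hF : Fintype.card F = q ^ 2) {x v : Fin n → F} (h : SuS hF M x v)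
    (hxx : hh x x = 0) (hvv : hh v v = 0) (hvx : hh v x = 0) (g : ↥(Cfsg.SU n F q))
    (hg : suGL n F q g ∈ M) : SuS hF M (av g x) (av g v) := by
  intro s h1 h2 h3
  have h2' : hh (s • v) (s • v) = 0 := by
    rw [herm_smul_left, herm_smul_right, hvv, mul_zero, mul_zero]
  have h3' : hh (s • v) x = 0 := by rw [herm_smul_left, hvx, mul_zero]
  have h4 := h s hxx h2' h3'
  have h5 : suGL n F q (g * SUG.sieg hF x (s • v) hxx h2' h3' * g⁻¹) ∈ M := by
    rw [map_mul, map_mul, map_inv]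
    exact M.mul_mem (M.mul_mem hg h4) (M.inv_mem hg)
  have h2'' : hh (av g (s • v)) (av g (s • v)) = 0 := by rw [herm_av]; exact h2'
  have h3'' : hh (av g (s • v)) (av g x) = 0 := by rw [herm_av]; exact h3'
  rw [conj_sieg hF g x (s • v) hxx h2' h3' h1 h2'' h3''] at h5
  exact sieg_mem_congr hF rfl (av_smul g s v) h5

/-- the family of Siegel elements of the stabiliser lies in `M` -/
def HS (hF : Fintype.card F = q ^ 2) (M : Subgroup (GL (Fin n) F))
    (A B : Submodule F (Fin n → F)) : Prop :=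
  ∀ u ∈ A, ∀ v ∈ B, ∀ (h1 : hh u u = 0) (h2 : hh v v = 0) (h3 : hh v u = 0),
    suGL n F q (SUG.sieg hF u v h1 h2 h3) ∈ M

theorem SuS_of_HS (hF : Fintype.card F = q ^ 2) (hS : HS hF M A B) {x v : Fin n → F}
    (hx : x ∈ A) (hv : v ∈ B) : SuS hF M x v :=
  fun s h1 h2 h3 => hS x hx (s • v) (B.smul_mem _ hv) h1 h2 h3

theorem sieg_comm (hF : Fintype.card F = q ^ 2) (x w w' : Fin n → F) (hxx : hh x x = 0)
    (hww : hh w w = 0) (hwx : hh w x = 0) (hw'w' : hh w' w' = 0) (hw'x : hh w' x = 0)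
    (d : F) (hd : d = hh w w' - hh w' w) (hdq : d ^ q = -d) :
    SUG.sieg hF x w hxx hww hwx * SUG.sieg hF x w' hxx hw'w' hw'x =
      SUG.tv hF x d hxx hdq *
        (SUG.sieg hF x w' hxx hw'w' hw'x * SUG.sieg hF x w hxx hww hwx) := by
  apply ext_av
  intro y
  have hxw : hh x w = 0 := herm_swap_zero hF hwx
  have hxw' : hh x w' = 0 := herm_swap_zero hF hw'x
  rw [av_mul, av_mul, av_mul, SUG.av_sieg, SUG.av_sieg, SUG.av_sieg, SUG.av_sieg, av_tv]
  simp only [herm_add_left, herm_sub_left', herm_smul_left, hxx, hxw, hxw', hwx, hw'x, mul_zero,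
    add_zero, sub_zero]
  rw [hd]
  module

theorem SuX_of_SuS (hF : Fintype.card F = q ^ 2) {x W w' : Fin n → F} (hx0 : x ≠ 0)
    (hxx : hh x x = 0) (hWW : hh W W = 0) (hWx : hh W x = 0) (hw'w' : hh w' w' = 0)
    (hw'x : hh w' x = 0) (hS : SuS hF M x W) (hS' : SuS hF M x w') (hne : hh W w' ≠ 0) :
    SuX q M x := by
  refine ⟨hxx, fun A c hA => ?_⟩
  have hpres : ∀ y z : Fin n → F,
      hh ((Cfsg.unitaryTransvection n q x c).mulVec y)
        ((Cfsg.unitaryTransvection n q x c).mulVec z) = hh y z := by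
    intro y z
    rw [← hA]
    exact A.2 y z
  have hc : c ^ q = -c := by
    rcases (Cfsg.Agent.S0779.result hF n x hx0 hxx c).mp hpres with h | h
    · rw [h, zero_pow (q_pos hF).ne', neg_zero]
    · have hq := q_pos hF
      have h1 : c ^ q = c ^ (q - 1) * c := by rw [← pow_succ, Nat.sub_add_cancel hq]
      rw [h1, h]
      ring
  obtain ⟨z, hz⟩ := exists_sub_conj hF c hc
  obtain ⟨s, hs⟩ : ∃ s, s = z / hh W w' := ⟨_, rfl⟩
  have h2 : hh (s • W) (s • W) = 0 := by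
    rw [herm_smul_left, herm_smul_right, hWW, mul_zero, mul_zero]
  have h3 : hh (s • W) x = 0 := by rw [herm_smul_left, hWx, mul_zero]
  have h2' : hh ((1 : F) • w') ((1 : F) • w') = 0 := by rw [one_smul]; exact hw'w'
  have h3' : hh ((1 : F) • w') x = 0 := by rw [one_smul]; exact hw'x
  have hE := hS s hxx h2 h3
  have hE' := hS' 1 hxx h2' h3'
  have hd : c = hh (s • W) ((1 : F) • w') - hh ((1 : F) • w') (s • W) := by
    rw [one_smul, herm_smul_left, ← herm_conj hF (s • W) w', herm_smul_left, hs,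
      div_mul_cancel₀ _ hne, hz]
  have key := sieg_comm hF x (s • W) ((1 : F) • w') hxx h2 h3 h2' h3' c hd hc
  have hA' : A = SUG.tv hF x c hxx hc := by
    apply ext_av
    intro y
    rw [av_tv]
    change ((A : Matrix.SpecialLinearGroup (Fin n) F) : Matrix (Fin n) (Fin n) F) *ᵥ y = _
    rw [hA, transvection_mulVec]
  have h4 : SUG.tv hF x c hxx hc =
      SUG.sieg hF x (s • W) hxx h2 h3 * SUG.sieg hF x ((1 : F) • w') hxx h2' h3' *
        (SUG.sieg hF x ((1 : F) • w') hxx h2' h3' * SUG.sieg hF x (s • W) hxx h2 h3)⁻¹ := by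
    rw [key, mul_inv_cancel_right]
  rw [hA', h4, map_mul, map_mul, map_inv, map_mul]
  exact M.mul_mem (M.mul_mem hE hE') (M.inv_mem (M.mul_mem hE' hE))

/-! ### an isometry all of whose conjugated Siegel elements stabilise both subspaces -/

theorem pure_image (hF : Fintype.card F = q ^ 2) (hT : HPair q A B) (h4 : 4 ≤ finrank F B)
    (γ : ↥(Cfsg.SU n F q))
    (hc : ∀ a ∈ A, ∀ b ∈ B, hh b a = 0 →
      (∀ y ∈ A, hh y (av γ a) • av γ b - hh y (av γ b) • av γ a ∈ A) ∧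
      (∀ y ∈ B, hh y (av γ a) • av γ b - hh y (av γ b) • av γ a ∈ B)) :
    ∀ a ∈ A, av γ a ∈ A ∨ av γ a ∈ B := by
  intro a ha
  obtain ⟨pA, hpA, pB, hpB, hp⟩ := hT.dec (av γ a)
  by_cases hpB0 : pB = 0
  · left
    rw [hp, hpB0, add_zero]
    exact hpA
  by_cases hpA0 : pA = 0
  · right
    rw [hp, hpA0, zero_add]
    exact hpB
  exfalso
  obtain ⟨x₁, hx₁, hpx₁, -⟩ := hT.symm.partner hF hpB hpB0
  obtain ⟨x₂, hx₂, hpx₂, -⟩ := hT.partner hF hpA hpA0
  obtain ⟨b, hb, hb0, hab, hb1, hb2⟩ := STP.exists_ne_zero_ker3 B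
    (hermL q a) (hermL q (av γ⁻¹ x₁)) (hermL q (av γ⁻¹ x₂)) h4
  rw [hermL_apply] at hab hb1 hb2
  have hq1 : hh x₁ (av γ b) = 0 := by
    rw [← herm_av γ⁻¹, av_inv_av]
    exact herm_swap_zero hF hb1
  have hq2 : hh x₂ (av γ b) = 0 := by
    rw [← herm_av γ⁻¹, av_inv_av]
    exact herm_swap_zero hF hb2
  obtain ⟨hcA, hcB⟩ := hc a ha b hb hab
  have h1 := hcA x₁ hx₁
  have h2 := hcB x₂ hx₂
  have e1 : hh x₁ (av γ a) = 1 := by
    rw [hp, herm_add_right hF, hT.tsA x₁ hx₁ pA hpA, zero_add, hpx₁]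
  have e2 : hh x₂ (av γ a) = 1 := by
    rw [hp, herm_add_right hF, hpx₂, hT.tsB x₂ hx₂ pB hpB, add_zero]
  rw [hq1, e1, one_smul, zero_smul, sub_zero] at h1
  rw [hq2, e2, one_smul, zero_smul, sub_zero] at h2
  have h3 : av γ b = 0 := hT.inter hF h1 h2
  exact hb0 (av_eq_zero γ b h3)

theorem union_sub (γ : ↥(Cfsg.SU n F q)) (U X Y : Submodule F (Fin n → F))
    (h : ∀ u ∈ U, av γ u ∈ X ∨ av γ u ∈ Y) :
    (∀ u ∈ U, av γ u ∈ X) ∨ (∀ u ∈ U, av γ u ∈ Y) := by
  by_contra hne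
  push Not at hne
  obtain ⟨⟨u₁, hu₁, h1⟩, ⟨u₂, hu₂, h2⟩⟩ := hne
  have h1' : av γ u₁ ∈ Y := (h u₁ hu₁).resolve_left h1
  have h2' : av γ u₂ ∈ X := (h u₂ hu₂).resolve_right h2
  rcases h (u₁ + u₂) (U.add_mem hu₁ hu₂) with h3 | h3
  · rw [av_add] at h3
    apply h1
    have := X.sub_mem h3 h2'
    rwa [add_sub_cancel_right] at this
  · rw [av_add] at h3
    apply h2
    have := Y.sub_mem h3 h1'
    rwa [add_sub_cancel_left] at this

theorem stab_or_swap (hF : Fintype.card F = q ^ 2) (hT : HPair q A B)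
    (h4A : 4 ≤ finrank F A) (h4 : 4 ≤ finrank F B) (γ : ↥(Cfsg.SU n F q))
    (hc : ∀ a ∈ A, ∀ b ∈ B, hh b a = 0 →
      (∀ y ∈ A, hh y (av γ a) • av γ b - hh y (av γ b) • av γ a ∈ A) ∧
      (∀ y ∈ B, hh y (av γ a) • av γ b - hh y (av γ b) • av γ a ∈ B)) :
    ((∀ a ∈ A, av γ a ∈ A) ∧ (∀ b ∈ B, av γ b ∈ B)) ∨
    ((∀ a ∈ A, av γ a ∈ B) ∧ (∀ b ∈ B, av γ b ∈ A)) := by
  have hA := pure_image hF hT h4 γ hc
  have hB := pure_image hF hT.symm h4A γ (by
    intro b hb a ha hab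
    obtain ⟨h1, h2⟩ := hc a ha b hb (herm_swap_zero hF hab)
    refine ⟨fun y hy => ?_, fun y hy => ?_⟩
    · have := B.neg_mem (h2 y hy)
      rwa [neg_sub] at this
    · have := A.neg_mem (h1 y hy)
      rwa [neg_sub] at this)
  have hA' := union_sub γ A A B hA
  have hB' := union_sub γ B B A hB
  have hBpos : 0 < finrank F B := by omega
  obtain ⟨⟨b₀, hb₀B⟩, hb₀⟩ := Module.finrank_pos_iff_exists_ne_zero.mp hBpos
  have hb₀0 : b₀ ≠ 0 := fun h => hb₀ (Subtype.ext h)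
  have hApos : 0 < finrank F A := by omega
  obtain ⟨⟨a₀, ha₀A⟩, ha₀⟩ := Module.finrank_pos_iff_exists_ne_zero.mp hApos
  have ha₀0 : a₀ ≠ 0 := fun h => ha₀ (Subtype.ext h)
  have hall : ∀ X : Submodule F (Fin n → F), (∀ a ∈ A, av γ a ∈ X) →
      (∀ b ∈ B, av γ b ∈ X) → ∀ y, y ∈ X := by
    intro X h1 h2 y
    obtain ⟨a, ha, b, hb, hab⟩ := hT.dec (av γ⁻¹ y)
    have : y = av γ a + av γ b := by
      rw [← av_add, ← hab, av_av_inv]
    rw [this]
    exact X.add_mem (h1 a ha) (h2 b hb)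
  rcases hA' with hAA | hAB
  · rcases hB' with hBB | hBA
    · exact Or.inl ⟨hAA, hBB⟩
    · exfalso
      exact hb₀0 (hT.inter hF (hall A hAA hBA b₀) hb₀B)
  · rcases hB' with hBB | hBA
    · exfalso
      exact ha₀0 (hT.inter hF ha₀A (hall B hAB hBB a₀))
    · exact Or.inr ⟨hAB, hBA⟩

/-! ### the core argument -/

theorem core (hF : Fintype.card F = q ^ 2) (hT : HPair q A B) (h7 : 7 ≤ finrank F A)
    (hS : HS hF M A B) (p r : Fin n → F) (hpp : hh p p = 0) (hrr : hh r r = 0)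
    (hrp : hh r p = 0) (hρ : suGL n F q (SUG.sieg hF p r hpp hrr hrp) ∈ M)
    (β₀ : Fin n → F) (hβ₀ : β₀ ∈ B)
    (hw : hh β₀ p • r - hh β₀ r • p ∉ B) :
    ∃ x ∈ A, x ≠ 0 ∧ SuX q M x := by
  obtain ⟨pA, hpA, pB, hpB, hpdec⟩ := hT.dec p
  obtain ⟨rA, hrA, rB, hrB, hrdec⟩ := hT.dec r
  obtain ⟨c₁, hc₁⟩ : ∃ c, c = hh β₀ p := ⟨_, rfl⟩
  obtain ⟨c₂, hc₂⟩ : ∃ c, c = hh β₀ r := ⟨_, rfl⟩
  rw [← hc₁, ← hc₂] at hw
  obtain ⟨wA, hwAdef⟩ : ∃ w, w = c₁ • rA - c₂ • pA := ⟨_, rfl⟩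
  obtain ⟨wB, hwBdef⟩ : ∃ w, w = c₁ • rB - c₂ • pB := ⟨_, rfl⟩
  have hwA : wA ∈ A := by
    rw [hwAdef]
    exact A.sub_mem (A.smul_mem _ hrA) (A.smul_mem _ hpA)
  have hwB : wB ∈ B := by
    rw [hwBdef]
    exact B.sub_mem (B.smul_mem _ hrB) (B.smul_mem _ hpB)
  have hwsum : c₁ • r - c₂ • p = wA + wB := by
    rw [hwAdef, hwBdef, hpdec, hrdec]
    module
  have hwA0 : wA ≠ 0 := by
    intro h0
    apply hw
    rw [hwsum, h0, zero_add]
    exact hwB
  obtain ⟨β₁, hβ₁, -, hwβ₁⟩ := hT.partner hF hwA hwA0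
  have hfr := finrank_le_inf_ker_add_one A (hermL q p)
  obtain ⟨x, hxP, hx0, hxr, hxβ₀, hxβ₁⟩ := STP.exists_ne_zero_ker3
    (A ⊓ LinearMap.ker (hermL q p)) (hermL q r) (hermL q β₀) (hermL q β₁) (by omega)
  rw [hermL_apply] at hxr hxβ₀ hxβ₁
  obtain ⟨hxA, hxp⟩ : x ∈ A ∧ hh x p = 0 := by
    simpa only [Submodule.mem_inf, LinearMap.mem_ker, hermL_apply] using hxP
  have hxx : hh x x = 0 := hT.tsA x hxA x hxA
  have hβ₀β₀ : hh β₀ β₀ = 0 := hT.tsB β₀ hβ₀ β₀ hβ₀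
  have hβ₀x : hh β₀ x = 0 := herm_swap_zero hF hxβ₀
  have hρx : av (SUG.sieg hF p r hpp hrr hrp) x = x := by
    rw [SUG.av_sieg, hxp, hxr, zero_smul, zero_smul, add_zero, sub_zero]
  have hρβ : av (SUG.sieg hF p r hpp hrr hrp) β₀ = β₀ + (wA + wB) := by
    rw [SUG.av_sieg, ← hc₁, ← hc₂, ← hwsum]
    abel
  have hS0 : SuS hF M x β₀ := SuS_of_HS hF hS hxA hβ₀
  have hS1 := hS0.conj hF hxx hβ₀β₀ hβ₀x (SUG.sieg hF p r hpp hrr hrp) hρ
  rw [hρx, hρβ] at hS1
  have hWW : hh (β₀ + (wA + wB)) (β₀ + (wA + wB)) = 0 := by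
    rw [← hρβ, herm_av]
    exact hβ₀β₀
  have hWx : hh (β₀ + (wA + wB)) x = 0 := by
    have := herm_av (SUG.sieg hF p r hpp hrr hrp) β₀ x
    rw [hρx, hρβ] at this
    rw [this]
    exact hβ₀x
  obtain ⟨w', hw'B, hxw', hww'⟩ : ∃ w' ∈ B, hh x w' = 0 ∧ hh wA w' ≠ 0 := by
    by_contra hne
    push Not at hne
    obtain ⟨c, hc⟩ := hT.dual hF hxA hx0 hwA hne
    rw [hc, herm_smul_left, hxβ₁, mul_zero] at hwβ₁
    exact zero_ne_one hwβ₁
  have hS' : SuS hF M x w' := SuS_of_HS hF hS hxA hw'B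
  have hne : hh (β₀ + (wA + wB)) w' ≠ 0 := by
    rw [herm_add_left, herm_add_left, hT.tsB β₀ hβ₀ w' hw'B, hT.tsB wB hwB w' hw'B, zero_add,
      add_zero]
    exact hww'
  exact ⟨x, hxA, hx0, SuX_of_SuS hF hx0 hxx hWW hWx (hT.tsB w' hw'B w' hw'B)
    (herm_swap_zero hF hxw') hS1 hS' hne⟩

theorem SuX_all_A (hF : Fintype.card F = q ^ 2) (hT : HPair q A B) (hS' : HS hF M B A)
    {x : Fin n → F} (hxA : x ∈ A) (hx0 : x ≠ 0) (hX : SuX q M x) :
    ∀ a ∈ A, SuX q M a := by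
  intro a ha
  by_cases hax : ∃ c : F, a = c • x
  · obtain ⟨c, rfl⟩ := hax
    exact hX.smul c
  have hd0 : a - x ≠ 0 := by
    intro h
    apply hax
    exact ⟨1, by rw [one_smul]; exact sub_eq_zero.mp h⟩
  have hdA : a - x ∈ A := A.sub_mem ha hxA
  obtain ⟨b, hb, hdb, hxb⟩ : ∃ b ∈ B, hh (a - x) b = 0 ∧ hh x b ≠ 0 := by
    by_contra hne
    push Not at hne
    obtain ⟨c, hc⟩ := hT.dual hF hdA hd0 hxA hne
    by_cases hc0 : c = 0
    · rw [hc0, zero_smul] at hc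
      exact hx0 hc
    · apply hax
      refine ⟨(1 + c) / c, ?_⟩
      have h1 : c • a = (1 + c) • x := by
        have h2 : c • a = c • (a - x) + c • x := by module
        rw [h2, ← hc]
        module
      rw [div_eq_inv_mul, mul_smul, ← h1, smul_smul, inv_mul_cancel₀ hc0, one_smul]
  obtain ⟨ρ, hρ⟩ : ∃ ρ : F, ρ = ((hh x b)⁻¹) ^ q := ⟨_, rfl⟩
  have hρq : ρ ^ q = (hh x b)⁻¹ := by rw [hρ, pow_q_q hF]
  have hb' : ρ • b ∈ B := B.smul_mem _ hb
  have hxb' : hh x (ρ • b) = 1 := by rw [herm_smul_right, hρq, inv_mul_cancel₀ hxb]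
  have hdb' : hh (a - x) (ρ • b) = 0 := by rw [herm_smul_right, hdb, mul_zero]
  have h1 : hh (ρ • b) (ρ • b) = 0 := hT.tsB _ hb' _ hb'
  have h2 : hh (a - x) (a - x) = 0 := hT.tsA _ hdA _ hdA
  have hm := hS' (ρ • b) hb' (a - x) hdA h1 h2 hdb'
  have h3 := hX.map (SUG.sieg hF (ρ • b) (a - x) h1 h2 hdb') hm
  have e : av (SUG.sieg hF (ρ • b) (a - x) h1 h2 hdb') x = a := by
    rw [SUG.av_sieg, hxb', hT.tsA x hxA _ hdA]
    module
  rwa [e] at h3

theorem su_le_of_SuX (hF : Fintype.card F = q ^ 2) (hn : 1 ≤ n) (h32 : ¬ (n = 3 ∧ q = 2))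
    (hT : HPair q A B) (hS' : HS hF M B A)
    (τ : ↥(Cfsg.SU n F q)) (hτM : suGL n F q τ ∈ M) (hτ : ∀ b ∈ B, av τ b ∈ A)
    {x : Fin n → F} (hxA : x ∈ A) (hx0 : x ≠ 0) (hX : SuX q M x) :
    Cfsg.GU n F q ⊓ Cfsg.Geo.specialLinear (Fin n) F ≤ M := by
  have hallA := SuX_all_A hF hT hS' hxA hx0 hX
  have hallB : ∀ b ∈ B, SuX q M b := by
    intro b hb
    have h1 := (hallA _ (hτ b hb)).map τ⁻¹ (by rw [map_inv]; exact M.inv_mem hτM)
    rwa [av_inv_av] at h1
  obtain ⟨k₀, hk₀0, hk₀⟩ := exists_trace_zero hF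
  apply suGL_le_of_forall hF hn h32
  intro v hv
  obtain ⟨vA, hvA, vB, hvB, rfl⟩ := hT.dec v
  by_cases hvA0 : vA = 0
  · rw [hvA0, zero_add]
    exact hallB vB hvB
  by_cases hAB : hh vA vB = 0
  · obtain ⟨b', hb', hb'v, hvb'⟩ := hT.partner hF hvA hvA0
    obtain ⟨b'', hb''def⟩ : ∃ b'' : Fin n → F, b'' = (-k₀) • b' := ⟨_, rfl⟩
    have hb'' : b'' ∈ B := by rw [hb''def]; exact B.smul_mem _ hb'
    have e1 : hh vA b'' = k₀ := by
      rw [hb''def, herm_smul_right, hvb', mul_one, neg_pow_q hF, hk₀, neg_neg]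
    have e2 : hh b'' vA = -k₀ := by
      rw [hb''def, herm_smul_left, hb'v, mul_one]
    have hvAvA : hh vA vA = 0 := hT.tsA vA hvA vA hvA
    have hiso1 : hh (vA + (1 : F) • b'') (vA + (1 : F) • b'') = 0 := by
      rw [one_smul, herm_add_left, herm_add_right hF, herm_add_right hF, hvAvA, e1, e2,
        hT.tsB b'' hb'' b'' hb'']
      ring
    have h1 := SuX.rule hF (hallA vA hvA) (hallB b'' hb'') (by rw [e1]; exact hk₀0) 1 hiso1
    have h2 := hallB (vB - b'') (B.sub_mem hvB hb'')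
    have h3 : hh (vA + (1 : F) • b'') (vB - b'') ≠ 0 := by
      rw [one_smul, herm_add_left, herm_sub_right hF, herm_sub_right hF, hAB, e1,
        hT.tsB b'' hb'' vB hvB, hT.tsB b'' hb'' b'' hb'']
      simpa using hk₀0
    have e : vA + (1 : F) • b'' + (1 : F) • (vB - b'') = vA + vB := by module
    have hiso2 : hh (vA + (1 : F) • b'' + (1 : F) • (vB - b''))
        (vA + (1 : F) • b'' + (1 : F) • (vB - b'')) = 0 := by
      rw [e]
      exact hv
    have h4 := SuX.rule hF h1 h2 h3 1 hiso2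
    rwa [e] at h4
  · have hiso : hh (vA + (1 : F) • vB) (vA + (1 : F) • vB) = 0 := by
      rw [one_smul]
      exact hv
    have h1 := SuX.rule hF (hallA vA hvA) (hallB vB hvB) hAB 1 hiso
    rwa [one_smul] at h1

/-! ### the interchanging element -/

theorem exists_swap_su (hF : Fintype.card F = q ^ 2) :
    ∀ (d : ℕ) (A B : Submodule F (Fin n → F)), (∀ a ∈ A, ∀ a' ∈ A, hh a a' = 0) →
      (∀ b ∈ B, ∀ b' ∈ B, hh b b' = 0) →
      (∀ a ∈ A, a ≠ 0 → ∃ b ∈ B, hh b a ≠ 0) →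
      (∀ b ∈ B, b ≠ 0 → ∃ a ∈ A, hh a b ≠ 0) →
      finrank F A = d →
      ∃ g : ↥(Cfsg.SU n F q), (∀ a ∈ A, av g a ∈ B) ∧ (∀ b ∈ B, av g b ∈ A) ∧
        (∀ x, (∀ a ∈ A, hh x a = 0) → (∀ b ∈ B, hh x b = 0) → av g x = x) := by
  intro d
  induction d with
  | zero =>
    intro A B hA hB hAB hBA hd
    have hA0 : A = ⊥ := Submodule.finrank_eq_zero.mp hd
    have hB0 : ∀ b ∈ B, b = 0 := by
      intro b hb
      by_contra hb0
      obtain ⟨a, ha, hab⟩ := hBA b hb hb0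
      rw [hA0, Submodule.mem_bot] at ha
      rw [ha, herm_zero_left] at hab
      exact hab rfl
    refine ⟨1, fun a ha => ?_, fun b hb => ?_, fun x _ _ => av_one x⟩
    · rw [hA0, Submodule.mem_bot] at ha
      rw [ha, av_zero']
      exact B.zero_mem
    · rw [hB0 b hb, av_zero']
      exact A.zero_mem
  | succ d ih =>
    intro A B hA hB hAB hBA hd
    have hpos : 0 < finrank F A := by omega
    obtain ⟨⟨a, haA⟩, ha⟩ := Module.finrank_pos_iff_exists_ne_zero.mp hpos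
    have ha0 : a ≠ 0 := fun h => ha (Subtype.ext h)
    obtain ⟨y, hyB, hy⟩ := hAB a haA ha0
    obtain ⟨b, hbB, hba⟩ : ∃ b ∈ B, hh b a = 1 :=
      ⟨(hh y a)⁻¹ • y, B.smul_mem _ hyB, by rw [herm_smul_left, inv_mul_cancel₀ hy]⟩
    have hab : hh a b = 1 := by rw [← herm_conj hF, hba, one_pow]
    have haa : hh a a = 0 := hA a haA a haA
    have hbb : hh b b = 0 := hB b hbB b hbB
    obtain ⟨A', hA'⟩ : ∃ A' : Submodule F (Fin n → F),
        A' = A ⊓ LinearMap.ker (hermL q b) := ⟨_, rfl⟩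
    obtain ⟨B', hB'⟩ : ∃ B' : Submodule F (Fin n → F),
        B' = B ⊓ LinearMap.ker (hermL q a) := ⟨_, rfl⟩
    have hmemA' : ∀ x, x ∈ A' ↔ x ∈ A ∧ hh x b = 0 := by
      intro x
      rw [hA', Submodule.mem_inf, LinearMap.mem_ker, hermL_apply]
    have hmemB' : ∀ x, x ∈ B' ↔ x ∈ B ∧ hh x a = 0 := by
      intro x
      rw [hB', Submodule.mem_inf, LinearMap.mem_ker, hermL_apply]
    have hfrA' : finrank F A' = d := by
      have h1 := finrank_inf_ker_add_one A (hermL q b) a haA (by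
        rw [hermL_apply, hab]
        exact one_ne_zero)
      rw [← hA'] at h1
      omega
    obtain ⟨g, hgA, hgB, hgfix⟩ := ih A' B'
      (fun x hx y hy => hA x ((hmemA' x).mp hx).1 y ((hmemA' y).mp hy).1)
      (fun x hx y hy => hB x ((hmemB' x).mp hx).1 y ((hmemB' y).mp hy).1)
      (by
        intro a' ha' ha'0
        obtain ⟨ha'A, ha'b⟩ := (hmemA' a').mp ha'
        obtain ⟨b'', hb''B, hb''⟩ := hAB a' ha'A ha'0
        have hba' : hh b a' = 0 := herm_swap_zero hF ha'b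
        refine ⟨b'' - hh b'' a • b,
          (hmemB' _).mpr ⟨B.sub_mem hb''B (B.smul_mem _ hbB), ?_⟩, ?_⟩
        · rw [herm_sub_left', herm_smul_left, hba, mul_one, sub_self]
        · rw [herm_sub_left', herm_smul_left, hba', mul_zero, sub_zero]
          exact hb'')
      (by
        intro b' hb' hb'0
        obtain ⟨hb'B, hb'a⟩ := (hmemB' b').mp hb'
        obtain ⟨a'', ha''A, ha''⟩ := hBA b' hb'B hb'0
        have hab' : hh a b' = 0 := herm_swap_zero hF hb'a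
        refine ⟨a'' - hh a'' b • a,
          (hmemA' _).mpr ⟨A.sub_mem ha''A (A.smul_mem _ haA), ?_⟩, ?_⟩
        · rw [herm_sub_left', herm_smul_left, hab, mul_one, sub_self]
        · rw [herm_sub_left', herm_smul_left, hab', mul_zero, sub_zero]
          exact ha'')
      hfrA'
    obtain ⟨k₀, hk₀0, hk₀⟩ := exists_trace_zero hF
    obtain ⟨e, he⟩ : ∃ e : F, e = -k₀⁻¹ := ⟨_, rfl⟩
    have heq : e ^ q = -e := by
      rw [he, neg_pow_q hF, inv_pow, hk₀, inv_neg]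
    have hke : k₀ * e = -1 := by
      rw [he, mul_neg, mul_inv_cancel₀ hk₀0]
    have hek : e * k₀ = -1 := by rw [mul_comm, hke]
    obtain ⟨ν, hν⟩ : ∃ ν : ↥(Cfsg.SU n F q),
        ν = SUG.tv hF a k₀ haa hk₀ * SUG.tv hF b e hbb heq * SUG.tv hF a k₀ haa hk₀ :=
      ⟨_, rfl⟩
    have hνact : ∀ y, av ν y = av (SUG.tv hF a k₀ haa hk₀) (av (SUG.tv hF b e hbb heq)
        (av (SUG.tv hF a k₀ haa hk₀) y)) := by
      intro y
      rw [hν, av_mul, av_mul]
    have hνa : av ν a = e • b := by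
      have h1 : av (SUG.tv hF a k₀ haa hk₀) a = a := by
        rw [av_tv, haa, mul_zero, zero_smul, add_zero]
      have h2 : av (SUG.tv hF b e hbb heq) a = a + e • b := by
        rw [av_tv, hab, mul_one]
      have h3 : av (SUG.tv hF a k₀ haa hk₀) (a + e • b) = e • b := by
        rw [av_tv, herm_add_left, herm_smul_left, haa, hba, zero_add, mul_one, hke]
        module
      rw [hνact, h1, h2, h3]
    have hνb : av ν b = k₀ • a := by
      have h4 : av (SUG.tv hF a k₀ haa hk₀) b = b + k₀ • a := by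
        rw [av_tv, hba, mul_one]
      have h5 : av (SUG.tv hF b e hbb heq) (b + k₀ • a) = k₀ • a := by
        rw [av_tv, herm_add_left, herm_smul_left, hbb, hab, zero_add, mul_one, hek]
        module
      have h6 : av (SUG.tv hF a k₀ haa hk₀) (k₀ • a) = k₀ • a := by
        rw [av_tv, herm_smul_left, haa, mul_zero, mul_zero, zero_smul, add_zero]
      rw [hνact, h4, h5, h6]
    have hνfix : ∀ y, hh y a = 0 → hh y b = 0 → av ν y = y := by
      intro y hya hyb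
      have h1 : av (SUG.tv hF a k₀ haa hk₀) y = y := by
        rw [av_tv, hya, mul_zero, zero_smul, add_zero]
      have h2 : av (SUG.tv hF b e hbb heq) y = y := by
        rw [av_tv, hyb, mul_zero, zero_smul, add_zero]
      rw [hνact, h1, h2, h1]
    have hga : av g a = a := by
      apply hgfix
      · intro a' ha'
        exact hA a haA a' ((hmemA' a').mp ha').1
      · intro b' hb'
        exact herm_swap_zero hF ((hmemB' b').mp hb').2
    have hgb : av g b = b := by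
      apply hgfix
      · intro a' ha'
        exact herm_swap_zero hF ((hmemA' a').mp ha').2
      · intro b' hb'
        exact hB b hbB b' ((hmemB' b').mp hb').1
    refine ⟨ν * g, ?_, ?_, ?_⟩
    · intro x hx
      obtain ⟨t, ht⟩ : ∃ t, t = hh x b := ⟨_, rfl⟩
      have hx' : x - t • a ∈ A' := by
        rw [hmemA']
        refine ⟨A.sub_mem hx (A.smul_mem _ haA), ?_⟩
        rw [herm_sub_left', herm_smul_left, hab, mul_one, ht, sub_self]
      have hgx' := hgA _ hx'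
      obtain ⟨hgx'B, hgx'a⟩ := (hmemB' _).mp hgx'
      have e1 : x = (x - t • a) + t • a := by abel
      rw [av_mul, e1, av_add, av_smul, hga, av_add, av_smul, hνa]
      refine B.add_mem ?_ (B.smul_mem _ (B.smul_mem _ hbB))
      rw [hνfix _ hgx'a (hB _ hgx'B b hbB)]
      exact hgx'B
    · intro x hx
      obtain ⟨t, ht⟩ : ∃ t, t = hh x a := ⟨_, rfl⟩
      have hx' : x - t • b ∈ B' := by
        rw [hmemB']
        refine ⟨B.sub_mem hx (B.smul_mem _ hbB), ?_⟩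
        rw [herm_sub_left', herm_smul_left, hba, mul_one, ht, sub_self]
      have hgx' := hgB _ hx'
      obtain ⟨hgx'A, hgx'b⟩ := (hmemA' _).mp hgx'
      have e1 : x = (x - t • b) + t • b := by abel
      rw [av_mul, e1, av_add, av_smul, hgb, av_add, av_smul, hνb]
      refine A.add_mem ?_ (A.smul_mem _ (A.smul_mem _ haA))
      rw [hνfix _ (hA _ hgx'A a haA) hgx'b]
      exact hgx'A
    · intro x hxA hxB
      rw [av_mul, hgfix x (fun a' ha' => hxA a' ((hmemA' a').mp ha').1)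
        (fun b' hb' => hxB b' ((hmemB' b').mp hb').1)]
      exact hνfix x (hxA a haA) (hxB b hbB)

/-- **Maximality of the stabiliser of a pair of complementary maximal totally isotropic subspaces
in `SU_{2k}(q)`.** -/
theorem su_ts_pair_maximal (hF : Fintype.card F = q ^ 2) (hn : 13 ≤ n) (k : ℕ) (hk : 2 * k = n)
    (D : Fin 2 → Submodule F (Fin n → F)) (hD : Cfsg.Geo.IsMDecomposition k D)
    (hts : ∀ i, Cfsg.Geo.IsTotallySingularFor (Cfsg.hermForm n F q) (D i)) :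
    Cfsg.Geo.IsMaximalIn (Cfsg.GU n F q ⊓ Cfsg.Geo.specialLinear (Fin n) F)
      (Cfsg.Geo.decompositionStabilizer D ⊓
        (Cfsg.GU n F q ⊓ Cfsg.Geo.specialLinear (Fin n) F)) := by
  have hfin2 : ∀ x : Fin 2, x = 0 ∨ x = 1 := by decide
  have hsup : D 0 ⊔ D 1 = ⊤ := by
    rw [eq_top_iff, ← hD.iSup_eq_top]
    apply iSup_le
    intro i
    rcases hfin2 i with h | h
    · rw [h]
      exact le_sup_left
    · rw [h]
      exact le_sup_right
  have hT : HPair q (D 0) (D 1) := by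
    refine ⟨hts 0, hts 1, fun x => ?_⟩
    have hx : x ∈ D 0 ⊔ D 1 := by
      rw [hsup]
      exact Submodule.mem_top
    obtain ⟨a, ha, b, hb, hab⟩ := Submodule.mem_sup.mp hx
    exact ⟨a, ha, b, hb, hab.symm⟩
  have hfr0 : finrank F (D 0) = k := hD.finrank_eq 0
  have hfr1 : finrank F (D 1) = k := hD.finrank_eq 1
  have hk7 : 7 ≤ k := by omega
  have hSH : HS hF (Cfsg.Geo.decompositionStabilizer D ⊓
      (Cfsg.GU n F q ⊓ Cfsg.Geo.specialLinear (Fin n) F)) (D 0) (D 1) := by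
    intro u hu v hv h1 h2 h3
    refine ⟨mem_decStab_of_stab D _ ?_ ?_, suGL_mem _⟩
    · intro x hx
      change av (SUG.sieg hF u v h1 h2 h3) x ∈ D 0
      rw [SUG.av_sieg, hT.tsA x hx u hu, zero_smul, add_zero]
      exact (D 0).sub_mem hx ((D 0).smul_mem _ hu)
    · intro x hx
      change av (SUG.sieg hF u v h1 h2 h3) x ∈ D 1
      rw [SUG.av_sieg, hT.tsB x hx v hv, zero_smul, sub_zero]
      exact (D 1).add_mem hx ((D 1).smul_mem _ hv)
  have hSH' : HS hF (Cfsg.Geo.decompositionStabilizer D ⊓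
      (Cfsg.GU n F q ⊓ Cfsg.Geo.specialLinear (Fin n) F)) (D 1) (D 0) := by
    intro u hu v hv h1 h2 h3
    refine ⟨mem_decStab_of_stab D _ ?_ ?_, suGL_mem _⟩
    · intro x hx
      change av (SUG.sieg hF u v h1 h2 h3) x ∈ D 0
      rw [SUG.av_sieg, hT.tsA x hx v hv, zero_smul, sub_zero]
      exact (D 0).add_mem hx ((D 0).smul_mem _ hv)
    · intro x hx
      change av (SUG.sieg hF u v h1 h2 h3) x ∈ D 1
      rw [SUG.av_sieg, hT.tsB x hx u hu, zero_smul, add_zero]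
      exact (D 1).sub_mem hx ((D 1).smul_mem _ hu)
  obtain ⟨τ, hτA, hτB, -⟩ := exists_swap_su hF (finrank F (D 0)) (D 0) (D 1) hT.tsA hT.tsB
    (fun a ha ha0 => by
      obtain ⟨b, hb, hba, -⟩ := hT.partner hF ha ha0
      exact ⟨b, hb, by rw [hba]; exact one_ne_zero⟩)
    (fun b hb hb0 => by
      obtain ⟨a, ha, hab, -⟩ := hT.symm.partner hF hb hb0
      exact ⟨a, ha, by rw [hab]; exact one_ne_zero⟩)
    rfl
  have hτH : suGL n F q τ ∈ Cfsg.Geo.decompositionStabilizer D ⊓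
      (Cfsg.GU n F q ⊓ Cfsg.Geo.specialLinear (Fin n) F) :=
    ⟨mem_decStab_of_swap D _ (by rw [hfr0, hfr1]) hτA hτB, suGL_mem τ⟩
  obtain ⟨k₀, hk₀0, hk₀⟩ := exists_trace_zero hF
  have hlt : Cfsg.Geo.decompositionStabilizer D ⊓
      (Cfsg.GU n F q ⊓ Cfsg.Geo.specialLinear (Fin n) F) <
      Cfsg.GU n F q ⊓ Cfsg.Geo.specialLinear (Fin n) F := by
    refine lt_of_le_of_ne inf_le_right ?_
    intro heq
    have hpos : 0 < finrank F (D 0) := by omega
    obtain ⟨⟨x, hxA⟩, hx⟩ := Module.finrank_pos_iff_exists_ne_zero.mp hpos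
    have hx0 : x ≠ 0 := fun h => hx (Subtype.ext h)
    obtain ⟨β, hβ, hβx, -⟩ := hT.partner hF hxA hx0
    have hxx : hh x x = 0 := hT.tsA x hxA x hxA
    have hmem : suGL n F q (SUG.tv hF x k₀ hxx hk₀) ∈
        Cfsg.GU n F q ⊓ Cfsg.Geo.specialLinear (Fin n) F := suGL_mem _
    rw [← heq] at hmem
    have hcases := decStab_cases D _ hmem.1 hβ
    change av (SUG.tv hF x k₀ hxx hk₀) β ∈ D 1 ∨ av (SUG.tv hF x k₀ hxx hk₀) β ∈ D 0 at hcases
    rw [av_tv, hβx, mul_one] at hcases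
    rcases hcases with h | h
    · have hxB : k₀ • x ∈ D 1 := by
        have := (D 1).sub_mem h hβ
        rwa [add_sub_cancel_left] at this
      have hxB' : x ∈ D 1 := by
        have := (D 1).smul_mem k₀⁻¹ hxB
        rwa [smul_smul, inv_mul_cancel₀ hk₀0, one_smul] at this
      exact hx0 (hT.inter hF hxA hxB')
    · have hβA : β ∈ D 0 := by
        have := (D 0).sub_mem h ((D 0).smul_mem k₀ hxA)
        rwa [add_sub_cancel_right] at this
      have h0 := hT.inter hF hβA hβ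
      rw [h0, herm_zero_left] at hβx
      exact zero_ne_one hβx
  refine ⟨hlt, fun M hHM hMΩ => ?_⟩
  by_cases hMH : M ≤ Cfsg.Geo.decompositionStabilizer D ⊓
      (Cfsg.GU n F q ⊓ Cfsg.Geo.specialLinear (Fin n) F)
  · exact Or.inl (le_antisymm hMH hHM)
  right
  apply le_antisymm hMΩ
  obtain ⟨g₀, hg₀M, hg₀H⟩ := SetLike.not_le_iff_exists.mp hMH
  obtain ⟨γ, rfl⟩ := exists_suGL_eq g₀ (hMΩ hg₀M)
  have hγD : suGL n F q γ ∉ Cfsg.Geo.decompositionStabilizer D :=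
    fun h => hg₀H ⟨h, hMΩ hg₀M⟩
  have hSM : HS hF M (D 0) (D 1) := fun u hu v hv h1 h2 h3 => hHM (hSH u hu v hv h1 h2 h3)
  have hSM' : HS hF M (D 1) (D 0) := fun u hu v hv h1 h2 h3 => hHM (hSH' u hu v hv h1 h2 h3)
  have hex : ∃ a ∈ D 0, ∃ b ∈ D 1, hh b a = 0 ∧
      ¬ ((∀ y ∈ D 0, hh y (av γ a) • av γ b - hh y (av γ b) • av γ a ∈ D 0) ∧
        (∀ y ∈ D 1, hh y (av γ a) • av γ b - hh y (av γ b) • av γ a ∈ D 1)) := by
    by_contra hne
    apply hγD
    have hc : ∀ a ∈ D 0, ∀ b ∈ D 1, hh b a = 0 →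
        (∀ y ∈ D 0, hh y (av γ a) • av γ b - hh y (av γ b) • av γ a ∈ D 0) ∧
        (∀ y ∈ D 1, hh y (av γ a) • av γ b - hh y (av γ b) • av γ a ∈ D 1) := by
      intro a ha b hb hab
      by_contra hn
      exact hne ⟨a, ha, b, hb, hab, hn⟩
    rcases stab_or_swap hF hT (by omega) (by omega) γ hc with ⟨h1, h2⟩ | ⟨h1, h2⟩
    · exact mem_decStab_of_stab D _ h1 h2
    · exact mem_decStab_of_swap D _ (by rw [hfr0, hfr1]) h1 h2
  obtain ⟨a, ha, b, hb, hba, hfail⟩ := hex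
  have haa : hh a a = 0 := hT.tsA a ha a ha
  have hbb : hh b b = 0 := hT.tsB b hb b hb
  have hpp : hh (av γ a) (av γ a) = 0 := by rw [herm_av]; exact haa
  have hrr : hh (av γ b) (av γ b) = 0 := by rw [herm_av]; exact hbb
  have hrp : hh (av γ b) (av γ a) = 0 := by rw [herm_av]; exact hba
  have hρM : suGL n F q (SUG.sieg hF (av γ a) (av γ b) hpp hrr hrp) ∈ M := by
    rw [← conj_sieg hF γ a b haa hbb hba hpp hrr hrp, map_mul, map_mul, map_inv]
    exact M.mul_mem (M.mul_mem hg₀M (hSM a ha b hb haa hbb hba)) (M.inv_mem hg₀M)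
  have hn1 : 1 ≤ n := by omega
  have h32 : ¬ (n = 3 ∧ q = 2) := by omega
  rw [not_and_or] at hfail
  rcases hfail with hf | hf
  · push Not at hf
    obtain ⟨α₀, hα₀, hwα⟩ := hf
    -- the roles of `A` and `B` are interchanged: use the Siegel element with centre `γ b`
    have hpr : hh (av γ a) (av γ b) = 0 := herm_swap_zero hF hrp
    have hρM' : suGL n F q (SUG.sieg hF (av γ b) (av γ a) hrr hpp hpr) ∈ M := by
      have hba' : hh a b = 0 := herm_swap_zero hF hba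
      rw [← conj_sieg hF γ b a hbb haa hba' hrr hpp hpr, map_mul, map_mul, map_inv]
      exact M.mul_mem (M.mul_mem hg₀M (hSM' b hb a ha hbb haa hba')) (M.inv_mem hg₀M)
    have hwα' : hh α₀ (av γ b) • av γ a - hh α₀ (av γ a) • av γ b ∉ D 0 := by
      intro h
      apply hwα
      have := (D 0).neg_mem h
      rwa [neg_sub] at this
    obtain ⟨x, hxB, hx0, hX⟩ := core hF hT.symm (by omega) hSM' _ _ hrr hpp hpr hρM' α₀ hα₀ hwα'
    exact su_le_of_SuX hF hn1 h32 hT.symm hSM τ (hHM hτH) hτA hxB hx0 hX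
  · push Not at hf
    obtain ⟨β₀, hβ₀, hwβ⟩ := hf
    obtain ⟨x, hxA, hx0, hX⟩ := core hF hT (by omega) hSM _ _ hpp hrr hrp hρM β₀ hβ₀ hwβ
    exact su_le_of_SuX hF hn1 h32 hT hSM' τ (hHM hτH) hτB hxA hx0 hX

end utp

end Cfsg.Agent.Lib.Helper13.UTP
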