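import Mathlib
import Cfsg.Agent.S0779
import Cfsg.Agent.Lib.Helper6.Unitary
import Cfsg.Agent.Lib.Helper6.Dickson
import Cfsg.Agent.Lib.Helper13.OrthFrame2
import Cfsg.Agent.Lib.Helper13.OrthFrameGeo
import Cfsg.Prelude.Def_GeometricClasses
import Cfsg.Prelude.Def_LieClassical

/-!
# `GU_2(2) ≀ S_t` is not maximal in `SU_{2t}(2)`

Over the field with four elements a nondegenerate unitary plane has exactly two points of norm
one, so the stabiliser of an orthogonal decomposition into nondegenerate planes stabilises the set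
of all vectors of norm one lying in a member; the stabiliser of that set is strictly bigger and is
not the whole unitary group.
-/

set_option autoImplicit false
set_option linter.unusedSimpArgs false

namespace Cfsg.Agent.Lib.Helper13

open Matrix Module Cfsg.Agent.S0779 Cfsg.Agent.Lib.Helper6

section unitaryFour
variable {n : ℕ} {F : Type*} [Field F] [Fintype F]

local notation "hh" => Cfsg.hermForm n F 2

omit [Fintype F] in
theorem mat_ext_mulVec {A B : Matrix (Fin n) (Fin n) F} (h : ∀ x, A *ᵥ x = B *ᵥ x) : A = B := by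
  apply Matrix.toLin'.injective
  apply LinearMap.ext
  intro x
  rw [Matrix.toLin'_apply, Matrix.toLin'_apply, h]

theorem four_two (hF : Fintype.card F = 2 ^ 2) : (2 : F) = 0 := by
  have h := Nat.cast_card_eq_zero F
  rw [hF] at h
  have h4 : (2 : F) ^ 2 = 0 := by exact_mod_cast h
  exact (pow_eq_zero_iff (by norm_num)).mp h4

theorem four_cube (hF : Fintype.card F = 2 ^ 2) (c : F) (hc : c ≠ 0) : c ^ 3 = 1 := by
  have := FiniteField.pow_card_sub_one_eq_one c hc
  rw [hF] at this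
  norm_num at this
  exact this

theorem four_omega (hF : Fintype.card F = 2 ^ 2) : ∃ ω : F, ω ^ 2 + ω = 1 := by
  classical
  have hcard : ({0, 1} : Finset F).card < (Finset.univ : Finset F).card := by
    rw [Finset.card_univ, hF]
    calc ({0, 1} : Finset F).card ≤ 2 := Finset.card_le_two
      _ < 2 ^ 2 := by norm_num
  obtain ⟨ω, -, hω⟩ := Finset.exists_mem_notMem_of_card_lt_card hcard
  rw [Finset.mem_insert, Finset.mem_singleton, not_or] at hω
  refine ⟨ω, ?_⟩
  have h3 := four_cube hF ω hω.1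
  have h2 := four_two hF
  have : (ω - 1) * (ω ^ 2 + ω + 1) = 0 := by linear_combination h3
  rcases mul_eq_zero.mp this with h | h
  · exact absurd (sub_eq_zero.mp h) hω.2
  · linear_combination h - h2

omit [Fintype F] in
theorem four_neg_vec (h2 : (2 : F) = 0) (v : Fin n → F) : -v = v := by
  have : v + v = 0 := by rw [← two_smul F v, h2, zero_smul]
  exact neg_eq_of_add_eq_zero_left this

theorem herm_norm_01 (hF : Fintype.card F = 2 ^ 2) (x : Fin n → F) :
    hh x x = 0 ∨ hh x x = 1 := by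
  have h := herm_conj hF x x
  have : hh x x * (hh x x - 1) = 0 := by linear_combination h
  rcases mul_eq_zero.mp this with h0 | h0
  · left; exact h0
  · right; exact sub_eq_zero.mp h0

/-- a nondegenerate subspace contains a vector of norm one -/
theorem exists_norm_one (hF : Fintype.card F = 2 ^ 2) (W : Submodule F (Fin n → F))
    (hW : Cfsg.Geo.IsNondegenerateOn (Cfsg.hermForm n F 2) W) (w : Fin n → F) (hw : w ∈ W)
    (hw0 : w ≠ 0) : ∃ u ∈ W, hh u u = 1 := by
  by_cases h1 : hh w w = 0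
  · obtain ⟨x, hx, hxw⟩ := (hW w hw hw0).1
    by_cases h2 : hh x x = 0
    · obtain ⟨ω, hω⟩ := four_omega hF
      have hc3 := four_cube hF _ hxw
      refine ⟨x + (ω * hh x w) • w, W.add_mem hx (W.smul_mem _ hw), ?_⟩
      rw [herm_add_left, herm_add_right hF, herm_add_right hF, herm_smul_left, herm_smul_left,
        herm_smul_right, herm_smul_right, h1, h2, ← herm_conj hF x w]
      linear_combination (ω ^ 2 + ω) * hc3 + hω
    · exact ⟨x, hx, (herm_norm_01 hF x).resolve_left h2⟩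
  · exact ⟨w, hw, (herm_norm_01 hF w).resolve_left h1⟩

/-- in a nondegenerate plane the vectors of norm one not orthogonal to a given one are its
multiples -/
theorem unitary_key (hF : Fintype.card F = 2 ^ 2) (W : Submodule F (Fin n → F))
    (hW : Cfsg.Geo.IsNondegenerateOn (Cfsg.hermForm n F 2) W) (hdim : finrank F W = 2)
    (u x : Fin n → F) (hu : u ∈ W) (hx : x ∈ W) (hu1 : hh u u = 1) (hx1 : hh x x = 1)
    (hc : hh x u ≠ 0) : x = hh x u • u := by
  have h2 := four_two hF
  have hc3 := four_cube hF _ hc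
  have hyW : x + hh x u • u ∈ W := W.add_mem hx (W.smul_mem _ hu)
  have hyu : hh (x + hh x u • u) u = 0 := by
    rw [herm_add_left, herm_smul_left, hu1]
    linear_combination hh x u * h2
  have huy : hh u (x + hh x u • u) = 0 := by
    have := herm_conj hF (x + hh x u • u) u
    rw [hyu] at this
    exact this.symm.trans (zero_pow two_ne_zero)
  have hyy : hh (x + hh x u • u) (x + hh x u • u) = 0 := by
    rw [herm_add_left, herm_smul_left, huy, mul_zero, add_zero, herm_add_right hF,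
      herm_smul_right, hx1]
    linear_combination hc3 + h2
  by_contra hne
  have hy0 : x + hh x u • u ≠ 0 := by
    intro h0
    apply hne
    exact (eq_neg_of_add_eq_zero_left h0).trans (four_neg_vec h2 _)
  have k1 := finrank_inf_ker_add_one W (hermB n hF u) u hu (by
    rw [hermB_apply, hu1]; exact one_ne_zero)
  have hk : finrank F ↥(W ⊓ LinearMap.ker (hermB n hF u)) = 1 := by
    rw [hdim] at k1; omega
  have hyK : x + hh x u • u ∈ W ⊓ LinearMap.ker (hermB n hF u) :=
    Submodule.mem_inf.mpr ⟨hyW, by rw [LinearMap.mem_ker, hermB_apply]; exact hyu⟩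
  obtain ⟨z, hz, hzy⟩ := (hW _ hyW hy0).1
  have hzK : z + hh z u • u ∈ W ⊓ LinearMap.ker (hermB n hF u) :=
    Submodule.mem_inf.mpr ⟨W.add_mem hz (W.smul_mem _ hu), by
      rw [LinearMap.mem_ker, hermB_apply, herm_add_left, herm_smul_left, hu1]
      linear_combination hh z u * h2⟩
  obtain ⟨r, hr⟩ := exists_smul_of_finrank_one _ hk _ _ hyK hzK hy0
  apply hzy
  have e : hh (z + hh z u • u) (x + hh x u • u) = hh z (x + hh x u • u) := by
    rw [herm_add_left, herm_smul_left, huy, mul_zero, add_zero]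
  rw [← e, hr, herm_smul_left, hyy, mul_zero]

/-- a plane contains a nonzero vector orthogonal to a given vector of norm one -/
theorem unitary_hw (hF : Fintype.card F = 2 ^ 2) (W : Submodule F (Fin n → F))
    (hdim : finrank F W = 2) (u : Fin n → F) (hu : u ∈ W) (hu1 : hh u u = 1) :
    ∃ w ∈ W, w ≠ 0 ∧ hh w u = 0 := by
  have k1 := finrank_inf_ker_add_one W (hermB n hF u) u hu (by
    rw [hermB_apply, hu1]; exact one_ne_zero)
  have hpos : 0 < finrank F ↥(W ⊓ LinearMap.ker (hermB n hF u)) := by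
    rw [hdim] at k1; omega
  obtain ⟨⟨w, hwK⟩, hw0⟩ := Module.finrank_pos_iff_exists_ne_zero.mp hpos
  have hw := Submodule.mem_inf.mp hwK
  refine ⟨w, hw.1, fun h => hw0 (Subtype.ext h), ?_⟩
  have := hw.2
  rwa [LinearMap.mem_ker, hermB_apply] at this

/-- the unitary transvection with parameter one -/
def utv (a : Fin n → F) : Matrix (Fin n) (Fin n) F := Cfsg.unitaryTransvection n 2 a 1

theorem utv_mulVec (a x : Fin n → F) : utv a *ᵥ x = x + hh x a • a := by
  rw [utv, transvection_mulVec, one_mul]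

theorem utv_mul_self (hF : Fintype.card F = 2 ^ 2) (a : Fin n → F) (ha : hh a a = 0) :
    utv a * utv a = 1 := by
  apply mat_ext_mulVec
  intro x
  rw [← Matrix.mulVec_mulVec, utv_mulVec, utv_mulVec, herm_add_left, herm_smul_left, ha, mul_zero,
    add_zero, one_mulVec, add_assoc, ← add_smul]
  have : hh x a + hh x a = 0 := by linear_combination hh x a * four_two hF
  rw [this, zero_smul, add_zero]

theorem utv_pres (hF : Fintype.card F = 2 ^ 2) (a : Fin n → F) (ha : hh a a = 0)
    (x y : Fin n → F) : hh (utv a *ᵥ x) (utv a *ᵥ y) = hh x y := by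
  have h2 := four_two hF
  rw [utv_mulVec, utv_mulVec, herm_add_left, herm_add_right hF, herm_add_right hF, herm_smul_left,
    herm_smul_left, herm_smul_right, herm_smul_right, ha, herm_conj hF y a]
  linear_combination (hh x a * hh a y) * h2

/-- the transvection as an invertible matrix -/
def utvGL (hF : Fintype.card F = 2 ^ 2) (a : Fin n → F) (ha : hh a a = 0) : GL (Fin n) F :=
  ⟨utv a, utv a, utv_mul_self hF a ha, utv_mul_self hF a ha⟩

theorem utvGL_mem (hF : Fintype.card F = 2 ^ 2) (a : Fin n → F) (ha : hh a a = 0) :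
    utvGL hF a ha ∈ Cfsg.GU n F 2 ⊓ Cfsg.Geo.specialLinear (Fin n) F := by
  refine ⟨fun x y => utv_pres hF a ha x y, ?_⟩
  change Matrix.GeneralLinearGroup.det (utvGL hF a ha) = 1
  have hgg : utvGL hF a ha * utvGL hF a ha = 1 :=
    Units.ext (by rw [Units.val_mul, Units.val_one]; exact utv_mul_self hF a ha)
  have hd : Matrix.GeneralLinearGroup.det (utvGL hF a ha) *
      Matrix.GeneralLinearGroup.det (utvGL hF a ha) = 1 := by
    rw [← map_mul, hgg, map_one]
  generalize Matrix.GeneralLinearGroup.det (utvGL hF a ha) = d at hd ⊢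
  have hd' : (d : F) * (d : F) = 1 := by rw [← Units.val_mul, hd, Units.val_one]
  have h2 := four_two hF
  have : ((d : F) - 1) * ((d : F) - 1) = 0 := by
    linear_combination hd' + (1 - (d : F)) * h2
  exact Units.ext (sub_eq_zero.mp (mul_self_eq_zero.mp this))

omit [Fintype F] in
theorem mem_stabilizing_of_invol (S : Set (Fin n → F)) (g : GL (Fin n) F)
    (hg2 : (g : Matrix (Fin n) (Fin n) F) * (g : Matrix (Fin n) (Fin n) F) = 1)
    (hS : ∀ v ∈ S, (g : Matrix (Fin n) (Fin n) F) *ᵥ v ∈ S) :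
    g ∈ Cfsg.stabilizing (Cfsg.glToMat (Fin n) F) S := by
  intro v
  change v ∈ S ↔ (g : Matrix (Fin n) (Fin n) F) *ᵥ v ∈ S
  constructor
  · exact hS v
  · intro hv
    have := hS _ hv
    rwa [Matrix.mulVec_mulVec, hg2, one_mulVec] at this

/-- data of a unitary frame over the field with four elements -/
structure UFrame {t : ℕ} (D : Fin t → Submodule F (Fin n → F)) (u : Fin t → (Fin n → F)) :
    Prop where
  card : Fintype.card F = 2 ^ 2
  hu : ∀ i, u i ∈ D i
  norm : ∀ i, Cfsg.hermForm n F 2 (u i) (u i) = 1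
  key : ∀ i, ∀ x ∈ D i, Cfsg.hermForm n F 2 x x = 1 → Cfsg.hermForm n F 2 x (u i) ≠ 0 →
    x = Cfsg.hermForm n F 2 x (u i) • u i
  hw : ∀ i, ∃ w ∈ D i, w ≠ 0 ∧ Cfsg.hermForm n F 2 w (u i) = 0
  horth : ∀ i j, i ≠ j → ∀ x ∈ D i, ∀ y ∈ D j, Cfsg.hermForm n F 2 x y = 0
  hnd : ∀ i, ∀ w ∈ D i, w ≠ 0 → ∃ x ∈ D i, Cfsg.hermForm n F 2 x w ≠ 0

variable {t : ℕ} {D : Fin t → Submodule F (Fin n → F)} {u : Fin t → (Fin n → F)}

theorem UFrame.swap_aux (h : UFrame D u) (i j : Fin t) (v : Fin n → F)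
    (hv : v ∈ D i) (hv1 : hh v v = 1) :
    ∃ k, v + hh v (u i) • (u i + u j) ∈ D k ∧
      hh (v + hh v (u i) • (u i + u j)) (v + hh v (u i) • (u i + u j)) = 1 := by
  by_cases hc : hh v (u i) = 0
  · rw [hc, zero_smul, add_zero]
    exact ⟨i, hv, hv1⟩
  · have hx := h.key i v hv hv1 hc
    have h2 := four_two h.card
    obtain ⟨c, hc', hvc⟩ : ∃ c : F, c ≠ 0 ∧ v = c • u i := ⟨_, hc, hx⟩
    subst hvc
    have e1 : hh (c • u i) (u i) = c := by rw [herm_smul_left, h.norm, mul_one]
    have e2 : c • u i + c • (u i + u j) = c • u j := by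
      rw [smul_add, ← add_assoc, ← add_smul]
      have : c + c = 0 := by linear_combination c * h2
      rw [this, zero_smul, zero_add]
    rw [e1, e2]
    refine ⟨j, (D j).smul_mem _ (h.hu j), ?_⟩
    rw [herm_smul_left, herm_smul_right, h.norm, mul_one]
    have := four_cube h.card c hc'
    linear_combination this

theorem UFrame.swap_mem (h : UFrame D u) (i j : Fin t) (hij : i ≠ j) (v : Fin n → F)
    (hv : ∃ k, v ∈ D k ∧ hh v v = 1) :
    ∃ k, v + hh v (u i + u j) • (u i + u j) ∈ D k ∧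
      hh (v + hh v (u i + u j) • (u i + u j)) (v + hh v (u i + u j) • (u i + u j)) = 1 := by
  obtain ⟨k, hvk, hv1⟩ := hv
  have hF := h.card
  rw [herm_add_right hF v (u i) (u j)]
  by_cases hki : k = i
  · rw [hki] at hvk
    rw [h.horth i j hij v hvk (u j) (h.hu j), add_zero]
    exact h.swap_aux i j v hvk hv1
  · by_cases hkj : k = j
    · rw [hkj] at hvk
      rw [h.horth j i (Ne.symm hij) v hvk (u i) (h.hu i), zero_add, add_comm (u i) (u j)]
      exact h.swap_aux j i v hvk hv1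
    · rw [h.horth k i hki v hvk _ (h.hu i), h.horth k j hkj v hvk _ (h.hu j), add_zero, zero_smul,
        add_zero]
      exact ⟨k, hvk, hv1⟩

/-- **The stabiliser of the decomposition is not maximal.** -/
theorem UFrame.not_maximal (h : UFrame D u) (i₀ i₁ i₂ i₃ : Fin t) (h01 : i₀ ≠ i₁) (h02 : i₀ ≠ i₂)
    (h03 : i₀ ≠ i₃) (h12 : i₁ ≠ i₂) (h13 : i₁ ≠ i₃) (h23 : i₂ ≠ i₃) :
    ∃ K : Subgroup (GL (Fin n) F),
      Cfsg.Geo.decompositionStabilizer D ⊓
        (Cfsg.GU n F 2 ⊓ Cfsg.Geo.specialLinear (Fin n) F) < K ∧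
      K < Cfsg.GU n F 2 ⊓ Cfsg.Geo.specialLinear (Fin n) F := by
  have hF := h.card
  have h2 := four_two hF
  have huu : ∀ i j, i ≠ j → hh (u i) (u j) = 0 :=
    fun i j hij => h.horth i j hij _ (h.hu i) _ (h.hu j)
  have ha : hh (u i₀ + u i₁) (u i₀ + u i₁) = 0 := by
    rw [herm_add_left, herm_add_right hF, herm_add_right hF, h.norm, h.norm, huu _ _ h01,
      huu _ _ (Ne.symm h01)]
    linear_combination h2
  have hb : hh (u i₀ + u i₁ + u i₂ + u i₃) (u i₀ + u i₁ + u i₂ + u i₃) = 0 := by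
    simp only [herm_add_left, herm_add_right hF, h.norm, huu _ _ h01, huu _ _ h02, huu _ _ h03,
      huu _ _ h12, huu _ _ h13, huu _ _ h23, huu _ _ (Ne.symm h01), huu _ _ (Ne.symm h02),
      huu _ _ (Ne.symm h03), huu _ _ (Ne.symm h12), huu _ _ (Ne.symm h13), huu _ _ (Ne.symm h23)]
    linear_combination 2 * h2
  refine ⟨Cfsg.stabilizing (Cfsg.glToMat (Fin n) F) {x | ∃ i, x ∈ D i ∧ hh x x = 1} ⊓
    (Cfsg.GU n F 2 ⊓ Cfsg.Geo.specialLinear (Fin n) F), ?_, ?_⟩
  · rw [SetLike.lt_iff_le_and_exists]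
    constructor
    · rintro g ⟨hgD, hgU, hgS⟩
      refine ⟨?_, hgU, hgS⟩
      obtain ⟨σ, hσ⟩ := hgD
      intro v
      change (∃ i, v ∈ D i ∧ hh v v = 1) ↔
        ∃ i, (g : Matrix (Fin n) (Fin n) F) *ᵥ v ∈ D i ∧
          hh ((g : Matrix (Fin n) (Fin n) F) *ᵥ v) ((g : Matrix (Fin n) (Fin n) F) *ᵥ v) = 1
      have hpres : hh ((g : Matrix (Fin n) (Fin n) F) *ᵥ v)
          ((g : Matrix (Fin n) (Fin n) F) *ᵥ v) = hh v v := hgU v v
      rw [hpres]
      constructor
      · rintro ⟨i, hvi, hv1⟩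
        refine ⟨σ i, ?_, hv1⟩
        rw [← hσ i]
        exact ⟨v, hvi, Matrix.toLin'_apply _ _⟩
      · rintro ⟨j, hvj, hv1⟩
        refine ⟨σ.symm j, ?_, hv1⟩
        have hj := hσ (σ.symm j)
        rw [Equiv.apply_symm_apply] at hj
        rw [← hj] at hvj
        obtain ⟨w, hw, hwv⟩ := hvj
        rw [Matrix.toLin'_apply] at hwv
        have hinj : w = v := by
          have h1 : ((g⁻¹ : GL (Fin n) F) : Matrix (Fin n) (Fin n) F) *ᵥ
              ((g : Matrix (Fin n) (Fin n) F) *ᵥ w) =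
              ((g⁻¹ : GL (Fin n) F) : Matrix (Fin n) (Fin n) F) *ᵥ
              ((g : Matrix (Fin n) (Fin n) F) *ᵥ v) := by rw [hwv]
          rwa [Matrix.mulVec_mulVec, Matrix.mulVec_mulVec, ← Units.val_mul, inv_mul_cancel,
            Units.val_one, one_mulVec, one_mulVec] at h1
        rw [← hinj]
        exact hw
    · refine ⟨utvGL hF (u i₀ + u i₁) ha, ⟨?_, utvGL_mem hF _ ha⟩, ?_⟩
      · apply mem_stabilizing_of_invol _ _ (utv_mul_self hF _ ha)
        intro v hv
        change ∃ k, utv (u i₀ + u i₁) *ᵥ v ∈ D k ∧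
          hh (utv (u i₀ + u i₁) *ᵥ v) (utv (u i₀ + u i₁) *ᵥ v) = 1
        rw [utv_mulVec]
        exact h.swap_mem i₀ i₁ h01 v hv
      · rintro ⟨⟨σ, hσ⟩, -⟩
        have hm0 : ((utvGL hF (u i₀ + u i₁) ha : GL (Fin n) F) : Matrix (Fin n) (Fin n) F) *ᵥ
            (u i₀) ∈ D (σ i₀) := by
          rw [← hσ i₀]
          exact ⟨u i₀, h.hu i₀, Matrix.toLin'_apply _ _⟩
        change utv (u i₀ + u i₁) *ᵥ u i₀ ∈ D (σ i₀) at hm0
        rw [utv_mulVec] at hm0
        have hσ0 : σ i₀ = i₁ := by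
          by_contra hne
          have := h.horth (σ i₀) i₁ hne _ hm0 _ (h.hu i₁)
          simp only [herm_add_left, herm_smul_left, herm_add_right hF, h.norm, huu _ _ h01] at this
          exact one_ne_zero (by linear_combination this)
        obtain ⟨w, hwD, hw0, hwu⟩ := h.hw i₀
        have hmw : ((utvGL hF (u i₀ + u i₁) ha : GL (Fin n) F) : Matrix (Fin n) (Fin n) F) *ᵥ
            w ∈ D (σ i₀) := by
          rw [← hσ i₀]
          exact ⟨w, hwD, Matrix.toLin'_apply _ _⟩
        change utv (u i₀ + u i₁) *ᵥ w ∈ D (σ i₀) at hmw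
        rw [utv_mulVec, herm_add_right hF, hwu, h.horth i₀ i₁ h01 w hwD _ (h.hu i₁), add_zero,
          zero_smul, add_zero, hσ0] at hmw
        obtain ⟨x, hxD, hxw⟩ := h.hnd i₀ w hwD hw0
        exact hxw (h.horth i₀ i₁ h01 x hxD w hmw)
  · rw [SetLike.lt_iff_le_and_exists]
    refine ⟨inf_le_right, utvGL hF _ hb, utvGL_mem hF _ hb, ?_⟩
    rintro ⟨hS, -⟩
    have h1 := (hS (u i₀)).mp ⟨i₀, h.hu i₀, h.norm i₀⟩
    obtain ⟨k, hk, -⟩ := h1
    change utv (u i₀ + u i₁ + u i₂ + u i₃) *ᵥ u i₀ ∈ D k at hk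
    rw [utv_mulVec] at hk
    have hk1 : k = i₁ := by
      by_contra hne
      have := h.horth k i₁ hne _ hk _ (h.hu i₁)
      simp only [herm_add_left, herm_smul_left, herm_add_right hF, h.norm, huu _ _ h01,
        huu _ _ h02, huu _ _ h03, huu _ _ h12, huu _ _ h13, huu _ _ h23, huu _ _ (Ne.symm h01),
        huu _ _ (Ne.symm h02), huu _ _ (Ne.symm h03), huu _ _ (Ne.symm h12),
        huu _ _ (Ne.symm h13), huu _ _ (Ne.symm h23)] at this
      exact one_ne_zero (by linear_combination this)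
    have hk2 : k = i₂ := by
      by_contra hne
      have := h.horth k i₂ hne _ hk _ (h.hu i₂)
      simp only [herm_add_left, herm_smul_left, herm_add_right hF, h.norm, huu _ _ h01,
        huu _ _ h02, huu _ _ h03, huu _ _ h12, huu _ _ h13, huu _ _ h23, huu _ _ (Ne.symm h01),
        huu _ _ (Ne.symm h02), huu _ _ (Ne.symm h03), huu _ _ (Ne.symm h12),
        huu _ _ (Ne.symm h13), huu _ _ (Ne.symm h23)] at this
      exact one_ne_zero (by linear_combination this)
    exact h12 (hk1.symm.trans hk2)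

/-- **Stabilisers of orthogonal decompositions into nondegenerate planes are not maximal in
`SU_n(2)`.** -/
theorem unitary_decomp_not_maximal (hF : Fintype.card F = 4) (hn : 7 ≤ n)
    (D : Fin t → Submodule F (Fin n → F))
    (hD : Cfsg.Geo.IsNondegenerateMDecomposition (Cfsg.hermForm n F 2) 2 D) :
    ∃ K : Subgroup (GL (Fin n) F),
      Cfsg.Geo.decompositionStabilizer D ⊓
        (Cfsg.GU n F 2 ⊓ Cfsg.Geo.specialLinear (Fin n) F) < K ∧
      K < Cfsg.GU n F 2 ⊓ Cfsg.Geo.specialLinear (Fin n) F := by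
  have hF' : Fintype.card F = 2 ^ 2 := by rw [hF]; norm_num
  have hkfr := hD.decomp.finrank_eq
  have ht : 4 ≤ t := by
    have h1 := finrank_iSup_fin_le D 2 (fun i => (hkfr i).le)
    rw [hD.decomp.iSup_eq_top, finrank_top, Module.finrank_fintype_fun_eq_card,
      Fintype.card_fin] at h1
    omega
  have hbasis : ∀ i, ∃ ui : Fin n → F, ui ∈ D i ∧ hh ui ui = 1 ∧
      (∀ x ∈ D i, hh x x = 1 → hh x ui ≠ 0 → x = hh x ui • ui) ∧
      (∃ w ∈ D i, w ≠ 0 ∧ hh w ui = 0) := by
    intro i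
    have hpos : 0 < finrank F (D i) := by rw [hkfr i]; norm_num
    obtain ⟨⟨w₀, hw₀D⟩, hw₀⟩ := Module.finrank_pos_iff_exists_ne_zero.mp hpos
    have hw₀0 : w₀ ≠ 0 := fun h => hw₀ (Subtype.ext h)
    obtain ⟨ui, huiD, hui1⟩ := exists_norm_one hF' (D i) (hD.nondegenerate i) w₀ hw₀D hw₀0
    exact ⟨ui, huiD, hui1, fun x hx hx1 hc => unitary_key hF' (D i) (hD.nondegenerate i) (hkfr i)
      ui x huiD hx hui1 hx1 hc, unitary_hw hF' (D i) (hkfr i) ui huiD hui1⟩
  choose u hu hnorm hkey hw using hbasis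
  have h : UFrame D u := ⟨hF', hu, hnorm, hkey, hw,
    fun i j hij x hx y hy => hD.orthogonal i j hij x hx y hy,
    fun i w hw hw0 => (hD.nondegenerate i w hw hw0).1⟩
  exact h.not_maximal ⟨0, by omega⟩ ⟨1, by omega⟩ ⟨2, by omega⟩ ⟨3, by omega⟩
    (by simp [Fin.ext_iff]) (by simp [Fin.ext_iff]) (by simp [Fin.ext_iff])
    (by simp [Fin.ext_iff]) (by simp [Fin.ext_iff]) (by simp [Fin.ext_iff])

end unitaryFour

end Cfsg.Agent.Lib.Helper13
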