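import Mathlib
import Cfsg.Agent.Lib.Helper13.TensorNM
import Cfsg.Agent.Lib.Helper13.TensorSkew

set_option autoImplicit false

namespace Cfsg.Agent.Lib.Helper13.TNM

open scoped Matrix Kronecker
open Cfsg Cfsg.Geo

section blocks2
variable {κ : Type} [Fintype κ] [DecidableEq κ] {F : Type*} [Field F]

theorem exists_perm_of_mem_decStab {t : ℕ} (col : κ → Fin t) (M : GL κ F)
    (hM : M ∈ decompositionStabilizer (blk (F := F) col)) :
    ∃ π : Equiv.Perm (Fin t), ∀ a a', col a ≠ π (col a') → (M : Matrix κ κ F) a a' = 0 := by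
  obtain ⟨π, hπ⟩ := hM
  refine ⟨π, fun a a' ha => ?_⟩
  have hmem : (Pi.single a' 1 : κ → F) ∈ blk (F := F) col (col a') := by
    rw [mem_blk]
    intro b hb
    rw [Pi.single_apply, if_neg]
    rintro rfl; exact hb rfl
  have h2 : Matrix.toLin' (M : Matrix κ κ F) (Pi.single a' 1) ∈ blk (F := F) col (π (col a')) := by
    rw [← hπ]; exact Submodule.mem_map_of_mem hmem
  have h3 := (mem_blk col _ _).mp h2 a ha
  rw [Matrix.toLin'_apply, Matrix.mulVec_single_one] at h3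
  exact h3

theorem inv_monomial (M : GL κ F) (π : Equiv.Perm κ)
    (h1 : ∀ j j', j ≠ π j' → (M : Matrix κ κ F) j j' = 0) :
    ∀ j j', j ≠ π.symm j' → ((M⁻¹ : GL κ F) : Matrix κ κ F) j j' = 0 := by
  intro j k hjk
  obtain ⟨j', hj'⟩ : ∃ j', j' = π.symm k := ⟨_, rfl⟩
  have hk : k = π j' := by rw [hj', Equiv.apply_symm_apply]
  have hmul : ((M⁻¹ : GL κ F) : Matrix κ κ F) * (M : Matrix κ κ F) = 1 := by
    rw [← Units.val_mul, inv_mul_cancel, Units.val_one]
  have hsum : ∀ i, (((M⁻¹ : GL κ F) : Matrix κ κ F) * (M : Matrix κ κ F)) i j' =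
      ((M⁻¹ : GL κ F) : Matrix κ κ F) i (π j') * (M : Matrix κ κ F) (π j') j' := by
    intro i
    rw [Matrix.mul_apply]
    apply Finset.sum_eq_single (π j')
    · intro x _ hx
      rw [h1 x j' hx, mul_zero]
    · intro h; exact absurd (Finset.mem_univ _) h
  have e1 := hsum j'
  rw [hmul, Matrix.one_apply_eq] at e1
  have hne : (M : Matrix κ κ F) (π j') j' ≠ 0 := by
    intro h0
    rw [h0, mul_zero] at e1
    exact one_ne_zero e1
  have e2 := hsum j
  rw [hmul, Matrix.one_apply_ne (by rw [hj']; exact hjk)] at e2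
  rw [hk]
  rcases mul_eq_zero.mp e2.symm with h | h
  · exact h
  · exact absurd h hne

theorem exists_ne_of_dot_zero (z w : κ → F) (hz : z ≠ 0) (hw : w ≠ 0) (h : z ⬝ᵥ w = 0) :
    ∃ j j', j ≠ j' ∧ z j ≠ 0 ∧ w j' ≠ 0 := by
  obtain ⟨j, hj⟩ : ∃ j, z j ≠ 0 := by
    by_contra hcon; push Not at hcon; exact hz (funext hcon)
  obtain ⟨j', hj'⟩ : ∃ j', w j' ≠ 0 := by
    by_contra hcon; push Not at hcon; exact hw (funext hcon)
  by_cases hjj : j = j'
  · subst hjj
    by_contra hcon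
    push Not at hcon
    have hsum : z ⬝ᵥ w = z j * w j := by
      unfold dotProduct
      apply Finset.sum_eq_single j
      · intro k _ hk
        by_cases hzk : z k = 0
        · rw [hzk, zero_mul]
        · exact absurd (hcon k j hk hzk) hj'
      · intro h'; exact absurd (Finset.mem_univ _) h'
    rw [hsum] at h
    exact mul_ne_zero hj hj' h
  · exact ⟨j, j', hjj, hj, hj'⟩

end blocks2

section herm
variable {κ : Type} [Fintype κ] [DecidableEq κ] {F : Type*} [Field F] (σ : F →+* F)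

theorem kron_map {l m : Type} (A : Matrix l l F) (B : Matrix m m F) :
    (A ⊗ₖ B).map σ = A.map σ ⊗ₖ B.map σ := by
  ext ⟨i, j⟩ ⟨i', j'⟩
  show σ (A i i' * B j j') = σ (A i i') * σ (B j j')
  exact map_mul σ _ _

theorem comp_add (x y : κ → F) : ⇑σ ∘ (x + y) = ⇑σ ∘ x + ⇑σ ∘ y := by
  funext k; simp

theorem comp_smul (c : F) (x : κ → F) : ⇑σ ∘ (c • x) = σ c • (⇑σ ∘ x) := by
  funext k; simp

theorem fog_add_left (G : Matrix κ κ F) (x x' y : κ → F) :
    formOfGram σ G (x + x') y = formOfGram σ G x y + formOfGram σ G x' y := by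
  rw [formOfGram_eq, formOfGram_eq, formOfGram_eq, add_dotProduct]

theorem fog_add_right (G : Matrix κ κ F) (x y y' : κ → F) :
    formOfGram σ G x (y + y') = formOfGram σ G x y + formOfGram σ G x y' := by
  rw [formOfGram_eq, formOfGram_eq, formOfGram_eq, comp_add, Matrix.mulVec_add, dotProduct_add]

theorem fog_smul_left (G : Matrix κ κ F) (c : F) (x y : κ → F) :
    formOfGram σ G (c • x) y = c * formOfGram σ G x y := by
  rw [formOfGram_eq, formOfGram_eq, smul_dotProduct, smul_eq_mul]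

theorem fog_smul_right (G : Matrix κ κ F) (c : F) (x y : κ → F) :
    formOfGram σ G x (c • y) = σ c * formOfGram σ G x y := by
  rw [formOfGram_eq, formOfGram_eq, comp_smul, Matrix.mulVec_smul, dotProduct_smul, smul_eq_mul]

theorem herm_entry (G : Matrix κ κ F) (hG : Gᵀ = G.map σ) (a b : κ) : G b a = σ (G a b) := by
  have := congrFun (congrFun hG a) b
  rw [Matrix.transpose_apply, Matrix.map_apply] at this
  exact this

theorem fog_herm (G : Matrix κ κ F) (hG : Gᵀ = G.map σ) (hσσ : ∀ x, σ (σ x) = x) (x y : κ → F) :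
    formOfGram σ G y x = σ (formOfGram σ G x y) := by
  unfold formOfGram
  rw [map_sum, Finset.sum_comm]
  apply Finset.sum_congr rfl
  intro a _
  rw [map_sum]
  apply Finset.sum_congr rfl
  intro b _
  rw [map_mul, map_mul, hσσ, herm_entry σ G hG a b]
  ring

theorem exists_nonisotropic (G : Matrix κ κ F) (hG : Gᵀ = G.map σ) (ω : F) (hω : σ ω ≠ ω)
    (hne : G ≠ 0) : ∃ u : κ → F, formOfGram σ G u u ≠ 0 := by
  by_contra hcon
  push Not at hcon
  apply hne
  ext a b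
  rw [Matrix.zero_apply]
  have hs : ∀ a b, formOfGram σ G (Pi.single a 1) (Pi.single b 1) = G a b :=
    fun a b => formOfGram_single σ (map_zero σ) (map_one σ) G a b
  have hba : G b a = σ (G a b) := herm_entry σ G hG a b
  have e1 := hcon ((Pi.single a 1 : κ → F) + Pi.single b 1)
  rw [fog_add_left, fog_add_right, fog_add_right, hcon, hcon, hs, hs, hba] at e1
  have e2 := hcon (ω • (Pi.single a 1 : κ → F) + Pi.single b 1)
  rw [fog_add_left, fog_add_right, fog_add_right, hcon, hcon, fog_smul_left, fog_smul_right, hs, hs,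
    hba] at e2
  have h3 : (ω - σ ω) * G a b = 0 := by linear_combination e2 - σ ω * e1
  rcases mul_eq_zero.mp h3 with h | h
  · exact absurd (sub_eq_zero.mp h).symm hω
  · exact h

theorem gram_conj_apply (G C : Matrix κ κ F) (i j : κ) :
    (Cᵀ * G * C.map σ) i j = formOfGram σ G (fun a => C a i) (fun b => C b j) := by
  unfold formOfGram
  simp only [Matrix.mul_apply, Matrix.transpose_apply, Matrix.map_apply, Finset.sum_mul]
  rw [Finset.sum_comm]

theorem exists_isotropic (hσσ : ∀ x, σ (σ x) = x) (h2 : (2 : F) = 0)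
    (hfix : ∀ t : F, σ t = t → t = 0 ∨ t = 1) (ω : F) (hω : σ ω ≠ ω)
    (G : Matrix κ κ F) (hG : Gᵀ = G.map σ)
    (hN : ∀ y : κ → F, y ≠ 0 → G *ᵥ (⇑σ ∘ y) ≠ 0) (j₀ j₁ : κ) (hj : j₀ ≠ j₁) :
    ∃ z : κ → F, z ≠ 0 ∧ formOfGram σ G z z = 0 := by
  have hGne : G ≠ 0 := by
    intro h0
    apply hN (Pi.single j₀ 1)
    · intro h; have := congrFun h j₀; simp at this
    · rw [h0, Matrix.zero_mulVec]
  obtain ⟨z₁, hz₁⟩ := exists_nonisotropic σ G hG ω hω hGne
  have hval : ∀ u, formOfGram σ G u u = 0 ∨ formOfGram σ G u u = 1 := by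
    intro u
    apply hfix
    exact (fog_herm σ G hG hσσ u u).symm
  have h11 : formOfGram σ G z₁ z₁ = 1 := by
    rcases hval z₁ with h | h
    · exact absurd h hz₁
    · exact h
  obtain ⟨w, hw⟩ : ∃ w : κ → F, w = G *ᵥ (⇑σ ∘ z₁) := ⟨_, rfl⟩
  have hdot : ∀ x, formOfGram σ G x z₁ = x ⬝ᵥ w := by
    intro x; rw [formOfGram_eq, hw]
  obtain ⟨z₂, hz₂ne, hz₂⟩ : ∃ z₂ : κ → F, z₂ ≠ 0 ∧ z₂ ⬝ᵥ w = 0 := by
    by_cases h0 : w j₀ = 0
    · refine ⟨Pi.single j₀ 1, ?_, ?_⟩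
      · intro h; have := congrFun h j₀; simp at this
      · rw [single_one_dotProduct]; exact h0
    · refine ⟨w j₁ • (Pi.single j₀ 1 : κ → F) - w j₀ • (Pi.single j₁ 1 : κ → F), ?_, ?_⟩
      · intro h
        have := congrFun h j₁
        simp [Pi.single_apply, hj, hj.symm] at this
        exact h0 this
      · rw [sub_dotProduct, smul_dotProduct, smul_dotProduct, single_one_dotProduct,
          single_one_dotProduct, smul_eq_mul, smul_eq_mul]
        ring
  have h21 : formOfGram σ G z₂ z₁ = 0 := by rw [hdot]; exact hz₂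
  have h12 : formOfGram σ G z₁ z₂ = 0 := by rw [fog_herm σ G hG hσσ z₂ z₁, h21, map_zero]
  rcases hval z₂ with h | h
  · exact ⟨z₂, hz₂ne, h⟩
  · refine ⟨z₁ + z₂, ?_, ?_⟩
    · intro h0
      have h3 : formOfGram σ G (z₁ + z₂) z₁ = 0 := by
        rw [h0, formOfGram_eq, zero_dotProduct]
      rw [fog_add_left, h11, h21, add_zero] at h3
      exact one_ne_zero h3
    · rw [fog_add_left, fog_add_right, fog_add_right, h11, h12, h21, h]
      linear_combination h2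

theorem exists_orthonormal_two (hσσ : ∀ x, σ (σ x) = x)
    (hfix : ∀ t : F, σ t = t → t = 0 ∨ t = 1) (ω : F) (hω : σ ω ≠ ω)
    (G : Matrix (Fin 2) (Fin 2) F) (hG : Gᵀ = G.map σ)
    (hN : ∀ y : Fin 2 → F, y ≠ 0 → G *ᵥ (⇑σ ∘ y) ≠ 0) :
    ∃ C : GL (Fin 2) F,
      (C : Matrix (Fin 2) (Fin 2) F)ᵀ * G * (C : Matrix (Fin 2) (Fin 2) F).map σ = 1 := by
  have hGne : G ≠ 0 := by
    intro h0
    apply hN (Pi.single 0 1)
    · intro h; have := congrFun h 0; simp at this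
    · rw [h0, Matrix.zero_mulVec]
  obtain ⟨u₀, hu₀⟩ := exists_nonisotropic σ G hG ω hω hGne
  have hval : ∀ u, formOfGram σ G u u = 0 ∨ formOfGram σ G u u = 1 := by
    intro u
    apply hfix
    exact (fog_herm σ G hG hσσ u u).symm
  have h00 : formOfGram σ G u₀ u₀ = 1 := by
    rcases hval u₀ with h | h
    · exact absurd h hu₀
    · exact h
  obtain ⟨w, hw⟩ : ∃ w : Fin 2 → F, w = G *ᵥ (⇑σ ∘ u₀) := ⟨_, rfl⟩
  have hdot : ∀ x, formOfGram σ G x u₀ = x ⬝ᵥ w := by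
    intro x; rw [formOfGram_eq, hw]
  have hε : u₀ 0 * w 0 + u₀ 1 * w 1 = 1 := by
    have h := hdot u₀
    rw [h00] at h
    rw [h]
    simp [dotProduct, Fin.sum_univ_two]
  obtain ⟨u₁, hu₁⟩ : ∃ u₁ : Fin 2 → F, u₁ = ![w 1, - w 0] := ⟨_, rfl⟩
  have h10 : formOfGram σ G u₁ u₀ = 0 := by
    rw [hdot, hu₁]
    simp [dotProduct, Fin.sum_univ_two]
    ring
  have h01 : formOfGram σ G u₀ u₁ = 0 := by
    rw [fog_herm σ G hG hσσ u₁ u₀, h10, map_zero]
  obtain ⟨Cm, hCm⟩ : ∃ Cm : Matrix (Fin 2) (Fin 2) F, Cm = !![u₀ 0, w 1; u₀ 1, - w 0] := ⟨_, rfl⟩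
  have hdet : Cm.det = -1 := by
    rw [hCm, Matrix.det_fin_two_of]
    linear_combination - hε
  have hcol0 : (fun a => Cm a 0) = u₀ := by
    funext a
    fin_cases a <;> simp [hCm]
  have hcol1 : (fun a => Cm a 1) = u₁ := by
    funext a
    fin_cases a <;> simp [hCm, hu₁]
  have hdetne : Cm.det ≠ 0 := by rw [hdet]; exact neg_ne_zero.mpr one_ne_zero
  have h11 : formOfGram σ G u₁ u₁ = 1 := by
    rcases hval u₁ with h | h
    · exfalso
      have hv : Cmᵀ *ᵥ (G *ᵥ (⇑σ ∘ u₁)) = 0 := by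
        have hrow : ∀ i, (Cmᵀ *ᵥ (G *ᵥ (⇑σ ∘ u₁))) i = formOfGram σ G (fun a => Cm a i) u₁ := by
          intro i
          rw [formOfGram_eq]
          rfl
        funext i
        rw [hrow]
        revert i
        refine Fin.forall_fin_two.mpr ⟨?_, ?_⟩
        · rw [hcol0]; exact h01
        · rw [hcol1]; exact h
      have hv0 := Matrix.eq_zero_of_mulVec_eq_zero (by rw [Matrix.det_transpose]; exact hdetne) hv
      have hu10 : u₁ = 0 := by
        by_contra hne; exact hN u₁ hne hv0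
      have hw0 : w 0 = 0 := by
        have := congrFun hu10 1
        rw [hu₁] at this
        simpa using this
      have hw1 : w 1 = 0 := by
        have := congrFun hu10 0
        rw [hu₁] at this
        simpa using this
      rw [hw0, hw1] at hε
      simp at hε
    · exact h
  refine ⟨Matrix.GeneralLinearGroup.mkOfDetNeZero Cm hdetne, ?_⟩
  show Cmᵀ * G * Cm.map σ = 1
  ext i j
  rw [gram_conj_apply]
  revert i j
  refine Fin.forall_fin_two.mpr ⟨Fin.forall_fin_two.mpr ⟨?_, ?_⟩, Fin.forall_fin_two.mpr ⟨?_, ?_⟩⟩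
  · rw [hcol0, h00, Matrix.one_apply_eq]
  · rw [hcol0, hcol1, h01, Matrix.one_apply_ne (by decide)]
  · rw [hcol0, hcol1, h10, Matrix.one_apply_ne (by decide)]
  · rw [hcol1, h11, Matrix.one_apply_eq]

/-- the matrix of `x ↦ x + h(x,u) u` -/
def HT (G : Matrix κ κ F) (u : κ → F) : Matrix κ κ F :=
  1 + Matrix.vecMulVec u (G *ᵥ (⇑σ ∘ u))

theorem HT_apply (G : Matrix κ κ F) (u : κ → F) (a a' : κ) :
    HT σ G u a a' = (1 : Matrix κ κ F) a a' + u a * (G *ᵥ (⇑σ ∘ u)) a' := by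
  unfold HT
  rw [Matrix.add_apply, Matrix.vecMulVec_apply]

theorem sq_expand {R : Type*} [Ring R] (N : R) : (1 + N) * (1 + N) = 1 + (N + N) + N * N := by
  noncomm_ring

theorem expand4 {R : Type*} [Ring R] (A G B : R) :
    (1 + A) * G * (1 + B) = G + A * G + G * B + A * G * B := by
  noncomm_ring

theorem HT_mul_self (h2 : (2 : F) = 0) (G : Matrix κ κ F) (u : κ → F)
    (hiso : u ⬝ᵥ (G *ᵥ (⇑σ ∘ u)) = 0) : HT σ G u * HT σ G u = 1 := by
  unfold HT
  have hN : Matrix.vecMulVec u (G *ᵥ (⇑σ ∘ u)) * Matrix.vecMulVec u (G *ᵥ (⇑σ ∘ u)) = 0 := by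
    rw [Matrix.vecMulVec_mul_vecMulVec, dotProduct_comm, hiso, zero_smul, vecMulVec_zero_right]
  have h2N : Matrix.vecMulVec u (G *ᵥ (⇑σ ∘ u)) + Matrix.vecMulVec u (G *ᵥ (⇑σ ∘ u)) = 0 := by
    rw [← two_smul F, h2, zero_smul]
  rw [sq_expand, hN, h2N, add_zero, add_zero]

theorem one_add_vecMulVec_map (u w : κ → F) :
    (1 + Matrix.vecMulVec u w).map σ = 1 + Matrix.vecMulVec (⇑σ ∘ u) (⇑σ ∘ w) := by
  ext a b
  rw [Matrix.map_apply, Matrix.add_apply, Matrix.add_apply, Matrix.vecMulVec_apply,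
    Matrix.vecMulVec_apply, map_add, map_mul]
  have h1 : σ ((1 : Matrix κ κ F) a b) = (1 : Matrix κ κ F) a b := by
    by_cases h : a = b
    · rw [h, Matrix.one_apply_eq, map_one]
    · rw [Matrix.one_apply_ne h, map_zero]
  rw [h1]
  rfl

theorem HT_preserve (hσσ : ∀ x, σ (σ x) = x) (h2 : (2 : F) = 0) (G : Matrix κ κ F)
    (hG : Gᵀ = G.map σ) (u : κ → F) (hiso : u ⬝ᵥ (G *ᵥ (⇑σ ∘ u)) = 0) :
    (HT σ G u)ᵀ * G * (HT σ G u).map σ = G := by
  obtain ⟨w, hw⟩ : ∃ w : κ → F, w = G *ᵥ (⇑σ ∘ u) := ⟨_, rfl⟩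
  have hσw : ⇑σ ∘ w = u ᵥ* G := by
    rw [hw, map_mulVec σ (map_zero σ) (map_add σ) (map_mul σ), ← hG, Matrix.mulVec_transpose]
    congr 1
    funext k
    simp [hσσ]
  unfold HT
  rw [← hw, one_add_vecMulVec_map, Matrix.transpose_add, Matrix.transpose_one,
    Matrix.transpose_vecMulVec]
  have e1 : Matrix.vecMulVec w u * G = Matrix.vecMulVec w (⇑σ ∘ w) := by
    rw [Matrix.vecMulVec_mul, hσw]
  have e2 : G * Matrix.vecMulVec (⇑σ ∘ u) (⇑σ ∘ w) = Matrix.vecMulVec w (⇑σ ∘ w) := by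
    rw [Matrix.mul_vecMulVec, ← hw]
  have e3 : Matrix.vecMulVec w (⇑σ ∘ w) * Matrix.vecMulVec (⇑σ ∘ u) (⇑σ ∘ w) = 0 := by
    rw [Matrix.vecMulVec_mul_vecMulVec, hσw, ← Matrix.dotProduct_mulVec, hiso, zero_smul,
      vecMulVec_zero_right]
  have e4 : Matrix.vecMulVec w (⇑σ ∘ w) + Matrix.vecMulVec w (⇑σ ∘ w) = 0 := by
    rw [← two_smul F, h2, zero_smul]
  rw [expand4, e1, e2, e3, add_zero, add_assoc, e4, add_zero]

theorem HT_det (h2 : (2 : F) = 0) (G : Matrix κ κ F) (u : κ → F)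
    (hiso : u ⬝ᵥ (G *ᵥ (⇑σ ∘ u)) = 0) : (HT σ G u).det = 1 := by
  have h := congrArg Matrix.det (HT_mul_self σ h2 G u hiso)
  rw [Matrix.det_mul, Matrix.det_one] at h
  have h3 : ((HT σ G u).det - 1) * ((HT σ G u).det - 1) = 0 := by
    linear_combination h + (1 - (HT σ G u).det) * h2
  exact sub_eq_zero.mp (mul_self_eq_zero.mp h3)

/-- the unitary transvection as an invertible matrix -/
def htv (h2 : (2 : F) = 0) (G : Matrix κ κ F) (u : κ → F)
    (hiso : u ⬝ᵥ (G *ᵥ (⇑σ ∘ u)) = 0) : GL κ F :=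
  ⟨HT σ G u, HT σ G u, HT_mul_self σ h2 G u hiso, HT_mul_self σ h2 G u hiso⟩

theorem htv_val (h2 : (2 : F) = 0) (G : Matrix κ κ F) (u : κ → F)
    (hiso : u ⬝ᵥ (G *ᵥ (⇑σ ∘ u)) = 0) :
    ((htv σ h2 G u hiso : GL κ F) : Matrix κ κ F) = HT σ G u := rfl

theorem htv_inv_val (h2 : (2 : F) = 0) (G : Matrix κ κ F) (u : κ → F)
    (hiso : u ⬝ᵥ (G *ᵥ (⇑σ ∘ u)) = 0) :
    (((htv σ h2 G u hiso)⁻¹ : GL κ F) : Matrix κ κ F) = HT σ G u := rfl

theorem monomial_of_unitary_two (h2 : (2 : F) = 0) (hcube : ∀ x : F, x ≠ 0 → x * σ x = 1)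
    (a : GL (Fin 2) F) (μ : F) (hμ : μ ≠ 0)
    (ha : (a : Matrix (Fin 2) (Fin 2) F)ᵀ * (a : Matrix (Fin 2) (Fin 2) F).map σ
      = μ • (1 : Matrix (Fin 2) (Fin 2) F)) :
    ∃ π : Equiv.Perm (Fin 2), (∀ j j', j ≠ π j' → (a : Matrix (Fin 2) (Fin 2) F) j j' = 0) ∧
      (∀ j j', j ≠ π.symm j' → ((a⁻¹ : GL (Fin 2) F) : Matrix (Fin 2) (Fin 2) F) j j' = 0) := by
  obtain ⟨A, hA⟩ : ∃ A : Matrix (Fin 2) (Fin 2) F, A = (a : Matrix (Fin 2) (Fin 2) F) := ⟨_, rfl⟩
  rw [← hA] at ha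
  have hcol : ∀ i, A 0 i = 0 ∨ A 1 i = 0 := by
    intro i
    by_contra hcon
    push Not at hcon
    have := congrFun (congrFun ha i) i
    rw [Matrix.mul_apply, Fin.sum_univ_two, Matrix.transpose_apply, Matrix.transpose_apply,
      Matrix.map_apply, Matrix.map_apply, hcube _ hcon.1, hcube _ hcon.2, Matrix.smul_apply,
      Matrix.one_apply_eq, smul_eq_mul, mul_one] at this
    apply hμ
    rw [← this]
    linear_combination h2
  have hdet : A 0 0 * A 1 1 - A 0 1 * A 1 0 ≠ 0 := by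
    rw [← Matrix.det_fin_two, hA]
    exact (Matrix.isUnits_det_units a).ne_zero
  have hfin : ∀ j : Fin 2, j = 0 ∨ j = 1 := by
    intro j
    fin_cases j
    · exact Or.inl rfl
    · exact Or.inr rfl
  rcases hcol 0 with h00 | h10
  · rcases hcol 1 with h01 | h11
    · exfalso; apply hdet; rw [h00, h01]; ring
    · have h1 : ∀ j j', j ≠ Equiv.swap (0 : Fin 2) 1 j' → (a : Matrix (Fin 2) (Fin 2) F) j j' = 0 := by
        intro j j' hj
        rw [← hA]
        rcases hfin j with rfl | rfl <;> rcases hfin j' with rfl | rfl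
        · exact h00
        · exfalso; apply hj; rw [Equiv.swap_apply_right]
        · exfalso; apply hj; rw [Equiv.swap_apply_left]
        · exact h11
      exact ⟨_, h1, inv_monomial a _ h1⟩
  · rcases hcol 1 with h01 | h11
    · have h1 : ∀ j j', j ≠ Equiv.refl (Fin 2) j' → (a : Matrix (Fin 2) (Fin 2) F) j j' = 0 := by
        intro j j' hj
        rw [Equiv.refl_apply] at hj
        rw [← hA]
        rcases hfin j with rfl | rfl <;> rcases hfin j' with rfl | rfl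
        · exact absurd rfl hj
        · exact h01
        · exact h10
        · exact absurd rfl hj
      exact ⟨_, h1, inv_monomial a _ h1⟩
    · exfalso; apply hdet; rw [h10, h11]; ring

end herm

section tensornd
variable {F : Type*} [Field F]

theorem kron_mulVec_pure {l m : Type} [Fintype l] [Fintype m] (A : Matrix l l F) (B : Matrix m m F)
    (x : l → F) (y : m → F) :
    (A ⊗ₖ B) *ᵥ (fun p : l × m => x p.1 * y p.2) = fun p => (A *ᵥ x) p.1 * (B *ᵥ y) p.2 := by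
  funext p
  obtain ⟨i, j⟩ := p
  simp only [Matrix.mulVec, dotProduct, Matrix.kroneckerMap_apply, Fintype.sum_prod_type]
  rw [Finset.sum_mul_sum]
  apply Finset.sum_congr rfl
  intro i' _
  apply Finset.sum_congr rfl
  intro j' _
  ring

theorem herm_nondeg_right (n q : ℕ) (v : Fin n → F) (hv : v ≠ 0) :
    ∃ x, hermForm n F q x v ≠ 0 := by
  obtain ⟨i, hi⟩ : ∃ i, v i ≠ 0 := by
    by_contra hcon; push Not at hcon; exact hv (funext hcon)
  refine ⟨Pi.single i 1, ?_⟩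
  unfold hermForm
  rw [Finset.sum_eq_single i]
  · rw [Pi.single_eq_same, one_mul]; exact pow_ne_zero _ hi
  · intro k _ hk; rw [Pi.single_eq_of_ne hk, zero_mul]
  · intro h; exact absurd (Finset.mem_univ _) h

theorem gram_nondeg_of_tensorStructure {ι κ : Type} [Fintype ι] [DecidableEq ι] [Fintype κ]
    [DecidableEq κ] (e : ι ≃ κ) (P : GL ι F) (f : (ι → F) → (ι → F) → F)
    (hf : ∀ v, v ≠ 0 → ∃ x, f x v ≠ 0) (σ : F → F) (GG : Matrix κ κ F) (c : F)
    (hT : ∀ x y, f (TT e P x) (TT e P y) = c * formOfGram σ GG x y) :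
    ∀ y : κ → F, y ≠ 0 → GG *ᵥ (σ ∘ y) ≠ 0 := by
  intro y hy h0
  have hTy : TT e P y ≠ 0 := by
    intro h
    apply hy
    apply TT_injective e P
    rw [h]
    unfold TT
    have : (0 : κ → F) ∘ e = 0 := rfl
    rw [this, Matrix.mulVec_zero]
  obtain ⟨x', hx'⟩ := hf _ hTy
  obtain ⟨x, rfl⟩ := TT_surj e P x'
  apply hx'
  rw [hT, formOfGram_eq, h0, dotProduct_zero, mul_zero]

theorem kron_nondeg_left {n₁ n₂ : ℕ} (σ : F →+* F) (G₁ : Matrix (Fin n₁) (Fin n₁) F)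
    (G₂ : Matrix (Fin n₂) (Fin n₂) F)
    (hN : ∀ y : Fin n₁ × Fin n₂ → F, y ≠ 0 → (G₁ ⊗ₖ G₂) *ᵥ (⇑σ ∘ y) ≠ 0) (j₀ : Fin n₂) :
    ∀ y₁ : Fin n₁ → F, y₁ ≠ 0 → G₁ *ᵥ (⇑σ ∘ y₁) ≠ 0 := by
  intro y₁ hy₁ h0
  obtain ⟨i, hi⟩ : ∃ i, y₁ i ≠ 0 := by
    by_contra hcon; push Not at hcon; exact hy₁ (funext hcon)
  apply hN (fun p => y₁ p.1 * (Pi.single j₀ 1 : Fin n₂ → F) p.2)
  · intro h
    have := congrFun h (i, j₀)
    simp at this
    exact hi this
  · have hcomp : ⇑σ ∘ (fun p : Fin n₁ × Fin n₂ => y₁ p.1 * (Pi.single j₀ 1 : Fin n₂ → F) p.2) =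
        fun p => (⇑σ ∘ y₁) p.1 * (⇑σ ∘ (Pi.single j₀ 1 : Fin n₂ → F)) p.2 := by
      funext p; simp
    rw [hcomp, kron_mulVec_pure, h0]
    funext p; simp

theorem kron_nondeg_right {n₁ n₂ : ℕ} (σ : F →+* F) (G₁ : Matrix (Fin n₁) (Fin n₁) F)
    (G₂ : Matrix (Fin n₂) (Fin n₂) F)
    (hN : ∀ y : Fin n₁ × Fin n₂ → F, y ≠ 0 → (G₁ ⊗ₖ G₂) *ᵥ (⇑σ ∘ y) ≠ 0) (i₀ : Fin n₁) :
    ∀ y₂ : Fin n₂ → F, y₂ ≠ 0 → G₂ *ᵥ (⇑σ ∘ y₂) ≠ 0 := by
  intro y₂ hy₂ h0
  obtain ⟨j, hj⟩ : ∃ j, y₂ j ≠ 0 := by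
    by_contra hcon; push Not at hcon; exact hy₂ (funext hcon)
  apply hN (fun p => (Pi.single i₀ 1 : Fin n₁ → F) p.1 * y₂ p.2)
  · intro h
    have := congrFun h (i₀, j)
    simp at this
    exact hj this
  · have hcomp : ⇑σ ∘ (fun p : Fin n₁ × Fin n₂ => (Pi.single i₀ 1 : Fin n₁ → F) p.1 * y₂ p.2) =
        fun p => (⇑σ ∘ (Pi.single i₀ 1 : Fin n₁ → F)) p.1 * (⇑σ ∘ y₂) p.2 := by
      funext p; simp
    rw [hcomp, kron_mulVec_pure, h0]
    funext p; simp

theorem psi_mem_specialLinear_iff {ι κ : Type} [Fintype ι] [DecidableEq ι] [Fintype κ]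
    [DecidableEq κ] (e : ι ≃ κ) (P : GL ι F) (M : GL κ F) :
    psi e P M ∈ specialLinear ι F ↔ (M : Matrix κ κ F).det = 1 := by
  have h3 : ((P⁻¹ : GL ι F) : Matrix ι ι F).det * (P : Matrix ι ι F).det = 1 := by
    rw [← Matrix.det_mul, ← Units.val_mul, inv_mul_cancel, Units.val_one, Matrix.det_one]
  have hdet : ((psi e P M : GL ι F) : Matrix ι ι F).det = (M : Matrix κ κ F).det := by
    rw [psi_val, Matrix.det_mul, Matrix.det_mul, Matrix.det_submatrix_equiv_self]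
    linear_combination (M : Matrix κ κ F).det * h3
  change psi e P M ∈ (Matrix.GeneralLinearGroup.det : GL ι F →* Fˣ).ker ↔ _
  rw [MonoidHom.mem_ker, Units.ext_iff, Matrix.GeneralLinearGroup.val_det_apply, hdet, Units.val_one]

end tensornd

section F4
variable {F : Type*} [Field F] [Fintype F]

theorem F4_two (hF : Fintype.card F = 4) : (2 : F) = 0 := by
  have h4 := FiniteField.cast_card_eq_zero F
  rw [hF] at h4
  have h4' : (4 : F) = 0 := by exact_mod_cast h4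
  have h22 : (2 : F) * 2 = 0 := by rw [← h4']; norm_num
  exact mul_self_eq_zero.mp h22

theorem F4_pow4 (hF : Fintype.card F = 4) (x : F) : x ^ 4 = x := by
  rw [← hF]; exact FiniteField.pow_card x

theorem F4_cube (hF : Fintype.card F = 4) (x : F) (hx : x ≠ 0) : x * x ^ 2 = 1 := by
  have h := F4_pow4 hF x
  have h1 : x * (x * x ^ 2 - 1) = 0 := by linear_combination h
  rcases mul_eq_zero.mp h1 with h0 | h0
  · exact absurd h0 hx
  · exact sub_eq_zero.mp h0

theorem sq_fix (t : F) (h : t ^ 2 = t) : t = 0 ∨ t = 1 := by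
  have h' : t * (t - 1) = 0 := by linear_combination h
  rcases mul_eq_zero.mp h' with h0 | h0
  · exact Or.inl h0
  · exact Or.inr (sub_eq_zero.mp h0)

theorem F4_exists_omega (hF : Fintype.card F = 4) : ∃ ω : F, ω ^ 2 ≠ ω := by
  classical
  by_contra hcon
  push Not at hcon
  have hsub : (Finset.univ : Finset F) ⊆ {0, 1} := by
    intro x _
    rcases sq_fix x (hcon x) with h0 | h0
    · simp [h0]
    · simp [h0]
  have h1 := Finset.card_le_card hsub
  rw [Finset.card_univ, hF] at h1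
  have h2 : ({0, 1} : Finset F).card ≤ 2 := Finset.card_le_two
  omega

/-- squaring as a ring endomorphism in characteristic two -/
def sqHom (h2 : (2 : F) = 0) : F →+* F where
  toFun x := x ^ 2
  map_one' := one_pow 2
  map_mul' a b := mul_pow a b 2
  map_zero' := by simp
  map_add' a b := by linear_combination (a * b) * h2

theorem sqHom_apply (h2 : (2 : F) = 0) (x : F) : sqHom h2 x = x ^ 2 := rfl

end F4

end Cfsg.Agent.Lib.Helper13.TNM
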