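import Mathlib
import Cfsg.Prelude.Def_GeometricClasses
import Cfsg.Agent.Lib.Helper8.S5630I4TENS3

/-!
S5663 block U4T, pieces U4T-SW, U4T-PW, U4T-WR (skeleton notes/S5663U4Skel_helper11): swapping the factors of a tensor
form structure, two equal factors as a tensor power with `t = 2`, and the tensor product subgroup with equal factors
inside the tensor wreath subgroup.  All for an arbitrary index type, an arbitrary map `σ` and an arbitrary form `f`.
-/

set_option autoImplicit false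

namespace Cfsg.Agent.Lib.Helper13.S5663U4TSW

open Matrix Cfsg Cfsg.Geo
open scoped MatrixGroups Kronecker

variable {F : Type*} [Field F] {ι : Type} [Fintype ι] [DecidableEq ι]

/-- U4T-SW -/
theorem isTensorFormStructure_swap (σ : F → F) (f : (ι → F) → (ι → F) → F) {d s : ℕ}
    (f₁ : (Fin d → F) → (Fin d → F) → F) (f₂ : (Fin s → F) → (Fin s → F) → F)
    (e : ι ≃ Fin d × Fin s) (P : GL ι F) (hT : IsTensorFormStructure σ f f₁ f₂ e P) :
    IsTensorFormStructure σ f f₂ f₁ (e.trans (Equiv.prodComm (Fin d) (Fin s))) P := by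
  obtain ⟨c, hc, h⟩ := hT
  refine ⟨c, hc, fun x y => ?_⟩
  have hx : ∀ z : Fin s × Fin d → F, z ∘ (e.trans (Equiv.prodComm (Fin d) (Fin s))) =
      (z ∘ Equiv.prodComm (Fin d) (Fin s)) ∘ e := fun z => rfl
  rw [hx, hx, h]
  congr 1
  unfold formOfGram
  apply Fintype.sum_equiv (Equiv.prodComm (Fin d) (Fin s))
  intro a
  apply Fintype.sum_equiv (Equiv.prodComm (Fin d) (Fin s))
  intro b
  simp only [Function.comp_apply, Equiv.prodComm_apply, Matrix.kroneckerMap_apply, Prod.fst_swap, Prod.snd_swap]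
  rw [mul_comm (gramMatrix f₁ a.1 b.1)]

/-- U4T-PW -/
theorem isTensorPowerFormStructure_two (σ : F → F) (f : (ι → F) → (ι → F) → F) {k : ℕ}
    (f₁ : (Fin k → F) → (Fin k → F) → F) (e : ι ≃ Fin k × Fin k) (P : GL ι F)
    (hT : IsTensorFormStructure σ f f₁ f₁ e P) :
    IsTensorPowerFormStructure σ f f₁ (e.trans (finTwoArrowEquiv (Fin k)).symm) P := by
  obtain ⟨c, hc, h⟩ := hT
  refine ⟨c, hc, fun x y => ?_⟩
  have hx : ∀ z : (Fin 2 → Fin k) → F, z ∘ (e.trans (finTwoArrowEquiv (Fin k)).symm) =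
      (z ∘ (finTwoArrowEquiv (Fin k)).symm) ∘ e := fun z => rfl
  rw [hx, hx, h]
  congr 1
  unfold formOfGram
  apply Fintype.sum_equiv (finTwoArrowEquiv (Fin k)).symm
  intro a
  apply Fintype.sum_equiv (finTwoArrowEquiv (Fin k)).symm
  intro b
  rw [Fin.prod_univ_two]
  simp [Matrix.kroneckerMap_apply, finTwoArrowEquiv]

/-- U4T-WR -/
theorem tensorProductSubgroup_le_tensorWreath' {k : ℕ} (e : ι ≃ Fin k × Fin k) (P : GL ι F) :
    tensorProductSubgroup k k e P ≤ tensorWreathSubgroup k 2 (e.trans (finTwoArrowEquiv (Fin k)).symm) P := by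
  unfold tensorProductSubgroup tensorWreathSubgroup
  apply Subgroup.map_mono
  rintro _ ⟨g, ⟨A, B, hg⟩, rfl⟩
  refine ⟨glReindex (F := F) (finTwoArrowEquiv (Fin k)).symm g, ?_, ?_⟩
  · apply Subgroup.subset_closure
    left
    refine ⟨![A, B], ?_⟩
    intro x y
    rw [Cfsg.Agent.Lib.Helper8.S5630I4TENS3.glReindex_val_apply, hg, Fin.prod_univ_two]
    simp [Matrix.kroneckerMap_apply, finTwoArrowEquiv]
  · exact Cfsg.Agent.Lib.Helper8.S5630I4TENS3.glReindex_trans_apply e (finTwoArrowEquiv (Fin k)).symm g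

end Cfsg.Agent.Lib.Helper13.S5663U4TSW
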