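import Cfsg.Agent.Lib.Helper16.StCCB.Defs

set_option autoImplicit false

/-! Steinberg's Theorem 10, PART B, piece [BM] (`exists_perp`): the generic certificate checker.

For a datum `D` a table `tab` lists for every root `s` the vector `(aco D (D.simple i) s)_i`, and a
certificate `cert` lists for every root `r` a few integer vectors `m` (coroot coordinates of roots
orthogonal to `r`) with `wt D m r = 0` such that every root `s ≠ ±r` has `wt D m s ∈ {±1, ±2, ±3}` for
one of them. -/

namespace Cfsg.Agent.Lib.Helper14.StCC.B.Helper13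

open Cfsg.Lie Cfsg.Agent.Lib.Helper8.Chev

/-- the scalar product of two integer lists (truncated at the shorter one), through recursors -/
noncomputable def dotF (l : List ℤ) : List ℤ → ℤ :=
  @List.rec ℤ (fun _ => List ℤ → ℤ) (fun _ => 0)
    (fun a _ ih row => @List.rec ℤ (fun _ => ℤ) 0 (fun b bs _ => a * b + ih bs) row) l

@[simp] theorem dotF_nil (row : List ℤ) : dotF [] row = 0 := rfl
@[simp] theorem dotF_cons_nil (a : ℤ) (l : List ℤ) : dotF (a :: l) [] = 0 := rfl
@[simp] theorem dotF_cons_cons (a b : ℤ) (l row : List ℤ) :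
    dotF (a :: l) (b :: row) = a * b + dotF l row := rfl

theorem dotF_eq (n : ℕ) (l row : List ℤ) (h : row.length ≤ n) :
    ∑ i ∈ Finset.range n, l.getD i 0 * row.getD i 0 = dotF l row := by
  induction row generalizing l n with
  | nil =>
    cases l <;> simp
  | cons b bs ih =>
    cases n with
    | zero => simp at h
    | succ k =>
      cases l with
      | nil => simp
      | cons a as =>
        rw [Finset.sum_range_succ', dotF_cons_cons]
        have h' : bs.length ≤ k := by simpa using h
        have := ih k as h'
        simp only [List.getD_cons_succ, List.getD_cons_zero]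
        rw [this]; ring

theorem getElem?_getD_of_lt {α : Type} (l : List α) (i : ℕ) (d : α) (h : i < l.length) :
    l[i]? = some (l.getD i d) := by
  rw [List.getD_eq_getElem?_getD, List.getElem?_eq_getElem h]
  rfl

/-- the table of the vectors `(aco D (D.simple i) s)_i` is correct -/
noncomputable def checkTab (D : ChevalleyDatum) (tab : List (List ℤ)) : Bool :=
  Nat.beq tab.length D.nroots &&
  allIdxF (fun s row => Nat.beq row.length D.rank &&
    allIdxF (fun i a => decide (a = aco D (D.simple i) s)) row 0) tab 0

/-- `w ∈ {±1, ±2, ±3}` -/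
noncomputable def okVal (w : ℤ) : Bool :=
  withNat (Int.natAbs w) fun k => Nat.ble 1 k && Nat.ble k 3

theorem okVal_spec {w : ℤ} (h : okVal w = true) : w ≠ 0 ∧ -3 ≤ w ∧ w ≤ 3 := by
  unfold okVal at h
  rw [withNat_eq, Bool.and_eq_true, Nat.ble_eq, Nat.ble_eq] at h
  omega

/-- `List.any` through the recursor -/
noncomputable def anyF {α : Type} (p : α → Bool) (l : List α) : Bool :=
  @List.rec α (fun _ => Bool) false (fun a _ ih => or (p a) ih) l

theorem anyF_eq_true {α : Type} {p : α → Bool} {l : List α} :
    anyF p l = true ↔ ∃ a ∈ l, p a = true := by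
  induction l with
  | nil => simp [anyF]
  | cons a l ih =>
    show (p a || anyF p l) = true ↔ _
    rw [Bool.or_eq_true, ih]
    simp

/-- the certificate check: pure list data, no datum involved -/
noncomputable def checkCert (n : ℕ) (tab : List (List ℤ)) (cert : List (List (List ℤ))) : Bool :=
  Nat.beq cert.length n &&
  allIdxF (fun r ms =>
    allF (fun m => decide (dotF m (tab.getD r []) = 0)) ms &&
    allIdxF (fun s row => Nat.beq s r || Nat.beq (s + r + 1) n ||
      anyF (fun m => okVal (dotF m row)) ms) tab 0) cert 0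

variable {D : ChevalleyDatum}

theorem tab_spec {tab : List (List ℤ)} (h : checkTab D tab = true) {s : ℕ} (hs : s < D.nroots)
    (l : List ℤ) : wt D (fun i => l.getD i 0) s = dotF l (tab.getD s []) := by
  unfold checkTab at h
  rw [Bool.and_eq_true, Nat.beq_eq, allIdxF_eq_true] at h
  obtain ⟨hlen, hrows⟩ := h
  have hs' : s < tab.length := by omega
  have hget : tab[s]? = some (tab.getD s []) := getElem?_getD_of_lt tab s [] hs'
  have hrow := hrows s _ hget
  rw [Bool.and_eq_true, Nat.beq_eq, allIdxF_eq_true, zero_add] at hrow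
  obtain ⟨hrl, hent⟩ := hrow
  rw [← dotF_eq D.rank l _ (le_of_eq hrl)]
  unfold wt
  apply Finset.sum_congr rfl
  intro i hi
  rw [Finset.mem_range] at hi
  have hi' : i < (tab.getD s []).length := by omega
  have hg : (tab.getD s [])[i]? = some ((tab.getD s []).getD i 0) :=
    getElem?_getD_of_lt _ i 0 hi'
  have := hent i _ hg
  rw [zero_add, decide_eq_true_eq] at this
  rw [this]

theorem exists_perp_of_check (V : Valid0 D) {tab : List (List ℤ)} {cert : List (List (List ℤ))}
    (htab : checkTab D tab = true) (hcert : checkCert D.nroots tab cert = true)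
    {r s : ℕ} (hr : r < D.nroots) (hs : s < D.nroots) (h1 : s ≠ r) (h2 : s ≠ D.neg r) :
    ∃ m : ℕ → ℤ, wt D m r = 0 ∧ wt D m s ≠ 0 ∧ -3 ≤ wt D m s ∧ wt D m s ≤ 3 := by
  have hlen : tab.length = D.nroots := by
    unfold checkTab at htab
    rw [Bool.and_eq_true, Nat.beq_eq] at htab
    exact htab.1
  unfold checkCert at hcert
  rw [Bool.and_eq_true, Nat.beq_eq, allIdxF_eq_true] at hcert
  obtain ⟨hcl, hall⟩ := hcert
  have hr' : r < cert.length := by omega
  have hget : cert[r]? = some (cert.getD r []) := getElem?_getD_of_lt cert r [] hr'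
  have hrr := hall r _ hget
  rw [zero_add, Bool.and_eq_true, allF_eq_true, allIdxF_eq_true] at hrr
  obtain ⟨hzero, hss⟩ := hrr
  have hs' : s < tab.length := by omega
  have hgs : tab[s]? = some (tab.getD s []) := getElem?_getD_of_lt tab s [] hs'
  have hsr := hss s _ hgs
  rw [zero_add, Bool.or_eq_true, Bool.or_eq_true, Nat.beq_eq, Nat.beq_eq, anyF_eq_true] at hsr
  rcases hsr with (hsr | hsr) | hsr
  · exact absurd hsr h1
  · exfalso
    apply h2
    rw [V.neg_eq r hr]
    omega
  · obtain ⟨m, hm, hok⟩ := hsr
    refine ⟨fun i => m.getD i 0, ?_, ?_⟩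
    · rw [tab_spec htab hr]
      have := hzero m hm
      rwa [decide_eq_true_eq] at this
    · rw [tab_spec htab hs]
      exact okVal_spec hok

end Cfsg.Agent.Lib.Helper14.StCC.B.Helper13
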