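import Mathlib
import Cfsg.Agent.Lib.Helper28.OTDefs
import Cfsg.Agent.Lib.Helper8.OTRel
import Cfsg.Agent.Lib.Helper3.OTT4

/-!
# `O_a ⊗ O_b` in `Ω_{ab}` (S5681 / S5709), EXIT `T3`: from the matrix vocabulary to `AllLong`  (helper13)

`ρ_{u⊗k, u'⊗k'} = 1 + E_{u,u'} ⊗ E_{k,k'} - E_{u',u} ⊗ E_{k',k} = g(E_{u,u'}; k, k')` (helper8's `gTO`), for `⟨k,k'⟩` totally
singular.  Hence: if `M` contains all `g(C; k, k')` then helper3's `AllLong J2 Q M` holds.
-/

set_option autoImplicit false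

namespace Cfsg.Agent.Lib.Helper13.OTAllLong

open Matrix Module QuadraticMap
open scoped Kronecker
open Cfsg.Agent.Lib.Helper16.Tens
open Cfsg.Agent.Lib.Helper3.SpT (bf E adj uni E_mulVec mat_ext_mulVec bf_smul_left bf_smul_right bf_kron_pur
  bf_kron_pur_right pur_induction bf_mulVec_left bf_mulVec_right eq_of_dot_mulVec E_smul_right)
open Cfsg.Agent.Lib.Helper13.TensSO (OrthG IsoG)
open Cfsg.Agent.Lib.Helper28.OT (SetupO)
open Cfsg.Agent.Lib.Helper8.OTRel (TO gTO gK gTO_val gK_val)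
open Cfsg.Agent.Lib.Helper6 Cfsg.Agent.Lib.Helper13 Cfsg.Agent.Lib.Helper13.OND

variable {F : Type*} [Field F]

section adjoint
variable {κ : Type} [Fintype κ] [DecidableEq κ] {J : Matrix κ κ F}

theorem orth_isUnit_det (hJ : OrthG J) : IsUnit J.det := by
  rw [← Matrix.isUnit_iff_isUnit_det, ← Matrix.mulVec_injective_iff_isUnit]
  intro x y hxy
  have h : ∀ z, bf J (x - y) z = 0 := by
    intro z
    rw [hJ.symm]
    unfold bf
    rw [Matrix.mulVec_sub, hxy, sub_self, dotProduct_zero]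
  exact sub_eq_zero.mp (hJ.nondeg _ h)

/-- `f(Cx, y) = f(x, C^* y)` for a symmetric form -/
theorem bf_adj_orth (hJ : OrthG J) (C : Matrix κ κ F) (x y : κ → F) :
    bf J (C *ᵥ x) y = bf J x (adj J C *ᵥ y) := by
  rw [bf_mulVec_left, bf_mulVec_right, adj, ← mul_assoc, ← mul_assoc, Matrix.mul_nonsing_inv _ (orth_isUnit_det hJ),
    one_mul]

/-- the adjoint is characterised by `f(Cx, y) = f(x, D y)` -/
theorem adj_unique_orth (hJ : OrthG J) (C D : Matrix κ κ F)
    (h : ∀ x y, bf J (C *ᵥ x) y = bf J x (D *ᵥ y)) : adj J C = D := by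
  have h1 : J * adj J C = J * D := by
    apply eq_of_dot_mulVec
    intro x y
    rw [← bf_mulVec_right, ← bf_mulVec_right, ← bf_adj_orth hJ, h]
  have h2 := congrArg (fun X => J⁻¹ * X) h1
  simp only [← mul_assoc, Matrix.nonsing_inv_mul _ (orth_isUnit_det hJ), one_mul] at h2
  exact h2

/-- `E_{u,u'}^* = E_{u',u}` for a symmetric form -/
theorem adj_E_orth (hJ : OrthG J) (u u' : κ → F) : adj J (E J u u') = E J u' u := by
  apply adj_unique_orth hJ
  intro x y
  rw [E_mulVec, E_mulVec, bf_smul_left, bf_smul_right, hJ.symm u y]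
  ring

theorem adj_one_orth (hJ : OrthG J) : adj J (1 : Matrix κ κ F) = 1 := by
  apply adj_unique_orth hJ
  intro x y
  rw [Matrix.one_mulVec, Matrix.one_mulVec]

/-- `(u ∧ u')^* = -(u ∧ u')` -/
theorem adj_wedge_orth (hJ : OrthG J) (u u' : κ → F) :
    adj J (E J u u' - E J u' u) = -(E J u u' - E J u' u) := by
  have e : adj J (E J u u' - E J u' u) = adj J (E J u u') - adj J (E J u' u) := by
    unfold adj
    rw [Matrix.transpose_sub, mul_sub, sub_mul]
  rw [e, adj_E_orth hJ, adj_E_orth hJ]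
  abel

end adjoint

variable {a b : ℕ} {J1 : Matrix (Fin a) (Fin a) F} {J2 : Matrix (Fin b) (Fin b) F}
variable {Q : QuadraticForm F (Fin a × Fin b → F)}

theorem polar_pur (hS : SetupO J1 J2 Q) (u u' : Fin a → F) (w w' : Fin b → F) :
    polar (⇑Q) (pur u w) (pur u' w') = bf J1 u u' * bf J2 w w' := by
  rw [hS.polar, bf_kron_pur]

theorem Q_pur_sing (hS : SetupO J1 J2 Q) (u : Fin a → F) {k : Fin b → F} (hk : bf J2 k k = 0) :
    Q (pur u k) = 0 := by
  have h : 2 * Q (pur u k) = bf J1 u u * bf J2 k k := by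
    rw [← polar_pur hS, polar_self, two_mul, two_smul]
  rw [hk, mul_zero] at h
  exact (mul_eq_zero.mp h).resolve_left hS.two

/-- `(A ⊗ E_{k,k'}) y = B(y, ? ⊗ k') …` on pure tensors: `(E_{u,u'} ⊗ E_{k,k'}) y = B(y, u' ⊗ k') (u ⊗ k)` -/
theorem EE_mulVec (hS : SetupO J1 J2 Q) (u u' : Fin a → F) (k k' : Fin b → F) (y : Fin a × Fin b → F) :
    (E J1 u u' ⊗ₖ E J2 k k') *ᵥ y = polar (⇑Q) y (pur u' k') • pur u k := by
  refine pur_induction (p := fun y => (E J1 u u' ⊗ₖ E J2 k k') *ᵥ y = polar (⇑Q) y (pur u' k') • pur u k) ?_ ?_ ?_ y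
  · rw [Matrix.mulVec_zero, polar_zero_left, zero_smul]
  · intro x y hx hy
    rw [Matrix.mulVec_add, hx, hy, polar_add_left, add_smul]
  · intro x w
    rw [kron_mulVec_pur, E_mulVec, E_mulVec, polar_pur hS, pur_smul_left, pur_smul_right, smul_smul, mul_comm]

/-- **the matrix of `ρ_{u⊗k, u'⊗k'}`** is `1 + E_{u,u'} ⊗ E_{k,k'} - E_{u',u} ⊗ E_{k',k}` -/
theorem siegIso_pur_val (hS : SetupO J1 J2 Q) (u u' : Fin a → F) (k k' : Fin b → F)
    (hk'k' : bf J2 k' k' = 0) (hx : Q (pur u k) = 0) (hxv : polar (⇑Q) (pur u k) (pur u' k') = 0) :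
    (((siegIso Q (pur u k) (pur u' k') hx hxv : ↥(Cfsg.isometryGroup F ⇑Q)) : GL (Fin a × Fin b) F) :
      Matrix (Fin a × Fin b) (Fin a × Fin b) F) = 1 + TO J1 J2 (E J1 u u') k k' := by
  apply mat_ext_mulVec
  intro y
  have h1 := gact_siegIso Q (pur u k) (pur u' k') hx hxv y
  rw [gact_def] at h1
  rw [h1, Q_pur_sing hS u' hk'k', zero_mul, sub_zero, Matrix.add_mulVec, Matrix.one_mulVec]
  unfold TO
  rw [Matrix.sub_mulVec, adj_E_orth hS.h1, EE_mulVec hS, EE_mulVec hS, polar_comm (⇑Q) (pur u' k') y,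
    polar_comm (⇑Q) (pur u k) y, neg_smul]
  abel

/-- **bridge**: a subgroup containing all `g(E_{u,u'}; k, k')` (`⟨k,k'⟩` totally singular) satisfies `AllLong` -/
theorem allLong_of_gTO_E (hS : SetupO J1 J2 Q) (M : Subgroup (GL (Fin a × Fin b) F))
    (h : ∀ (u u' : Fin a → F) (k k' : Fin b → F) (hkk : bf J2 k k = 0) (hkk' : bf J2 k k' = 0)
      (hk'k' : bf J2 k' k' = 0), gTO J1 J2 hS.h2 (E J1 u u') k k' hkk hkk' hk'k' ∈ M) :
    Cfsg.Agent.Lib.Helper3.OTT.AllLong J2 Q M := by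
  intro u u' k k' hkk hkk' hk'k'
  have hx : Q (pur u k) = 0 := Q_pur_sing hS u hkk
  have hxv : polar (⇑Q) (pur u k) (pur u' k') = 0 := by rw [polar_pur hS, hkk', mul_zero]
  refine ⟨hx, hxv, fun t hx' hxv' => ?_⟩
  have e : t • pur u' k' = pur (t • u') k' := (pur_smul_left t u' k').symm
  have hxv'' : polar (⇑Q) (pur u k) (pur (t • u') k') = 0 := by rw [polar_pur hS, hkk', mul_zero]
  have hm : ((siegIso Q (pur u k) (pur (t • u') k') hx' hxv'' : ↥(Cfsg.isometryGroup F ⇑Q)) :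
      GL (Fin a × Fin b) F) ∈ M := by
    have hv := siegIso_pur_val hS u (t • u') k k' hk'k' hx' hxv''
    have hg := h u (t • u') k k' hkk hkk' hk'k'
    have : ((siegIso Q (pur u k) (pur (t • u') k') hx' hxv'' : ↥(Cfsg.isometryGroup F ⇑Q)) :
        GL (Fin a × Fin b) F) = gTO J1 J2 hS.h2 (E J1 u (t • u')) k k' hkk hkk' hk'k' := by
      apply Units.ext
      rw [hv, gTO_val]
    rw [this]
    exact hg
  exact sieg_mem_congr rfl e.symm hm

/-- **bridge**, general coefficient matrices -/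
theorem allLong_of_gTO (hS : SetupO J1 J2 Q) (M : Subgroup (GL (Fin a × Fin b) F))
    (h : ∀ (C : Matrix (Fin a) (Fin a) F) (k k' : Fin b → F) (hkk : bf J2 k k = 0) (hkk' : bf J2 k k' = 0)
      (hk'k' : bf J2 k' k' = 0), gTO J1 J2 hS.h2 C k k' hkk hkk' hk'k' ∈ M) :
    Cfsg.Agent.Lib.Helper3.OTT.AllLong J2 Q M :=
  allLong_of_gTO_E hS M (fun u u' k k' hkk hkk' hk'k' => h (E J1 u u') k k' hkk hkk' hk'k')

/-- `g(C; k, s k) = 1 + s (C - C^*) ⊗ E_{k,k}` -/
theorem TO_smul_right_self (C : Matrix (Fin a) (Fin a) F) (k : Fin b → F) (s : F) :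
    TO J1 J2 C k (s • k) = (s • (C - adj J1 C)) ⊗ₖ E J2 k k := by
  unfold TO
  rw [E_smul_right, Cfsg.Agent.Lib.Helper3.SpT.E_smul_left, Matrix.kronecker_smul, Matrix.kronecker_smul,
    Matrix.smul_kronecker, Cfsg.Agent.Lib.Helper8.OTRel.sub_kron, smul_sub]

theorem TO_zero_left (C : Matrix (Fin a) (Fin a) F) (k' : Fin b → F) :
    TO J1 J2 C 0 k' = 0 := by
  have e : (0 : Fin b → F) = (0 : F) • (0 : Fin b → F) := (zero_smul F _).symm
  unfold TO
  rw [e, E_smul_right, Cfsg.Agent.Lib.Helper3.SpT.E_smul_left]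
  simp

/-- **bridge**, split form: `calK = Skew(U)` and `calC = End(U)` (for every totally singular line) give `AllLong` -/
theorem allLong_of_K_C (hS : SetupO J1 J2 Q) (M : Subgroup (GL (Fin a × Fin b) F))
    (hK : ∀ (K : Matrix (Fin a) (Fin a) F) (k : Fin b → F) (hkk : bf J2 k k = 0), adj J1 K = -K → gK J2 K k hkk ∈ M)
    (hC : ∀ (C : Matrix (Fin a) (Fin a) F) (k k' : Fin b → F) (hkk : bf J2 k k = 0) (hkk' : bf J2 k k' = 0)
      (hk'k' : bf J2 k' k' = 0), (∀ c1 c2 : F, c1 • k + c2 • k' = 0 → c1 = 0 ∧ c2 = 0) →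
      gTO J1 J2 hS.h2 C k k' hkk hkk' hk'k' ∈ M) :
    Cfsg.Agent.Lib.Helper3.OTT.AllLong J2 Q M := by
  apply allLong_of_gTO_E hS M
  intro u u' k k' hkk hkk' hk'k'
  by_cases hind : ∀ c1 c2 : F, c1 • k + c2 • k' = 0 → c1 = 0 ∧ c2 = 0
  · exact hC _ k k' hkk hkk' hk'k' hind
  · push Not at hind
    obtain ⟨c1, c2, hc, hne⟩ := hind
    by_cases hk0 : k = 0
    · have : gTO J1 J2 hS.h2 (E J1 u u') k k' hkk hkk' hk'k' = 1 := by
        apply Units.ext
        rw [gTO_val, Units.val_one]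
        subst hk0
        rw [TO_zero_left, add_zero]
      rw [this]
      exact M.one_mem
    · have hc2 : c2 ≠ 0 := by
        intro h0
        rw [h0, zero_smul, add_zero] at hc
        rcases smul_eq_zero.mp hc with h | h
        · exact hne h h0
        · exact hk0 h
      have hk' : k' = (-(c1 / c2)) • k := by
        have h1 : c2 • k' = -(c1 • k) := eq_neg_of_add_eq_zero_right hc
        have h2 : k' = c2⁻¹ • (c2 • k') := by rw [smul_smul, inv_mul_cancel₀ hc2, one_smul]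
        rw [h2, h1, smul_neg, smul_smul, neg_smul]
        congr 2
        field_simp
      have hskew : adj J1 ((-(c1 / c2)) • (E J1 u u' - adj J1 (E J1 u u'))) =
          -((-(c1 / c2)) • (E J1 u u' - adj J1 (E J1 u u'))) := by
        rw [adj_E_orth hS.h1, Cfsg.Agent.Lib.Helper8.OTRel.adj_smul', adj_wedge_orth hS.h1, smul_neg]
      have : gTO J1 J2 hS.h2 (E J1 u u') k k' hkk hkk' hk'k' =
          gK J2 ((-(c1 / c2)) • (E J1 u u' - adj J1 (E J1 u u'))) k hkk := by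
        apply Units.ext
        rw [gTO_val, gK_val]
        subst hk'
        rw [TO_smul_right_self]
      rw [this]
      exact hK _ k hkk hskew

end Cfsg.Agent.Lib.Helper13.OTAllLong
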