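import Mathlib
import Cfsg.Agent.Lib.Helper13.OTAllLong
import Cfsg.Agent.Lib.Helper18.OTTrans
import Cfsg.Agent.Lib.Helper10.QGeo

/-!
# `O_a ⊗ O_b` in `Ω_{ab}` (S5681 / S5709), EXIT `T3`: independence of the totally singular line  (helper13)

If, for ONE totally singular line `π = ⟨k₁,k₂⟩` of `W`, the subgroup `M ≥ N0 ⊓ Ω` contains all `1 + K ⊗ E_{k₁,k₁}`,
`1 + K ⊗ E_{k₂,k₂}` (`K` skew-adjoint) and all `g(C; k₁, k₂)`, then it contains `Z_L` (`L = U ⊗ π`), all its conjugates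
under `1 ⊗ Ω(W)`, and so `AllLong J2 Q M` holds.
-/

set_option autoImplicit false

namespace Cfsg.Agent.Lib.Helper13.OTAllLongB

open Matrix Module QuadraticMap
open scoped Kronecker
open Cfsg.Agent.Lib.Helper16.Tens
open Cfsg.Agent.Lib.Helper3.SpT (bf E adj uni Over E_mulVec mat_ext_mulVec bf_smul_left bf_smul_right bf_add_left
  bf_add_right E_smul_right E_smul_left E_add_left E_add_right)
open Cfsg.Agent.Lib.Helper13.TensSO (OrthG IsoG)
open Cfsg.Agent.Lib.Helper28.OT (SetupO Ts2)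
open Cfsg.Agent.Lib.Helper8.OTRel
open Cfsg.Agent.Lib.Helper13.OTAllLong
open Cfsg.Agent.Lib.Helper1.S5666BGEO (QF QF_apply)
open Cfsg.Agent.Lib.Helper23.S5637T3b (kronGL kronGL_val kronGL_mem_kron)
open Cfsg.Agent.Lib.Helper13 (isoGroup glEquiv glEquiv_symm_mulVec)

variable {F : Type*} [Field F]

section adjoint
variable {κ : Type} [Fintype κ] [DecidableEq κ] {J : Matrix κ κ F}

theorem adj_adj_orth (hJ : OrthG J) (C : Matrix κ κ F) : adj J (adj J C) = C := by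
  apply adj_unique_orth hJ
  intro x y
  rw [hJ.symm, ← bf_adj_orth hJ, hJ.symm]

end adjoint

variable {a b : ℕ} {J1 : Matrix (Fin a) (Fin a) F} {J2 : Matrix (Fin b) (Fin b) F}
variable {Q : QuadraticForm F (Fin a × Fin b → F)} {M : Subgroup (GL (Fin a × Fin b) F)}

/-- change of basis in `π`: `C ⊗ E_{p,r} - C^* ⊗ E_{r,p}` for `p = α k₁ + γ k₂`, `r = δ k₁ + ε k₂` -/
theorem TO_comb (hJ1 : OrthG J1) (C : Matrix (Fin a) (Fin a) F) (k1 k2 : Fin b → F) (α γ δ ε : F) :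
    TO J1 J2 C (α • k1 + γ • k2) (δ • k1 + ε • k2) =
      zL J1 J2 ((α * δ) • (C - adj J1 C)) ((α * ε) • C - (γ * δ) • adj J1 C) ((γ * ε) • (C - adj J1 C)) k1 k2 := by
  unfold zL TO
  rw [adj_sub', adj_smul', adj_smul', adj_adj_orth hJ1]
  simp only [E_add_left, E_add_right, E_smul_left, E_smul_right, Matrix.kronecker_add,
    Matrix.kronecker_smul, Matrix.smul_kronecker, smul_smul, sub_kron, smul_add, smul_sub]
  module

/-- change of basis in `π`: `K ⊗ E_{p,p}` for `p = α k₁ + γ k₂`, `K` skew-adjoint -/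
theorem KE_comb (K : Matrix (Fin a) (Fin a) F) (hK : adj J1 K = -K) (k1 k2 : Fin b → F) (α γ : F) :
    K ⊗ₖ E J2 (α • k1 + γ • k2) (α • k1 + γ • k2) =
      zL J1 J2 ((α * α) • K) ((α * γ) • K) ((γ * γ) • K) k1 k2 := by
  unfold zL TO
  rw [adj_smul', hK]
  simp only [E_add_left, E_add_right, E_smul_left, E_smul_right, Matrix.kronecker_add,
    Matrix.kronecker_smul, Matrix.smul_kronecker, smul_smul, neg_kron, smul_neg, smul_add]
  module

theorem adj_skew_sub (hJ1 : OrthG J1) (C : Matrix (Fin a) (Fin a) F) : adj J1 (C - adj J1 C) = -(C - adj J1 C) := by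
  rw [adj_sub', adj_adj_orth hJ1]
  abel

/-- `Z_L ≤ M` -/
theorem gZ_mem (hS : SetupO J1 J2 Q) {k1 k2 : Fin b → F} (h : Ts2 J2 k1 k2)
    (hK1 : ∀ K : Matrix (Fin a) (Fin a) F, adj J1 K = -K → gK J2 K k1 h.h11 ∈ M)
    (hK2 : ∀ K : Matrix (Fin a) (Fin a) F, adj J1 K = -K → gK J2 K k2 h.h22 ∈ M)
    (hC : ∀ C : Matrix (Fin a) (Fin a) F, gTO J1 J2 hS.h2 C k1 k2 h.h11 h.h12 h.h22 ∈ M)
    (K1 C K2 : Matrix (Fin a) (Fin a) F) (hsk1 : adj J1 K1 = -K1) (hsk2 : adj J1 K2 = -K2) :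
    gZ J1 J2 hS.h2 K1 C K2 k1 k2 h.h11 h.h12 h.h22 ∈ M := by
  have hadj0 : adj J1 (0 : Matrix (Fin a) (Fin a) F) = 0 := by
    unfold adj
    simp
  have e1 : gK J2 K1 k1 h.h11 = gZ J1 J2 hS.h2 K1 0 0 k1 k2 h.h11 h.h12 h.h22 := by
    apply Units.ext
    rw [gK_val, gZ_val]
    unfold zL TO
    rw [hadj0]
    simp
  have e2 : gK J2 K2 k2 h.h22 = gZ J1 J2 hS.h2 0 0 K2 k1 k2 h.h11 h.h12 h.h22 := by
    apply Units.ext
    rw [gK_val, gZ_val]
    unfold zL TO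
    rw [hadj0]
    simp
  have e3 : gTO J1 J2 hS.h2 C k1 k2 h.h11 h.h12 h.h22 = gZ J1 J2 hS.h2 0 C 0 k1 k2 h.h11 h.h12 h.h22 := by
    apply Units.ext
    rw [gTO_val, gZ_val]
    unfold zL
    simp
  have hm := M.mul_mem (M.mul_mem (hK1 K1 hsk1) (hC C)) (hK2 K2 hsk2)
  rw [e1, e2, e3, gZ_mul, gZ_mul] at hm
  simpa using hm

/-- transitivity of `1 ⊗ Ω(W)` on the totally singular lines, at the level of `W` -/
theorem exists_B [Fintype F] (hS : SetupO J1 J2 Q) (hb : 5 ≤ b) {k1 k2 k k' : Fin b → F}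
    (h : Ts2 J2 k1 k2) (h' : Ts2 J2 k k') :
    ∃ B : GL (Fin b) F, B ∈ IsoG J2 ∧ kronGL (1 : GL (Fin a) F) B ∈ Cfsg.Geo.kroneckerSubgroup a b F ∧
      kronGL (1 : GL (Fin a) F) B ∈ Cfsg.Geo.omegaGL (⇑Q) ∧
      ∀ w ∈ Submodule.span F ({k, k'} : Set (Fin b → F)),
        ∃ p ∈ Submodule.span F ({k1, k2} : Set (Fin b → F)), (B : Matrix (Fin b) (Fin b) F) *ᵥ p = w := by
  have hQW := Cfsg.Agent.Lib.Helper18.OTTrans.QF_nondeg hS.h2 hS.two
  have hgen := Cfsg.Agent.Lib.Helper13.reflGenA_eq_top_fin (QF J2) hQW (Or.inr (by omega))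
  obtain ⟨g, hg, hmap⟩ := Cfsg.Agent.Lib.Helper13.exists_commutator_map_ts (QF J2) hQW hgen
    (Submodule.span F ({k1, k2} : Set (Fin b → F))) (Submodule.span F ({k, k'} : Set (Fin b → F))) 2
    (by rw [Module.finrank_fintype_fun_eq_card, Fintype.card_fin]; omega)
    (Cfsg.Agent.Lib.Helper18.OTTrans.ts_finrank h) (Cfsg.Agent.Lib.Helper18.OTTrans.ts_finrank h')
    (Cfsg.Agent.Lib.Helper18.OTTrans.ts_QF_zero hS.h2 h) (Cfsg.Agent.Lib.Helper18.OTTrans.ts_QF_zero hS.h2 h')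
  refine ⟨glEquiv.symm g.1, ?_, kronGL_mem_kron _ _, Cfsg.Agent.Lib.Helper18.OTTrans.Phi_mem_omega hS g hg, ?_⟩
  · intro x y
    rw [glEquiv_symm_mulVec, glEquiv_symm_mulVec]
    exact Cfsg.Agent.Lib.Helper18.OTTrans.bf_isoGroup hS.h2 hS.two g x y
  · intro w hw
    rw [← hmap] at hw
    obtain ⟨p, hp, rfl⟩ := hw
    exact ⟨p, hp, by rw [glEquiv_symm_mulVec]; rfl⟩

theorem bf_B {B : GL (Fin b) F} (hB : B ∈ IsoG J2) (x y : Fin b → F) :
    bf J2 ((B : Matrix (Fin b) (Fin b) F) *ᵥ x) ((B : Matrix (Fin b) (Fin b) F) *ᵥ y) = bf J2 x y := hB x y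

/-- the conjugates of `Z_L` under `1 ⊗ Ω(W)`: `1 + z(K₁,C,K₂; B k₁, B k₂) ∈ M` -/
theorem gZ_conj_mem [Fintype F] (hS : SetupO J1 J2 Q) (hM : Over Q M) {k1 k2 : Fin b → F} (h : Ts2 J2 k1 k2)
    (hZ : ∀ K1 C K2 : Matrix (Fin a) (Fin a) F, adj J1 K1 = -K1 → adj J1 K2 = -K2 →
      gZ J1 J2 hS.h2 K1 C K2 k1 k2 h.h11 h.h12 h.h22 ∈ M)
    (B : GL (Fin b) F) (hB : B ∈ IsoG J2) (hBk : kronGL (1 : GL (Fin a) F) B ∈ Cfsg.Geo.kroneckerSubgroup a b F)
    (hBo : kronGL (1 : GL (Fin a) F) B ∈ Cfsg.Geo.omegaGL (⇑Q))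
    (K1 C K2 : Matrix (Fin a) (Fin a) F) (hsk1 : adj J1 K1 = -K1) (hsk2 : adj J1 K2 = -K2)
    (g : GL (Fin a × Fin b) F)
    (hg : (g : Matrix (Fin a × Fin b) (Fin a × Fin b) F) =
      1 + zL J1 J2 K1 C K2 ((B : Matrix (Fin b) (Fin b) F) *ᵥ k1) ((B : Matrix (Fin b) (Fin b) F) *ᵥ k2)) :
    g ∈ M := by
  have hn : kronGL (1 : GL (Fin a) F) B ∈ M := hM.kron_mem _ hBk hBo
  have h11' : bf J2 ((B : Matrix (Fin b) (Fin b) F) *ᵥ k1) ((B : Matrix (Fin b) (Fin b) F) *ᵥ k1) = 0 := by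
    rw [bf_B hB, h.h11]
  have h12' : bf J2 ((B : Matrix (Fin b) (Fin b) F) *ᵥ k1) ((B : Matrix (Fin b) (Fin b) F) *ᵥ k2) = 0 := by
    rw [bf_B hB, h.h12]
  have h22' : bf J2 ((B : Matrix (Fin b) (Fin b) F) *ᵥ k2) ((B : Matrix (Fin b) (Fin b) F) *ᵥ k2) = 0 := by
    rw [bf_B hB, h.h22]
  have hval : ((kronGL (1 : GL (Fin a) F) B : GL (Fin a × Fin b) F) : Matrix (Fin a × Fin b) (Fin a × Fin b) F) =
      (1 : Matrix (Fin a) (Fin a) F) ⊗ₖ (B : Matrix (Fin b) (Fin b) F) := by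
    rw [kronGL_val, Units.val_one]
  have hr := R1_GL J1 J2 hS.h2 K1 C K2 B hB (kronGL (1 : GL (Fin a) F) B) hval k1 k2 _ _ h.h11 h.h12 h.h22
    h11' h12' h22' rfl rfl
  have hg' : g = gZ J1 J2 hS.h2 K1 C K2 ((B : Matrix (Fin b) (Fin b) F) *ᵥ k1) ((B : Matrix (Fin b) (Fin b) F) *ᵥ k2)
      h11' h12' h22' := by
    apply Units.ext
    rw [hg, gZ_val]
  rw [hg', ← hr]
  exact M.mul_mem (M.mul_mem hn (hZ K1 C K2 hsk1 hsk2)) (M.inv_mem hn)

/-- **independence of the line**: `calK(k₁) = calK(k₂) = Skew(U)`, `calC(k₁,k₂) = End(U)` for ONE totally singular line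
`⟨k₁,k₂⟩` of `W` give `AllLong`. -/
theorem allLong_of_pair [Fintype F] (hS : SetupO J1 J2 Q) (hb : 5 ≤ b) (hM : Over Q M) {k1 k2 : Fin b → F}
    (h : Ts2 J2 k1 k2)
    (hK1 : ∀ K : Matrix (Fin a) (Fin a) F, adj J1 K = -K → gK J2 K k1 h.h11 ∈ M)
    (hK2 : ∀ K : Matrix (Fin a) (Fin a) F, adj J1 K = -K → gK J2 K k2 h.h22 ∈ M)
    (hC : ∀ C : Matrix (Fin a) (Fin a) F, gTO J1 J2 hS.h2 C k1 k2 h.h11 h.h12 h.h22 ∈ M) :
    Cfsg.Agent.Lib.Helper3.OTT.AllLong J2 Q M := by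
  have hZ := gZ_mem hS h hK1 hK2 hC
  -- pairs
  have hpair : ∀ (C : Matrix (Fin a) (Fin a) F) (k k' : Fin b → F) (hkk : bf J2 k k = 0) (hkk' : bf J2 k k' = 0)
      (hk'k' : bf J2 k' k' = 0), (∀ c1 c2 : F, c1 • k + c2 • k' = 0 → c1 = 0 ∧ c2 = 0) →
      gTO J1 J2 hS.h2 C k k' hkk hkk' hk'k' ∈ M := by
    intro C k k' hkk hkk' hk'k' hind
    have h' : Ts2 J2 k k' := ⟨hind, hkk, hkk', hk'k'⟩
    obtain ⟨B, hB, hBk, hBo, hsurj⟩ := exists_B (a := a) hS hb h h'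
    obtain ⟨p, hp, hpk⟩ := hsurj k (Submodule.subset_span (by simp))
    obtain ⟨r, hr, hrk⟩ := hsurj k' (Submodule.subset_span (by simp))
    obtain ⟨α, γ, rfl⟩ := Submodule.mem_span_pair.mp hp
    obtain ⟨δ, ε, rfl⟩ := Submodule.mem_span_pair.mp hr
    refine gZ_conj_mem hS hM h hZ B hB hBk hBo ((α * δ) • (C - adj J1 C)) ((α * ε) • C - (γ * δ) • adj J1 C)
      ((γ * ε) • (C - adj J1 C)) ?_ ?_ _ ?_
    · rw [adj_smul', adj_skew_sub hS.h1, smul_neg]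
    · rw [adj_smul', adj_skew_sub hS.h1, smul_neg]
    · rw [gTO_val, ← TO_comb hS.h1, ← Matrix.mulVec_smul, ← Matrix.mulVec_smul, ← Matrix.mulVec_smul,
        ← Matrix.mulVec_smul, ← Matrix.mulVec_add, ← Matrix.mulVec_add, hpk, hrk]
  -- single singular vectors
  have hsing : ∀ (K : Matrix (Fin a) (Fin a) F) (k : Fin b → F) (hkk : bf J2 k k = 0), adj J1 K = -K →
      gK J2 K k hkk ∈ M := by
    intro K k hkk hK
    by_cases hk0 : k = 0
    · have : gK J2 K k hkk = 1 := by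
        apply Units.ext
        rw [gK_val, Units.val_one]
        subst hk0
        have e : (0 : Fin b → F) = (0 : F) • (0 : Fin b → F) := (zero_smul F _).symm
        rw [e, E_smul_left]
        simp
      rw [this]
      exact M.one_mem
    · -- a partner
      have hnd : ∀ v : Fin b → F, v ≠ 0 → ∃ x, polar (⇑(QF J2)) v x ≠ 0 := by
        intro v hv
        by_contra hcon
        push Not at hcon
        apply hv
        apply hS.h2.nondeg v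
        intro y
        have := hcon y
        rw [Cfsg.Agent.Lib.Helper18.OTTrans.polar_QF hS.h2] at this
        exact (mul_eq_zero.mp this).resolve_left hS.two
      obtain ⟨c, e, hc, he, hce, hck, hek⟩ := Cfsg.Agent.Lib.Helper10.QGeo.exists_hyp_pair_perp1 (QF J2) hnd hb k
      rw [Cfsg.Agent.Lib.Helper18.OTTrans.polar_QF hS.h2] at hce hck hek
      have hck' : bf J2 c k = 0 := (mul_eq_zero.mp hck).resolve_left hS.two
      have hek' : bf J2 e k = 0 := (mul_eq_zero.mp hek).resolve_left hS.two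
      have hcc : bf J2 c c = 0 := by rw [← QF_apply]; exact hc
      have hkc : bf J2 k c = 0 := by rw [hS.h2.symm]; exact hck'
      have hind : ∀ c1 c2 : F, c1 • k + c2 • c = 0 → c1 = 0 ∧ c2 = 0 := by
        intro c1 c2 hz
        have h1 : bf J2 (c1 • k + c2 • c) e = 0 := by rw [hz]; simp [bf]
        rw [bf_add_left, bf_smul_left, bf_smul_left, hS.h2.symm k e, hek', mul_zero, zero_add] at h1
        have hce' : bf J2 c e ≠ 0 := by
          intro h0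
          rw [h0, mul_zero] at hce
          exact zero_ne_one hce
        have hc2 : c2 = 0 := (mul_eq_zero.mp h1).resolve_right hce'
        rw [hc2, zero_smul, add_zero] at hz
        rcases smul_eq_zero.mp hz with h0 | h0
        · exact ⟨h0, hc2⟩
        · exact absurd h0 hk0
      have h' : Ts2 J2 k c := ⟨hind, hkk, hkc, hcc⟩
      obtain ⟨B, hB, hBk, hBo, hsurj⟩ := exists_B (a := a) hS hb h h'
      obtain ⟨p, hp, hpk⟩ := hsurj k (Submodule.subset_span (by simp))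
      obtain ⟨α, γ, rfl⟩ := Submodule.mem_span_pair.mp hp
      refine gZ_conj_mem hS hM h hZ B hB hBk hBo ((α * α) • K) ((α * γ) • K) ((γ * γ) • K) ?_ ?_ _ ?_
      · rw [adj_smul', hK, smul_neg]
      · rw [adj_smul', hK, smul_neg]
      · rw [gK_val, ← KE_comb K hK, ← Matrix.mulVec_smul, ← Matrix.mulVec_smul, ← Matrix.mulVec_add, hpk]
  exact allLong_of_K_C hS M hsing hpair

end Cfsg.Agent.Lib.Helper13.OTAllLongB
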