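import Mathlib
import Cfsg.Agent.Lib.Helper28.OTDefs
import Cfsg.Agent.Lib.Helper28.OTExitDefs
import Cfsg.Agent.Lib.Helper16.OTRootC
import Cfsg.Agent.Lib.Helper8.OTRel
import Cfsg.Agent.Lib.Helper13.OTAllLong

/-!
# `O_a ⊗ O_b` in `Ω_{ab}` (S5681 / S5709), EXIT `T3`, piece STRUCT  (helper13)

An isometry `ζ` of `V = U ⊗ W` of `Z_L`-shape (`ζ - 1` maps `V` into `L = U ⊗ π` and kills `L^⊥ = U ⊗ π^⊥`, `π = ⟨k₁,k₂⟩`
a totally singular line of `W`) is `1 + z(K₁, C, K₂) = 1 + K₁ ⊗ E_{k₁,k₁} + C ⊗ E_{k₁,k₂} - C^* ⊗ E_{k₂,k₁} + K₂ ⊗ E_{k₂,k₂}` with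
`K₁, K₂` skew-adjoint (helper8's `gZ`).
-/

set_option autoImplicit false

namespace Cfsg.Agent.Lib.Helper13.OTStruct

open Matrix Module
open scoped Kronecker
open Cfsg.Agent.Lib.Helper16.Tens
open Cfsg.Agent.Lib.Helper3.SpT (bf E adj uni E_mulVec mat_ext_mulVec bf_smul_left bf_smul_right bf_add_left
  bf_add_right bf_kron_pur pur_induction ctr_J_pur bf_neg_right)
open Cfsg.Agent.Lib.Helper13.TensSO (OrthG IsoG)
open Cfsg.Agent.Lib.Helper28.OT Cfsg.Agent.Lib.Helper28.OTX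
open Cfsg.Agent.Lib.Helper8.OTRel (TO zL gZ gZ_val)
open Cfsg.Agent.Lib.Helper13.OTAllLong (adj_unique_orth)

variable {F : Type*} [Field F] {a b : ℕ}
variable {J1 : Matrix (Fin a) (Fin a) F} {J2 : Matrix (Fin b) (Fin b) F}
variable {Q : QuadraticForm F (Fin a × Fin b → F)}
variable {k1 k2 : Fin b → F}

/-- the block `u ↦ c_l (N (u ⊗ l'))`, `c_l` the contraction with `f₂(·, l)` -/
noncomputable def Am (J2 : Matrix (Fin b) (Fin b) F) (N : Matrix (Fin a × Fin b) (Fin a × Fin b) F)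
    (l l' : Fin b → F) : Matrix (Fin a) (Fin a) F :=
  LinearMap.toMatrix' ((ctr (a := a) (J2 *ᵥ l)).comp ((Matrix.toLin' N).comp (purL (F := F) (a := a) l')))

theorem Am_mulVec (N : Matrix (Fin a × Fin b) (Fin a × Fin b) F) (l l' : Fin b → F) (u : Fin a → F) :
    Am J2 N l l' *ᵥ u = ctr (J2 *ᵥ l) (N *ᵥ pur u l') := by
  unfold Am
  rw [LinearMap.toMatrix'_mulVec]
  rfl

theorem pur_zero_left (w : Fin b → F) : pur (0 : Fin a → F) w = 0 := by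
  funext p
  simp [pur]

/-- an element of `L = U ⊗ π` in coordinates -/
theorem Lp_decomp {l1 l2 : Fin b → F} (h1l1 : bf J2 k1 l1 = 1) (h2l1 : bf J2 k2 l1 = 0)
    (h1l2 : bf J2 k1 l2 = 0) (h2l2 : bf J2 k2 l2 = 1) (x : Fin a × Fin b → F) (hx : x ∈ Lp (a := a) k1 k2) :
    x = pur (ctr (J2 *ᵥ l1) x) k1 + pur (ctr (J2 *ᵥ l2) x) k2 := by
  unfold Lp tW at hx
  refine Submodule.span_induction
    (p := fun x _ => x = pur (ctr (J2 *ᵥ l1) x) k1 + pur (ctr (J2 *ᵥ l2) x) k2) ?_ ?_ ?_ ?_ hx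
  · rintro v ⟨u, w, hw, rfl⟩
    obtain ⟨α, γ, rfl⟩ := Submodule.mem_span_pair.mp hw
    rw [ctr_J_pur, ctr_J_pur, bf_add_left, bf_smul_left, bf_smul_left, bf_add_left, bf_smul_left, bf_smul_left,
      h1l1, h2l1, h1l2, h2l2, pur_smul_left, pur_smul_left, pur_add_right, pur_smul_right, pur_smul_right]
    simp
  · rw [map_zero, map_zero, pur_zero_left, pur_zero_left, add_zero]
  · intro x y _ _ hx hy
    rw [map_add, map_add, pur_add_left, pur_add_left]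
    nth_rewrite 1 [hx, hy]
    abel
  · intro c x _ hx
    rw [map_smul, map_smul, pur_smul_left, pur_smul_left, ← smul_add, ← hx]

/-- **STRUCT** : an isometry of `Z_L`-shape is `1 + z(K₁,C,K₂)`, `K₁, K₂` skew-adjoint. -/
theorem exists_gZ_of_InZ (hS : SetupO J1 J2 Q) (h : Ts2 J2 k1 k2) (ζ : GL (Fin a × Fin b) F)
    (hζI : ζ ∈ IsoG (J1 ⊗ₖ J2)) (hζ : InZ J2 k1 k2 ζ) :
    ∃ K1 C K2 : Matrix (Fin a) (Fin a) F, adj J1 K1 = -K1 ∧ adj J1 K2 = -K2 ∧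
      ζ = gZ J1 J2 hS.h2 K1 C K2 k1 k2 h.h11 h.h12 h.h22 := by
  -- dual partners
  have h21 : bf J2 k2 k1 = 0 := by rw [hS.h2.symm, h.h12]
  have hsw : Ts2 J2 k2 k1 :=
    ⟨fun c1 c2 hc => by
      have := h.indep c2 c1 (by rw [add_comm]; exact hc)
      exact ⟨this.2, this.1⟩, h.h22, h21, h.h11⟩
  obtain ⟨l2, h1l2, h2l2, -⟩ := Cfsg.Agent.Lib.Helper16.OTRootC.exists_partner hS.h2 hS.two h
  obtain ⟨l1, h2l1, h1l1, -⟩ := Cfsg.Agent.Lib.Helper16.OTRootC.exists_partner hS.h2 hS.two hsw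
  have hl1k1 : bf J2 l1 k1 = 1 := by rw [hS.h2.symm, h1l1]
  have hl1k2 : bf J2 l1 k2 = 0 := by rw [hS.h2.symm, h2l1]
  have hl2k1 : bf J2 l2 k1 = 0 := by rw [hS.h2.symm, h1l2]
  have hl2k2 : bf J2 l2 k2 = 1 := by rw [hS.h2.symm, h2l2]
  -- the nilpotent part
  obtain ⟨N, hN⟩ : ∃ N : Matrix (Fin a × Fin b) (Fin a × Fin b) F,
      N = (ζ : Matrix (Fin a × Fin b) (Fin a × Fin b) F) - 1 := ⟨_, rfl⟩
  have hNv : ∀ v, N *ᵥ v = act ζ v - v := by
    intro v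
    rw [hN, Matrix.sub_mulVec, Matrix.one_mulVec, act_apply]
  have hζv : ∀ v, (ζ : Matrix (Fin a × Fin b) (Fin a × Fin b) F) *ᵥ v = v + N *ᵥ v := by
    intro v
    rw [hNv, act_apply]
    abel
  have hNL : ∀ v, N *ᵥ v ∈ Lp (a := a) k1 k2 := by
    intro v
    rw [hNv]
    exact hζ.rng v
  have hNperp : ∀ (u : Fin a → F) (w : Fin b → F), bf J2 w k1 = 0 → bf J2 w k2 = 0 → N *ᵥ pur u w = 0 := by
    intro u w hw1 hw2
    rw [hNv, hζ.fix _ (pur_mem_tW u (show w ∈ piPerp J2 k1 k2 from ⟨hw1, hw2⟩)), sub_self]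
  -- the four blocks
  obtain ⟨A11, hA11⟩ : ∃ A : Matrix (Fin a) (Fin a) F, A = Am J2 N l1 l1 := ⟨_, rfl⟩
  obtain ⟨A12, hA12⟩ : ∃ A : Matrix (Fin a) (Fin a) F, A = Am J2 N l1 l2 := ⟨_, rfl⟩
  obtain ⟨A21, hA21⟩ : ∃ A : Matrix (Fin a) (Fin a) F, A = Am J2 N l2 l1 := ⟨_, rfl⟩
  obtain ⟨A22, hA22⟩ : ∃ A : Matrix (Fin a) (Fin a) F, A = Am J2 N l2 l2 := ⟨_, rfl⟩
  have hNl1 : ∀ u, N *ᵥ pur u l1 = pur (A11 *ᵥ u) k1 + pur (A21 *ᵥ u) k2 := by
    intro u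
    rw [hA11, hA21, Am_mulVec, Am_mulVec]
    exact Lp_decomp h1l1 h2l1 h1l2 h2l2 _ (hNL _)
  have hNl2 : ∀ u, N *ᵥ pur u l2 = pur (A12 *ᵥ u) k1 + pur (A22 *ᵥ u) k2 := by
    intro u
    rw [hA12, hA22, Am_mulVec, Am_mulVec]
    exact Lp_decomp h1l1 h2l1 h1l2 h2l2 _ (hNL _)
  have hNpur : ∀ (u : Fin a → F) (w : Fin b → F), N *ᵥ pur u w =
      bf J2 w k1 • (pur (A11 *ᵥ u) k1 + pur (A21 *ᵥ u) k2) +
        bf J2 w k2 • (pur (A12 *ᵥ u) k1 + pur (A22 *ᵥ u) k2) := by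
    intro u w
    have hw : w = (w - bf J2 w k1 • l1 - bf J2 w k2 • l2) + bf J2 w k1 • l1 + bf J2 w k2 • l2 := by abel
    have h0 : N *ᵥ pur u (w - bf J2 w k1 • l1 - bf J2 w k2 • l2) = 0 := by
      apply hNperp
      · simp only [Cfsg.Agent.Lib.Helper3.SpT.bf_sub_left, bf_smul_left, hl1k1, hl2k1]
        ring
      · simp only [Cfsg.Agent.Lib.Helper3.SpT.bf_sub_left, bf_smul_left, hl1k2, hl2k2]
        ring
    nth_rewrite 1 [hw]
    rw [pur_add_right, pur_add_right, Matrix.mulVec_add, Matrix.mulVec_add, h0, zero_add, pur_smul_right,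
      pur_smul_right, Matrix.mulVec_smul, Matrix.mulVec_smul, hNl1, hNl2]
  -- the isometry condition
  have hiso : ∀ x y : Fin a × Fin b → F, bf (J1 ⊗ₖ J2) (N *ᵥ x) y + bf (J1 ⊗ₖ J2) x (N *ᵥ y) +
      bf (J1 ⊗ₖ J2) (N *ᵥ x) (N *ᵥ y) = 0 := by
    intro x y
    have := hζI x y
    rw [hζv, hζv, bf_add_left, bf_add_right, bf_add_right] at this
    linear_combination this
  have hLL : ∀ (u u' : Fin a → F) (v v' : Fin a → F),
      bf (J1 ⊗ₖ J2) (pur u k1 + pur u' k2) (pur v k1 + pur v' k2) = 0 := by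
    intro u u' v v'
    rw [bf_add_left, bf_add_right, bf_add_right, bf_kron_pur, bf_kron_pur, bf_kron_pur, bf_kron_pur, h.h11, h.h12,
      h21, h.h22]
    ring
  have hs11 : ∀ x y, bf J1 (A11 *ᵥ x) y + bf J1 x (A11 *ᵥ y) = 0 := by
    intro x y
    have := hiso (pur x l1) (pur y l1)
    rw [hNl1, hNl1, hLL, add_zero, bf_add_left, bf_add_right, bf_kron_pur, bf_kron_pur, bf_kron_pur, bf_kron_pur,
      h1l1, h2l1, hl1k1, hl1k2] at this
    linear_combination this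
  have hs22 : ∀ x y, bf J1 (A22 *ᵥ x) y + bf J1 x (A22 *ᵥ y) = 0 := by
    intro x y
    have := hiso (pur x l2) (pur y l2)
    rw [hNl2, hNl2, hLL, add_zero, bf_add_left, bf_add_right, bf_kron_pur, bf_kron_pur, bf_kron_pur, bf_kron_pur,
      h1l2, h2l2, hl2k1, hl2k2] at this
    linear_combination this
  have hs12 : ∀ x y, bf J1 (A21 *ᵥ x) y + bf J1 x (A12 *ᵥ y) = 0 := by
    intro x y
    have := hiso (pur x l1) (pur y l2)
    rw [hNl1, hNl2, hLL, add_zero, bf_add_left, bf_add_right, bf_kron_pur, bf_kron_pur, bf_kron_pur, bf_kron_pur,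
      h1l2, h2l2, hl1k1, hl1k2] at this
    linear_combination this
  have hK1 : adj J1 A11 = -A11 := by
    apply adj_unique_orth hS.h1
    intro x y
    rw [Matrix.neg_mulVec, bf_neg_right]
    linear_combination hs11 x y
  have hK2 : adj J1 A22 = -A22 := by
    apply adj_unique_orth hS.h1
    intro x y
    rw [Matrix.neg_mulVec, bf_neg_right]
    linear_combination hs22 x y
  have hC : adj J1 A12 = -A21 := by
    apply adj_unique_orth hS.h1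
    intro x y
    rw [Matrix.neg_mulVec, bf_neg_right, hS.h1.symm (A12 *ᵥ x) y, hS.h1.symm x (A21 *ᵥ y)]
    linear_combination hs12 y x
  refine ⟨A11, A12, A22, hK1, hK2, ?_⟩
  apply Units.ext
  rw [gZ_val]
  have hζN : (ζ : Matrix (Fin a × Fin b) (Fin a × Fin b) F) = 1 + N := by rw [hN]; abel
  rw [hζN]
  congr 1
  apply mat_ext_mulVec
  intro y
  refine pur_induction (p := fun y => N *ᵥ y = zL J1 J2 A11 A12 A22 k1 k2 *ᵥ y) ?_ ?_ ?_ y
  · rw [Matrix.mulVec_zero, Matrix.mulVec_zero]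
  · intro x y hx hy
    rw [Matrix.mulVec_add, Matrix.mulVec_add, hx, hy]
  · intro u w
    rw [hNpur]
    unfold zL TO
    rw [hC, Matrix.add_mulVec, Matrix.add_mulVec, Matrix.sub_mulVec, kron_mulVec_pur, kron_mulVec_pur,
      kron_mulVec_pur, kron_mulVec_pur, E_mulVec, E_mulVec, E_mulVec, E_mulVec, Matrix.neg_mulVec, pur_neg_left,
      pur_smul_right, pur_smul_right, pur_smul_right, pur_smul_right]
    module

end Cfsg.Agent.Lib.Helper13.OTStruct
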