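import Mathlib
import Cfsg.Agent.S0989

/-!
Farm-out lemma FO-7a for helper26's S2553 (helper13): a solvable transitive permutation group
of prime degree `p` has order dividing `p (p - 1)` and no non-identity element with two fixed
points.
-/

set_option autoImplicit false

namespace Cfsg.Agent.Lib.Helper13.A8FO7a

open Equiv MulAction

theorem factorization_prime_mul (p m : ℕ) (hp : p.Prime) (hm : ¬ p ∣ m) (hm0 : m ≠ 0) :
    (p * m).factorization p = 1 := by
  rw [Nat.factorization_mul hp.ne_zero hm0, Finsupp.add_apply, hp.factorization_self,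
    Nat.factorization_eq_zero_of_not_dvd hm, add_zero]

/-- FO-7a -/
theorem solv_prime {Y : Type*} [Fintype Y] [DecidableEq Y] {p : ℕ} (hp : p.Prime)
    (hY : Fintype.card Y = p) (R : Subgroup (Perm Y)) [IsPretransitive R Y]
    (hs : Group.IsSolvable R) :
    Nat.card R ∣ p * (p - 1) ∧
      ∀ r ∈ R, ∀ y z : Y, y ≠ z → r y = y → r z = z → r = 1 := by
  haveI : Fact p.Prime := ⟨hp⟩
  have hcY : Nat.card Y = p := by rw [Nat.card_eq_fintype_card, hY]
  -- R is nontrivial
  have hnt0 : derivedSeries R 0 ≠ ⊥ := by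
    rw [derivedSeries_zero]
    intro htop
    have h1 : 1 < Fintype.card Y := by rw [hY]; exact hp.one_lt
    obtain ⟨y1, y2, hne⟩ := Fintype.exists_pair_of_one_lt_card h1
    obtain ⟨r, hr⟩ := MulAction.exists_smul_eq R y1 y2
    have hr1 : r = 1 := by
      have : r ∈ (⊤ : Subgroup R) := Subgroup.mem_top r
      rw [htop, Subgroup.mem_bot] at this
      exact this
    rw [hr1, one_smul] at hr
    exact hne hr
  obtain ⟨n, hn⟩ := (Group.isSolvable_def R).mp hs
  have hex : ∀ n, derivedSeries R n = ⊥ →
      ∃ k, derivedSeries R k ≠ ⊥ ∧ derivedSeries R (k + 1) = ⊥ := by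
    intro n
    induction n with
    | zero => intro h; exact absurd h hnt0
    | succ m ih =>
      intro h
      by_cases hm : derivedSeries R m = ⊥
      · exact ih hm
      · exact ⟨m, hm, h⟩
  obtain ⟨k, hk1, hk2⟩ := hex n hn
  obtain ⟨D', hD'⟩ : ∃ D' : Subgroup R, D' = derivedSeries R k := ⟨_, rfl⟩
  haveI hD'n : D'.Normal := by rw [hD']; exact derivedSeries_normal R k
  have hD'ne : D' ≠ ⊥ := by rw [hD']; exact hk1
  have hD'comm : ∀ a ∈ D', ∀ b ∈ D', a * b = b * a := by
    intro a ha b hb
    rw [derivedSeries_succ, ← hD', Subgroup.commutator_eq_bot_iff_le_centralizer] at hk2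
    have := hk2 ha
    rw [Subgroup.mem_centralizer_iff] at this
    exact (this b hb).symm
  -- the abelian normal subgroup is transitive
  haveI hprim : IsPreprimitive R Y := IsPreprimitive.of_prime_card (by rw [hcY]; exact hp)
  haveI hqp : IsQuasiPreprimitive R Y := IsPreprimitive.isQuasiPreprimitive
  have hfix : fixedPoints D' Y ≠ Set.univ := by
    intro hall
    apply hD'ne
    rw [eq_bot_iff]
    intro d hd
    rw [Subgroup.mem_bot]
    apply Subtype.ext
    apply Equiv.Perm.ext
    intro y
    have hy : y ∈ fixedPoints D' Y := by rw [hall]; trivial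
    exact hy ⟨d, hd⟩
  haveI hDtrans : IsPretransitive D' Y := IsQuasiPreprimitive.isPretransitive_of_normal hfix
  have hstab : ∀ y0 : Y, stabilizer D' y0 = ⊥ := by
    intro y0
    rw [eq_bot_iff]
    intro d hd
    rw [Subgroup.mem_bot]
    have hd0 : d • y0 = y0 := hd
    have hall : ∀ y : Y, d • y = y := by
      intro y
      obtain ⟨g, hg⟩ := MulAction.exists_smul_eq D' y0 y
      have hcomm : d * g = g * d := by
        apply Subtype.ext
        exact hD'comm d d.2 g g.2
      rw [← hg, ← mul_smul, hcomm, mul_smul, hd0]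
    apply Subtype.ext
    apply Subtype.ext
    apply Equiv.Perm.ext
    intro y
    exact hall y
  obtain ⟨y0⟩ : Nonempty Y := by
    rw [← Fintype.card_pos_iff, hY]; exact hp.pos
  have hD'card : Nat.card D' = p := by
    have h := MulAction.index_stabilizer_of_transitive D' y0
    rw [hstab y0, Subgroup.index_bot, hcY] at h
    exact h
  constructor
  · -- pass to the symmetric group
    obtain ⟨D, hD⟩ : ∃ D : Subgroup (Perm Y), D = D'.map R.subtype := ⟨_, rfl⟩
    have hDcard : Nat.card D = p := by
      rw [hD, Subgroup.card_map_of_injective (Subgroup.subtype_injective R), hD'card]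
    have hcardPerm : Nat.card (Perm Y) = p * (p - 1).factorial := by
      rw [Nat.card_eq_fintype_card, Fintype.card_perm, hY]
      obtain ⟨q, rfl⟩ : ∃ q, p = q + 1 := ⟨p - 1, by have := hp.pos; omega⟩
      rw [Nat.factorial_succ, Nat.add_sub_cancel]
    have hfac : (Nat.card (Perm Y)).factorization p = 1 := by
      rw [hcardPerm]
      apply factorization_prime_mul p _ hp
      · rw [hp.dvd_factorial]
        have := hp.pos
        omega
      · exact Nat.factorial_ne_zero _
    obtain ⟨P, hPD⟩ : ∃ P : Sylow p (Perm Y), (P : Subgroup (Perm Y)) = D :=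
      ⟨Sylow.ofCard D (by rw [hDcard, hfac, pow_one]), rfl⟩
    have hN := Cfsg.Agent.S0989.result (α := Y) p (Or.inl hY) P
    rw [hPD] at hN
    have hconj : ∀ r ∈ R, ∀ x ∈ D, r * x * r⁻¹ ∈ D := by
      intro r hr x hx
      rw [hD] at hx ⊢
      obtain ⟨d, hd, hdx⟩ := Subgroup.mem_map.mp hx
      rw [← hdx]
      exact Subgroup.mem_map.mpr ⟨⟨r, hr⟩ * d * ⟨r, hr⟩⁻¹, hD'n.conj_mem d hd ⟨r, hr⟩, rfl⟩
    have hle : R ≤ Subgroup.normalizer (D : Set (Perm Y)) := by
      intro r hr
      rw [Subgroup.mem_normalizer_iff]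
      intro h
      constructor
      · intro hh
        exact hconj r hr h hh
      · intro hh
        have h1 := hconj r⁻¹ (R.inv_mem hr) _ hh
        have e : r⁻¹ * (r * h * r⁻¹) * r⁻¹⁻¹ = h := by group
        rw [e] at h1
        exact h1
    have hdvd := Subgroup.card_dvd_of_le hle
    rw [hN] at hdvd
    exact hdvd
  · intro r hr y z hyz hry hrz
    obtain ⟨a, ha⟩ := MulAction.exists_smul_eq D' y z
    have ha1 : a ≠ 1 := by
      intro h1
      rw [h1, one_smul] at ha
      exact hyz ha
    obtain ⟨r', hr'⟩ : ∃ r' : R, r' = ⟨r, hr⟩ := ⟨_, rfl⟩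
    have hr'y : r' • y = y := by rw [hr']; exact hry
    have hr'z : r' • z = z := by rw [hr']; exact hrz
    obtain ⟨c, hc⟩ : ∃ c : D', c = ⟨r' * a * r'⁻¹, hD'n.conj_mem a a.2 r'⟩ := ⟨_, rfl⟩
    have hcy : c • y = z := by
      rw [hc]
      show (r' * (a : R) * r'⁻¹) • y = z
      have hinv : r'⁻¹ • y = y := by rw [inv_smul_eq_iff, hr'y]
      rw [mul_smul, mul_smul, hinv]
      show r' • (a • y) = z
      rw [ha, hr'z]
    have hac : a⁻¹ * c ∈ stabilizer D' y := by
      rw [mem_stabilizer_iff, mul_smul, hcy, inv_smul_eq_iff, ha]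
    rw [hstab y, Subgroup.mem_bot, inv_mul_eq_one] at hac
    -- r' commutes with a
    have hcomm : Commute r' (a : R) := by
      have h1 : (c : R) = r' * (a : R) * r'⁻¹ := by rw [hc]
      rw [← hac] at h1
      show r' * (a : R) = (a : R) * r'
      calc r' * (a : R) = (r' * (a : R) * r'⁻¹) * r' := by group
        _ = (a : R) * r' := by rw [← h1]
    have htop : Subgroup.zpowers a = ⊤ := zpowers_eq_top_of_prime_card hD'card ha1
    have hcommall : ∀ b : D', r' * (b : R) = (b : R) * r' := by
      intro b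
      have hb : b ∈ Subgroup.zpowers a := by rw [htop]; trivial
      obtain ⟨j, hj⟩ := Subgroup.mem_zpowers_iff.mp hb
      rw [← hj, Subgroup.coe_zpow]
      exact hcomm.zpow_right j
    apply Equiv.Perm.ext
    intro w
    obtain ⟨b, hb⟩ := MulAction.exists_smul_eq D' y w
    show r w = w
    have h1 : r' • w = w := by
      rw [← hb]
      show r' • ((b : R) • y) = (b : R) • y
      rw [← mul_smul, hcommall b, mul_smul, hr'y]
    rw [hr'] at h1
    exact h1

end Cfsg.Agent.Lib.Helper13.A8FO7a
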