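import Mathlib
import Cfsg.Agent.Lib.Helper19.AutOrb.Defs
import Cfsg.Agent.S0252
import Cfsg.Agent.S3660

/-! # S4068 farm (helper19), piece [B4e] SPARE (official piece is helper17's): `SL₂(𝔽₄) ≅ A₅`.  (helper13) -/

set_option autoImplicit false

namespace Cfsg.Agent.Lib.Helper19.AutOrb

open Matrix

namespace Helper13

/-- [B4e] SPARE `SL₂(𝔽₄) ≅ A₅` (`Cfsg.Agent.S0252.result` + trivial centre in characteristic 2). -/
theorem sl2_four_iso_spare (F : Type*) [Field F] [Fintype F] (hF : Fintype.card F = 4) :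
    Nonempty (SpecialLinearGroup (Fin 2) F ≃* alternatingGroup (Fin 5)) := by
  have h4 : (4 : F) = 0 := by
    have := Nat.cast_card_eq_zero F
    rw [hF] at this
    exact_mod_cast this
  have h2 : (2 : F) = 0 := by
    have : (2 : F) * 2 = 0 := by rw [← h4]; norm_num
    exact mul_self_eq_zero.1 this
  have : CharP F 2 := CharTwo.of_one_ne_zero_of_two_eq_zero one_ne_zero h2
  obtain ⟨e⟩ := Cfsg.Agent.S0252.result hF
  exact ⟨(MulEquiv.ofBijective
    (QuotientGroup.mk' (Subgroup.center (SpecialLinearGroup (Fin 2) F)))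
    Cfsg.Agent.S3660.mk_bijective).trans e⟩

end Helper13

end Cfsg.Agent.Lib.Helper19.AutOrb
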