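import Mathlib
import Cfsg.Agent.Lib.Helper19.AutOrb.Defs
import Cfsg.Agent.Lib.Helper19.AutOrb.W

/-! # S4068 farm (helper19), piece [T]: Burnside's transfer theorem + [W].  (helper13) -/

set_option autoImplicit false

namespace Cfsg.Agent.Lib.Helper19.AutOrb

/-- [T] Burnside's transfer theorem (`MonoidHom.ker_transferSylow_isComplement'`) + [W]:
a Sylow subgroup central in its normalizer, in a group with at most three prime divisors. -/
theorem isSolvable_of_transfer {G : Type*} [Group G] [Finite G]
    (h3 : (Nat.card G).primeFactors.card ≤ 3) {s : ℕ} [Fact s.Prime] (hs : s ∣ Nat.card G)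
    (P : Sylow s G)
    (hP : Subgroup.normalizer ((P : Subgroup G) : Set G) ≤
      Subgroup.centralizer ((P : Subgroup G) : Set G)) :
    Group.IsSolvable G := by
  have hnd : ¬ s ∣ Nat.card (MonoidHom.transferSylow P hP).ker :=
    MonoidHom.not_dvd_card_ker_transferSylow P hP
  have hKdvd : Nat.card (MonoidHom.transferSylow P hP).ker ∣ Nat.card G :=
    Subgroup.card_subgroup_dvd_card _
  have hsub : (Nat.card (MonoidHom.transferSylow P hP).ker).primeFactors ⊆
      (Nat.card G).primeFactors.erase s := by
    intro r hr
    rw [Finset.mem_erase]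
    refine ⟨?_, Nat.primeFactors_mono hKdvd Nat.card_pos.ne' hr⟩
    rintro rfl
    exact hnd (Nat.dvd_of_mem_primeFactors hr)
  have hsmem : s ∈ (Nat.card G).primeFactors :=
    Nat.mem_primeFactors.mpr ⟨Fact.out, hs, Nat.card_pos.ne'⟩
  have hcard : (Nat.card (MonoidHom.transferSylow P hP).ker).primeFactors.card ≤ 2 := by
    have := Finset.card_le_card hsub
    rw [Finset.card_erase_of_mem hsmem] at this
    omega
  have : Group.IsSolvable (MonoidHom.transferSylow P hP).ker :=
    isSolvable_of_primeFactors_card_le_two hcard
  have : Group.IsNilpotent (P : Subgroup G) := IsPGroup.isNilpotent P.isPGroup'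
  exact Group.isSolvable_of_ker_le_range (MonoidHom.transferSylow P hP).ker.subtype
    (MonoidHom.transferSylow P hP) (by rw [Subgroup.range_subtype])

end Cfsg.Agent.Lib.Helper19.AutOrb
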