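import Mathlib
import Cfsg.Agent.Lib.Helper1.Coprime
import Cfsg.Agent.Lib.Helper1.Frattini

/-!
A group `A` of order prime to `p` acting on a finite `p`-group `P`, `p` odd, which centralizes
every element of `P` of order dividing `p`, centralizes `P`.
-/

set_option autoImplicit false

namespace Cfsg.Agent.Lib.Helper13.OmegaOdd

open Subgroup Cfsg.Agent.Lib.Helper1
open scoped commutatorElement

section Pow

variable {M : Type*} [Monoid M]

/-- If `y x = c x y` with `c` commuting with `x`, then `y x^n = c^n x^n y`. -/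
theorem mul_pow_eq_of_comm {x y c : M} (hc : y * x = c * x * y) (hcx : Commute c x) (n : ℕ) :
    y * x ^ n = c ^ n * x ^ n * y := by
  have h1 : SemiconjBy y x (c * x) := hc
  have h2 := (h1.pow_right n).eq
  rw [hcx.mul_pow] at h2
  exact h2

/-- The power of a product when the commutator is central. -/
theorem mul_pow_central {x y c : M} (hc : y * x = c * x * y) (hcx : Commute c x)
    (hcy : Commute c y) (n : ℕ) :
    (x * y) ^ n = x ^ n * y ^ n * c ^ (∑ i ∈ Finset.range n, i) := by
  induction n with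
  | zero => simp
  | succ n ih =>
    have h3 := mul_pow_eq_of_comm hc hcx n
    have hcomm : Commute (c ^ n) (x ^ (n + 1) * y ^ (n + 1)) :=
      ((hcx.pow_right (n + 1)).mul_right (hcy.pow_right (n + 1))).pow_left n
    rw [pow_succ' (x * y), ih, Finset.sum_range_succ, add_comm (∑ i ∈ Finset.range n, i) n,
      pow_add c n (∑ i ∈ Finset.range n, i)]
    calc x * y * (x ^ n * y ^ n * c ^ (∑ i ∈ Finset.range n, i))
        = x * (y * x ^ n) * y ^ n * c ^ (∑ i ∈ Finset.range n, i) := by simp only [mul_assoc]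
      _ = x * (c ^ n * x ^ n * y) * y ^ n * c ^ (∑ i ∈ Finset.range n, i) := by rw [h3]
      _ = (x * c ^ n) * (x ^ n * (y * y ^ n)) * c ^ (∑ i ∈ Finset.range n, i) := by
          simp only [mul_assoc]
      _ = (c ^ n * x) * (x ^ n * (y * y ^ n)) * c ^ (∑ i ∈ Finset.range n, i) := by
          rw [(hcx.pow_left n).eq]
      _ = c ^ n * ((x * x ^ n) * (y * y ^ n)) * c ^ (∑ i ∈ Finset.range n, i) := by
          simp only [mul_assoc]
      _ = c ^ n * (x ^ (n + 1) * y ^ (n + 1)) * c ^ (∑ i ∈ Finset.range n, i) := by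
          rw [← pow_succ' x, ← pow_succ' y]
      _ = x ^ (n + 1) * y ^ (n + 1) * c ^ n * c ^ (∑ i ∈ Finset.range n, i) := by
          rw [hcomm.eq]
      _ = x ^ (n + 1) * y ^ (n + 1) * (c ^ n * c ^ (∑ i ∈ Finset.range n, i)) := by
          simp only [mul_assoc]

end Pow

section Main

variable {G : Type*} [Group G] [Finite G]

/-- Induction form: `A` of order prime to the odd prime `p` normalizes the `p`-group `P` and
centralizes all its elements of order dividing `p`; then `A` centralizes `P`. -/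
theorem forall_comm_of_forall_comm_omega {p : ℕ} [Fact p.Prime] (hp : p ≠ 2) (A : Subgroup G)
    (hA : (Nat.card A).Coprime p) :
    ∀ (n : ℕ) (P : Subgroup G), Nat.card P = n → IsPGroup p P → A ≤ normalizer (P : Set G) →
      (∀ a ∈ A, ∀ x ∈ P, x ^ p = 1 → a * x = x * a) → ∀ a ∈ A, ∀ x ∈ P, a * x = x * a := by
  have hpp : p.Prime := Fact.out
  intro n
  induction n using Nat.strong_induction_on with
  | _ n ih =>
    intro P hcard hP hAN hom
    obtain ⟨k, hk⟩ := IsPGroup.iff_card.mp hP
    have hsolv : Group.IsSolvable P := by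
      have := hP.isNilpotent
      infer_instance
    have hAct : CoprimeAct A P :=
      ⟨hAN, by rw [hk]; exact Nat.Coprime.pow_right k hA, Or.inr hsolv⟩
    have ih' : ∀ P' : Subgroup G, P' ≤ P → P' ≠ P → A ≤ normalizer (P' : Set G) →
        ⁅P', A⁆ = ⊥ := by
      intro P' hle hne hN'
      have hlt : Nat.card P' < n := by
        rw [← hcard]
        by_contra h
        exact hne (Subgroup.eq_of_le_of_card_ge hle (not_lt.mp h))
      have h1 := ih (Nat.card P') hlt P' rfl (hP.to_le hle) hN'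
        (fun a ha x hx hxp => hom a ha x (hle hx) hxp)
      rw [Subgroup.commutator_eq_bot_iff_le_centralizer]
      intro x hx
      rw [Subgroup.mem_centralizer_iff]
      intro a ha
      exact h1 a ha x hx
    suffices hgoal : ⁅P, A⁆ = ⊥ by
      intro a ha x hx
      have h1 : P ≤ centralizer (A : Set G) :=
        Subgroup.commutator_eq_bot_iff_le_centralizer.mp hgoal
      exact (Subgroup.mem_centralizer_iff.mp (h1 hx)) a ha
    have hKP : ⁅P, A⁆ ≤ P := commutator_le_of_le_normalizer hAct.norm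
    have hKA : A ≤ normalizer ((⁅P, A⁆ : Subgroup G) : Set G) := le_normalizer_commutator_right
    by_cases hK : ⁅P, A⁆ = P
    swap
    · have h1 := ih' ⁅P, A⁆ hKP hK hKA
      rw [hAct.commutator_commutator_eq] at h1
      exact h1
    by_cases hPbot : P = ⊥
    · exact le_bot_iff.mp (hKP.trans hPbot.le)
    -- the Frattini subgroup of `P`, inside `G`
    obtain ⟨Φ, hΦdef⟩ : ∃ Φ : Subgroup G, Φ = (frattini P).map P.subtype := ⟨_, rfl⟩
    have hΦP : Φ ≤ P := by rw [hΦdef]; exact Subgroup.map_subtype_le _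
    have hΦne : Φ ≠ P := by
      intro h
      have hpd : p ∣ Nat.card P :=
        (hP.card_eq_or_dvd).resolve_left (fun h1 => hPbot (Subgroup.card_eq_one.mp h1))
      have hidx := Cfsg.Agent.Lib.Helper1.prime_dvd_index_frattini (G := P) p hpp hpd
      have hft : frattini P = ⊤ := by
        rw [eq_top_iff]
        intro x _
        have hx : (x : G) ∈ Φ := by rw [h]; exact x.2
        rw [hΦdef] at hx
        obtain ⟨z, hz, hzx⟩ := hx
        have hzx' : z = x := Subtype.ext hzx
        rw [← hzx']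
        exact hz
      rw [hft, Subgroup.index_top] at hidx
      exact hpp.one_lt.ne' (Nat.dvd_one.mp hidx)
    have hΦN : A ≤ normalizer (Φ : Set G) := by
      rw [hΦdef]
      exact hAN.trans (normalizer_le_normalizer_map_of_characteristic P (frattini P))
    have hΦA : ⁅Φ, A⁆ = ⊥ := ih' Φ hΦP hΦne hΦN
    have hcomP : ∀ g₁ ∈ P, ∀ g₂ ∈ P, ⁅g₁, g₂⁆ ∈ Φ := by
      intro g₁ h₁ g₂ h₂
      have h := (Cfsg.Agent.Lib.Helper1.IsPGroup.commutator_le_frattini hP)
        (Subgroup.commutator_mem_commutator (Subgroup.mem_top (⟨g₁, h₁⟩ : P))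
          (Subgroup.mem_top (⟨g₂, h₂⟩ : P)))
      rw [hΦdef]
      exact ⟨_, h, rfl⟩
    have hpowΦ : ∀ x ∈ P, x ^ p ∈ Φ := by
      intro x hx
      rw [hΦdef]
      exact ⟨_, Cfsg.Agent.Lib.Helper1.IsPGroup.pow_mem_frattini hP ⟨x, hx⟩, rfl⟩
    have h1 : ⁅⁅P, Φ⁆, A⁆ = ⊥ := by
      rw [eq_bot_iff, ← hΦA]
      apply Subgroup.commutator_mono _ le_rfl
      rw [Subgroup.commutator_le]
      intro g₁ h₁ g₂ h₂
      exact hcomP g₁ h₁ g₂ (hΦP h₂)
    have h2 : ⁅⁅Φ, A⁆, P⁆ = ⊥ := by rw [hΦA, Subgroup.commutator_bot_left]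
    have h3 : ⁅⁅A, P⁆, Φ⁆ = ⊥ := Subgroup.commutator_commutator_eq_bot_of_rotate h1 h2
    rw [Subgroup.commutator_comm A P, hK] at h3
    have hΦcent : ∀ z ∈ Φ, ∀ x ∈ P, z * x = x * z := by
      intro z hz x hx
      have h4 := Subgroup.commutator_eq_bot_iff_le_centralizer.mp h3
      exact (Subgroup.mem_centralizer_iff.mp (h4 hx)) z hz
    have hAΦ : ∀ a ∈ A, ∀ z ∈ Φ, a * z = z * a := by
      intro a ha z hz
      have h4 := Subgroup.commutator_eq_bot_iff_le_centralizer.mp hΦA
      exact (Subgroup.mem_centralizer_iff.mp (h4 hz)) a ha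
    have hT : p ∣ ∑ i ∈ Finset.range p, i := by
      have h5 := Finset.sum_range_id_mul_two p
      have hcop2 : Nat.Coprime p 2 := (Nat.coprime_primes hpp Nat.prime_two).mpr hp
      exact hcop2.dvd_of_dvd_mul_right (by rw [h5]; exact dvd_mul_right p (p - 1))
    obtain ⟨t, ht⟩ := hT
    have hgen : ⁅P, A⁆ ≤ centralizer (A : Set G) := by
      rw [Subgroup.commutator_le]
      intro x hx a ha
      have hYP : a * x⁻¹ * a⁻¹ ∈ P :=
        (Subgroup.mem_normalizer_iff.mp (hAN ha) x⁻¹).mp (inv_mem hx)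
      obtain ⟨Y, hY⟩ : ∃ Y : G, Y = a * x⁻¹ * a⁻¹ := ⟨_, rfl⟩
      rw [← hY] at hYP
      have hxa : ⁅x, a⁆ = x * Y := by rw [hY, commutatorElement_def]; group
      obtain ⟨c, hcdef⟩ : ∃ c : G, c = ⁅Y, x⁆ := ⟨_, rfl⟩
      have hcΦ : c ∈ Φ := by rw [hcdef]; exact hcomP Y hYP x hx
      have hc : Y * x = c * x * Y := by rw [hcdef, commutatorElement_def]; group
      have hcx : Commute c x := hΦcent c hcΦ x hx
      have hcy : Commute c Y := hΦcent c hcΦ Y hYP
      have hcp : c ^ p = 1 := by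
        have e1 := mul_pow_eq_of_comm hc hcx p
        have e2 : x ^ p * Y = Y * x ^ p := hΦcent (x ^ p) (hpowΦ x hx) Y hYP
        rw [← e2, mul_assoc] at e1
        have e3 : 1 * (x ^ p * Y) = c ^ p * (x ^ p * Y) := by rw [one_mul]; exact e1
        exact (mul_right_cancel e3).symm
      have hcT : c ^ (∑ i ∈ Finset.range p, i) = 1 := by rw [ht, pow_mul, hcp, one_pow]
      have hYp : Y ^ p = (x ^ p)⁻¹ := by
        rw [hY, conj_pow, inv_pow, hAΦ a ha _ (inv_mem (hpowΦ x hx)), mul_inv_cancel_right]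
      have hpow1 : (x * Y) ^ p = 1 := by
        rw [mul_pow_central hc hcx hcy p, hcT, mul_one, hYp, mul_inv_cancel]
      rw [hxa, Subgroup.mem_centralizer_iff]
      intro a' ha'
      exact hom a' ha' (x * Y) (mul_mem hx hYP) hpow1
    rw [Subgroup.commutator_eq_bot_iff_le_centralizer]
    rw [hK] at hgen
    exact hgen

/-- `A` of order prime to the odd prime `p` normalizes the `p`-group `P` and centralizes all its
elements of order dividing `p`; then `A` centralizes `P`. -/
theorem forall_comm_of_omega {p : ℕ} [Fact p.Prime] (hp : p ≠ 2) (A P : Subgroup G)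
    (hA : (Nat.card A).Coprime p) (hP : IsPGroup p P) (hAN : A ≤ normalizer (P : Set G))
    (hom : ∀ a ∈ A, ∀ x ∈ P, x ^ p = 1 → a * x = x * a) : ∀ a ∈ A, ∀ x ∈ P, a * x = x * a :=
  forall_comm_of_forall_comm_omega hp A hA (Nat.card P) P rfl hP hAN hom

end Main

end Cfsg.Agent.Lib.Helper13.OmegaOdd
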