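import Mathlib
import Cfsg.Prelude
import Cfsg.Agent.Lib.Helper13.OmegaOdd
import Cfsg.Agent.Lib.Helper1.Basic
import Cfsg.Agent.Lib.Helper1.Coprime
import Cfsg.Agent.Lib.Helper1.Cores
import Cfsg.Agent.Lib.Helper10.PLength
import Cfsg.Agent.Lib.Helper10.PComponent
import Cfsg.Agent.H5.Cores
import Cfsg.Agent.H5.PSolvable

/-!
A finite `p`-soluble group, `p` odd, whose automorphism group permutes the subgroups of order `p`
transitively, has `p`-length at most one.
-/

set_option autoImplicit false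

namespace Cfsg.Agent.Lib.Helper13.AutTrans

open Subgroup Cfsg
open Pointwise

section General

variable {G : Type*} [Group G]

/-- The centralizer of a subgroup stable under all automorphisms is stable under them. -/
theorem centralizer_autInv (S : Subgroup G) (hS : ∀ α : MulAut G, ∀ x ∈ S, α x ∈ S)
    (α : MulAut G) (x : G) (hx : x ∈ centralizer (S : Set G)) :
    α x ∈ centralizer (S : Set G) := by
  rw [Subgroup.mem_centralizer_iff] at hx ⊢
  intro g hg
  have hg' : α.symm g ∈ S := hS α.symm g hg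
  have h1 := hx _ hg'
  have h2 := congrArg α h1
  rw [map_mul, map_mul, MulEquiv.apply_symm_apply] at h2
  exact h2

/-- The preimage of a characteristic subgroup of a quotient by a characteristic subgroup is stable
under automorphisms. -/
theorem comap_mk_autInv (N : Subgroup G) [N.Normal] (hN : N.Characteristic)
    (L : Subgroup (G ⧸ N)) (hL : L.Characteristic) (α : MulAut G) (x : G)
    (hx : x ∈ L.comap (QuotientGroup.mk' N)) : α x ∈ L.comap (QuotientGroup.mk' N) := by
  have hNmap : N.map (α : G ≃* G).toMonoidHom = N := Subgroup.characteristic_iff_map_eq.mp hN α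
  have h1 : L.map (QuotientGroup.congr N N α hNmap).toMonoidHom ≤ L :=
    Subgroup.characteristic_iff_map_le.mp hL (QuotientGroup.congr N N α hNmap)
  rw [Subgroup.mem_comap] at hx ⊢
  have h2 : (QuotientGroup.congr N N α hNmap) (QuotientGroup.mk' N x) =
      QuotientGroup.mk' N (α x) := QuotientGroup.congr_mk' N N α hNmap x
  rw [← h2]
  exact h1 ⟨_, hx, rfl⟩

theorem top_ne_bot_of_dvd {p : ℕ} [Fact p.Prime] (h : p ∣ Nat.card G) :
    (⊤ : Subgroup G) ≠ ⊥ := by
  intro htb
  have h1 : Nat.card G = 1 := by rw [← Subgroup.card_top (G := G), htb, Subgroup.card_bot]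
  rw [h1] at h
  exact (Fact.out : p.Prime).one_lt.ne' (Nat.dvd_one.mp h)

theorem pCore_quotient_pCore_eq_bot (p : ℕ) [hN : (pCore p G).Normal] :
    pCore p (G ⧸ pCore p G) = ⊥ := by
  have h1 : IsPGroup p ((pCore p (G ⧸ pCore p G)).comap (QuotientGroup.mk' (pCore p G))) := by
    apply (Cfsg.H5.pCore_isPGroup p _).comap_of_ker_isPGroup
    rw [QuotientGroup.ker_mk']
    exact Cfsg.H5.pCore_isPGroup p G
  have h2 : (pCore p (G ⧸ pCore p G)).comap (QuotientGroup.mk' (pCore p G)) ≤ pCore p G :=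
    Cfsg.H5.le_pCore (Subgroup.Normal.comap (Cfsg.H5.pCore_normal p _) _) h1
  rw [eq_bot_iff]
  intro y hy
  obtain ⟨g, rfl⟩ := QuotientGroup.mk'_surjective _ y
  have h3 : g ∈ pCore p G := h2 (Subgroup.mem_comap.mpr hy)
  rw [Subgroup.mem_bot]
  exact (QuotientGroup.eq_one_iff g).mpr h3

variable [Finite G]

theorem exists_orderOf_eq_of_ne_bot {p : ℕ} [Fact p.Prime] (Q : Subgroup G) (hQ : IsPGroup p Q)
    (hne : Q ≠ ⊥) : ∃ x ∈ Q, orderOf x = p := by
  have hdvd : p ∣ Nat.card Q := by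
    rcases hQ.card_eq_or_dvd with h | h
    · exact absurd (Subgroup.card_eq_one.mp h) hne
    · exact h
  obtain ⟨x, hx⟩ := exists_prime_orderOf_dvd_card' p hdvd
  exact ⟨x, x.2, by rw [Subgroup.orderOf_coe]; exact hx⟩

theorem pCore_or_pPrimeCore_ne_bot {p : ℕ} [Fact p.Prime]
    (hsol : IsPSolvable p G) (hX : (⊤ : Subgroup G) ≠ ⊥) :
    pCore p G ≠ ⊥ ∨ pPrimeCore p G ≠ ⊥ := by
  obtain ⟨L, -, hLn, hL1, hL⟩ := Cfsg.H5.exists_normal_p_or_pPrime_le hsol ⊤ inferInstance hX
  rcases hL with hL | hL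
  · left
    intro hbot
    apply hL1
    have h1 : L ≤ pCore p G := Cfsg.H5.le_pCore hLn hL
    rw [hbot] at h1
    exact le_bot_iff.mp h1
  · right
    intro hbot
    apply hL1
    have h1 : L ≤ pPrimeCore p G := Cfsg.H5.le_pPrimeCore hLn hL
    rw [hbot] at h1
    exact le_bot_iff.mp h1

omit [Finite G] in
/-- Schur--Zassenhaus, existence, in subgroup form. -/
theorem exists_complement_of_coprime (N M : Subgroup G) [N.Normal] (hNM : N ≤ M)
    (hcop : (Nat.card N).Coprime (N.relIndex M)) :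
    ∃ Y : Subgroup G, Y ≤ M ∧ Nat.card Y = N.relIndex M ∧ M ≤ Y ⊔ N := by
  have : (N.subgroupOf M).Normal := Subgroup.normal_subgroupOf
  have hcardN : Nat.card (N.subgroupOf M) = Nat.card N :=
    Nat.card_congr (Subgroup.subgroupOfEquivOfLe hNM).toEquiv
  have hcop' : (Nat.card (N.subgroupOf M)).Coprime (N.subgroupOf M).index := by
    rw [hcardN]; exact hcop
  obtain ⟨Y', hY'⟩ := Subgroup.exists_right_complement'_of_coprime hcop'
  refine ⟨Y'.map M.subtype, Subgroup.map_subtype_le _, ?_, ?_⟩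
  · rw [Subgroup.card_map_of_injective (Subgroup.subtype_injective M)]
    exact hY'.symm.index_eq_card.symm
  · intro x hx
    have h1 : (⟨x, hx⟩ : M) ∈ N.subgroupOf M ⊔ Y' := by
      rw [hY'.sup_eq_top]; exact Subgroup.mem_top _
    have h2 : x ∈ (N.subgroupOf M ⊔ Y').map M.subtype := ⟨⟨x, hx⟩, h1, rfl⟩
    rw [Subgroup.map_sup, Subgroup.subgroupOf_map_subtype] at h2
    have hle : N ⊓ M ⊔ Y'.map M.subtype ≤ Y'.map M.subtype ⊔ N :=
      sup_le (inf_le_left.trans le_sup_right) le_sup_left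
    exact hle h2

end General

section Main

variable {H : Type*} [Group H] [Finite H]

/-- The abstract core of the argument. -/
theorem index_coprime_of_autTrans {p : ℕ} [Fact p.Prime] (hp : p ≠ 2)
    (P0 Yh : Subgroup H) [hP0n : P0.Normal] [hYn : Yh.Normal]
    (hP0p : IsPGroup p P0) (hP0ne : P0 ≠ ⊥)
    (hP0inv : ∀ α : MulAut H, ∀ x ∈ P0, α x ∈ P0)
    (hCP0 : centralizer (P0 : Set H) ≤ P0)
    (hYinv : ∀ α : MulAut H, ∀ x ∈ Yh, α x ∈ Yh)
    (hP0Y : P0 ≤ Yh) (hrel : (P0.relIndex Yh).Coprime p) (hYne : P0.relIndex Yh ≠ 1)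
    (htr : ∀ x y : H, orderOf x = p → orderOf y = p →
      ∃ α : MulAut H, y ∈ Subgroup.zpowers (α x)) :
    (P0.index).Coprime p := by
  have hpp : p.Prime := Fact.out
  have keyT : ∀ W : Subgroup H, (∀ α : MulAut H, ∀ x ∈ W, α x ∈ W) →
      (∃ c ∈ W, orderOf c = p) → ∀ x : H, orderOf x = p → x ∈ W := by
    rintro W hW ⟨c, hcW, hc⟩ x hx
    obtain ⟨α, hα⟩ := htr c x hc hx
    exact (Subgroup.zpowers_le.mpr (hW α c hcW)) hα
  have hZinv : ∀ α : MulAut H, ∀ x ∈ P0 ⊓ centralizer (P0 : Set H),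
      α x ∈ P0 ⊓ centralizer (P0 : Set H) := by
    intro α x hx
    obtain ⟨h1, h2⟩ := Subgroup.mem_inf.mp hx
    exact Subgroup.mem_inf.mpr ⟨hP0inv α x h1, centralizer_autInv P0 hP0inv α x h2⟩
  have hZne : P0 ⊓ centralizer (P0 : Set H) ≠ ⊥ := by
    have : Nontrivial P0 := (Subgroup.nontrivial_iff_ne_bot P0).mpr hP0ne
    have := hP0p.center_nontrivial
    obtain ⟨z, hz⟩ := exists_ne (1 : Subgroup.center P0)
    intro hbot
    apply hz
    have hmem : ((z : P0) : H) ∈ P0 ⊓ centralizer (P0 : Set H) := by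
      refine Subgroup.mem_inf.mpr ⟨(z : P0).2, ?_⟩
      rw [Subgroup.mem_centralizer_iff]
      intro g hg
      have h1 := Subgroup.mem_center_iff.mp z.2 ⟨g, hg⟩
      exact congrArg Subtype.val h1
    rw [hbot, Subgroup.mem_bot] at hmem
    exact Subtype.ext (Subtype.ext hmem)
  have hallZ : ∀ x : H, orderOf x = p → x ∈ P0 ⊓ centralizer (P0 : Set H) :=
    keyT _ hZinv (exists_orderOf_eq_of_ne_bot _ (hP0p.to_le inf_le_left) hZne)
  obtain ⟨k0, hk0⟩ := IsPGroup.iff_card.mp hP0p
  obtain ⟨Y0, hY0le, hY0card, hYsup⟩ := exists_complement_of_coprime P0 Yh hP0Y (by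
    rw [hk0]; exact Nat.Coprime.pow_left k0 hrel.symm)
  have hY0cop : (Nat.card Y0).Coprime p := by rw [hY0card]; exact hrel
  have hY0N : Y0 ≤ normalizer (P0 : Set H) := by
    rw [Subgroup.normalizer_eq_top]; exact le_top
  have hsolv : Group.IsSolvable P0 := by
    have := hP0p.isNilpotent
    infer_instance
  have hAct : Cfsg.Agent.Lib.Helper1.CoprimeAct Y0 P0 :=
    ⟨hY0N, by rw [hk0]; exact Nat.Coprime.pow_right k0 hY0cop, Or.inr hsolv⟩
  have hC : P0 ⊓ centralizer (Y0 : Set H) = ⊥ := by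
    by_contra hne
    obtain ⟨c, hcC, hcp⟩ := exists_orderOf_eq_of_ne_bot _ (hP0p.to_le inf_le_left) hne
    obtain ⟨hcP, hcY⟩ := Subgroup.mem_inf.mp hcC
    have hcZ := hallZ c hcp
    obtain ⟨-, hcZ2⟩ := Subgroup.mem_inf.mp hcZ
    have hWinv : ∀ α : MulAut H,
        ∀ x ∈ (P0 ⊓ centralizer (P0 : Set H)) ⊓ centralizer (Yh : Set H),
        α x ∈ (P0 ⊓ centralizer (P0 : Set H)) ⊓ centralizer (Yh : Set H) := by
      intro α x hx
      obtain ⟨h1, h2⟩ := Subgroup.mem_inf.mp hx
      exact Subgroup.mem_inf.mpr ⟨hZinv α x h1, centralizer_autInv Yh hYinv α x h2⟩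
    have hcW : c ∈ (P0 ⊓ centralizer (P0 : Set H)) ⊓ centralizer (Yh : Set H) := by
      refine Subgroup.mem_inf.mpr ⟨hcZ, ?_⟩
      have hle : Y0 ⊔ P0 ≤ centralizer ({c} : Set H) := by
        apply sup_le
        · intro y hy
          rw [Subgroup.mem_centralizer_iff]
          intro h hh
          rw [Set.mem_singleton_iff] at hh
          rw [hh]
          exact ((Subgroup.mem_centralizer_iff.mp hcY) y hy).symm
        · intro g hg
          rw [Subgroup.mem_centralizer_iff]
          intro h hh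
          rw [Set.mem_singleton_iff] at hh
          rw [hh]
          exact ((Subgroup.mem_centralizer_iff.mp hcZ2) g hg).symm
      rw [Subgroup.mem_centralizer_iff]
      intro g hg
      have h1 := hle (hYsup hg)
      exact ((Subgroup.mem_centralizer_iff.mp h1) c (Set.mem_singleton c)).symm
    have hallW := keyT _ hWinv ⟨c, hcW, hcp⟩
    have hom := Cfsg.Agent.Lib.Helper13.OmegaOdd.forall_comm_of_omega hp Y0 P0 hY0cop hP0p hY0N
      (by
        intro a ha x hx hxp
        by_cases hx1 : x = 1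
        · rw [hx1, mul_one, one_mul]
        · have hxo : orderOf x = p := orderOf_eq_prime hxp hx1
          have hxW := hallW x hxo
          obtain ⟨-, hxY⟩ := Subgroup.mem_inf.mp hxW
          exact (Subgroup.mem_centralizer_iff.mp hxY) a (hY0le ha))
    have hY0P : Y0 ≤ P0 := by
      intro a ha
      apply hCP0
      rw [Subgroup.mem_centralizer_iff]
      intro x hx
      exact (hom a ha x hx).symm
    have hcard1 : Nat.card Y0 = 1 := by
      apply Nat.Coprime.eq_one_of_dvd _ (Subgroup.card_dvd_of_le hY0P)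
      rw [hk0]; exact Nat.Coprime.pow_right k0 hY0cop
    rw [hY0card] at hcard1
    exact hYne hcard1
  by_contra hcop
  have hpdvd : p ∣ P0.index := by
    by_contra h
    exact hcop ((Nat.Prime.coprime_iff_not_dvd hpp).mpr h).symm
  have hQcard : p ∣ Nat.card (H ⧸ P0) := by rw [← Subgroup.index_eq_card]; exact hpdvd
  obtain ⟨gbar, hgbar⟩ := exists_prime_orderOf_dvd_card' p hQcard
  obtain ⟨g, rfl⟩ := QuotientGroup.mk'_surjective P0 gbar
  have hker : ∀ z : H, QuotientGroup.mk' P0 z = 1 ↔ z ∈ P0 := by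
    intro z
    rw [← MonoidHom.mem_ker, QuotientGroup.ker_mk']
  obtain ⟨k, hk, hn⟩ : ∃ k ∈ P0, k⁻¹ * g ∈ normalizer (Y0 : Set H) := by
    have hB : MulAut.conj g • Y0 ≤ Y0 ⊔ P0 := by
      rw [Cfsg.Agent.Lib.Helper1.conj_smul_le_iff]
      intro y hy
      exact hYsup (hYn.conj_mem y (hY0le hy) g)
    obtain ⟨k, hk, hkA⟩ := hAct.exists_conj_eq _ hB (Cfsg.Agent.Lib.Helper1.card_conj_smul _ _)
    refine ⟨k, hk, ?_⟩
    rw [← Cfsg.Agent.Lib.Helper1.conj_smul_eq_self_iff_mem_normalizer, map_mul, mul_smul, ← hkA,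
      ← mul_smul, ← map_mul, inv_mul_cancel, map_one, one_smul]
  have hmk : QuotientGroup.mk' P0 (k⁻¹ * g) = QuotientGroup.mk' P0 g := by
    rw [map_mul, (hker k⁻¹).mpr (inv_mem hk), one_mul]
  have hgp : (QuotientGroup.mk' P0 g) ^ p = 1 := by
    have h1 := pow_orderOf_eq_one (QuotientGroup.mk' P0 g)
    rwa [hgbar] at h1
  have hnp : (k⁻¹ * g) ^ p ∈ P0 := by
    rw [← hker, map_pow, hmk]; exact hgp
  have hnP : k⁻¹ * g ∉ P0 := by
    intro h
    have h1 : QuotientGroup.mk' P0 g = 1 := by rw [← hmk]; exact (hker _).mpr h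
    rw [h1, orderOf_one] at hgbar
    exact hpp.one_lt.ne hgbar
  have hnpC : (k⁻¹ * g) ^ p ∈ P0 ⊓ centralizer (Y0 : Set H) :=
    Subgroup.mem_inf.mpr ⟨hnp, hAct.mem_centralizer_of_mem_normalizer hnp (pow_mem hn p)⟩
  rw [hC, Subgroup.mem_bot] at hnpC
  have hn1 : k⁻¹ * g ≠ 1 := fun h => hnP (by rw [h]; exact one_mem _)
  have hno : orderOf (k⁻¹ * g) = p := orderOf_eq_prime hnpC hn1
  exact hnP (Subgroup.mem_inf.mp (hallZ _ hno)).1

/-- `O_p(H)` has index prime to `p` when `O_{p'}(H) = 1`. -/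
theorem index_pCore_coprime {p : ℕ} [Fact p.Prime] (hp : p ≠ 2)
    (hdvd : p ∣ Nat.card H) (hsol : IsPSolvable p H) (hO : pPrimeCore p H = ⊥)
    (htr : ∀ x y : H, orderOf x = p → orderOf y = p →
      ∃ α : MulAut H, y ∈ Subgroup.zpowers (α x)) :
    ((pCore p H).index).Coprime p := by
  have hpp : p.Prime := Fact.out
  have hP0n : (pCore p H).Normal := Cfsg.H5.pCore_normal p H
  have hP0p : IsPGroup p (pCore p H) := Cfsg.H5.pCore_isPGroup p H
  have hP0c : (pCore p H).Characteristic := Cfsg.H5.pCore_characteristic p H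
  have hCP0 := Cfsg.H5.centralizer_pCore_le_of_isPSolvable hsol hO
  have hP0inv : ∀ α : MulAut H, ∀ x ∈ pCore p H, α x ∈ pCore p H :=
    fun α x hx => (Subgroup.characteristic_iff_map_le.mp hP0c α) ⟨x, hx, rfl⟩
  have htop : (⊤ : Subgroup H) ≠ ⊥ := top_ne_bot_of_dvd hdvd
  have hP0ne : pCore p H ≠ ⊥ :=
    (pCore_or_pPrimeCore_ne_bot hsol htop).resolve_right (not_not.mpr hO)
  by_contra hcop
  have hpdvd : p ∣ (pCore p H).index := by
    by_contra h
    exact hcop ((Nat.Prime.coprime_iff_not_dvd hpp).mpr h).symm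
  have hQsol : IsPSolvable p (H ⧸ pCore p H) := Cfsg.H5.isPSolvable_quotient _ hsol
  have hQcore : pCore p (H ⧸ pCore p H) = ⊥ := pCore_quotient_pCore_eq_bot p
  have hQcard : p ∣ Nat.card (H ⧸ pCore p H) := by
    rw [← Subgroup.index_eq_card]; exact hpdvd
  have hQtop : (⊤ : Subgroup (H ⧸ pCore p H)) ≠ ⊥ := top_ne_bot_of_dvd hQcard
  have hLne : pPrimeCore p (H ⧸ pCore p H) ≠ ⊥ :=
    (pCore_or_pPrimeCore_ne_bot hQsol hQtop).resolve_left (not_not.mpr hQcore)
  obtain ⟨L, hLdef⟩ : ∃ L : Subgroup (H ⧸ pCore p H), L = pPrimeCore p (H ⧸ pCore p H) :=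
    ⟨_, rfl⟩
  have hLn : L.Normal := by rw [hLdef]; exact Cfsg.H5.pPrimeCore_normal p _
  have hLc : L.Characteristic := by rw [hLdef]; exact Cfsg.H5.pPrimeCore_characteristic' p _
  have hLcop : (Nat.card L).Coprime p := by
    rw [hLdef]; exact Cfsg.Agent.Lib.Helper1.pPrimeCore_coprime p
  rw [← hLdef] at hLne
  have hYn : (L.comap (QuotientGroup.mk' (pCore p H))).Normal := hLn.comap _
  have hP0Y : pCore p H ≤ L.comap (QuotientGroup.mk' (pCore p H)) := by
    intro x hx
    rw [Subgroup.mem_comap]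
    have h1 : QuotientGroup.mk' (pCore p H) x = 1 := by
      rw [← MonoidHom.mem_ker, QuotientGroup.ker_mk']; exact hx
    rw [h1]; exact one_mem _
  have hrel : (pCore p H).relIndex (L.comap (QuotientGroup.mk' (pCore p H))) = Nat.card L := by
    calc (pCore p H).relIndex (L.comap (QuotientGroup.mk' (pCore p H)))
        = ((⊥ : Subgroup (H ⧸ pCore p H)).comap (QuotientGroup.mk' (pCore p H))).relIndex
            (L.comap (QuotientGroup.mk' (pCore p H))) := by
          rw [MonoidHom.comap_bot, QuotientGroup.ker_mk']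
      _ = (⊥ : Subgroup (H ⧸ pCore p H)).relIndex
            ((L.comap (QuotientGroup.mk' (pCore p H))).map (QuotientGroup.mk' (pCore p H))) :=
          Subgroup.relIndex_comap _ _ _
      _ = Nat.card L := by
          rw [Subgroup.map_comap_eq_self_of_surjective (QuotientGroup.mk'_surjective _),
            Subgroup.relIndex_bot_left]
  apply hcop
  exact index_coprime_of_autTrans hp (pCore p H) (L.comap (QuotientGroup.mk' (pCore p H)))
    hP0p hP0ne hP0inv hCP0
    (fun α x hx => comap_mk_autInv (pCore p H) hP0c L hLc α x hx) hP0Y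
    (by rw [hrel]; exact hLcop)
    (by rw [hrel]; intro h; exact hLne (Subgroup.card_eq_one.mp h)) htr

end Main

section Transfer

variable {G : Type*} [Group G] [Finite G]

/-- Transitivity on subgroups of order `p` passes to the quotient by a characteristic
`p'`-subgroup, in elementwise form. -/
theorem trans_quotient {p : ℕ} [Fact p.Prime] (K : Subgroup G) [K.Normal]
    (hKc : K.Characteristic) (hKcop : (Nat.card K).Coprime p)
    (htrans : ∀ U V : Subgroup G, Nat.card U = p → Nat.card V = p →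
      ∃ a : MulAut G, U.map a.toMonoidHom = V)
    (xb yb : G ⧸ K) (hx : orderOf xb = p) (hy : orderOf yb = p) :
    ∃ α : MulAut (G ⧸ K), yb ∈ Subgroup.zpowers (α xb) := by
  have hpp : p.Prime := Fact.out
  obtain ⟨m, hm⟩ : ∃ m : ℕ, m = Nat.card K := ⟨_, rfl⟩
  rw [← hm] at hKcop
  obtain ⟨x0, rfl⟩ := QuotientGroup.mk'_surjective K xb
  obtain ⟨y0, rfl⟩ := QuotientGroup.mk'_surjective K yb
  have hker : ∀ z : G, QuotientGroup.mk' K z = 1 ↔ z ∈ K := by
    intro z
    rw [← MonoidHom.mem_ker, QuotientGroup.ker_mk']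
  have lift : ∀ z0 : G, orderOf (QuotientGroup.mk' K z0) = p → orderOf (z0 ^ m) = p := by
    intro z0 hz
    apply orderOf_eq_prime
    · have h0 : (QuotientGroup.mk' K z0) ^ p = 1 := by
        have h := pow_orderOf_eq_one (QuotientGroup.mk' K z0)
        rwa [hz] at h
      have h1 : z0 ^ p ∈ K := by
        rw [← hker, map_pow]; exact h0
      have h2 : (z0 ^ p) ^ m = 1 := by
        have h3 := pow_card_eq_one' (G := K) (x := ⟨z0 ^ p, h1⟩)
        have h4 := congrArg Subtype.val h3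
        rw [hm]
        exact h4
      rw [← pow_mul, mul_comm, pow_mul]; exact h2
    · intro h1
      have h2 : (QuotientGroup.mk' K z0) ^ m = 1 := by rw [← map_pow, h1, map_one]
      have hdvd := orderOf_dvd_of_pow_eq_one h2
      rw [hz] at hdvd
      exact (Nat.Prime.coprime_iff_not_dvd hpp).mp hKcop.symm hdvd
  have hxo := lift x0 hx
  have hyo := lift y0 hy
  obtain ⟨a, ha⟩ := htrans (Subgroup.zpowers (x0 ^ m)) (Subgroup.zpowers (y0 ^ m))
    (by rw [Nat.card_zpowers, hxo]) (by rw [Nat.card_zpowers, hyo])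
  have hKmap : K.map (a : G ≃* G).toMonoidHom = K := Subgroup.characteristic_iff_map_eq.mp hKc a
  refine ⟨QuotientGroup.congr K K a hKmap, ?_⟩
  have hy1 : y0 ^ m ∈ (Subgroup.zpowers (x0 ^ m)).map a.toMonoidHom := by
    rw [ha]; exact Subgroup.mem_zpowers _
  obtain ⟨u, hu, hau⟩ := hy1
  obtain ⟨j, rfl⟩ := Subgroup.mem_zpowers_iff.mp hu
  have e1 : (QuotientGroup.mk' K y0) ^ m =
      (((QuotientGroup.congr K K a hKmap) (QuotientGroup.mk' K x0)) ^ m) ^ j := by
    calc (QuotientGroup.mk' K y0) ^ m = QuotientGroup.mk' K (y0 ^ m) := (map_pow _ _ _).symm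
      _ = QuotientGroup.mk' K (a ((x0 ^ m) ^ j)) := congrArg (QuotientGroup.mk' K) hau.symm
      _ = (QuotientGroup.congr K K a hKmap) (QuotientGroup.mk' K ((x0 ^ m) ^ j)) :=
          (QuotientGroup.congr_mk' K K a hKmap _).symm
      _ = (((QuotientGroup.congr K K a hKmap) (QuotientGroup.mk' K x0)) ^ m) ^ j := by
          simp only [map_zpow, map_pow]
  have h4 : (QuotientGroup.mk' K y0) ^ m ∈
      Subgroup.zpowers ((QuotientGroup.congr K K a hKmap) (QuotientGroup.mk' K x0)) := by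
    rw [e1]
    exact zpow_mem (pow_mem (Subgroup.mem_zpowers _) m) j
  have h5 : Subgroup.zpowers ((QuotientGroup.mk' K y0) ^ m) =
      Subgroup.zpowers (QuotientGroup.mk' K y0) := by
    apply Subgroup.eq_of_le_of_card_ge
    · exact Subgroup.zpowers_le.mpr (pow_mem (Subgroup.mem_zpowers _) m)
    · rw [Nat.card_zpowers, Nat.card_zpowers,
        Nat.Coprime.orderOf_pow (by rw [hy]; exact hKcop.symm)]
  have h6 : QuotientGroup.mk' K y0 ∈ Subgroup.zpowers ((QuotientGroup.mk' K y0) ^ m) := by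
    rw [h5]; exact Subgroup.mem_zpowers _
  exact (Subgroup.zpowers_le.mpr h4) h6

/-- A finite `p`-soluble group, `p` odd, with `Aut` transitive on the subgroups of order `p`,
has `p`-length at most one. -/
theorem pLengthLE_one_of_autTrans {p : ℕ} [Fact p.Prime] (hp : p ≠ 2)
    (hdvd : p ∣ Nat.card G) (hG : IsPSolvable p G)
    (htrans : ∀ U V : Subgroup G, Nat.card U = p → Nat.card V = p →
      ∃ a : MulAut G, U.map a.toMonoidHom = V) :
    PLengthLE p 1 G := by
  have hpp : p.Prime := Fact.out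
  have hKn : (pPrimeCore p G).Normal := Cfsg.H5.pPrimeCore_normal p G
  have hKc : (pPrimeCore p G).Characteristic := Cfsg.H5.pPrimeCore_characteristic' p G
  have hKcop : (Nat.card (pPrimeCore p G)).Coprime p :=
    Cfsg.Agent.Lib.Helper1.pPrimeCore_coprime p
  apply Cfsg.Agent.Lib.Helper10.pLengthLE_one_of_index_coprime
  have hidx : (pPrimePCore p G).index = (pCore p (G ⧸ pPrimeCore p G)).index := by
    unfold pPrimePCore
    exact Subgroup.index_comap_of_surjective _ (QuotientGroup.mk'_surjective _)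
  rw [hidx]
  apply index_pCore_coprime hp
  · have h1 := Subgroup.card_eq_card_quotient_mul_card_subgroup (pPrimeCore p G)
    rw [h1] at hdvd
    exact Nat.Coprime.dvd_of_dvd_mul_right hKcop.symm hdvd
  · exact Cfsg.H5.isPSolvable_quotient _ hG
  · exact Cfsg.Agent.Lib.Helper10.pPrimeCore_quotient_eq_bot p
  · intro x y hx hy
    exact trans_quotient (pPrimeCore p G) hKc hKcop htrans x y hx hy

end Transfer

end Cfsg.Agent.Lib.Helper13.AutTrans
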