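import Mathlib
import Cfsg.Agent.Lib.Helper28.CG.Defs

/-! # S3412 farm (helper28), leaf [S3]: centralizers of non-identity elements of `SL(3,3)` have at
most 374 (in fact at most 364) elements.  (helper13)

`g ≠ 1` is not scalar, so there are `v, w` with `v, g v, w` a basis.  A matrix commuting with `g` is
determined by its values at `v` and `w`.  So `h ↦ (h v, h w)` and `h ↦ (-h v, -h w)` together give an
injection `C(g) ⊕ C(g) → Vec × Vec` (a clash between the two halves would give `h = -h'` as matrices,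
but `det (-h') = -1`), whence `2 |C(g)| ≤ 729`. -/

set_option autoImplicit false

namespace Cfsg.Agent.Lib.Helper28.CG

open Matrix

namespace Helper13

/-- explicit determinant of the matrix with columns `a b c` -/
def d3 (a b c : Vec) : ZMod 3 :=
  a 0 * b 1 * c 2 - a 0 * b 2 * c 1 - a 1 * b 0 * c 2 + a 1 * b 2 * c 0 + a 2 * b 0 * c 1
    - a 2 * b 1 * c 0

/-- the matrix with columns `a b c` -/
def colMat (a b c : Vec) : Matrix (Fin 3) (Fin 3) (ZMod 3) :=
  Matrix.of fun i j => (![a, b, c] j) i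

theorem det_colMat (a b c : Vec) : (colMat a b c).det = d3 a b c := by
  rw [Matrix.det_fin_three]
  simp [colMat, d3]
  ring

theorem mul_colMat (X : Matrix (Fin 3) (Fin 3) (ZMod 3)) (a b c : Vec) :
    X * colMat a b c = colMat (X *ᵥ a) (X *ᵥ b) (X *ᵥ c) := by
  ext i j
  fin_cases j <;> simp [colMat, Matrix.mul_apply, Matrix.mulVec, dotProduct]

theorem eq_of_agree {M X Y : Matrix (Fin 3) (Fin 3) (ZMod 3)} {v w : Vec}
    (hd : d3 v (M *ᵥ v) w ≠ 0) (hX : X * M = M * X) (hY : Y * M = M * Y)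
    (hv : X *ᵥ v = Y *ᵥ v) (hw : X *ᵥ w = Y *ᵥ w) : X = Y := by
  have hMv : X *ᵥ (M *ᵥ v) = Y *ᵥ (M *ᵥ v) := by
    rw [Matrix.mulVec_mulVec, Matrix.mulVec_mulVec, hX, hY, ← Matrix.mulVec_mulVec,
      ← Matrix.mulVec_mulVec, hv]
  have hB : X * colMat v (M *ᵥ v) w = Y * colMat v (M *ᵥ v) w := by
    rw [mul_colMat, mul_colMat, hv, hMv, hw]
  have hunit : IsUnit (colMat v (M *ᵥ v) w).det := by
    rw [det_colMat]; exact isUnit_iff_ne_zero.mpr hd
  have h2 := congrArg (· * (colMat v (M *ᵥ v) w)⁻¹) hB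
  simpa [Matrix.mul_assoc, Matrix.mul_nonsing_inv _ hunit] using h2

theorem lemA : ∀ c : Vec, ∀ i k : Fin 3, k ≠ i → c k ≠ 0 →
    ∃ w : Vec, d3 (Pi.single i 1) c w ≠ 0 := by
  decide +kernel

theorem lemB : ∀ t : Vec, t 0 * t 1 * t 2 = 1 → t ≠ 1 →
    ∃ v w : Vec, d3 v (fun i => t i * v i) w ≠ 0 := by
  decide +kernel

theorem exists_basis (M : Matrix (Fin 3) (Fin 3) (ZMod 3)) (hdet : M.det = 1) (hM : M ≠ 1) :
    ∃ v w : Vec, d3 v (M *ᵥ v) w ≠ 0 := by
  by_cases hoff : ∃ i k : Fin 3, k ≠ i ∧ M k i ≠ 0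
  · obtain ⟨i, k, hki, hne⟩ := hoff
    have hcol : M *ᵥ (Pi.single i 1) = fun k => M k i := by
      ext k; simp
    obtain ⟨w, hw⟩ := lemA (fun k => M k i) i k hki hne
    exact ⟨Pi.single i 1, w, by rw [hcol]; exact hw⟩
  · push Not at hoff
    have hdiag : M = Matrix.diagonal (fun i => M i i) := by
      ext i j
      by_cases hij : i = j
      · subst hij; simp
      · rw [Matrix.diagonal_apply_ne _ hij]; exact hoff j i hij
    have ht : M 0 0 * M 1 1 * M 2 2 = 1 := by
      rw [hdiag, Matrix.det_diagonal, Fin.prod_univ_three] at hdet; exact hdet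
    have ht1 : (fun i => M i i) ≠ (1 : Vec) := by
      intro e; apply hM; rw [hdiag, e]; exact Matrix.diagonal_one
    obtain ⟨v, w, hvw⟩ := lemB (fun i => M i i) ht ht1
    refine ⟨v, w, ?_⟩
    have : M *ᵥ v = fun i => M i i * v i := by
      conv_lhs => rw [hdiag]
      ext i; simp [Matrix.mulVec_diagonal]
    rw [this]; exact hvw

theorem card_Vec : Nat.card Vec = 27 := by
  rw [Nat.card_eq_fintype_card]; simp [ZMod.card]

theorem one_ne_neg_one : (1 : ZMod 3) ≠ -1 := by decide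

end Helper13

/-- [S3] centralizers of non-identity elements of `SL(3,3)` are small -/
theorem S33_card_centralizer_le (g : S33) (hg : g ≠ 1) :
    Nat.card (Subgroup.centralizer ({g} : Set S33)) ≤ 374 := by
  have hM1 : (g : Matrix (Fin 3) (Fin 3) (ZMod 3)) ≠ 1 := by
    intro e; apply hg; apply Subtype.ext; exact e
  obtain ⟨v, w, hvw⟩ := Helper13.exists_basis _ g.det_coe hM1
  have hcomm : ∀ h : Subgroup.centralizer ({g} : Set S33),
      ((h.1 : S33) : Matrix (Fin 3) (Fin 3) (ZMod 3)) * (g : Matrix (Fin 3) (Fin 3) (ZMod 3))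
        = (g : Matrix (Fin 3) (Fin 3) (ZMod 3)) * ((h.1 : S33) : Matrix (Fin 3) (Fin 3) (ZMod 3)) := by
    intro h
    have h1 := h.2
    rw [Subgroup.mem_centralizer_iff] at h1
    have h2 := h1 g (Set.mem_singleton g)
    have h3 := congrArg (fun x : S33 => (x : Matrix (Fin 3) (Fin 3) (ZMod 3))) h2
    simp only [Matrix.SpecialLinearGroup.coe_mul] at h3
    exact h3.symm
  let ψ : (Subgroup.centralizer ({g} : Set S33)) ⊕ (Subgroup.centralizer ({g} : Set S33)) →
      Vec × Vec := fun x => match x with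
    | Sum.inl h => (((h.1 : S33) : Matrix (Fin 3) (Fin 3) (ZMod 3)) *ᵥ v,
        ((h.1 : S33) : Matrix (Fin 3) (Fin 3) (ZMod 3)) *ᵥ w)
    | Sum.inr h => ((-((h.1 : S33) : Matrix (Fin 3) (Fin 3) (ZMod 3))) *ᵥ v,
        (-((h.1 : S33) : Matrix (Fin 3) (Fin 3) (ZMod 3))) *ᵥ w)
  have hnegcomm : ∀ h : Subgroup.centralizer ({g} : Set S33),
      (-((h.1 : S33) : Matrix (Fin 3) (Fin 3) (ZMod 3))) * (g : Matrix (Fin 3) (Fin 3) (ZMod 3))
        = (g : Matrix (Fin 3) (Fin 3) (ZMod 3)) * (-((h.1 : S33) : Matrix (Fin 3) (Fin 3) (ZMod 3))) := by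
    intro h; rw [neg_mul, mul_neg, hcomm h]
  have hclash : ∀ h h' : Subgroup.centralizer ({g} : Set S33),
      ((h.1 : S33) : Matrix (Fin 3) (Fin 3) (ZMod 3)) ≠
        -((h'.1 : S33) : Matrix (Fin 3) (Fin 3) (ZMod 3)) := by
    intro h h' e
    have hd := congrArg Matrix.det e
    rw [Matrix.det_neg, h.1.det_coe, h'.1.det_coe] at hd
    simp only [Fintype.card_fin, mul_one] at hd
    have h3 : ((-1 : ZMod 3)) ^ 3 = -1 := by decide
    rw [h3] at hd
    exact Helper13.one_ne_neg_one hd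
  have hinj : Function.Injective ψ := by
    rintro (h | h) (h' | h') e
    · simp only [ψ, Prod.mk.injEq] at e
      have := Helper13.eq_of_agree hvw (hcomm h) (hcomm h') e.1 e.2
      congr 1; exact Subtype.ext (Subtype.ext this)
    · simp only [ψ, Prod.mk.injEq] at e
      exact absurd (Helper13.eq_of_agree hvw (hcomm h) (hnegcomm h') e.1 e.2) (hclash h h')
    · simp only [ψ, Prod.mk.injEq] at e
      exact absurd (Helper13.eq_of_agree hvw (hcomm h') (hnegcomm h) e.1.symm e.2.symm)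
        (hclash h' h)
    · simp only [ψ, Prod.mk.injEq] at e
      have := Helper13.eq_of_agree hvw (hnegcomm h) (hnegcomm h') e.1 e.2
      congr 1; exact Subtype.ext (Subtype.ext (neg_injective this))
  have hcard := Nat.card_le_card_of_injective ψ hinj
  rw [Nat.card_sum, Nat.card_prod, Helper13.card_Vec] at hcard
  omega

end Cfsg.Agent.Lib.Helper28.CG
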