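import Mathlib
import Cfsg.Agent.Lib.Helper28.CG.Defs

/-! # S3412 farm (helper28), leaf [S4]: only the identity of `SL(3,3)` commutes with all
transvections.  (helper13) -/

set_option autoImplicit false

namespace Cfsg.Agent.Lib.Helper28.CG

open Matrix

namespace Helper13

theorem tv_single (i j : Fin 3) :
    tv (Pi.single i 1) (Pi.single j 1) = 1 + Matrix.single i j (1 : ZMod 3) := by
  unfold tv
  congr 1
  ext a b
  simp only [Matrix.vecMulVec_apply, Matrix.single_apply, Pi.single_apply]
  by_cases h1 : i = a <;> by_cases h2 : j = b <;> simp [h1, h2, eq_comm]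

theorem flag_single : ∀ i j : Fin 3, i ≠ j →
    IsFlagPair (Pi.single i 1 : Vec) (Pi.single j 1 : Vec) := by
  decide

theorem cube_eq_one : ∀ c : ZMod 3, c ^ 3 = 1 → c = 1 := by decide

end Helper13

/-- [S4] only the identity commutes with all transvections -/
theorem S33_eq_one_of_commute_tv (g : S33)
    (h : ∀ v φ : Vec, IsFlagPair v φ →
      (g : Matrix (Fin 3) (Fin 3) (ZMod 3)) * tv v φ = tv v φ * g) : g = 1 := by
  have hM : (g : Matrix (Fin 3) (Fin 3) (ZMod 3)) ∈ Set.range (Matrix.scalar (Fin 3)) := by
    apply Matrix.mem_range_scalar_of_commute_single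
    intro i j hij
    have := h _ _ (Helper13.flag_single i j hij)
    rw [Helper13.tv_single, mul_add, add_mul, mul_one, one_mul] at this
    exact (add_left_cancel this).symm
  obtain ⟨c, hc⟩ := hM
  have hdet := g.det_coe
  rw [← hc] at hdet
  have hc3 : c ^ 3 = 1 := by
    simpa [Matrix.scalar_apply, Matrix.det_diagonal, Fin.prod_univ_three, pow_succ] using hdet
  have hc1 : c = 1 := Helper13.cube_eq_one c hc3
  apply Subtype.ext
  rw [← hc, hc1]
  simp

end Cfsg.Agent.Lib.Helper28.CG
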