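import Cfsg.Agent.Lib.Helper14.StCC.Defs

set_option autoImplicit false

/-! S2107 (the Schur multiplier of `E₈(q)` is trivial for every `q`): central extensions of the
group of type `E₈` presented by (R1), (R2) split over EVERY field, by commutator calculus only
(Milnor, Stein) - no torus.  Shared table predicates (architect helper13).

* `CommR D r a`: the roots `r`, `a` commute (`a ≠ ± r`, `r + a` not a root).
* `Dcmp D a b q`: `q = a + b`, the commutator formula of `(a, b)` is the single term `(q, ±1, 1, 1)`.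
* `Dec1 D r s`: `s = a + b` with `a`, `b` both commuting with `r`.
* `Chain D a b a' b' q`: the decompositions `(a, b)`, `(a', b')` of `q` are linked by a root `c`,
  `a' = a + c`, `b = c + b'`, with `a ⟂ b'`, `a' ⟂ b`, and `q`, `b` commuting.
* `RefOK D q a b`: `(a, b)` is a usable reference decomposition of `q`.
* `PathP D r s a b q`: the decomposition `(r, s)` of `q` is the reference `(a, b)`, or its swap, or
  linked to it by a chain (possibly after a swap). -/

namespace Cfsg.Agent.Lib.Helper13.E8CC

open Cfsg.Lie Cfsg.Agent.Lib.Helper8.Chev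

/-- the roots `r`, `a` commute -/
def CommR (D : ChevalleyDatum) (r a : ℕ) : Prop :=
  a ≠ r ∧ a ≠ D.neg r ∧ D.commTerms r a = []

/-- `(a, b)` is an admissible ordered pair whose commutator formula is the single term
`(q, ε, 1, 1)` with `ε = ± 1` -/
def Dcmp (D : ChevalleyDatum) (a b q : ℕ) : Prop :=
  a < D.nroots ∧ b < D.nroots ∧ q < D.nroots ∧ b ≠ a ∧ b ≠ D.neg a ∧
    ∃ ε : ℤ, (ε = 1 ∨ ε = -1) ∧ D.commTerms a b = [(q, ε, 1, 1)]

/-- `s = a + b` with `a`, `b` both commuting with `r` -/
def Dec1 (D : ChevalleyDatum) (r s : ℕ) : Prop :=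
  ∃ a b : ℕ, Dcmp D a b s ∧ CommR D r a ∧ CommR D r b

/-- the decompositions `(a, b)` and `(a', b')` of `q` are linked by a chain `(a, c, b')` -/
def Chain (D : ChevalleyDatum) (a b a' b' q : ℕ) : Prop :=
  ∃ c : ℕ, Dcmp D a c a' ∧ Dcmp D c b' b ∧ Dcmp D a b q ∧ Dcmp D a' b' q ∧
    CommR D a b' ∧ CommR D a' b ∧ CommR D q b

/-- `(a, b)` is a usable reference decomposition of `q` -/
def RefOK (D : ChevalleyDatum) (q a b : ℕ) : Prop :=
  Dcmp D a b q ∧ CommR D q a ∧ ∃ a' b' : ℕ, Chain D a b a' b' q

/-- the decomposition `(r, s)` of `q` is joined to the reference decomposition `(a, b)` -/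
def PathP (D : ChevalleyDatum) (r s a b q : ℕ) : Prop :=
  (r = a ∧ s = b) ∨ (s = a ∧ r = b) ∨ Chain D r s a b q ∨ Chain D s r a b q

/-- the reference decompositions `q = a + b` of the 240 roots of `E₈` (indices of `chevE8`) -/
def refL : List (ℕ × ℕ) :=
    [(1, 119), (0, 120), (0, 122), (0, 125), (0, 129), (0, 134), (0, 140), (0, 146), (0, 151), (0,
    155), (0, 158), (0, 160), (0, 161), (1, 161), (0, 168), (0, 173), (0, 177), (0, 180), (0, 182),
    (0, 183), (1, 183), (0, 187), (0, 190), (0, 192), (0, 193), (1, 193), (0, 196), (0, 198), (0,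
    199), (1, 199), (0, 201), (0, 202), (1, 202), (0, 203), (1, 203), (2, 203), (0, 206), (0, 208),
    (0, 209), (1, 209), (0, 211), (0, 212), (1, 212), (0, 213), (1, 213), (2, 213), (0, 215), (0,
    216), (1, 216), (0, 217), (1, 217), (2, 217), (0, 218), (1, 218), (2, 218), (3, 218), (0, 220),
    (0, 221), (1, 221), (0, 222), (1, 222), (2, 222), (0, 223), (1, 223), (2, 223), (3, 223), (0,
    224), (1, 224), (2, 224), (3, 224), (4, 224), (0, 225), (1, 225), (2, 225), (3, 225), (4, 225),
    (5, 225), (6, 225), (0, 227), (0, 228), (1, 228), (0, 229), (1, 229), (2, 229), (0, 230), (1,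
    230), (2, 230), (3, 230), (0, 231), (1, 231), (2, 231), (3, 231), (4, 231), (0, 232), (1, 232),
    (2, 232), (3, 232), (4, 232), (5, 232), (0, 233), (1, 233), (2, 233), (3, 233), (4, 233), (5,
    233), (0, 234), (1, 234), (2, 234), (3, 234), (4, 234), (0, 235), (1, 235), (2, 235), (3, 235),
    (0, 236), (1, 236), (2, 236), (0, 237), (1, 237), (0, 238), (1, 239), (2, 238), (2, 239), (3,
    237), (3, 238), (3, 239), (4, 236), (4, 237), (4, 238), (4, 239), (5, 235), (5, 236), (5, 237),
    (5, 238), (5, 239), (6, 234), (6, 235), (6, 236), (6, 237), (6, 238), (6, 239), (7, 234), (7,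
    235), (7, 236), (7, 237), (7, 238), (7, 239), (8, 235), (8, 236), (8, 237), (8, 238), (8, 239),
    (9, 236), (9, 237), (9, 238), (9, 239), (10, 237), (10, 238), (10, 239), (11, 238), (11, 239),
    (12, 239), (14, 233), (14, 234), (14, 235), (14, 236), (14, 237), (14, 238), (14, 239), (15,
    235), (15, 236), (15, 237), (15, 238), (15, 239), (16, 236), (16, 237), (16, 238), (16, 239),
    (17, 237), (17, 238), (17, 239), (18, 238), (18, 239), (19, 239), (21, 236), (21, 237), (21,
    238), (21, 239), (22, 237), (22, 238), (22, 239), (23, 238), (23, 239), (24, 239), (26, 237),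
    (26, 238), (26, 239), (27, 238), (27, 239), (28, 239), (30, 238), (30, 239), (31, 239), (33,
    239), (36, 237), (36, 238), (36, 239), (37, 238), (37, 239), (38, 239), (40, 238), (40, 239),
    (41, 239), (43, 239), (46, 238), (46, 239), (47, 239), (49, 239), (52, 239), (56, 238), (56,
    239), (57, 239), (59, 239), (62, 239), (66, 239), (71, 239), (78, 238), (78, 239), (79, 239),
    (81, 239), (84, 239), (88, 239), (93, 239), (99, 239), (105, 239), (110, 239), (114, 239), (117,
    239), (119, 239), (120, 238)]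

/-- the reference decomposition of the root `q` of `E₈` -/
def refE8 (q : ℕ) : ℕ × ℕ := refL.getD q (0, 0)

end Cfsg.Agent.Lib.Helper13.E8CC
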