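import Mathlib
import Cfsg.Agent.Lib.Helper13.HallHigmanLite

set_option autoImplicit false

namespace Cfsg.Agent.Lib.Helper13

open Module

/-- A chain argument: if `D` preserves the subspace `K`, `D^(k+1) x ∈ K` but `D^k x ∉ K`, then
`K` has codimension at least `k + 1`. -/
theorem finrank_add_le_of_pow_mem {F M : Type*} [Field F] [AddCommGroup M] [Module F M]
    [FiniteDimensional F M] (D : M →ₗ[F] M) (K : Submodule F M) (hK : ∀ m ∈ K, D m ∈ K)
    (x : M) (k : ℕ) (h1 : (D ^ (k + 1)) x ∈ K) (h2 : (D ^ k) x ∉ K) :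
    finrank F K + (k + 1) ≤ finrank F M := by
  have key : ∀ j : ℕ, j ≤ k + 1 → finrank F K + j ≤ finrank F (K.comap (D ^ j)) := by
    intro j
    induction j with
    | zero =>
      intro _
      have : K.comap (D ^ 0) = K := by
        ext m
        simp
      rw [this, add_zero]
    | succ j ih =>
      intro hj
      have hjk : j ≤ k := by omega
      have hlt : K.comap (D ^ j) < K.comap (D ^ (j + 1)) := by
        refine lt_of_le_of_ne ?_ ?_
        · intro m hm
          rw [Submodule.mem_comap] at hm ⊢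
          rw [pow_succ', Module.End.mul_apply]
          exact hK _ hm
        · intro heq
          have hw1 : (D ^ (k - j)) x ∈ K.comap (D ^ (j + 1)) := by
            rw [Submodule.mem_comap, ← Module.End.mul_apply, ← pow_add]
            have : j + 1 + (k - j) = k + 1 := by omega
            rw [this]
            exact h1
          rw [← heq, Submodule.mem_comap, ← Module.End.mul_apply, ← pow_add] at hw1
          have : j + (k - j) = k := by omega
          rw [this] at hw1
          exact h2 hw1
      have := Submodule.finrank_lt_finrank_of_lt hlt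
      have := ih (by omega)
      omega
  have h3 := key (k + 1) le_rfl
  have h4 : finrank F (K.comap (D ^ (k + 1))) ≤ finrank F M := Submodule.finrank_le _
  omega

/-- additive form of `card_mul_pow_le_of_norm_not_mem` -/
theorem card_mul_pow_le_of_sum_not_mem {M : Type*} [AddCommGroup M] [Finite M] {p : ℕ}
    [Fact p.Prime] [Module (ZMod p) M] (τ : M →+ M) (hτ : ∀ v, τ^[p] v = v) (K : AddSubgroup M)
    (hK : ∀ v ∈ K, τ v ∈ K) (x : M) (hx : ∑ i ∈ Finset.range p, τ^[i] x ∉ K) :
    Nat.card K * p ^ p ≤ Nat.card M := by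
  have hp : p.Prime := Fact.out
  have hM : ∀ m : M, p • m = 0 := by
    intro m
    have h1 : ((p : ℕ) : ZMod p) • m = 0 := by rw [ZMod.natCast_self, zero_smul]
    rwa [Nat.cast_smul_eq_nsmul] at h1
  let τ' : M →ₗ[ZMod p] M := AddMonoidHom.toZModLinearMap p τ
  have hτ' : ∀ m : M, τ' m = τ m := fun m => rfl
  let K'' : Submodule (ZMod p) M := AddSubgroup.toZModSubmodule p K
  have hK'' : ∀ m : M, m ∈ K'' ↔ m ∈ K := fun m => Iff.rfl
  have hR : ((p : ℕ) : Module.End (ZMod p) M) = 0 := by
    apply LinearMap.ext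
    intro m
    rw [Module.End.natCast_apply, hM]
    rfl
  have hpow : ∀ (i : ℕ) (m : M), (τ' ^ i) m = τ^[i] m := by
    intro i
    induction i with
    | zero => intro m; simp
    | succ i ih =>
      intro m
      rw [pow_succ', Module.End.mul_apply, ih, hτ', Function.iterate_succ_apply']
  have hgeom : ∑ i ∈ Finset.range p, τ' ^ i = (τ' - 1) ^ (p - 1) :=
    geom_sum_eq_sub_one_pow hp hR τ'
  have hτp : τ' ^ p = 1 := by
    apply LinearMap.ext
    intro m
    rw [hpow, hτ]
    rfl
  have hDp : (τ' - 1) ^ (p - 1 + 1) = 0 := by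
    rw [pow_succ, ← hgeom, geom_sum_mul, hτp, sub_self]
  have hDK : ∀ m ∈ K'', (τ' - 1) m ∈ K'' := by
    intro m hm
    rw [LinearMap.sub_apply, Module.End.one_apply]
    exact K''.sub_mem ((hK'' _).mpr (hK _ ((hK'' m).mp hm))) hm
  have h1 : ((τ' - 1) ^ (p - 1 + 1)) x ∈ K'' := by
    rw [hDp]
    exact K''.zero_mem
  have h2 : ((τ' - 1) ^ (p - 1)) x ∉ K'' := by
    rw [← hgeom, LinearMap.sum_apply]
    intro hmem
    apply hx
    have h3 : ∑ i ∈ Finset.range p, (τ' ^ i) x = ∑ i ∈ Finset.range p, τ^[i] x := by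
      apply Finset.sum_congr rfl
      intro i _
      rw [hpow]
    rw [h3] at hmem
    exact (hK'' _).mp hmem
  have hrank := finrank_add_le_of_pow_mem (τ' - 1) K'' hDK x (p - 1) h1 h2
  have hp1 : p - 1 + 1 = p := Nat.sub_add_cancel hp.one_le
  rw [hp1] at hrank
  have hcV : Nat.card M = p ^ finrank (ZMod p) M := by
    have h := Module.natCard_eq_pow_finrank (K := ZMod p) (V := M)
    rwa [Nat.card_zmod] at h
  have hcK : Nat.card K = p ^ finrank (ZMod p) K'' := by
    have h := Module.natCard_eq_pow_finrank (K := ZMod p) (V := K'')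
    rw [Nat.card_zmod] at h
    rw [← h]
    rfl
  rw [hcV, hcK, ← pow_add]
  exact Nat.pow_le_pow_right hp.pos hrank

/-- In a finite elementary abelian `p`-group `V` with an endomorphism `τ` of order dividing `p`
preserving a subgroup `K`, if the norm `∏_{i<p} τ^i x` of some element is outside `K` then
`K` has index at least `p ^ p`. -/
theorem card_mul_pow_le_of_norm_not_mem {V : Type*} [CommGroup V] [Finite V] {p : ℕ} [Fact p.Prime]
    (hV : ∀ v : V, v ^ p = 1) (τ : V →* V) (hτ : ∀ v, τ^[p] v = v) (K : Subgroup V)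
    (hK : ∀ v ∈ K, τ v ∈ K) (x : V) (hx : ∏ i ∈ Finset.range p, τ^[i] x ∉ K) :
    Nat.card K * p ^ p ≤ Nat.card V := by
  have hM : ∀ m : Additive V, p • m = 0 := fun m => congrArg Additive.ofMul (hV m.toMul)
  have hiter : ∀ (i : ℕ) (m : Additive V),
      (MonoidHom.toAdditive τ)^[i] m = Additive.ofMul (τ^[i] m.toMul) := by
    intro i
    induction i with
    | zero => intro m; rfl
    | succ i ih =>
      intro m
      rw [Function.iterate_succ_apply', ih, Function.iterate_succ_apply']
      rfl
  have h := @card_mul_pow_le_of_sum_not_mem (Additive V) _ _ p _ (AddCommGroup.zmodModule hM)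
    (MonoidHom.toAdditive τ) (fun v => by rw [hiter, hτ]; rfl) (Subgroup.toAddSubgroup K)
    (fun v hv => hK _ hv) (Additive.ofMul x) (by
      intro hmem
      apply hx
      have h3 : ∑ i ∈ Finset.range p, (MonoidHom.toAdditive τ)^[i] (Additive.ofMul x) =
          Additive.ofMul (∏ i ∈ Finset.range p, τ^[i] x) := by
        rw [ofMul_prod]
        apply Finset.sum_congr rfl
        intro i _
        rw [hiter]
        rfl
      rw [h3] at hmem
      exact hmem)
  have e1 : Nat.card (Subgroup.toAddSubgroup K) = Nat.card K := rfl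
  have e2 : Nat.card (Additive V) = Nat.card V := rfl
  rw [e1, e2] at h
  exact h

/-- a linear functional (as additive map) not vanishing at a given nonzero vector -/
theorem exists_addMonoidHom_zmod_ne_zero {M : Type*} [AddCommGroup M] {p : ℕ} [Fact p.Prime]
    [Module (ZMod p) M] (v : M) (hv : v ≠ 0) :
    ∃ φ : M →+ ZMod p, Function.Surjective φ ∧ φ v ≠ 0 := by
  obtain ⟨φ, hφ⟩ : ∃ φ : Module.Dual (ZMod p) M, φ v ≠ 0 := by
    by_contra hcon
    push Not at hcon
    exact hv ((Module.forall_dual_apply_eq_zero_iff (ZMod p) _).mp hcon)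
  have hφ0 : φ ≠ 0 := fun h => hφ (by rw [h]; rfl)
  exact ⟨φ.toAddMonoidHom, LinearMap.surjective hφ0, hφ⟩

/-- In an elementary abelian `p`-group, every non-identity element lies outside some subgroup of index `p`. -/
theorem exists_index_p_not_mem {V : Type*} [CommGroup V] {p : ℕ} [Fact p.Prime]
    (hV : ∀ v : V, v ^ p = 1) (v : V) (hv : v ≠ 1) :
    ∃ H : Subgroup V, v ∉ H ∧ H.index = p := by
  have hM : ∀ m : Additive V, p • m = 0 := fun m => congrArg Additive.ofMul (hV m.toMul)
  have hv' : Additive.ofMul v ≠ 0 := fun h => hv (Additive.ofMul.injective h)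
  obtain ⟨φ, hsurj, hφ⟩ := @exists_addMonoidHom_zmod_ne_zero (Additive V) _ p _
    (AddCommGroup.zmodModule hM) (Additive.ofMul v) hv'
  let f : V →* Multiplicative (ZMod p) := AddMonoidHom.toMultiplicativeRight φ
  have hf : ∀ w : V, f w = Multiplicative.ofAdd (φ (Additive.ofMul w)) := fun w => rfl
  refine ⟨f.ker, ?_, ?_⟩
  · rw [MonoidHom.mem_ker, hf]
    intro h
    exact hφ (Multiplicative.ofAdd.injective h)
  · rw [Subgroup.index_ker]
    have hfs : Function.Surjective f := by
      intro z
      obtain ⟨m, hm⟩ := hsurj z.toAdd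
      exact ⟨m.toMul, by rw [hf]; exact congrArg Multiplicative.ofAdd hm⟩
    rw [MonoidHom.range_eq_top.mpr hfs, Subgroup.card_top]
    rw [Nat.card_congr Multiplicative.toAdd, Nat.card_zmod]

end Cfsg.Agent.Lib.Helper13
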