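import Mathlib
import Cfsg.Prelude.Def_ParabolicCharacters
import Cfsg.Agent.Lib.Helper15.Bruhat

/-!
# Upper triangular matrices over `ZMod 2`, the big cell, and Sylow `2`-subgroups meeting

* `upper_pow_eq_one`, `isPGroup_upper`: the upper triangular group of `GL_n(ZMod 2)` is a `2`-group.
* `mem_bigcell_of_TI`: if `B ∩ γ B γ⁻¹ = 1` then `γ ∈ B w₀ B` (any finite field).
* `core`, `sylow_meet`, `sylow_meet_of_hom`: in a group with a subgroup `N` of index two which has a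
  `BN`-like big cell property, two Sylow `2`-subgroups always meet non-trivially.
-/

set_option autoImplicit false
open scoped MatrixGroups Pointwise

namespace Cfsg.Agent.Lib.Helper13.GL2S

open Matrix Cfsg.Agent.Lib.Helper15.Bru

/-! ### the upper triangular group over `ZMod 2` is a `2`-group -/

theorem upper_pow_eq_one {n : ℕ} (b : GL (Fin n) (ZMod 2))
    (hb : b ∈ Cfsg.upperTriangularGL n (ZMod 2)) : b ^ (2 ^ n) = 1 := by
  rcases Nat.eq_zero_or_pos n with hn | hn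
  · subst hn
    apply Units.ext
    exact Subsingleton.elim _ _
  have : Nonempty (Fin n) := ⟨⟨0, hn⟩⟩
  obtain ⟨M, hM⟩ : ∃ M : Matrix (Fin n) (Fin n) (ZMod 2),
      M = (b : Matrix (Fin n) (Fin n) (ZMod 2)) := ⟨_, rfl⟩
  have hMtri : M.BlockTriangular id := by rw [hM]; exact hb
  have hdet : M.det ≠ 0 := by rw [hM]; exact b.det_ne_zero
  have hdiag : ∀ i, M i i = 1 := by
    intro i
    rw [Matrix.det_of_isUpperTriangular hMtri] at hdet
    have h1 : M i i ≠ 0 := (Finset.prod_ne_zero_iff.1 hdet) i (Finset.mem_univ i)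
    have h2 : ∀ a : ZMod 2, a ≠ 0 → a = 1 := by decide
    exact h2 _ h1
  have hchar : M.charpoly = (Polynomial.X - Polynomial.C 1) ^ n := by
    rw [Matrix.charpoly_of_isUpperTriangular M hMtri]
    simp only [hdiag]
    rw [Finset.prod_const, Finset.card_univ, Fintype.card_fin]
  have hnil : (M - 1) ^ n = 0 := by
    have h := Matrix.aeval_self_charpoly M
    rw [hchar] at h
    simpa using h
  have hle : n ≤ 2 ^ n := (Nat.lt_pow_self (by norm_num : 1 < 2)).le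
  have hpow : M ^ (2 ^ n) = 1 := by
    have h2 : ((M - 1) + 1) ^ (2 ^ n) = (M - 1) ^ (2 ^ n) + 1 ^ (2 ^ n) :=
      add_pow_char_pow_of_commute 2 n (Commute.one_right _)
    have h3 : (M - 1) ^ (2 ^ n) = 0 := pow_eq_zero_of_le hle hnil
    calc M ^ (2 ^ n) = ((M - 1) + 1) ^ (2 ^ n) := by rw [sub_add_cancel]
      _ = 1 := by rw [h2, h3, one_pow, zero_add]
  apply Units.ext
  rw [Units.val_pow_eq_pow_val, Units.val_one, ← hM]
  exact hpow

theorem isPGroup_upper (n : ℕ) : IsPGroup 2 (Cfsg.upperTriangularGL n (ZMod 2)) := by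
  intro b
  refine ⟨n, ?_⟩
  exact Subtype.ext ((Subgroup.coe_pow _ b (2 ^ n)).trans (upper_pow_eq_one b.1 b.2))

/-! ### transvections and permutation matrices -/

variable {F : Type*} [Field F] {n : ℕ}

theorem tGL_mul_permGL (σ : Equiv.Perm (Fin n)) (i j : Fin n) (h : i ≠ j) (c : F) :
    tGL i j h c * permGL σ = permGL σ * tGL (σ i) (σ j) (σ.injective.ne h) c := by
  apply Units.ext
  change Matrix.transvection i j c * σ.toPEquiv.toMatrix
    = σ.toPEquiv.toMatrix * Matrix.transvection (σ i) (σ j) c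
  rw [PEquiv.mul_toMatrix_toPEquiv, PEquiv.toMatrix_toPEquiv_mul]
  ext a b
  simp only [Matrix.transvection, Matrix.add_apply, Matrix.one_apply, Matrix.single_apply,
    Matrix.submatrix_apply, id, Equiv.eq_symm_apply, EmbeddingLike.apply_eq_iff_eq]

theorem exists_lt_of_ne_rev (σ : Equiv.Perm (Fin n)) (h : σ ≠ Fin.revPerm) :
    ∃ i j, i < j ∧ σ i < σ j := by
  by_contra hne
  push Not at hne
  have hσ : StrictAnti (σ : Fin n → Fin n) := by
    intro i j hij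
    exact lt_of_le_of_ne (hne i j hij) (σ.injective.ne hij.ne')
  have hrev : StrictAnti (Fin.rev : Fin n → Fin n) := Fin.rev_strictAnti
  have heq : (σ : Fin n → Fin n) = Fin.rev :=
    (hσ.range_inj hrev).1 (by rw [σ.surjective.range_eq, Fin.rev_surjective.range_eq])
  exact h (Equiv.ext fun i => by rw [Fin.revPerm_apply]; exact congrFun heq i)

/-- If the upper triangular group meets its conjugate by `γ` trivially, then `γ` lies in the big
cell `B w₀ B`. -/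
theorem mem_bigcell_of_TI [Finite F] (γ : GL (Fin n) F)
    (hTI : ∀ b ∈ Cfsg.upperTriangularGL n F, γ⁻¹ * b * γ ∈ Cfsg.upperTriangularGL n F → b = 1) :
    ∃ b₁ ∈ Cfsg.upperTriangularGL n F, ∃ b₂ ∈ Cfsg.upperTriangularGL n F,
      γ = b₁ * permGL Fin.revPerm * b₂ := by
  obtain ⟨b₁, hb₁, b₂, hb₂, σ, hγ⟩ := bruhat γ
  by_cases hσ : σ = Fin.revPerm
  · exact ⟨b₁, hb₁, b₂, hb₂, by rw [hγ, hσ]⟩
  · exfalso
    obtain ⟨i, j, hij, hσij⟩ := exists_lt_of_ne_rev σ hσ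
    have ht : tGL i j hij.ne (1 : F) ∈ Cfsg.upperTriangularGL n F := tGL_mem i j hij 1
    have ht' : tGL (σ i) (σ j) (σ.injective.ne hij.ne) (1 : F) ∈ Cfsg.upperTriangularGL n F :=
      tGL_mem _ _ hσij 1
    have hcomm := tGL_mul_permGL σ i j hij.ne (1 : F)
    have hb : b₁ * tGL i j hij.ne (1 : F) * b₁⁻¹ ∈ Cfsg.upperTriangularGL n F :=
      Subgroup.mul_mem _ (Subgroup.mul_mem _ hb₁ ht) (Subgroup.inv_mem _ hb₁)
    have hconj : γ⁻¹ * (b₁ * tGL i j hij.ne (1 : F) * b₁⁻¹) * γ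
        = b₂⁻¹ * tGL (σ i) (σ j) (σ.injective.ne hij.ne) (1 : F) * b₂ := by
      rw [hγ]
      have e1 : (b₁ * permGL σ * b₂)⁻¹ * (b₁ * tGL i j hij.ne (1 : F) * b₁⁻¹)
          * (b₁ * permGL σ * b₂)
          = b₂⁻¹ * (permGL σ)⁻¹ * (tGL i j hij.ne (1 : F) * permGL σ) * b₂ := by group
      rw [e1, hcomm]
      group
    have h1 := hTI _ hb (by
      rw [hconj]
      exact Subgroup.mul_mem _ (Subgroup.mul_mem _ (Subgroup.inv_mem _ hb₂) ht') hb₂)
    have h2 : tGL i j hij.ne (1 : F) = 1 := by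
      calc tGL i j hij.ne (1 : F)
          = b₁⁻¹ * (b₁ * tGL i j hij.ne (1 : F) * b₁⁻¹) * b₁ := by group
        _ = 1 := by rw [h1]; group
    have h3 := congrArg (fun z : GL (Fin n) F => (z : Matrix (Fin n) (Fin n) F) i j) h2
    simp only [coe_tGL] at h3
    rw [Matrix.transvection, Matrix.add_apply, Matrix.one_apply_ne hij.ne, zero_add,
      Matrix.single_apply_same, Units.val_one, Matrix.one_apply_ne hij.ne] at h3
    exact one_ne_zero h3

/-! ### the abstract argument -/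

/-- Core argument: `N` of index two in `G`, `K` a subgroup not inside `N` containing `B₀ ≤ N`, and a
big cell property for `B₀` in `N`. Then `K` meets each of its conjugates non-trivially. -/
theorem core {G : Type*} [Group G] (N : Subgroup G) [hN : N.Normal] (hidx : N.index = 2)
    (B₀ : Subgroup G) (hB₀N : B₀ ≤ N) (w : G) (hw : w ∈ N)
    (hc : ∀ g ∈ N, (∀ b ∈ B₀, g⁻¹ * b * g ∈ B₀ → b = 1) → ∃ b₁ ∈ B₀, ∃ b₂ ∈ B₀, g = b₁ * w * b₂)
    (K : Subgroup G) (hBK : B₀ ≤ K) (t : G) (htK : t ∈ K) (htN : t ∉ N) (x : G) :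
    ∃ z, z ≠ 1 ∧ z ∈ K ∧ x⁻¹ * z * x ∈ K := by
  by_contra hcon
  push Not at hcon
  have hTIx : ∀ z ∈ K, x⁻¹ * z * x ∈ K → z = 1 := by
    intro z hz hzx
    by_contra hz1
    exact hcon z hz1 hz hzx
  -- reduce to an element of `N`
  obtain ⟨g, hgN, hTIg⟩ : ∃ g ∈ N, ∀ z ∈ K, g⁻¹ * z * g ∈ K → z = 1 := by
    by_cases hx : x ∈ N
    · exact ⟨x, hx, hTIx⟩
    · refine ⟨x * t⁻¹, ?_, ?_⟩
      · rw [Subgroup.mul_mem_iff_of_index_two hidx]
        constructor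
        · intro h; exact absurd h hx
        · intro h
          exact absurd (by simpa using N.inv_mem h) htN
      · intro z hz hzx
        apply hTIx z hz
        have e1 : x⁻¹ * z * x = t⁻¹ * ((x * t⁻¹)⁻¹ * z * (x * t⁻¹)) * t := by group
        rw [e1]
        exact K.mul_mem (K.mul_mem (K.inv_mem htK) hzx) htK
  obtain ⟨b₁, hb₁, b₂, hb₂, hg⟩ := hc g hgN (fun b hb hbg => hTIg b (hBK hb) (hBK hbg))
  -- trivial intersection for `w`
  have hTIw : ∀ z ∈ K, w⁻¹ * z * w ∈ K → z = 1 := by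
    intro z hz hzw
    have h1 : b₁ * z * b₁⁻¹ = 1 := by
      apply hTIg _ (K.mul_mem (K.mul_mem (hBK hb₁) hz) (K.inv_mem (hBK hb₁)))
      have e1 : g⁻¹ * (b₁ * z * b₁⁻¹) * g = b₂⁻¹ * (w⁻¹ * z * w) * b₂ := by
        rw [hg]; group
      rw [e1]
      exact K.mul_mem (K.mul_mem (K.inv_mem (hBK hb₂)) hzw) (hBK hb₂)
    calc z = b₁⁻¹ * (b₁ * z * b₁⁻¹) * b₁ := by group
      _ = 1 := by rw [h1]; group
  -- the conjugate `t w t⁻¹`
  have hg'N : t * w * t⁻¹ ∈ N := hN.conj_mem w hw t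
  obtain ⟨c₁, hc₁, c₂, hc₂, hg'⟩ := hc (t * w * t⁻¹) hg'N (by
    intro b hb hbg
    have hz : t⁻¹ * b * t ∈ K := K.mul_mem (K.mul_mem (K.inv_mem htK) (hBK hb)) htK
    have hzw : w⁻¹ * (t⁻¹ * b * t) * w ∈ K := by
      have e1 : w⁻¹ * (t⁻¹ * b * t) * w
          = t⁻¹ * ((t * w * t⁻¹)⁻¹ * b * (t * w * t⁻¹)) * t := by group
      rw [e1]
      exact K.mul_mem (K.mul_mem (K.inv_mem htK) (hBK hbg)) htK
    have h1 := hTIw _ hz hzw
    calc b = t * (t⁻¹ * b * t) * t⁻¹ := by group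
      _ = 1 := by rw [h1]; group)
  have hz : c₁⁻¹ * t ∈ K := K.mul_mem (K.inv_mem (hBK hc₁)) htK
  have hzw : w⁻¹ * (c₁⁻¹ * t) * w ∈ K := by
    have e1 : w⁻¹ * (c₁⁻¹ * t) * w = c₂ * t := by
      have h2 : t * w = c₁ * w * c₂ * t := by
        calc t * w = (t * w * t⁻¹) * t := by group
          _ = c₁ * w * c₂ * t := by rw [hg']
      calc w⁻¹ * (c₁⁻¹ * t) * w = w⁻¹ * c₁⁻¹ * (t * w) := by group
        _ = w⁻¹ * c₁⁻¹ * (c₁ * w * c₂ * t) := by rw [h2]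
        _ = c₂ * t := by group
    rw [e1]
    exact K.mul_mem (hBK hc₂) htK
  have h1 := hTIw _ hz hzw
  apply htN
  have e2 : t = c₁ := by
    calc t = c₁ * (c₁⁻¹ * t) := by group
      _ = c₁ := by rw [h1, mul_one]
  rw [e2]
  exact hB₀N hc₁

theorem mem_conj_smul_iff' {G : Type*} [Group G] (x z : G) (A : Subgroup G) :
    z ∈ MulAut.conj x • A ↔ x⁻¹ * z * x ∈ A := by
  rw [Subgroup.mem_pointwise_smul_iff_inv_smul_mem]
  simp only [MulAut.smul_def, ← map_inv, MulAut.conj_apply, inv_inv]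

/-- Sylow version of `core`. -/
theorem sylow_meet {G : Type*} [Group G] [Finite G] (N : Subgroup G) [N.Normal]
    (hidx : N.index = 2) (B₀ : Subgroup G) (hB₀N : B₀ ≤ N) (hB₀ : IsPGroup 2 B₀) (w : G)
    (hw : w ∈ N)
    (hc : ∀ g ∈ N, (∀ b ∈ B₀, g⁻¹ * b * g ∈ B₀ → b = 1) → ∃ b₁ ∈ B₀, ∃ b₂ ∈ B₀, g = b₁ * w * b₂)
    (H : Sylow 2 G) (x : G) :
    ∃ y, y ≠ 1 ∧ y ∈ (H : Subgroup G) ∧ x⁻¹ * y * x ∈ (H : Subgroup G) := by
  obtain ⟨Q, hBQ⟩ := hB₀.exists_le_sylow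
  obtain ⟨y, hy⟩ := MulAction.exists_smul_eq G H Q
  have hmem : ∀ z, z ∈ (Q : Subgroup G) ↔ y⁻¹ * z * y ∈ (H : Subgroup G) := by
    intro z
    rw [← hy]
    show z ∈ ((y • H : Sylow 2 G) : Subgroup G) ↔ _
    rw [Sylow.coe_subgroup_smul, mem_conj_smul_iff']
  obtain ⟨t, htQ, htN⟩ : ∃ t ∈ (Q : Subgroup G), t ∉ N := by
    by_contra hno
    push Not at hno
    have hQN : (Q : Subgroup G) ≤ N := fun z hz => hno z hz
    have hdvd : N.index ∣ (Q : Subgroup G).index := Subgroup.index_dvd_of_le hQN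
    rw [hidx] at hdvd
    exact Q.not_dvd_index hdvd
  obtain ⟨z, hz1, hzQ, hzx⟩ :=
    core N hidx B₀ hB₀N w hw hc (Q : Subgroup G) hBQ t htQ htN (y * x * y⁻¹)
  refine ⟨y⁻¹ * z * y, ?_, (hmem z).1 hzQ, ?_⟩
  · intro h
    apply hz1
    calc z = y * (y⁻¹ * z * y) * y⁻¹ := by group
      _ = 1 := by rw [h]; group
  · have h3 := (hmem _).1 hzx
    have e : y⁻¹ * ((y * x * y⁻¹)⁻¹ * z * (y * x * y⁻¹)) * y = x⁻¹ * (y⁻¹ * z * y) * x := by
      group
    rwa [e] at h3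

/-- Version where the big cell property is known in a group `Γ` isomorphic to `N`. -/
theorem sylow_meet_of_hom {G Γ : Type*} [Group G] [Finite G] [Group Γ] (N : Subgroup G) [N.Normal]
    (hidx : N.index = 2) (φ : N →* Γ) (hφ : Function.Bijective φ) (B : Subgroup Γ)
    (hB : IsPGroup 2 B) (w : Γ)
    (hc : ∀ γ : Γ, (∀ b ∈ B, γ⁻¹ * b * γ ∈ B → b = 1) → ∃ b₁ ∈ B, ∃ b₂ ∈ B, γ = b₁ * w * b₂)
    (H : Sylow 2 G) (x : G) :
    ∃ y, y ≠ 1 ∧ y ∈ (H : Subgroup G) ∧ x⁻¹ * y * x ∈ (H : Subgroup G) := by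
  obtain ⟨w₀, hw₀⟩ := hφ.2 w
  obtain ⟨B₀, hB₀def⟩ : ∃ B₀ : Subgroup G, B₀ = (B.comap φ).map N.subtype := ⟨_, rfl⟩
  have hmemB₀ : ∀ b : N, φ b ∈ B → (b : G) ∈ B₀ := by
    intro b hb
    rw [hB₀def]
    exact Subgroup.mem_map.2 ⟨b, Subgroup.mem_comap.2 hb, rfl⟩
  have hB₀N : B₀ ≤ N := by
    rw [hB₀def]
    exact Subgroup.map_subtype_le _
  have hB₀p : IsPGroup 2 B₀ := by
    rw [hB₀def]
    exact (hB.comap_of_injective φ hφ.1).map _
  refine sylow_meet N hidx B₀ hB₀N hB₀p (w₀ : G) w₀.2 ?_ H x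
  intro g hgN hTI
  obtain ⟨β₁, hβ₁, β₂, hβ₂, hγ⟩ := hc (φ ⟨g, hgN⟩) (by
    intro β hβ hβg
    obtain ⟨b, rfl⟩ := hφ.2 β
    have h1 : ((b : N) : G) ∈ B₀ := hmemB₀ b hβ
    have h2 : g⁻¹ * (b : G) * g ∈ B₀ := by
      have h := hmemB₀ ((⟨g, hgN⟩ : N)⁻¹ * b * ⟨g, hgN⟩) (by
        rw [map_mul, map_mul, map_inv]; exact hβg)
      exact h
    have h3 := hTI _ h1 h2
    have h4 : b = 1 := Subtype.ext (h3.trans (Subgroup.coe_one N).symm)
    rw [h4, map_one])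
  obtain ⟨b₁, rfl⟩ := hφ.2 β₁
  obtain ⟨b₂, rfl⟩ := hφ.2 β₂
  refine ⟨b₁, hmemB₀ b₁ hβ₁, b₂, hmemB₀ b₂ hβ₂, ?_⟩
  have h5 : (⟨g, hgN⟩ : N) = b₁ * w₀ * b₂ := by
    apply hφ.1
    rw [hγ, map_mul, map_mul, hw₀]
  exact congrArg Subtype.val h5

end Cfsg.Agent.Lib.Helper13.GL2S
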