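import Mathlib
import Cfsg.Agent.Lib.Helper13.SymForm

/-!
# The similarity group of a quadratic form is maximal in `SL_n` (odd characteristic)

Let `B` be a nondegenerate symmetric bilinear form on `F^n`, `F` finite of odd order, `n ≥ 9`,
and `H` its special similarity group.  If `H ≤ M` and `g ∈ M` is not a similarity, a commutator
of a long root element of `H` with a `g`-conjugate of another one is a transvection
`x ↦ x + B(x,z) c` with `z` singular; conjugating with Siegel transformations we obtain all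
`x ↦ x + μ B(x,z) z`, for all singular `z`, then all transvections with nonsingular direction
and finally all transvections.
-/

set_option autoImplicit false

namespace Cfsg.Agent.Lib.Helper13

open Matrix Module

section gomax
variable {n : ℕ} {F : Type*} [Field F]
variable {B : (Fin n → F) →ₗ[F] (Fin n → F) →ₗ[F] F}
variable {M : Subgroup (GL (Fin n) F)}

local notation "HS" => Cfsg.Geo.similarityGroup (fun x y : Fin n → F => B x y) ⊓
  Cfsg.Geo.specialLinear (Fin n) F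

local notation "mt(" g ")" => ((g : GL (Fin n) F) : Matrix (Fin n) (Fin n) F)

/-- an element which is conformal on all singular vectors is a similarity -/
theorem sim_of_forall_sing [Fintype F] (h : IsS B) (hn : 3 ≤ n) (g : GL (Fin n) F)
    (hall : ∀ u, u ≠ 0 → B u u = 0 → ∀ x, B u (mt(g) *ᵥ x) = 0 → B (mt(g⁻¹) *ᵥ u) x = 0) :
    g ∈ Cfsg.Geo.similarityGroup (fun x y : Fin n → F => B x y) := by
  obtain ⟨e, -, he0, hee⟩ := exists_singular_in B ⊤ (by rw [finrank_top_fun]; exact hn)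
  have hκ : ∀ u, u ≠ 0 → B u u = 0 → ∃ κ : F, ∀ y,
      B (mt(g⁻¹) *ᵥ u) (mt(g⁻¹) *ᵥ y) = κ * B u y := by
    intro u hu0 huu
    obtain ⟨y₀, hy₀⟩ := h.nd' u hu0
    refine ⟨B (mt(g⁻¹) *ᵥ u) (mt(g⁻¹) *ᵥ y₀) / B u y₀, fun y => ?_⟩
    have h1 := hall u hu0 huu (mt(g⁻¹) *ᵥ y - (B u y / B u y₀) • (mt(g⁻¹) *ᵥ y₀)) (by
      rw [mulVec_sub, mulVec_smul, gl_mulVec_inv, gl_mulVec_inv]
      simp only [map_sub, map_smul, smul_eq_mul]
      rw [div_mul_cancel₀ _ hy₀, sub_self])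
    simp only [map_sub, map_smul, smul_eq_mul] at h1
    rw [sub_eq_zero.mp h1]
    ring
  obtain ⟨κe, hκe⟩ := hκ e he0 hee
  have hkeq : ∀ u v, B u v ≠ 0 → ∀ κu κv : F,
      (∀ y, B (mt(g⁻¹) *ᵥ u) (mt(g⁻¹) *ᵥ y) = κu * B u y) →
      (∀ y, B (mt(g⁻¹) *ᵥ v) (mt(g⁻¹) *ᵥ y) = κv * B v y) → κu = κv := by
    intro u v huv κu κv h1 h2
    have e1 := h1 v
    have e2 := h2 u
    rw [h.symm (mt(g⁻¹) *ᵥ v) (mt(g⁻¹) *ᵥ u), e1, h.symm v u] at e2
    exact mul_right_cancel₀ huv e2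
  have hall' : ∀ u, u ≠ 0 → B u u = 0 → ∀ y,
      B (mt(g⁻¹) *ᵥ u) (mt(g⁻¹) *ᵥ y) = κe * B u y := by
    intro u hu0 huu
    obtain ⟨κu, hκu⟩ := hκ u hu0 huu
    by_cases heu : B e u = 0
    · obtain ⟨a', ha'a', ha'e, ha'u⟩ := h.exists_conn e u he0 hu0 hee heu
      have ha'0 : a' ≠ 0 := by
        intro h0
        apply ha'e
        rw [h0]
        simp
      obtain ⟨κa, hκa⟩ := hκ a' ha'0 ha'a'
      have e1 := hkeq a' e ha'e κa κe hκa hκe
      have e2 := hkeq a' u ha'u κa κu hκa hκu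
      rw [← e1, e2]
      exact hκu
    · have e1 := hkeq e u heu κe κu hκe hκu
      rw [e1]
      exact hκu
  have hfull : ∀ x y, B (mt(g⁻¹) *ᵥ x) (mt(g⁻¹) *ᵥ y) = κe * B x y := by
    intro x y
    obtain ⟨x₁, x₂, h1, h2, rfl⟩ := h.exists_iso_sum e he0 hee x
    have key : ∀ z, B z z = 0 → B (mt(g⁻¹) *ᵥ z) (mt(g⁻¹) *ᵥ y) = κe * B z y := by
      intro z hzz
      by_cases hz0 : z = 0
      · rw [hz0, mulVec_zero]
        simp
      · exact hall' z hz0 hzz y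
    simp only [mulVec_add, map_add, LinearMap.add_apply, key x₁ h1, key x₂ h2]
    ring
  have hκ0 : κe ≠ 0 := by
    intro h0
    obtain ⟨x', hx'⟩ := h.nd' (mt(g⁻¹) *ᵥ e) (gl_mulVec_ne_zero g⁻¹ he0)
    apply hx'
    have := hfull e (mt(g) *ᵥ x')
    rw [gl_inv_mulVec, h0, zero_mul] at this
    exact this
  have hginv : g⁻¹ ∈ Cfsg.Geo.similarityGroup (fun x y : Fin n → F => B x y) := by
    refine ⟨Units.mk0 κe hκ0, fun u v => ?_⟩
    change B _ _ = κe * B u v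
    exact hfull u v
  have := Subgroup.inv_mem _ hginv
  rwa [inv_inv] at this

/-- **Step 1**: an overgroup containing a non-similarity contains a transvection
`x ↦ x + B(x,z) c` with `z` singular and `c` not proportional to `z`. -/
theorem exists_transvection [Fintype F] (h : IsS B) (hn : 9 ≤ n) (hHM : HS ≤ M)
    (g : GL (Fin n) F) (hgM : g ∈ M)
    (hg : g ∉ Cfsg.Geo.similarityGroup (fun x y : Fin n → F => B x y)) :
    ∃ c z t : Fin n → F, z ≠ 0 ∧ B z z = 0 ∧ InT B M c z ∧ B z t = 0 ∧ B c t ≠ 0 := by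
  -- 1. a singular vector on which `g` is not conformal
  obtain ⟨u, hu0, huu, x₁, hx₁, hx₁'⟩ : ∃ u, u ≠ 0 ∧ B u u = 0 ∧
      ∃ x, B u (mt(g) *ᵥ x) = 0 ∧ B (mt(g⁻¹) *ᵥ u) x ≠ 0 := by
    by_contra hcon
    push Not at hcon
    exact hg (sim_of_forall_sing h (by omega) g (fun u hu0 huu x hx => hcon u hu0 huu x hx))
  obtain ⟨G, hG⟩ : ∃ G : (Fin n → F) →ₗ[F] (Fin n → F), ∀ x, G x = mt(g) *ᵥ x :=
    ⟨Matrix.toLin' mt(g), fun x => Matrix.toLin'_apply _ _⟩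
  obtain ⟨Gi, hGi⟩ : ∃ Gi : (Fin n → F) →ₗ[F] (Fin n → F), ∀ x, Gi x = mt(g⁻¹) *ᵥ x :=
    ⟨Matrix.toLin' mt(g⁻¹), fun x => Matrix.toLin'_apply _ _⟩
  -- 2. the vector u₂
  obtain ⟨u₂, hu₂u₂, hu₂a, hu₂b⟩ := h.exists_singular_sep hn ((B u).comp G) (B (mt(g⁻¹) *ᵥ u)) x₁
    (by rw [LinearMap.comp_apply, hG]; exact hx₁) hx₁'
  rw [LinearMap.comp_apply, hG] at hu₂a
  -- 3. the vector w
  obtain ⟨uo, huo⟩ := h.nd' u hu0
  have d1 := finrank_le_inf_ker_add_one' (⊤ : Submodule F (Fin n → F)) (B u)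
  have d2 := finrank_le_inf_ker_add_one' (⊤ ⊓ LinearMap.ker (B u)) (B (mt(g) *ᵥ u₂))
  have d3 := finrank_le_inf_ker_add_one'
    ((⊤ ⊓ LinearMap.ker (B u)) ⊓ LinearMap.ker (B (mt(g) *ᵥ u₂))) (B uo)
  rw [finrank_top_fun] at d1
  obtain ⟨w, hwS, hw0, hww⟩ := exists_singular_in B
    (((⊤ ⊓ LinearMap.ker (B u)) ⊓ LinearMap.ker (B (mt(g) *ᵥ u₂))) ⊓ LinearMap.ker (B uo))
    (by omega)
  simp only [Submodule.mem_inf, LinearMap.mem_ker, Submodule.mem_top, true_and] at hwS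
  obtain ⟨⟨huw, hbw⟩, huow⟩ := hwS
  obtain ⟨y, hy⟩ := h.nd' w hw0
  obtain ⟨ws, hws⟩ : ∃ ws, ws = y - (B u y / B u uo) • uo := ⟨_, rfl⟩
  have huws : B u ws = 0 := by
    rw [hws]
    simp only [map_sub, map_smul, smul_eq_mul]
    rw [div_mul_cancel₀ _ huo, sub_self]
  have hwws : B w ws ≠ 0 := by
    rw [hws]
    simp only [map_sub, map_smul, smul_eq_mul]
    rw [h.symm w uo, huow, mul_zero, sub_zero]
    exact hy
  -- 4. the vector w₂
  have e1 := finrank_le_inf_ker_add_one' (⊤ : Submodule F (Fin n → F)) (B u₂)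
  have e2 := finrank_le_inf_ker_add_one' (⊤ ⊓ LinearMap.ker (B u₂)) ((B u).comp G)
  have e3 := finrank_le_inf_ker_add_one'
    ((⊤ ⊓ LinearMap.ker (B u₂)) ⊓ LinearMap.ker ((B u).comp G)) ((B w).comp G)
  have e4 := finrank_le_inf_ker_add_one'
    (((⊤ ⊓ LinearMap.ker (B u₂)) ⊓ LinearMap.ker ((B u).comp G)) ⊓ LinearMap.ker ((B w).comp G))
    (B (mt(g⁻¹) *ᵥ u))
  have e5 := finrank_le_inf_ker_add_one'
    ((((⊤ ⊓ LinearMap.ker (B u₂)) ⊓ LinearMap.ker ((B u).comp G)) ⊓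
      LinearMap.ker ((B w).comp G)) ⊓ LinearMap.ker (B (mt(g⁻¹) *ᵥ u)))
    (B (mt(g⁻¹) *ᵥ w))
  have e6 := finrank_le_inf_ker_add_one'
    (((((⊤ ⊓ LinearMap.ker (B u₂)) ⊓ LinearMap.ker ((B u).comp G)) ⊓
      LinearMap.ker ((B w).comp G)) ⊓ LinearMap.ker (B (mt(g⁻¹) *ᵥ u))) ⊓
      LinearMap.ker (B (mt(g⁻¹) *ᵥ w)))
    ((B ws).comp G)
  rw [finrank_top_fun] at e1
  obtain ⟨w₂, hw₂S, hw₂0, hw₂w₂⟩ := exists_singular_in B
    ((((((⊤ ⊓ LinearMap.ker (B u₂)) ⊓ LinearMap.ker ((B u).comp G)) ⊓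
      LinearMap.ker ((B w).comp G)) ⊓ LinearMap.ker (B (mt(g⁻¹) *ᵥ u))) ⊓
      LinearMap.ker (B (mt(g⁻¹) *ᵥ w))) ⊓ LinearMap.ker ((B ws).comp G))
    (by omega)
  simp only [Submodule.mem_inf, LinearMap.mem_ker, Submodule.mem_top, true_and,
    LinearMap.comp_apply, hG] at hw₂S
  obtain ⟨⟨⟨⟨⟨h1, h2⟩, h3⟩, h4⟩, h5⟩, h6⟩ := hw₂S
  -- 5. names
  obtain ⟨b, hb⟩ : ∃ b, b = mt(g) *ᵥ u₂ := ⟨_, rfl⟩
  obtain ⟨c, hc⟩ : ∃ c, c = mt(g) *ᵥ w₂ := ⟨_, rfl⟩
  have hc0 : c ≠ 0 := by rw [hc]; exact gl_mulVec_ne_zero g hw₂0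
  obtain ⟨Af, hAf⟩ : ∃ Af : (Fin n → F) →ₗ[F] F, ∀ x, Af x = B (mt(g⁻¹) *ᵥ x) w₂ :=
    ⟨(B.flip w₂).comp Gi, fun x => by rw [LinearMap.comp_apply, LinearMap.flip_apply, hGi]⟩
  obtain ⟨Bf, hBf⟩ : ∃ Bf : (Fin n → F) →ₗ[F] F, ∀ x, Bf x = B (mt(g⁻¹) *ᵥ x) u₂ :=
    ⟨(B.flip u₂).comp Gi, fun x => by rw [LinearMap.comp_apply, LinearMap.flip_apply, hGi]⟩
  have hAu : Af u = 0 := by rw [hAf]; exact h4
  have hAw : Af w = 0 := by rw [hAf]; exact h5
  have hBu : Bf u ≠ 0 := by rw [hBf]; exact hu₂b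
  have hub : B u b = 0 := by rw [hb]; exact hu₂a
  have huc : B u c = 0 := by rw [hc]; exact h2
  have hwb : B w b = 0 := by rw [hb, h.symm]; exact hbw
  have hwc : B w c = 0 := by rw [hc]; exact h3
  have hwsc : B ws c = 0 := by rw [hc]; exact h6
  have hwu : B w u = 0 := by rw [h.symm]; exact huw
  have hbu : B b u = 0 := by rw [h.symm]; exact hub
  have hcu : B c u = 0 := by rw [h.symm]; exact huc
  have hbw' : B b w = 0 := by rw [h.symm]; exact hwb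
  have hcw : B c w = 0 := by rw [h.symm]; exact hwc
  obtain ⟨z₀, hz₀⟩ : ∃ z₀, z₀ = Bf u • w - Bf w • u := ⟨_, rfl⟩
  have hz₀x : ∀ x, B x z₀ = Bf u * B x w - Bf w * B x u := by
    intro x
    rw [hz₀]
    simp only [map_sub, map_smul, smul_eq_mul]
  have hcz₀ : B c z₀ = 0 := by
    rw [hz₀x, hcw, hcu]
    ring
  have hz₀z₀ : B z₀ z₀ = 0 := by
    rw [hz₀x, hz₀]
    simp only [map_sub, map_smul, LinearMap.sub_apply, LinearMap.smul_apply, smul_eq_mul, huu, hww,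
      huw, hwu]
    ring
  have hz₀ws : B z₀ ws ≠ 0 := by
    rw [h.symm, hz₀x, h.symm ws w, h.symm ws u, huws, mul_zero, sub_zero]
    exact mul_ne_zero hBu hwws
  have hz₀0 : z₀ ≠ 0 := by
    intro h0
    apply hz₀ws
    rw [h0]
    simp
  obtain ⟨y', hy'⟩ := h.nd' c hc0
  obtain ⟨t, ht⟩ : ∃ t, t = y' - (B z₀ y' / B z₀ ws) • ws := ⟨_, rfl⟩
  have hz₀t : B z₀ t = 0 := by
    rw [ht]
    simp only [map_sub, map_smul, smul_eq_mul]
    rw [div_mul_cancel₀ _ hz₀ws, sub_self]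
  have hct : B c t ≠ 0 := by
    rw [ht]
    simp only [map_sub, map_smul, smul_eq_mul]
    rw [h.symm c ws, hwsc, mul_zero, sub_zero]
    exact hy'
  -- 6. the group elements
  have hw₂u₂ : B w₂ u₂ = 0 := by rw [h.symm]; exact h1
  obtain ⟨ρ, hρ⟩ : ∃ ρ : GL (Fin n) F, ρ = siegS B u w 0 huu huw hwu := ⟨_, rfl⟩
  obtain ⟨ρ₂, hρ₂⟩ : ∃ ρ₂ : GL (Fin n) F, ρ₂ = siegS B u₂ w₂ 0 hu₂u₂ h1 hw₂u₂ := ⟨_, rfl⟩
  have hρM : ρ ∈ M := by
    rw [hρ]
    exact hHM (siegS_mem h u w 0 huu huw hwu (by rw [hww, mul_zero]))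
  have hρ₂M : ρ₂ ∈ M := by
    rw [hρ₂]
    exact hHM (siegS_mem h u₂ w₂ 0 hu₂u₂ h1 hw₂u₂ (by rw [hw₂w₂, mul_zero]))
  have hρx : ∀ x, mt(ρ) *ᵥ x = x + B x w • u - B x u • w := by
    intro x
    rw [hρ, siegS_mulVec, zero_smul, add_zero]
  have hρ₂x : ∀ x, mt(ρ₂) *ᵥ x = x + B x w₂ • u₂ - B x u₂ • w₂ := by
    intro x
    rw [hρ₂, siegS_mulVec, zero_smul, add_zero]
  obtain ⟨ρ', hρ'⟩ : ∃ ρ' : GL (Fin n) F, ρ' = g * ρ₂ * g⁻¹ := ⟨_, rfl⟩
  have hρ'M : ρ' ∈ M := by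
    rw [hρ']
    exact M.mul_mem (M.mul_mem hgM hρ₂M) (M.inv_mem hgM)
  have hρ'x : ∀ x, mt(ρ') *ᵥ x = x + Af x • b - Bf x • c := by
    intro x
    rw [hρ', Units.val_mul, Units.val_mul, ← mulVec_mulVec, ← mulVec_mulVec, hρ₂x, mulVec_sub,
      mulVec_add, mulVec_smul, mulVec_smul, gl_mulVec_inv, hAf, hBf, hb, hc]
  have key : ftvGL B c z₀ hcz₀ * (ρ' * ρ) = ρ * ρ' := by
    apply Units.ext
    rw [Units.val_mul, Units.val_mul, Units.val_mul]
    apply mat_ext'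
    intro x
    simp only [← mulVec_mulVec, ftvGL_mulVec, hρ'x, hρx]
    simp only [map_add, map_sub, map_smul, LinearMap.add_apply, LinearMap.sub_apply,
      LinearMap.smul_apply, smul_eq_mul, hz₀x, hAu, hAw, huw, hwu, huu, hww, hbu, hbw', hcu, hcw,
      mul_zero, add_zero, sub_zero]
    module
  have hτM : ftvGL B c z₀ hcz₀ ∈ M := by
    have e : ftvGL B c z₀ hcz₀ = ρ * ρ' * (ρ' * ρ)⁻¹ := by
      rw [← key, mul_inv_cancel_right]
    rw [e]
    exact M.mul_mem (M.mul_mem hρM hρ'M) (M.inv_mem (M.mul_mem hρ'M hρM))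
  exact ⟨c, z₀, t, hz₀0, hz₀z₀, InT.of_mem hcz₀ hτM, hz₀t, hct⟩

/-! ### Step 2: from one transvection to all -/

/-- all transvections `x ↦ x + μ B(x,z) z` lie in `M` -/
def SS (B : (Fin n → F) →ₗ[F] (Fin n → F) →ₗ[F] F) (M : Subgroup (GL (Fin n) F))
    (z : Fin n → F) : Prop :=
  B z z = 0 ∧ ∀ μ : F, InT B M (μ • z) z

theorem SS.zero : SS B M 0 :=
  ⟨by simp, fun μ => by rw [smul_zero]; exact InT.zero 0⟩

theorem SS_of_InT (h : IsS B) (hHM : HS ≤ M) (c z t : Fin n → F) (hzz : B z z = 0)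
    (hT : InT B M c z) (hzt : B z t = 0) (hct : B c t ≠ 0) : SS B M z := by
  refine ⟨hzz, fun μ => ?_⟩
  obtain ⟨l, hl⟩ : ∃ l, l = μ / B c t := ⟨_, rfl⟩
  have hz1 : B z (l • t) = 0 := by rw [map_smul, smul_eq_mul, hzt, mul_zero]
  have hz2 : B (l • t) z = 0 := by rw [h.symm]; exact hz1
  have hkc : 2 * (l * l * B t t / 2) = B (l • t) (l • t) := by
    simp only [map_smul, LinearMap.smul_apply, smul_eq_mul]
    have := h.two
    field_simp
  obtain ⟨k, hk⟩ : ∃ k, k = siegS B z (l • t) (l * l * B t t / 2) hzz hz1 hz2 := ⟨_, rfl⟩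
  have hkM : k ∈ M := by
    rw [hk]
    exact hHM (siegS_mem h z (l • t) _ hzz hz1 hz2 hkc)
  have hkiso : ∀ x y, B (mt(k) *ᵥ x) (mt(k) *ᵥ y) = B x y := by
    rw [hk]
    exact siegS_pres h z (l • t) _ hzz hz1 hz2 hkc
  have h1 := hT.conj_iso hkM hkiso
  have hkz : mt(k) *ᵥ z = z := by
    rw [hk, siegS_mulVec, hz1, hzz, zero_smul, zero_smul, add_zero, sub_zero]
  have hkcv : mt(k) *ᵥ c = c + μ • z := by
    rw [hk, siegS_mulVec, hT.1, zero_smul, sub_zero, map_smul, smul_eq_mul, hl,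
      div_mul_cancel₀ _ hct]
  rw [hkz, hkcv] at h1
  have h2 := h1.add_left hT.neg_left
  have e : c + μ • z + -c = μ • z := by abel
  rwa [e] at h2

theorem SS.map {z : Fin n → F} (hz : SS B M z) {k : GL (Fin n) F} (hk : k ∈ M)
    (hiso : ∀ x y, B (mt(k) *ᵥ x) (mt(k) *ᵥ y) = B x y) : SS B M (mt(k) *ᵥ z) := by
  refine ⟨by rw [hiso]; exact hz.1, fun μ => ?_⟩
  have := (hz.2 μ).conj_iso hk hiso
  rwa [mulVec_smul] at this

theorem SS.smul {z : Fin n → F} (hz : SS B M z) (ν : F) : SS B M (ν • z) := by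
  refine ⟨by simp only [map_smul, LinearMap.smul_apply, smul_eq_mul, hz.1, mul_zero],
    fun μ => ?_⟩
  have h1 := hz.2 (ν * μ * ν)
  have e : (ν * μ * ν) • z = ν • (μ • ν • z) := by rw [smul_smul, smul_smul]
  rw [e] at h1
  exact h1.smul_swap

theorem SS.trans_perp (h : IsS B) (hHM : HS ≤ M) {z₁ z₂ : Fin n → F} (hz₁ : SS B M z₁)
    (hz₁0 : z₁ ≠ 0) (hz₂0 : z₂ ≠ 0) (hz₂ : B z₂ z₂ = 0) (hperp : B z₁ z₂ = 0) :
    SS B M z₂ := by
  obtain ⟨e, hee, hez₁, hez₂⟩ := h.exists_conn z₁ z₂ hz₁0 hz₂0 hz₁.1 hperp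
  obtain ⟨α, hα⟩ : ∃ α, α = B e z₁ := ⟨_, rfl⟩
  obtain ⟨β, hβ⟩ : ∃ β, β = B e z₂ := ⟨_, rfl⟩
  have hα0 : α ≠ 0 := by rw [hα]; exact hez₁
  have hβ0 : β ≠ 0 := by rw [hβ]; exact hez₂
  obtain ⟨w, hw⟩ : ∃ w, w = α⁻¹ • z₁ - β⁻¹ • z₂ := ⟨_, rfl⟩
  have hew : B e w = 0 := by
    rw [hw]
    simp only [map_sub, map_smul, smul_eq_mul, ← hα, ← hβ]
    rw [inv_mul_cancel₀ hα0, inv_mul_cancel₀ hβ0, sub_self]
  have hwe : B w e = 0 := by rw [h.symm]; exact hew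
  have hz₂z₁ : B z₂ z₁ = 0 := by rw [h.symm]; exact hperp
  have hww : B w w = 0 := by
    rw [hw]
    simp only [map_sub, map_smul, LinearMap.sub_apply, LinearMap.smul_apply, smul_eq_mul, hz₁.1,
      hz₂, hperp, hz₂z₁]
    ring
  have hz₁w : B z₁ w = 0 := by
    rw [hw]
    simp only [map_sub, map_smul, smul_eq_mul, hz₁.1, hperp]
    ring
  have hkc : 2 * (0 : F) = B w w := by rw [hww, mul_zero]
  obtain ⟨k, hk⟩ : ∃ k, k = siegS B e w 0 hee hew hwe := ⟨_, rfl⟩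
  have hkM : k ∈ M := by
    rw [hk]
    exact hHM (siegS_mem h e w 0 hee hew hwe hkc)
  have hkiso : ∀ x y, B (mt(k) *ᵥ x) (mt(k) *ᵥ y) = B x y := by
    rw [hk]
    exact siegS_pres h e w 0 hee hew hwe hkc
  have h1 := hz₁.map hkM hkiso
  have hkz : mt(k) *ᵥ z₁ = (α * β⁻¹) • z₂ := by
    rw [hk, siegS_mulVec, hz₁w, h.symm z₁ e, ← hα, hw]
    simp only [zero_smul, add_zero]
    rw [smul_sub, smul_smul, smul_smul, mul_inv_cancel₀ hα0, one_smul]
    abel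
  rw [hkz] at h1
  have h2 := h1.smul (β * α⁻¹)
  rw [smul_smul] at h2
  have e2 : β * α⁻¹ * (α * β⁻¹) = 1 := by
    field_simp
  rwa [e2, one_smul] at h2

theorem SS.all [Fintype F] (h : IsS B) (hn : 5 ≤ n) (hHM : HS ≤ M) {z₁ : Fin n → F}
    (hz₁ : SS B M z₁) (hz₁0 : z₁ ≠ 0) (z₂ : Fin n → F) (hz₂ : B z₂ z₂ = 0) : SS B M z₂ := by
  by_cases hz₂0 : z₂ = 0
  · rw [hz₂0]
    exact SS.zero
  by_cases hperp : B z₁ z₂ = 0
  · exact hz₁.trans_perp h hHM hz₁0 hz₂0 hz₂ hperp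
  · have d1 := finrank_le_inf_ker_add_one' (⊤ : Submodule F (Fin n → F)) (B z₁)
    have d2 := finrank_le_inf_ker_add_one' (⊤ ⊓ LinearMap.ker (B z₁)) (B z₂)
    rw [finrank_top_fun] at d1
    obtain ⟨z₃, hz₃S, hz₃0, hz₃⟩ := exists_singular_in B
      ((⊤ ⊓ LinearMap.ker (B z₁)) ⊓ LinearMap.ker (B z₂)) (by omega)
    simp only [Submodule.mem_inf, LinearMap.mem_ker, Submodule.mem_top, true_and] at hz₃S
    obtain ⟨h13, h23⟩ := hz₃S
    have hz₃' := hz₁.trans_perp h hHM hz₁0 hz₃0 hz₃ h13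
    exact hz₃'.trans_perp h hHM hz₃0 hz₂0 hz₂ (by rw [h.symm]; exact h23)

/-- transvections with nonsingular direction `b` and functional `B(·,u)`, `B(u,u) = -B(b,b)` -/
theorem InT_of_norm_neg (h : IsS B) (hall : ∀ z, B z z = 0 → SS B M z) (b u : Fin n → F)
    (hbb : B b b ≠ 0) (hbu : B b u = 0) (huu : B u u = -(B b b)) : InT B M b u := by
  obtain ⟨β, hβ⟩ : ∃ β, β = B b b := ⟨_, rfl⟩
  have hub : B u b = 0 := by rw [h.symm]; exact hbu
  have hβ0 : β ≠ 0 := by rw [hβ]; exact hbb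
  have h20 : (2 : F) ≠ 0 := h.two
  have h2β : 2 * β ≠ 0 := mul_ne_zero h.two hβ0
  obtain ⟨z, hz⟩ : ∃ z, z = b + u := ⟨_, rfl⟩
  obtain ⟨z', hz'⟩ : ∃ z', z' = (2 * β)⁻¹ • (b - u) := ⟨_, rfl⟩
  have hzz : B z z = 0 := by
    rw [hz]
    simp only [map_add, LinearMap.add_apply, hbu, hub, huu]
    ring
  have hz'z' : B z' z' = 0 := by
    rw [hz']
    simp only [map_smul, map_sub, LinearMap.smul_apply, LinearMap.sub_apply, smul_eq_mul, hbu, hub,
      huu]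
    ring
  have hz'z : B z' z = 1 := by
    rw [hz', hz]
    simp only [map_smul, map_sub, map_add, LinearMap.smul_apply, LinearMap.sub_apply,
      LinearMap.add_apply, smul_eq_mul, hbu, hub, huu, ← hβ]
    field_simp
    try ring
  have hzz' : B z z' = 1 := by rw [h.symm]; exact hz'z
  have hz'2 : (2 * β) • z' = b - u := by
    rw [hz', smul_smul, mul_inv_cancel₀ h2β, one_smul]
  have hSSz := hall z hzz
  have hSSz' := hall z' hz'z'
  have hk0 := (hSSz'.2 (2 * β)).1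
  obtain ⟨k, hk⟩ : ∃ k, k = ftvGL B ((2 * β) • z') z' hk0 := ⟨_, rfl⟩
  have hkM : k ∈ M := by
    rw [hk]
    exact (hSSz'.2 (2 * β)).mem
  have hu'' : ∀ x, B x ((2 : F) • u) = B x z - (2 * β) * B x z' := by
    intro x
    rw [hz, hz']
    simp only [map_add, map_sub, map_smul, smul_eq_mul]
    field_simp
    try ring
  have h1 := (hSSz.2 ((2 : F)⁻¹ * 2⁻¹)).conj hkM ((2 : F) • u) (by
    intro x
    rw [hk, ftvGL_inv_mulVec, hu'']
    simp only [map_sub, map_smul, LinearMap.sub_apply, LinearMap.smul_apply, smul_eq_mul, hz'z]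
    ring)
  have hkb : mt(k) *ᵥ (((2 : F)⁻¹ * 2⁻¹) • z) = (2 : F)⁻¹ • b := by
    rw [hk, ftvGL_mulVec, hz'2]
    simp only [map_smul, LinearMap.smul_apply, smul_eq_mul, hzz', mul_one]
    rw [hz, ← smul_add]
    have e : b + u + (b - u) = (2 : F) • b := by
      rw [two_smul]
      abel
    rw [e, smul_smul, mul_assoc, inv_mul_cancel₀ h.two, mul_one]
  rw [hkb] at h1
  have h2 := h1.smul_swap
  rwa [smul_smul, inv_mul_cancel₀ h.two, one_smul] at h2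

theorem InT_of_perp [Fintype F] (h : IsS B) (hn : 7 ≤ n) (hall : ∀ z, B z z = 0 → SS B M z)
    (b v : Fin n → F) (hbb : B b b ≠ 0) (hbv : B b v = 0) : InT B M b v := by
  have d1 := finrank_le_inf_ker_add_one' (⊤ : Submodule F (Fin n → F)) (B b)
  have d2 := finrank_le_inf_ker_add_one' (⊤ ⊓ LinearMap.ker (B b)) (B v)
  rw [finrank_top_fun] at d1
  obtain ⟨y, hyS, hyy⟩ := h.exists_norm_in ((⊤ ⊓ LinearMap.ker (B b)) ⊓ LinearMap.ker (B v))
    (by omega) (-(B b b) - (2 : F)⁻¹ * 2⁻¹ * B v v)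
  simp only [Submodule.mem_inf, LinearMap.mem_ker, Submodule.mem_top, true_and] at hyS
  obtain ⟨hby, hvy⟩ := hyS
  have hyv : B y v = 0 := by rw [h.symm]; exact hvy
  have h1 := InT_of_norm_neg h hall b ((2 : F)⁻¹ • v + y) hbb
    (by simp only [map_add, map_smul, smul_eq_mul, hbv, hby, mul_zero, add_zero])
    (by
      simp only [map_add, map_smul, LinearMap.add_apply, LinearMap.smul_apply, smul_eq_mul, hvy,
        hyv, hyy]
      ring)
  have h2 := InT_of_norm_neg h hall b ((2 : F)⁻¹ • v - y) hbb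
    (by simp only [map_sub, map_smul, smul_eq_mul, hbv, hby, mul_zero, sub_zero])
    (by
      simp only [map_sub, map_smul, LinearMap.sub_apply, LinearMap.smul_apply, smul_eq_mul, hvy,
        hyv, hyy]
      ring)
  have h3 := h1.add h2
  have e : (2 : F)⁻¹ • v + y + ((2 : F)⁻¹ • v - y) = v := by
    rw [add_add_sub_cancel, ← add_smul, ← two_mul, mul_inv_cancel₀ h.two, one_smul]
  rwa [e] at h3

theorem TvIn_of_noniso [Fintype F] (h : IsS B) (hn : 7 ≤ n)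
    (hall : ∀ z, B z z = 0 → SS B M z) (b : Fin n → F) (hbb : B b b ≠ 0) : TvIn M b := by
  intro φ hφ g hg
  obtain ⟨v, hv⟩ := h.exists_riesz φ
  have hbv : B b v = 0 := by rw [hv]; exact hφ
  have h1 := InT_of_perp h hn hall b v hbb hbv
  apply h1.2 g
  rw [hg, ucovec_eq_of_forall hv]

theorem TvIn_all [Fintype F] (h : IsS B) (hn : 7 ≤ n) (hall : ∀ z, B z z = 0 → SS B M z)
    (x : Fin n → F) : TvIn M x := by
  by_cases hxx : B x x = 0
  · have d1 := finrank_le_inf_ker_add_one' (⊤ : Submodule F (Fin n → F)) (B x)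
    rw [finrank_top_fun] at d1
    obtain ⟨y, hyS, hyy⟩ := h.exists_noniso_in (⊤ ⊓ LinearMap.ker (B x)) (by omega)
    simp only [Submodule.mem_inf, LinearMap.mem_ker, Submodule.mem_top, true_and] at hyS
    have h1 : B (x + y) (x + y) ≠ 0 := by
      simp only [map_add, LinearMap.add_apply, hxx, hyS, h.symm y x, zero_add, add_zero]
      exact hyy
    have h2 := (TvIn_of_noniso h hn hall (x + y) h1).add
      ((TvIn_of_noniso h hn hall y hyy).smul (-1))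
    have e : x + y + (-1 : F) • y = x := by
      rw [neg_one_smul]
      abel
    rwa [e] at h2
  · exact TvIn_of_noniso h hn hall x hxx

/-- **The special similarity group of a nondegenerate symmetric bilinear form is maximal in
`SL_n(F)`** (`F` finite of odd order, `n ≥ 9`). -/
theorem go_maximal [Fintype F] (h : IsS B) (hn : 9 ≤ n) :
    Cfsg.Geo.IsMaximalIn (Cfsg.Geo.specialLinear (Fin n) F)
      (Cfsg.Geo.similarityGroup (fun x y : Fin n → F => B x y) ⊓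
        Cfsg.Geo.specialLinear (Fin n) F) := by
  obtain ⟨e, -, he0, hee⟩ := exists_singular_in B ⊤ (by rw [finrank_top_fun]; omega)
  constructor
  · rw [SetLike.lt_iff_le_and_exists]
    refine ⟨inf_le_right, ftvGL B e e hee, ftvGL_SL _ _ _, ?_⟩
    rintro ⟨⟨c, hc⟩, -⟩
    obtain ⟨y₀, hy₀⟩ := h.nd' e he0
    have h1 := hc e y₀
    change B _ _ = (c : F) * B e y₀ at h1
    rw [ftvGL_mulVec, ftvGL_mulVec] at h1
    simp only [map_add, map_smul, LinearMap.add_apply, LinearMap.smul_apply, smul_eq_mul, hee,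
      mul_zero, add_zero, zero_mul, zero_add, zero_smul] at h1
    have hc1 : (c : F) = 1 := by
      have : (c : F) * B e y₀ = 1 * B e y₀ := by rw [one_mul]; exact h1.symm
      exact mul_right_cancel₀ hy₀ this
    have h2 := hc y₀ y₀
    change B _ _ = (c : F) * B y₀ y₀ at h2
    rw [ftvGL_mulVec, hc1, one_mul] at h2
    simp only [map_add, map_smul, LinearMap.add_apply, LinearMap.smul_apply, smul_eq_mul, hee,
      mul_zero, add_zero, h.symm y₀ e] at h2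
    have h3 : 2 * (B e y₀ * B e y₀) = 0 := by linear_combination h2
    rcases mul_eq_zero.mp h3 with h4 | h4
    · exact h.two h4
    · exact hy₀ (mul_self_eq_zero.mp h4)
  · intro M hHM hMS
    by_cases hMH : M ≤ Cfsg.Geo.similarityGroup (fun x y : Fin n → F => B x y) ⊓
        Cfsg.Geo.specialLinear (Fin n) F
    · left
      exact le_antisymm hMH hHM
    · right
      apply le_antisymm hMS
      obtain ⟨g, hgM, hgH⟩ := SetLike.not_le_iff_exists.mp hMH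
      have hgsim : g ∉ Cfsg.Geo.similarityGroup (fun x y : Fin n → F => B x y) :=
        fun h0 => hgH ⟨h0, hMS hgM⟩
      obtain ⟨c, z, t, hz0, hzz, hT, hzt, hct⟩ := exists_transvection h hn hHM g hgM hgsim
      have hSS := SS_of_InT h hHM c z t hzz hT hzt hct
      have hall : ∀ z', B z' z' = 0 → SS B M z' :=
        fun z' hz' => hSS.all h (by omega) hHM hz0 z' hz'
      exact SL_le_of_forall_TvIn (by omega) M (TvIn_all h (by omega) hall)

end gomax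

end Cfsg.Agent.Lib.Helper13
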