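import Mathlib
import Cfsg.Agent.Lib.Helper13.GUMax2

/-!
# The similarity group of a Hermitian form is maximal in `SL_n` (conclusion)
-/

set_option autoImplicit false

namespace Cfsg.Agent.Lib.Helper13

open Matrix

section gumax3
variable {n : ℕ} {F : Type*} [Field F]
variable {σ : F →+* F} {B : (Fin n → F) →ₗ[F] (Fin n → F) →ₛₗ[σ] F}
variable {M : Subgroup (GL (Fin n) F)}

local notation "HH" => Cfsg.Geo.similarityGroup (fun x y : Fin n → F => B x y) ⊓
  Cfsg.Geo.specialLinear (Fin n) F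

theorem TvIn_zero : TvIn M (0 : Fin n → F) := by
  intro φ _ k hk
  have : k = 1 := Units.ext (by rw [hk, tv_zero_left, Units.val_one])
  rw [this]
  exact M.one_mem

/-- a non-isotropic vector orthogonal to `k` given vectors, `2k < n` -/
theorem exists_perp_noniso (h : IsU σ B) (k : ℕ) (hk : 2 * k < n) (p : Fin k → (Fin n → F)) :
    ∃ w : Fin n → F, (∀ i, B w (p i) = 0) ∧ B w w ≠ 0 := by
  by_contra hcon
  push Not at hcon
  obtain ⟨L, hL⟩ : ∃ L : (Fin n → F) →ₗ[F] (Fin k → F), L = LinearMap.pi (fun i => B.flip (p i)) :=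
    ⟨_, rfl⟩
  have hmem : ∀ w, w ∈ LinearMap.ker L ↔ ∀ i, B w (p i) = 0 := by
    intro w
    rw [LinearMap.mem_ker, hL]
    constructor
    · intro h1 i
      have := congrFun h1 i
      simpa using this
    · intro h1
      ext i
      simpa using h1 i
  have hiso : ∀ w ∈ LinearMap.ker L, B w w = 0 := fun w hw => hcon w ((hmem w).mp hw)
  have hti := h.forall_eq_zero_of_forall_iso (LinearMap.ker L) hiso
  have hle : LinearMap.ker L ≤ Submodule.span F (Set.range p) := by
    intro w hw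
    have hK : (⨅ i, LinearMap.ker (B.flip (p i))) ≤ LinearMap.ker (B.flip w) := by
      intro y hy
      rw [Submodule.mem_iInf] at hy
      have hyk : y ∈ LinearMap.ker L := (hmem y).mpr (fun i => by
        have := hy i
        rwa [LinearMap.mem_ker, LinearMap.flip_apply] at this)
      rw [LinearMap.mem_ker, LinearMap.flip_apply]
      exact hti y hyk w hw
    have h2 := mem_span_of_iInf_ker_le_ker hK
    obtain ⟨c, hc⟩ := (Submodule.mem_span_range_iff_exists_fun F).mp h2
    have h3 : ∀ x, B x (w - ∑ i, σ (c i) • p i) = 0 := by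
      intro x
      have h4 := congrArg (fun f : (Fin n → F) →ₗ[F] F => f x) hc
      simp only [LinearMap.sum_apply, LinearMap.smul_apply, LinearMap.flip_apply, smul_eq_mul] at h4
      rw [inner_sub_right, map_sum, ← h4, sub_eq_zero]
      apply Finset.sum_congr rfl
      intro i _
      rw [inner_smul_right, h.inv]
    have h5 := sub_eq_zero.mp (h.eq_zero_of_forall h3)
    rw [h5]
    exact Submodule.sum_mem _ (fun i _ => Submodule.smul_mem _ _ (Submodule.subset_span ⟨i, rfl⟩))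
  have hd1 := Submodule.finrank_mono hle
  have hd2 : Module.finrank F (Submodule.span F (Set.range p)) ≤ k := by
    have := finrank_range_le_card (R := F) p
    rwa [Fintype.card_fin] at this
  have hd3 := LinearMap.finrank_range_add_finrank_ker L
  have hd4 : Module.finrank F (LinearMap.range L) ≤ k := by
    have := Submodule.finrank_le (LinearMap.range L)
    rwa [Module.finrank_fintype_fun_eq_card, Fintype.card_fin] at this
  rw [Module.finrank_fintype_fun_eq_card, Fintype.card_fin] at hd3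
  omega

theorem exists_perp_norm [Finite F] (h : IsU σ B) (k : ℕ) (hk : 2 * k < n)
    (p : Fin k → (Fin n → F)) (ν : F) (hν0 : ν ≠ 0) (hν : σ ν = ν) :
    ∃ s : Fin n → F, (∀ i, B s (p i) = 0) ∧ B s s = ν := by
  obtain ⟨w, hwp, hww⟩ := exists_perp_noniso h k hk p
  have hfix : σ (ν / B w w) = ν / B w w := by rw [map_div₀, hν, h.fix]
  obtain ⟨c, hc⟩ := h.exists_nm (ν / B w w) (div_ne_zero hν0 hww) hfix
  refine ⟨c • w, fun i => by rw [inner_smul_left, hwp i, mul_zero], ?_⟩
  rw [h.norm_smul, hc, div_mul_cancel₀ _ hww]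

/-- **Lemma E**: if all transvections in one direction lie in `M`, so do all transvections -/
theorem forall_tvIn (h : IsU σ B) (hHM : HH ≤ M) (e : Fin n → F) (he0 : e ≠ 0) (hee : B e e = 0)
    (b : Fin n → F) (hb0 : b ≠ 0) (hb : TvIn M b) : ∀ x, TvIn M x := by
  obtain ⟨k, hk0, hk⟩ := h.exists_km
  have hstep : ∀ w z, TvIn M w → B w z ≠ 0 → B z z = 0 → TvIn M z := by
    intro w z hw hwz hzz
    have hTM : ftvGL B z (k • z) (iso_smul_self z hzz k) ∈ M := hHM (utv_mem_H h z hzz k hk)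
    have h1 := hw.map hTM
    rw [ftvGL_mulVec, inner_smul_right] at h1
    have h2 := h1.add (hw.smul (-1))
    have e1 : w + (σ k * B w z) • z + (-1 : F) • w = (σ k * B w z) • z := by
      rw [neg_one_smul]; abel
    rw [e1] at h2
    have hne : σ k * B w z ≠ 0 := mul_ne_zero (h.sigma_ne_zero hk0) hwz
    have h3 := h2.smul (σ k * B w z)⁻¹
    rwa [smul_smul, inv_mul_cancel₀ hne, one_smul] at h3
  have hiso : ∀ z, B z z = 0 → TvIn M z := by
    intro z hzz
    by_cases hz0 : z = 0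
    · rw [hz0]; exact TvIn_zero
    · by_cases hbz : B b z = 0
      · obtain ⟨y, -, hyb, hyz⟩ := exists_link_U ⊤ h.ndOn_top b z Submodule.mem_top Submodule.mem_top
          hb0 hz0
        obtain ⟨l, hl⟩ := h.exists_norm_eq z y hzz (h.swap_ne hyz) 0 (map_zero σ)
        have h1 : B b (y + l • z) ≠ 0 := by
          rw [inner_add_smul_right, hbz, mul_zero, add_zero]
          exact h.swap_ne hyb
        have h2 : B (y + l • z) z ≠ 0 := by
          rw [inner_add_smul_left, hzz, mul_zero, add_zero]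
          exact hyz
        exact hstep _ z (hstep b _ hb h1 hl) h2 hzz
      · exact hstep b z hb hbz hzz
  intro x
  obtain ⟨x₁, -, x₂, -, hx₁, hx₂, rfl⟩ := h.exists_iso_sum ⊤ h.ndOn_top e Submodule.mem_top he0 hee x
    Submodule.mem_top
  exact (hiso x₁ hx₁).add (hiso x₂ hx₂)

/-- **Lemma D**: if all isotropic vectors are enhanced, some direction carries all its
transvections -/
theorem exists_tvIn_of_enhanced [Finite F] (h : IsU σ B) (hn : 3 ≤ n) (v : Fin n → F) (hv0 : v ≠ 0)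
    (hvv : B v v = 0) (hall : ∀ x, B x x = 0 → ∀ μ : F, InT B M x (μ • x)) :
    ∃ b, b ≠ 0 ∧ TvIn M b := by
  obtain ⟨v', hv'v', hvv'⟩ := exists_partner h v hv0 hvv
  have hv'v : B v' v = 1 := by rw [h.herm, hvv', map_one]
  obtain ⟨μ, hμ⟩ := h.exists_tr_ne
  obtain ⟨b, hbdef⟩ : ∃ b, b = v + μ • v' := ⟨_, rfl⟩
  obtain ⟨u₁, hu₁def⟩ : ∃ u₁, u₁ = v + (-σ μ) • v' := ⟨_, rfl⟩
  have hbb : B b b = μ + σ μ := by
    rw [hbdef, h.norm_add_smul, hvv, hv'v', hvv', map_one]
    ring
  have hbb0 : B b b ≠ 0 := by rw [hbb]; exact hμ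
  have hb0 : b ≠ 0 := by
    rintro rfl
    exact hbb0 (inner_zero_left 0)
  have hbu₁ : B b u₁ = 0 := by
    rw [hbdef, hu₁def, inner_add_smul_left, inner_add_smul_right, inner_add_smul_right, hvv, hv'v',
      hvv', hv'v, map_neg, h.inv]
    ring
  have hu₁b : B u₁ b = 0 := h.swap_zero hbu₁
  have hu₁u₁ : B u₁ u₁ ≠ 0 := by
    rw [hu₁def, h.norm_add_smul, hvv, hv'v', hvv', map_one, map_neg, h.inv]
    intro h0
    apply hμ
    linear_combination -h0
  -- `(b; β u₁) ∈ 𝒯`
  have hP₁ : ∀ β : F, InT B M b (β • u₁) := by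
    intro β
    have ht := (hall v' hv'v' (σ μ)).mem
    have h1 := (hall v hvv β).conj ht (β • u₁) (by
      intro x
      rw [ftvGL_inv_mulVec, hu₁def, inner_smul_right, inner_smul_right, inner_add_smul_right,
        inner_sub_left, inner_smul_left, inner_smul_right, hv'v, map_neg, h.inv]
      ring)
    rw [ftvGL_mulVec, inner_smul_right, h.inv, hvv', mul_one, ← hbdef] at h1
    exact h1
  -- the subspace `b^⊥`
  obtain ⟨S, hSdef⟩ : ∃ S : Submodule F (Fin n → F), S = LinearMap.ker (B.flip b) := ⟨_, rfl⟩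
  have hSmem : ∀ x, x ∈ S ↔ B x b = 0 := by
    intro x
    rw [hSdef, LinearMap.mem_ker, LinearMap.flip_apply]
  have hS : NDOn B S := by
    intro s hs hs0
    obtain ⟨x, hx⟩ := h.nd s hs0
    refine ⟨x - (B x b / B b b) • b, ?_, ?_⟩
    · rw [hSmem, inner_sub_left, inner_smul_left, div_mul_cancel₀ _ hbb0, sub_self]
    · rw [inner_sub_left, inner_smul_left, h.swap_zero ((hSmem s).mp hs), mul_zero, sub_zero]
      exact hx
  have hstep : ∀ u z, (∀ β : F, InT B M b (β • u)) → B z b = 0 → B z z = 0 → B u z ≠ 0 →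
      ∀ β : F, InT B M b (β • z) := by
    intro u z hu hzb hzz huz β
    have ht := (hall z hzz (β / B u z)).mem
    have h1 := (hu 1).conj ht ((1 : F) • u - β • z) (by
      intro x
      rw [ftvGL_inv_mulVec, inner_sub_right, inner_smul_right, inner_smul_right, inner_smul_right,
        inner_sub_left, inner_smul_left, inner_smul_right, h.herm z u, map_one, map_div₀]
      have hne : σ (B u z) ≠ 0 := h.sigma_ne_zero huz
      have e : σ β / σ (B u z) * B x z * σ (B u z) = σ β * B x z := by field_simp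
      rw [e]
      ring)
    rw [ftvGL_mulVec, inner_smul_right, h.swap_zero hzb, mul_zero, zero_smul, add_zero] at h1
    have h2 := (hu 1).sub h1
    have e : (1 : F) • u - ((1 : F) • u - β • z) = β • z := by abel
    rwa [e] at h2
  -- an isotropic vector of `S`
  obtain ⟨x₀, hx₀0, hx₀⟩ := exists_perp_vec (B := B) 2 (by omega) ![b, u₁]
  have hx₀b : B x₀ b = 0 := hx₀ 0
  have hx₀u : B x₀ u₁ = 0 := hx₀ 1
  have hu₁0 : u₁ ≠ 0 := by
    rintro rfl
    exact hu₁u₁ (inner_zero_left 0)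
  obtain ⟨e, heS, he0, hee⟩ := h.exists_iso_of S u₁ x₀ ((hSmem _).mpr hu₁b) ((hSmem _).mpr hx₀b)
    hu₁0 hx₀0 hx₀u
  obtain ⟨z₁, hz₁S, z₂, hz₂S, hz₁z₁, hz₂z₂, hsum⟩ := h.exists_iso_sum S hS e heS he0 hee u₁
    ((hSmem _).mpr hu₁b)
  -- one of them is not orthogonal to `u₁`
  obtain ⟨z, hzS, hzz, hu₁z⟩ : ∃ z ∈ S, B z z = 0 ∧ B u₁ z ≠ 0 := by
    by_cases h1 : B u₁ z₁ = 0
    · refine ⟨z₂, hz₂S, hz₂z₂, ?_⟩
      intro h2
      apply hu₁u₁
      conv_lhs => rw [hsum]
      rw [inner_add_right, ← hsum, h1, h2, add_zero]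
    · exact ⟨z₁, hz₁S, hz₁z₁, h1⟩
  have hz0 : z ≠ 0 := by
    rintro rfl
    exact hu₁z (inner_zero_right _)
  have hPz := hstep u₁ z hP₁ ((hSmem z).mp hzS) hzz hu₁z
  have hPall : ∀ z', z' ∈ S → B z' z' = 0 → ∀ β : F, InT B M b (β • z') := by
    intro z' hz'S hz'z'
    by_cases hz'0 : z' = 0
    · intro β
      rw [hz'0, smul_zero]
      exact InT.zero b
    · by_cases hzz' : B z z' = 0
      · obtain ⟨a', ha'S, ha'a', ha'z, ha'z'⟩ := h.exists_conn S hS z z' hzS hz'S hz0 hz'0 hzz hzz'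
        have h1 := hstep z a' hPz ((hSmem a').mp ha'S) ha'a' (h.swap_ne ha'z)
        exact hstep a' z' h1 ((hSmem z').mp hz'S) hz'z' ha'z'
      · exact hstep z z' hPz ((hSmem z').mp hz'S) hz'z' hzz'
  have hSall : ∀ x ∈ S, InT B M b x := by
    intro x hxS
    obtain ⟨x₁, hx₁S, x₂, hx₂S, hx₁, hx₂, rfl⟩ := h.exists_iso_sum S hS e heS he0 hee x hxS
    have h1 := hPall x₁ hx₁S hx₁ 1
    have h2 := hPall x₂ hx₂S hx₂ 1
    rw [one_smul] at h1 h2
    exact h1.add h2
  refine ⟨b, hb0, ?_⟩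
  intro φ hφ k hk
  obtain ⟨u, hu⟩ := h.exists_riesz φ
  have hbu : B b u = 0 := by rw [hu, hφ]
  have h1 := hSall u ((hSmem u).mpr (h.swap_zero hbu))
  apply h1.2 k
  rw [hk, ucovec_eq_of_forall hu]

end gumax3

end Cfsg.Agent.Lib.Helper13
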