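import Mathlib
import Cfsg.Agent.Lib.Helper13.GUMax3

/-!
# The similarity group of a Hermitian form is maximal in `SL_n` (main theorem)
-/

set_option autoImplicit false

namespace Cfsg.Agent.Lib.Helper13

open Matrix

section gumax4
variable {n : ℕ} {F : Type*} [Field F]
variable {σ : F →+* F} {B : (Fin n → F) →ₗ[F] (Fin n → F) →ₛₗ[σ] F}
variable {M : Subgroup (GL (Fin n) F)}

local notation "HH" => Cfsg.Geo.similarityGroup (fun x y : Fin n → F => B x y) ⊓
  Cfsg.Geo.specialLinear (Fin n) F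

theorem exists_iso_vec_U [Finite F] (h : IsU σ B) (hn : 2 ≤ n) :
    ∃ e : Fin n → F, e ≠ 0 ∧ B e e = 0 := by
  obtain ⟨s, hs0⟩ : ∃ s : Fin n → F, s ≠ 0 := by
    refine ⟨Pi.single ⟨0, by omega⟩ 1, fun h0 => ?_⟩
    have := congrFun h0 ⟨0, by omega⟩
    simp at this
  obtain ⟨s', hs'0, hs'⟩ := exists_perp_vec (B := B) 1 (by omega) ![s]
  obtain ⟨e, -, he0, hee⟩ := h.exists_iso_of ⊤ s s' Submodule.mem_top Submodule.mem_top hs0 hs'0
    (hs' 0)
  exact ⟨e, he0, hee⟩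

/-- **Lemma F**: an element of `M` which is not a similarity produces an enhanced isotropic
vector -/
theorem exists_enhanced [Finite F] (h : IsU σ B) (hn : 5 ≤ n) (hHM : HH ≤ M) (g : GL (Fin n) F)
    (hgM : g ∈ M) (hg : g ∉ Cfsg.Geo.similarityGroup (fun x y : Fin n → F => B x y)) :
    ∃ v : Fin n → F, v ≠ 0 ∧ B v v = 0 ∧ ∀ μ : F, InT B M v (μ • v) := by
  obtain ⟨e, he0, hee⟩ := exists_iso_vec_U h (by omega)
  obtain ⟨k, hk0, hk⟩ := h.exists_km
  obtain ⟨a, ha0, haa, hbad⟩ : ∃ a, a ≠ 0 ∧ B a a = 0 ∧ ¬ ∃ κ : F, σ κ = κ ∧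
      ∀ x, B (((g⁻¹ : GL (Fin n) F) : Matrix (Fin n) (Fin n) F) *ᵥ x) a =
        κ * B x ((g : Matrix (Fin n) (Fin n) F) *ᵥ a) := by
    by_contra hcon
    push Not at hcon
    apply hg
    apply similitude_of_good h g e he0 hee
    intro a ha0 haa
    exact hcon a ha0 haa
  obtain ⟨b₀, hb₀⟩ : ∃ b₀, b₀ = (g : Matrix (Fin n) (Fin n) F) *ᵥ a := ⟨_, rfl⟩
  have hb₀0 : b₀ ≠ 0 := by rw [hb₀]; exact gl_mulVec_ne_zero g ha0
  have hgb₀ : ((g⁻¹ : GL (Fin n) F) : Matrix (Fin n) (Fin n) F) *ᵥ b₀ = a := by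
    rw [hb₀, gl_inv_mulVec]
  rw [← hb₀] at hbad
  obtain ⟨u₀, hu₀'⟩ := h.exists_riesz
    (ucovec B a ᵥ* ((g⁻¹ : GL (Fin n) F) : Matrix (Fin n) (Fin n) F))
  have hu₀ : ∀ x, B x u₀ = B (((g⁻¹ : GL (Fin n) F) : Matrix (Fin n) (Fin n) F) *ᵥ x) a := by
    intro x
    rw [hu₀', ← dotProduct_mulVec, ucovec_dot]
  have hu₀0 : u₀ ≠ 0 := by
    rintro rfl
    obtain ⟨x, hx⟩ := h.nd a ha0
    apply hx
    have := hu₀ ((g : Matrix (Fin n) (Fin n) F) *ᵥ x)
    rw [gl_inv_mulVec, inner_zero_right] at this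
    exact this.symm
  have hb₀u₀ : B b₀ u₀ = 0 := by rw [hu₀, hgb₀, haa]
  have hu₀b₀ : B u₀ b₀ = 0 := h.swap_zero hb₀u₀
  -- the conjugated unitary transvections
  have hT₀ : ∀ l : F, σ l = -l → InT B M b₀ (l • u₀) := by
    intro l hl
    have h1 : InT B M a (l • a) := InT.of_mem (iso_smul_self a haa l) (hHM (utv_mem_H h a haa l hl))
    have h2 := h1.conj hgM (l • u₀) (by
      intro x
      rw [inner_smul_right, inner_smul_right, hu₀])
    rwa [← hb₀] at h2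
  have hunit : ∀ v : Fin n → F, B v v = 0 → ∀ l : F, σ l = -l → InT B M v (l • v) :=
    fun v hvv l hl => InT.of_mem (iso_smul_self v hvv l) (hHM (utv_mem_H h v hvv l hl))
  by_cases hb₀b₀ : B b₀ b₀ = 0
  · refine ⟨b₀, hb₀0, hb₀b₀, ?_⟩
    by_cases hline : ∃ ρ : F, u₀ = ρ • b₀
    · obtain ⟨ρ, hρ⟩ := hline
      have hρfix : σ ρ ≠ ρ := by
        intro hfix
        apply hbad
        refine ⟨ρ, hfix, fun x => ?_⟩
        rw [← hu₀, hρ, inner_smul_right, hfix]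
      have hd : ρ - σ ρ ≠ 0 := fun h0 => hρfix (sub_eq_zero.mp h0).symm
      intro μ
      obtain ⟨l, hl⟩ : ∃ l, l = (μ + σ μ) / (ρ - σ ρ) := ⟨_, rfl⟩
      have hlσ : σ l = -l := by
        rw [hl, map_div₀, map_add, map_sub, h.inv, h.inv, ← neg_sub ρ (σ ρ), div_neg, add_comm]
      have hl2 : l * (ρ - σ ρ) = μ + σ μ := by rw [hl, div_mul_cancel₀ _ hd]
      have hl'σ : σ (μ - l * ρ) = -(μ - l * ρ) := by
        rw [map_sub, map_mul, hlσ]
        linear_combination -hl2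
      have h1 := hT₀ l hlσ
      rw [hρ, smul_smul] at h1
      have h2 := hunit b₀ hb₀b₀ _ hl'σ
      have h3 := h1.add h2
      rw [← add_smul] at h3
      have e : l * ρ + (μ - l * ρ) = μ := by ring
      rwa [e] at h3
    · push Not at hline
      apply enhanced_of_offline h hHM b₀ (k • u₀) hb₀0 hb₀b₀ (hT₀ k hk)
      intro ρ hρ
      apply hline (k⁻¹ * ρ)
      rw [← smul_smul, ← hρ, smul_smul, inv_mul_cancel₀ hk0, one_smul]
  · -- `b₀` is not isotropic
    have hνfix : σ (-(B b₀ b₀)) = -(B b₀ b₀) := by rw [map_neg, h.fix]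
    obtain ⟨s, hsp, hss⟩ := exists_perp_norm h 2 (by omega) ![b₀, u₀] (-(B b₀ b₀))
      (neg_ne_zero.mpr hb₀b₀) hνfix
    have hsb₀ : B s b₀ = 0 := hsp 0
    have hsu₀ : B s u₀ = 0 := hsp 1
    obtain ⟨v, hvdef⟩ : ∃ v, v = b₀ + s := ⟨_, rfl⟩
    have hvv : B v v = 0 := by
      rw [hvdef, inner_add_left, inner_add_right, inner_add_right, hss, hsb₀, h.swap_zero hsb₀]
      ring
    have hvb₀ : B v b₀ = B b₀ b₀ := by rw [hvdef, inner_add_left, hsb₀, add_zero]
    have hv0 : v ≠ 0 := by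
      rintro rfl
      apply hb₀b₀
      rw [← hvb₀, inner_zero_left]
    have hvu₀ : B v u₀ = 0 := by rw [hvdef, inner_add_left, hb₀u₀, hsu₀, add_zero]
    have h1 := (hT₀ k hk).ruleC h (hunit v hvv k hk) (by rw [inner_smul_right, hvu₀, mul_zero])
    rw [inner_smul_left, hvb₀, smul_smul] at h1
    have hγ : k * B b₀ b₀ * k ≠ 0 := mul_ne_zero (mul_ne_zero hk0 hb₀b₀) hk0
    refine ⟨v, hv0, hvv, enhanced_of_offline h hHM v _ hv0 hvv h1 ?_⟩
    intro ρ hρ
    have h2 := congrArg (fun y => B y b₀) hρ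
    simp only [inner_smul_left, hu₀b₀, hvb₀, mul_zero] at h2
    have hρ0 : ρ = 0 := by
      rcases mul_eq_zero.mp h2.symm with h3 | h3
      · exact h3
      · exact absurd h3 hb₀b₀
    rw [hρ0, zero_smul] at hρ
    rcases smul_eq_zero.mp hρ with h3 | h3
    · exact hγ h3
    · exact hu₀0 h3

/-- **The special similarity group of a nondegenerate Hermitian form is maximal in `SL_n`.** -/
theorem gu_maximal [Finite F] (h : IsU σ B) (hn : 5 ≤ n) :
    Cfsg.Geo.IsMaximalIn (Cfsg.Geo.specialLinear (Fin n) F)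
      (Cfsg.Geo.similarityGroup (fun x y : Fin n → F => B x y) ⊓
        Cfsg.Geo.specialLinear (Fin n) F) := by
  obtain ⟨e, he0, hee⟩ := exists_iso_vec_U h (by omega)
  constructor
  · rw [SetLike.lt_iff_le_and_exists]
    refine ⟨inf_le_right, ?_⟩
    obtain ⟨e', he'e', hee'⟩ := exists_partner h e he0 hee
    have he'e : B e' e = 1 := by rw [h.herm, hee', map_one]
    obtain ⟨μ, hμ⟩ := h.exists_tr_ne
    refine ⟨ftvGL B e (σ μ • e) (iso_smul_self e hee _), ftvGL_SL _ _ _, ?_⟩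
    rintro ⟨⟨c, hc⟩, -⟩
    have h1 := hc e' e'
    change B _ _ = (c : F) * B e' e' at h1
    rw [ftvGL_mulVec, inner_smul_right, h.inv, he'e, mul_one, h.norm_add_smul, he'e', hee, he'e,
      map_one] at h1
    apply hμ
    linear_combination h1
  · intro M hHM hMS
    by_cases hMH : M ≤ Cfsg.Geo.similarityGroup (fun x y : Fin n → F => B x y) ⊓
        Cfsg.Geo.specialLinear (Fin n) F
    · left
      exact le_antisymm hMH hHM
    · right
      apply le_antisymm hMS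
      obtain ⟨g, hgM, hgH⟩ := SetLike.not_le_iff_exists.mp hMH
      have hgsim : g ∉ Cfsg.Geo.similarityGroup (fun x y : Fin n → F => B x y) :=
        fun h0 => hgH ⟨h0, hMS hgM⟩
      obtain ⟨v, hv0, hvv, hv⟩ := exists_enhanced h hn hHM g hgM hgsim
      have hall := enhanced_all h hHM v hv0 hvv hv
      obtain ⟨b, hb0, hb⟩ := exists_tvIn_of_enhanced h (by omega) v hv0 hvv hall
      exact SL_le_of_forall_TvIn (by omega) M (forall_tvIn h hHM e he0 hee b hb0 hb)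

end gumax4

end Cfsg.Agent.Lib.Helper13
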