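import Mathlib
import Cfsg.Agent.S3360

/-!
# S4025, Part B: Huppert-or-small (helper13, spare)

`huppert_or_small`: a solvable group `Γ` of additive permutations of an elementary abelian `p`-group `V`,
transitive on the subgroups of each order, either is semilinear of dimension one over a field structure on `V`,
or `|V| ∈ {9, 25, 49, 121, 529, 81}` (landed S3360 applied to `Γ · scalars`).
`partB_of_not81`: the arithmetic reducing helper2's `partB` to the exclusion of `(p, n) = (3, 4)`.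
-/

set_option autoImplicit false

namespace Cfsg.Agent.Lib.Helper13.HC25B

universe u

section lin

variable {p : ℕ} [Fact p.Prime] {V : Type u} [AddCommGroup V] [Module (ZMod p) V]

/-- an additive permutation as a `ZMod p`-linear equivalence -/
def linOf (γ : Equiv.Perm V) (h : ∀ v w : V, γ (v + w) = γ v + γ w) : V ≃ₗ[ZMod p] V :=
  { toFun := γ
    invFun := γ.symm
    left_inv := γ.left_inv
    right_inv := γ.right_inv
    map_add' := h
    map_smul' := fun c v => ZMod.map_smul (AddMonoidHom.mk' γ h) c v }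

theorem linOf_apply (γ : Equiv.Perm V) (h : ∀ v w : V, γ (v + w) = γ v + γ w) (v : V) :
    linOf (p := p) γ h v = γ v := rfl

/-- the linearisation homomorphism of a group of additive permutations -/
def toLin (Γ : Subgroup (Equiv.Perm V)) (hadd : ∀ γ ∈ Γ, ∀ v w : V, γ (v + w) = γ v + γ w) :
    ↥Γ →* (V ≃ₗ[ZMod p] V) where
  toFun γ := linOf γ.1 (hadd γ.1 γ.2)
  map_one' := by ext v; rfl
  map_mul' a b := by ext v; rfl

theorem toLin_apply (Γ : Subgroup (Equiv.Perm V)) (hadd : ∀ γ ∈ Γ, ∀ v w : V, γ (v + w) = γ v + γ w)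
    (γ : ↥Γ) (v : V) : toLin (p := p) Γ hadd γ v = (γ : Equiv.Perm V) v := rfl

/-- `Γ × scalars → GL(V)` -/
noncomputable def bigHom (Γ : Subgroup (Equiv.Perm V))
    (hadd : ∀ γ ∈ Γ, ∀ v w : V, γ (v + w) = γ v + γ w) :
    ↥Γ × (ZMod p)ˣ →* (V ≃ₗ[ZMod p] V) :=
  MonoidHom.noncommCoprod (toLin (p := p) Γ hadd) (DistribMulAction.toModuleAut (ZMod p) V)
    (by
      intro γ k
      ext v
      change toLin (p := p) Γ hadd γ (k • v) = k • toLin (p := p) Γ hadd γ v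
      rw [Units.smul_def, Units.smul_def, map_smul])

theorem bigHom_apply (Γ : Subgroup (Equiv.Perm V))
    (hadd : ∀ γ ∈ Γ, ∀ v w : V, γ (v + w) = γ v + γ w) (γ : ↥Γ) (k : (ZMod p)ˣ) (v : V) :
    bigHom (p := p) Γ hadd (γ, k) v = (γ : Equiv.Perm V) ((k : ZMod p) • v) := rfl

end lin

theorem huppert_or_small_aux {p : ℕ} [Fact p.Prime] {V : Type u} [AddCommGroup V] [Module (ZMod p) V]
    [Finite V] [Nontrivial V]
    (hexp : ∀ v : V, p • v = 0)
    (Γ : Subgroup (Equiv.Perm V)) (hadd : ∀ γ ∈ Γ, ∀ v w : V, γ (v + w) = γ v + γ w)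
    (hsol : Group.IsSolvable ↥Γ)
    (htr : ∀ U₁ U₂ : AddSubgroup V, Nat.card U₁ = Nat.card U₂ → ∃ γ ∈ Γ, ∀ v, v ∈ U₁ ↔ γ v ∈ U₂) :
    (∃ (F : Type) (_ : Field F) (_ : Fintype F) (e : V ≃+ F),
      ∀ γ ∈ Γ, ∃ (a : F) (σ : F ≃+* F), ∀ v, e (γ v) = a * σ (e v)) ∨
    Nat.card V ∈ ({9, 25, 49, 121, 529, 81} : Set ℕ) := by
  classical
  have hp : p.Prime := Fact.out
  obtain ⟨f, hf⟩ : ∃ f : ↥Γ × (ZMod p)ˣ →* (V ≃ₗ[ZMod p] V), f = bigHom (p := p) Γ hadd := ⟨_, rfl⟩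
  -- the group `G = Γ · scalars`
  have hsolG : Group.IsSolvable ↥f.range :=
    Group.isSolvable_of_surjective (f := f.rangeRestrict) f.rangeRestrict_surjective
  have hzero : ∀ γ ∈ Γ, (γ : Equiv.Perm V) 0 = 0 := by
    intro γ hγ
    have h := hadd γ hγ 0 0
    rw [add_zero] at h
    exact left_eq_add.mp h
  have hcardz : ∀ v : V, v ≠ 0 → Nat.card ↥(AddSubgroup.zmultiples v) = p := by
    intro v hv
    rw [Nat.card_zmultiples]
    exact addOrderOf_eq_prime (hexp v) hv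
  have htrans : ∀ v w : V, v ≠ 0 → w ≠ 0 → ∃ g : ↥f.range, (f.range.subtype g) v = w := by
    intro v w hv hw
    obtain ⟨γ, hγ, hγv⟩ := htr (AddSubgroup.zmultiples v) (AddSubgroup.zmultiples w)
      (by rw [hcardz v hv, hcardz w hw])
    have h1 : γ v ∈ AddSubgroup.zmultiples w := (hγv v).mp (AddSubgroup.mem_zmultiples v)
    obtain ⟨k, hk⟩ := AddSubgroup.mem_zmultiples_iff.mp h1
    have hk' : ((k : ZMod p)) • w = γ v := by
      rw [← hk]
      exact Int.cast_smul_eq_zsmul (ZMod p) k w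
    have hγv0 : γ v ≠ 0 := by
      intro h0
      apply hv
      have := hzero γ hγ
      exact γ.injective (h0.trans this.symm)
    have hc : (k : ZMod p) ≠ 0 := by
      intro h0
      rw [h0, zero_smul] at hk'
      exact hγv0 hk'.symm
    refine ⟨⟨f (⟨γ, hγ⟩, (Units.mk0 (k : ZMod p) hc)⁻¹), ⟨_, rfl⟩⟩, ?_⟩
    change f (⟨γ, hγ⟩, (Units.mk0 (k : ZMod p) hc)⁻¹) v = w
    rw [hf, bigHom_apply]
    have hlin : γ ((((Units.mk0 (k : ZMod p) hc)⁻¹ : (ZMod p)ˣ) : ZMod p) • v) =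
        (((Units.mk0 (k : ZMod p) hc)⁻¹ : (ZMod p)ˣ) : ZMod p) • γ v := by
      have := (linOf (p := p) γ (hadd γ hγ)).map_smul
        ((((Units.mk0 (k : ZMod p) hc)⁻¹ : (ZMod p)ˣ) : ZMod p)) v
      exact this
    change γ ((((Units.mk0 (k : ZMod p) hc)⁻¹ : (ZMod p)ˣ) : ZMod p) • v) = w
    rw [hlin, ← hk', smul_smul, Units.val_inv_eq_inv_val, Units.val_mk0, inv_mul_cancel₀ hc, one_smul]
  have hinj : Function.Injective (f.range.subtype) := Subgroup.subtype_injective _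
  have hfinGL : Finite (V ≃ₗ[ZMod p] V) :=
    Finite.of_injective (fun g : V ≃ₗ[ZMod p] V => (g : V → V)) DFunLike.coe_injective
  rcases Cfsg.Agent.S3360.result p hsolG f.range.subtype hinj htrans with hfield | hsmall
  · left
    obtain ⟨F, iF, iFt, e, he⟩ := hfield
    refine ⟨F, iF, iFt, e, ?_⟩
    intro γ hγ
    obtain ⟨a, σ, h⟩ := he ⟨f (⟨γ, hγ⟩, 1), ⟨_, rfl⟩⟩
    refine ⟨a, σ, fun v => ?_⟩
    have := h v
    have h2 : (f.range.subtype ⟨f (⟨γ, hγ⟩, 1), ⟨_, rfl⟩⟩) v = γ v := by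
      change f (⟨γ, hγ⟩, 1) v = γ v
      rw [hf, bigHom_apply]
      simp
    rw [h2] at this
    exact this
  · right
    exact hsmall

theorem huppert_or_small {p : ℕ} [Fact p.Prime] {V : Type u} [AddCommGroup V] [Finite V] [Nontrivial V]
    (hexp : ∀ v : V, p • v = 0)
    (Γ : Subgroup (Equiv.Perm V)) (hadd : ∀ γ ∈ Γ, ∀ v w : V, γ (v + w) = γ v + γ w)
    (hsol : Group.IsSolvable ↥Γ)
    (htr : ∀ U₁ U₂ : AddSubgroup V, Nat.card U₁ = Nat.card U₂ → ∃ γ ∈ Γ, ∀ v, v ∈ U₁ ↔ γ v ∈ U₂) :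
    (∃ (F : Type) (_ : Field F) (_ : Fintype F) (e : V ≃+ F),
      ∀ γ ∈ Γ, ∃ (a : F) (σ : F ≃+* F), ∀ v, e (γ v) = a * σ (e v)) ∨
    Nat.card V ∈ ({9, 25, 49, 121, 529, 81} : Set ℕ) := by
  let _ : Module (ZMod p) V := AddCommGroup.zmodModule hexp
  exact huppert_or_small_aux hexp Γ hadd hsol htr

/-- `p ^ n` with `n ≥ 3` is not the square of a prime -/
theorem pow_ne_prime_sq {p n q : ℕ} (hp : p.Prime) (hq : q.Prime) (hn : 3 ≤ n) : p ^ n ≠ q ^ 2 := by
  intro h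
  have h1 : p ∣ q ^ 2 := by
    rw [← h]
    exact dvd_pow_self p (by omega)
  have h2 : p ∣ q := hp.dvd_of_dvd_pow h1
  have h3 : p = q := (Nat.prime_dvd_prime_iff_eq hp hq).mp h2
  subst h3
  have := Nat.pow_right_injective hp.two_le h
  omega

theorem partB_of_not81 {p : ℕ} [Fact p.Prime] {V : Type u} [AddCommGroup V] [Finite V] (n : ℕ)
    (hn : 3 ≤ n)
    (hV : Nat.card V = p ^ n) (hexp : ∀ v : V, p • v = 0)
    (Γ : Subgroup (Equiv.Perm V)) (hadd : ∀ γ ∈ Γ, ∀ v w : V, γ (v + w) = γ v + γ w)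
    (hsol : Group.IsSolvable ↥Γ)
    (htr : ∀ U₁ U₂ : AddSubgroup V, Nat.card U₁ = Nat.card U₂ → ∃ γ ∈ Γ, ∀ v, v ∈ U₁ ↔ γ v ∈ U₂)
    (h81 : p = 3 → n = 4 → False) :
    ∃ (F : Type) (_ : Field F) (_ : Fintype F) (e : V ≃+ F),
      ∀ γ ∈ Γ, ∃ (a : F) (σ : F ≃+* F), ∀ v, e (γ v) = a * σ (e v) := by
  have hp : p.Prime := Fact.out
  have : Nontrivial V := by
    apply (Finite.one_lt_card_iff_nontrivial).mp
    rw [hV]
    exact Nat.one_lt_pow (by omega) hp.one_lt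
  rcases huppert_or_small hexp Γ hadd hsol htr with h | h
  · exact h
  · exfalso
    rw [hV] at h
    simp only [Set.mem_insert_iff, Set.mem_singleton_iff] at h
    rcases h with h | h | h | h | h | h
    · exact pow_ne_prime_sq hp (by norm_num : (3 : ℕ).Prime) hn (by rw [h]; norm_num)
    · exact pow_ne_prime_sq hp (by norm_num : (5 : ℕ).Prime) hn (by rw [h]; norm_num)
    · exact pow_ne_prime_sq hp (by norm_num : (7 : ℕ).Prime) hn (by rw [h]; norm_num)
    · exact pow_ne_prime_sq hp (by norm_num : (11 : ℕ).Prime) hn (by rw [h]; norm_num)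
    · exact pow_ne_prime_sq hp (by norm_num : (23 : ℕ).Prime) hn (by rw [h]; norm_num)
    · -- 81 = 3 ^ 4
      have h1 : p ∣ 3 ^ 4 := by
        have : p ∣ p ^ n := dvd_pow_self p (by omega)
        rw [h] at this
        exact this
      have h2 : p ∣ 3 := hp.dvd_of_dvd_pow h1
      have h3 : p = 3 := (Nat.prime_dvd_prime_iff_eq hp (by norm_num)).mp h2
      subst h3
      have h4 : (3 : ℕ) ^ n = 3 ^ 4 := by rw [h]; norm_num
      have := Nat.pow_right_injective (by norm_num : 2 ≤ 3) h4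
      exact h81 rfl this

end Cfsg.Agent.Lib.Helper13.HC25B
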