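import Mathlib
import Cfsg.Agent.S0751
import Cfsg.Agent.S0755
import Cfsg.Agent.Lib.Helper6.HermBasis
import Cfsg.Agent.Lib.Helper6.Hermitian

set_option autoImplicit false

namespace Cfsg.Agent.Lib.Helper13

open Module Cfsg.Agent.Lib.Helper6

section
universe u
variable {F V : Type u} [Field F] [CharP F 2] [AddCommGroup V] [Module F V] (σ : F →+* F)

/-- Hermitian version: adjusting an orthonormal family (for `(x, y) ↦ B x (N y)`) by elements of
the image of `N` so that it becomes totally isotropic for `B`. -/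
theorem herm_exists_adjust (hσ : σ ≠ RingHom.id F) (hσ2 : ∀ a : F, σ (σ a) = a)
    (B : V →ₛₗ[σ] V →ₗ[F] F) (hS : B.IsSymm)
    (N : V →ₗ[F] V) (hN : ∀ x, N (N x) = 0) (hBN : ∀ x y, B (N x) y = B x (N y))
    {ι : Type} [Fintype ι] [DecidableEq ι] (u : ι → V)
    (hu : ∀ i j, B (u i) (N (u j)) = if i = j then 1 else 0) :
    ∃ v : ι → V, (∀ i, N (v i) = N (u i)) ∧ (∀ i, v i - u i ∈ LinearMap.range N) ∧
      (∀ i j, B (v i) (v j) = 0) ∧ ∀ i j, B (v i) (N (v j)) = if i = j then 1 else 0 := by
  classical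
  have hNN : ∀ x y, B (N x) (N y) = 0 := by
    intro x y
    rw [hBN, hN, map_zero]
  let e := Fintype.equivFin ι
  have ht : ∀ i, ∃ t : F, t + σ t = B (u i) (u i) := fun i =>
    exists_trace σ hσ hσ2 (B (u i) (u i)) (hS.eq _ _)
  choose t ht using ht
  let c : ι → ι → F := fun i j =>
    if (e j : ℕ) < (e i : ℕ) then B (u j) (u i) else if i = j then t i else 0
  have hc : ∀ i j, c i j =
      if (e j : ℕ) < (e i : ℕ) then B (u j) (u i) else if i = j then t i else 0 := fun i j => rfl
  let y : ι → V := fun i => ∑ k, c i k • u k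
  have hBy : ∀ i j, B (u i) (N (y j)) = c j i := by
    intro i j
    change B (u i) (N (∑ k, c j k • u k)) = c j i
    simp only [map_sum, map_smul, smul_eq_mul, hu, mul_ite, mul_one, mul_zero,
      Finset.sum_ite_eq, Finset.mem_univ, if_true]
  have hBy' : ∀ i j, B (N (y i)) (u j) = σ (c i j) := by
    intro i j
    rw [hBN]
    change B (∑ k, c i k • u k) (N (u j)) = σ (c i j)
    simp only [map_sum, map_smulₛₗ, LinearMap.sum_apply, LinearMap.smul_apply, smul_eq_mul, hu,
      mul_ite, mul_one, mul_zero, Finset.sum_ite_eq', Finset.mem_univ, if_true]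
  refine ⟨fun i => u i + N (y i), ?_, ?_, ?_, ?_⟩
  · intro i
    change N (u i + N (y i)) = N (u i)
    rw [map_add, hN, add_zero]
  · intro i
    change u i + N (y i) - u i ∈ LinearMap.range N
    rw [add_sub_cancel_left]
    exact LinearMap.mem_range_self N (y i)
  · intro i j
    change B (u i + N (y i)) (u j + N (y j)) = 0
    simp only [map_add, LinearMap.add_apply]
    rw [hNN, hBy i j, hBy' i j, add_zero]
    rcases lt_trichotomy (e i : ℕ) (e j : ℕ) with h | h | h
    · have h' : ¬ (e j : ℕ) < (e i : ℕ) := by omega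
      have hij : ¬ i = j := fun h'' => by rw [h''] at h; exact lt_irrefl _ h
      have hcij : c i j = 0 := by rw [hc, if_neg h', if_neg hij]
      have hcji : c j i = B (u i) (u j) := by rw [hc, if_pos h]
      rw [hcij, hcji, map_zero, add_zero]
      exact CharTwo.add_self_eq_zero _
    · have hij : i = j := e.injective (Fin.ext h)
      subst hij
      have hcii : c i i = t i := by rw [hc, if_neg (lt_irrefl _), if_pos rfl]
      rw [hcii, ← ht i]
      have : t i + σ (t i) + σ (t i) + t i = (t i + t i) + (σ (t i) + σ (t i)) := by ring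
      rw [this, CharTwo.add_self_eq_zero, CharTwo.add_self_eq_zero, add_zero]
    · have h' : ¬ (e i : ℕ) < (e j : ℕ) := by omega
      have hji : ¬ j = i := fun h'' => by rw [h''] at h; exact lt_irrefl _ h
      have hcij : c i j = B (u j) (u i) := by rw [hc, if_pos h]
      have hcji : c j i = 0 := by rw [hc, if_neg h', if_neg hji]
      rw [hcij, hcji, hS.eq, add_zero]
      exact CharTwo.add_self_eq_zero _
  · intro i j
    change B (u i + N (y i)) (N (u j + N (y j))) = _
    rw [map_add N, hN, add_zero, map_add, LinearMap.add_apply, hNN, add_zero, hu]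

variable [Finite F] [FiniteDimensional F V]

/-- Hermitian version of the intertwining theorem. -/
theorem herm_exists_isometry_intertwining (hσ : σ ≠ RingHom.id F) (hσ2 : ∀ a : F, σ (σ a) = a)
    (B : V →ₛₗ[σ] V →ₗ[F] F) (hS : B.IsSymm)
    (hnd : ∀ x, (∀ y, B x y = 0) → x = 0)
    (N N' : V →ₗ[F] V) (hN : ∀ x, N (N x) = 0) (hN' : ∀ x, N' (N' x) = 0)
    (hBN : ∀ x y, B (N x) y = B x (N y)) (hBN' : ∀ x y, B (N' x) y = B x (N' y))
    {ι : Type} [Fintype ι] [DecidableEq ι] (u u' : ι → V)
    (hu : ∀ i j, B (u i) (N (u j)) = if i = j then 1 else 0)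
    (hu' : ∀ i j, B (u' i) (N' (u' j)) = if i = j then 1 else 0)
    (hspan : Submodule.span F (Set.range u) ⊔ LinearMap.ker N = ⊤)
    (hspan' : Submodule.span F (Set.range u') ⊔ LinearMap.ker N' = ⊤) :
    ∃ g : V ≃ₗ[F] V, (∀ x y, B (g x) (g y) = B x y) ∧ ∀ x, g (N x) = N' (g x) := by
  classical
  obtain ⟨v, hv1, hv2, hv3, hv4⟩ := herm_exists_adjust σ hσ hσ2 B hS N hN hBN u hu
  obtain ⟨v', hv1', hv2', hv3', hv4'⟩ := herm_exists_adjust σ hσ hσ2 B hS N' hN' hBN' u' hu'
  have hNN : ∀ x y, B (N x) (N y) = 0 := by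
    intro x y
    rw [hBN, hN, map_zero]
  have hNN' : ∀ x y, B (N' x) (N' y) = 0 := by
    intro x y
    rw [hBN', hN', map_zero]
  have hrk : LinearMap.range N ≤ LinearMap.ker N := by
    rintro _ ⟨x, rfl⟩
    exact LinearMap.mem_ker.mpr (hN x)
  have hrk' : LinearMap.range N' ≤ LinearMap.ker N' := by
    rintro _ ⟨x, rfl⟩
    exact LinearMap.mem_ker.mpr (hN' x)
  have hspanv : Submodule.span F (Set.range v) ⊔ LinearMap.ker N = ⊤ := by
    rw [eq_top_iff, ← hspan]
    apply sup_le _ le_sup_right
    rw [Submodule.span_le]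
    rintro _ ⟨i, rfl⟩
    have h1 : u i = v i - (v i - u i) := by abel
    rw [h1]
    apply Submodule.sub_mem
    · exact Submodule.mem_sup_left (Submodule.subset_span ⟨i, rfl⟩)
    · exact Submodule.mem_sup_right (hrk (hv2 i))
  have hspanv' : Submodule.span F (Set.range v') ⊔ LinearMap.ker N' = ⊤ := by
    rw [eq_top_iff, ← hspan']
    apply sup_le _ le_sup_right
    rw [Submodule.span_le]
    rintro _ ⟨i, rfl⟩
    have h1 : u' i = v' i - (v' i - u' i) := by abel
    rw [h1]
    apply Submodule.sub_mem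
    · exact Submodule.mem_sup_left (Submodule.subset_span ⟨i, rfl⟩)
    · exact Submodule.mem_sup_right (hrk' (hv2' i))
  let p : ι ⊕ ι → V := Sum.elim v (fun i => N (v i))
  let p' : ι ⊕ ι → V := Sum.elim v' (fun i => N' (v' i))
  have hG : ∀ a b, B (p a) (p b) = B (p' a) (p' b) := by
    intro a b
    rcases a with i | i <;> rcases b with j | j
    · change B (v i) (v j) = B (v' i) (v' j)
      rw [hv3, hv3']
    · change B (v i) (N (v j)) = B (v' i) (N' (v' j))
      rw [hv4, hv4']
    · change B (N (v i)) (v j) = B (N' (v' i)) (v' j)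
      rw [hBN, hBN', hv4, hv4']
    · change B (N (v i)) (N (v j)) = B (N' (v' i)) (N' (v' j))
      rw [hNN, hNN']
  let f : (ι ⊕ ι → F) →ₗ[F] V := Fintype.linearCombination F p
  let f' : (ι ⊕ ι → F) →ₗ[F] V := Fintype.linearCombination F p'
  have hiso : ∀ a b, B (f a) (f b) = B (f' a) (f' b) := by
    intro a b
    change B (Fintype.linearCombination F p a) (Fintype.linearCombination F p b) =
      B (Fintype.linearCombination F p' a) (Fintype.linearCombination F p' b)
    simp only [Fintype.linearCombination_apply, map_sum, map_smulₛₗ, map_smul, LinearMap.sum_apply,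
      LinearMap.smul_apply, smul_eq_mul, hG]
  have hinj_aux : ∀ (w : ι → V) (L : V →ₗ[F] V), (∀ i j, B (w i) (w j) = 0) →
      (∀ i j, B (w i) (L (w j)) = if i = j then 1 else 0) → (∀ x y, B (L x) (L y) = 0) →
      (∀ x y, B (L x) y = B x (L y)) →
      Function.Injective (Fintype.linearCombination F (Sum.elim w (fun i => L (w i)))) := by
    intro w L h3 h4 hLL hBL
    rw [← LinearMap.ker_eq_bot, Submodule.eq_bot_iff]
    intro x hx
    rw [LinearMap.mem_ker, Fintype.linearCombination_apply, Fintype.sum_sum_type] at hx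
    simp only [Sum.elim_inl, Sum.elim_inr] at hx
    have h4' : ∀ i j, B (L (w i)) (w j) = if i = j then 1 else 0 := by
      intro i j
      rw [hBL, h4]
    funext a
    rcases a with j | j
    · have h6 := congrArg (fun z => B (L (w j)) z) hx
      simp only [map_add, map_sum, map_smul, smul_eq_mul, h4', hLL, mul_ite, mul_one, mul_zero,
        Finset.sum_ite_eq, Finset.sum_ite_eq', Finset.mem_univ, if_true, Finset.sum_const_zero,
        add_zero, map_zero] at h6
      exact h6
    · have h6 := congrArg (fun z => B (w j) z) hx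
      simp only [map_add, map_sum, map_smul, smul_eq_mul, h3, h4, mul_ite, mul_one, mul_zero,
        Finset.sum_ite_eq, Finset.sum_ite_eq', Finset.mem_univ, if_true, Finset.sum_const_zero,
        zero_add, map_zero] at h6
      exact h6
  have hf : Function.Injective f := hinj_aux v N hv3 hv4 hNN hBN
  have hf' : Function.Injective f' := hinj_aux v' N' hv3' hv4' hNN' hBN'
  have hle : finrank F (ι ⊕ ι → F) ≤ finrank F V := LinearMap.finrank_le_finrank_of_injective hf
  have hBnd : B.Nondegenerate := ⟨hnd, herm_sepRight σ hσ2 B hS hnd⟩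
  obtain ⟨g, hg1, hg2⟩ := Cfsg.Agent.S0751.witt_herm σ hσ hσ2 B hS hBnd
    (finrank F V - finrank F (ι ⊕ ι → F)) (ι ⊕ ι → F) f f' hf hf' hiso (by omega)
  have hgp : ∀ a, g (p a) = p' a := by
    intro a
    have h := hg2 (Pi.single a 1)
    change g (Fintype.linearCombination F p (Pi.single a 1)) =
      Fintype.linearCombination F p' (Pi.single a 1) at h
    rw [Fintype.linearCombination_apply_single, Fintype.linearCombination_apply_single, one_smul,
      one_smul] at h
    exact h
  have hgv : ∀ i, g (v i) = v' i := fun i => hgp (Sum.inl i)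
  have hgNv : ∀ i, g (N (v i)) = N' (v' i) := fun i => hgp (Sum.inr i)
  refine ⟨g, hg1, ?_⟩
  have hA : ∀ s ∈ Submodule.span F (Set.range v), g (N s) = N' (g s) := by
    intro s hs
    induction hs using Submodule.span_induction with
    | mem s hs =>
      obtain ⟨i, rfl⟩ := hs
      rw [hgNv, hgv]
    | zero => simp
    | add a b _ _ ha hb => rw [map_add, map_add, ha, hb, map_add, map_add]
    | smul c a _ ha => rw [map_smul, map_smul, ha, map_smul, map_smul]
  have hB2 : ∀ k ∈ LinearMap.ker N, N' (g k) = 0 := by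
    intro k hk
    rw [LinearMap.mem_ker] at hk
    have hC : ∀ s' ∈ Submodule.span F (Set.range v'), B (g k) (N' s') = 0 := by
      intro s' hs'
      induction hs' using Submodule.span_induction with
      | mem s hs =>
        obtain ⟨i, rfl⟩ := hs
        rw [← hgNv, hg1, ← hBN, hk, map_zero, LinearMap.zero_apply]
      | zero => simp
      | add a b _ _ ha hb => rw [map_add, map_add, ha, hb, add_zero]
      | smul c a _ ha => rw [map_smul, map_smul, ha, smul_zero]
    apply hnd
    intro z
    rw [hBN']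
    have hz : z ∈ Submodule.span F (Set.range v') ⊔ LinearMap.ker N' := by
      rw [hspanv']; exact Submodule.mem_top
    obtain ⟨s', hs', k', hk', rfl⟩ := Submodule.mem_sup.mp hz
    rw [LinearMap.mem_ker] at hk'
    rw [map_add, hk', add_zero]
    exact hC s' hs'
  intro x
  have hx : x ∈ Submodule.span F (Set.range v) ⊔ LinearMap.ker N := by
    rw [hspanv]; exact Submodule.mem_top
  obtain ⟨s, hs, k, hk, rfl⟩ := Submodule.mem_sup.mp hx
  rw [map_add, map_add, map_add, map_add, hA s hs, hB2 k hk, LinearMap.mem_ker.mp hk, map_zero]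

omit [CharP F 2] in
/-- Hermitian version: existence of a normal (orthonormal) family. -/
theorem herm_exists_normal_family (hσ : σ ≠ RingHom.id F) (hσ2 : ∀ a : F, σ (σ a) = a)
    (B : V →ₛₗ[σ] V →ₗ[F] F) (hS : B.IsSymm)
    (hnd : ∀ x, (∀ y, B x y = 0) → x = 0)
    (N : V →ₗ[F] V) (hBN : ∀ x y, B (N x) y = B x (N y)) :
    ∃ u : Fin (finrank F (LinearMap.range N)) → V,
      (∀ i j, B (u i) (N (u j)) = if i = j then 1 else 0) ∧
      Submodule.span F (Set.range u) ⊔ LinearMap.ker N = ⊤ := by
  classical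
  obtain ⟨C, hC⟩ := Submodule.exists_isCompl (LinearMap.ker N)
  have hdec : ∀ x : V, ∃ k ∈ LinearMap.ker N, ∃ c ∈ C, k + c = x := by
    intro x
    have hx : x ∈ LinearMap.ker N ⊔ C := by rw [hC.sup_eq_top]; exact Submodule.mem_top
    exact Submodule.mem_sup.mp hx
  have hdim : finrank F C = finrank F (LinearMap.range N) := by
    have h1 := Submodule.finrank_add_eq_of_isCompl hC
    have h2 := LinearMap.finrank_range_add_finrank_ker N
    omega
  let β : C →ₛₗ[σ] C →ₗ[F] F := (B.compl₂ N).domRestrict₁₂ C C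
  have hβ : ∀ x y : C, β x y = B x.1 (N y.1) := fun x y => rfl
  have hβS : β.IsSymm := ⟨fun x y => by rw [hβ, hβ, hS.eq, hBN]⟩
  have hβl : β.SeparatingLeft := by
    intro x hx
    have hxk : x.1 ∈ LinearMap.ker N := by
      rw [LinearMap.mem_ker]
      apply hnd
      intro z
      rw [hBN]
      obtain ⟨k, hk, c, hc, rfl⟩ := hdec z
      rw [map_add, LinearMap.mem_ker.mp hk, zero_add]
      exact hx ⟨c, hc⟩
    have h0 : x.1 ∈ LinearMap.ker N ⊓ C := ⟨hxk, x.2⟩
    rw [hC.inf_eq_bot, Submodule.mem_bot] at h0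
    exact Subtype.ext h0
  have hβnd : β.Nondegenerate := ⟨hβl, herm_sepRight σ hσ2 β hβS hβl⟩
  obtain ⟨b, hb⟩ := Cfsg.Agent.S0755.families σ hσ hσ2 (finrank F (LinearMap.range N)) C β hβS
    hβnd hdim
  have hli : LinearIndependent F b := orthonormal_li σ β b hb
  have htop : Submodule.span F (Set.range b) = ⊤ :=
    hli.span_eq_top_of_card_eq_finrank' (by rw [Fintype.card_fin, hdim])
  refine ⟨fun i => (b i).1, ?_, ?_⟩
  · intro i j
    rw [← hβ, hb]
  · rw [eq_top_iff]
    intro x _
    obtain ⟨k, hk, c, hc, rfl⟩ := hdec x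
    apply Submodule.add_mem
    · exact Submodule.mem_sup_right hk
    · apply Submodule.mem_sup_left
      have h1 : (⟨c, hc⟩ : C) ∈ Submodule.span F (Set.range b) := by
        rw [htop]; exact Submodule.mem_top
      have h2 := Submodule.apply_mem_span_image_of_mem_span C.subtype h1
      rw [← Set.range_comp] at h2
      exact h2

end

end Cfsg.Agent.Lib.Helper13
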