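import Mathlib
import Cfsg.Agent.Lib.Helper15.IP.Defs
import Cfsg.Agent.Lib.Helper2.Expansion
import Cfsg.Agent.Lib.Helper2.Induction
import Cfsg.Agent.Lib.Helper2.Linear
import Cfsg.Agent.Lib.Helper2.TwoDegrees
import Cfsg.Agent.Lib.Helper2.BrolineGarrison

/-!
# S4463 farm (helper15), SPARE of leaf L05 (helper13)

`σ ∈ Irr(J)` of degree `b = b(G)`: then `(Ind σ)(x) = |G:J| σ(x)` for `x ∈ J`.
Proof: expand `Ind σ = Σ_ξ ⟨Ind σ, ξ⟩ ξ`; every `ξ` with nonzero coefficient has `σ ⊆ ξ|_J` (Frobenius) and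
degree `≤ b`, hence `ξ|_J = σ`; so on `J` we get `Ind σ = m σ` and evaluating at `1` gives `m = |G:J|`.
Official statement verbatim, in namespace `Cfsg.Agent.Lib.Helper13.IPL05`; does not need L04.
-/

set_option autoImplicit false

namespace Cfsg.Agent.Lib.Helper13.IPL05

open Cfsg Cfsg.Agent.Lib.Helper15.IP

universe u

variable {G : Type u} [Group G]

theorem indFun_eq_index_mul [Fintype G] {b : ℕ} (hG : DegLE G b) (J : Subgroup G)
    (σ : IrrCharacter ↥J) (hσ : charDegree (σ : ↥J → ℂ) = b) (x : ↥J) :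
    Cfsg.indFun J (σ : ↥J → ℂ) (x : G) = (J.index : ℂ) * (σ : ↥J → ℂ) x := by
  classical
  have : Fintype ↥J := Fintype.ofFinite ↥J
  have : Fintype (IrrCharacter G) := Fintype.ofFinite _
  have hexp := Cfsg.Agent.Lib.Helper2.classFunction_expansion (Cfsg.indFun J (σ : ↥J → ℂ))
    (Cfsg.Agent.Lib.Helper2.indFun_isClassFunction J _)
  -- every term, restricted to `J`, is the coefficient times `σ`
  have hterm : ∀ (ξ : IrrCharacter G) (y : ↥J),
      classInner (Cfsg.indFun J (σ : ↥J → ℂ)) (ξ : G → ℂ) * (ξ : G → ℂ) (y : G)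
        = classInner (Cfsg.indFun J (σ : ↥J → ℂ)) (ξ : G → ℂ) * (σ : ↥J → ℂ) y := by
    intro ξ y
    by_cases hc : classInner (Cfsg.indFun J (σ : ↥J → ℂ)) (ξ : G → ℂ) = 0
    · rw [hc, zero_mul, zero_mul]
    · have hξc : IsCharacter G (ξ : G → ℂ) :=
        Cfsg.Agent.Lib.Helper2.IsIrrCharacter.isCharacter ξ.2
      have hξcf : IsClassFunction G (ξ : G → ℂ) :=
        Cfsg.Agent.Lib.Helper2.IsCharacter.isClassFunction hξc
      have hcon := hc
      rw [Cfsg.Agent.Lib.Helper2.frobenius_reciprocity J _ _ hξcf] at hcon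
      have hcon' : classInner (fun h : ↥J => (ξ : G → ℂ) h) (σ : ↥J → ℂ) ≠ 0 := by
        rw [← Cfsg.Agent.Lib.Helper2.classInner_conj_symm]
        exact fun h => hcon ((map_eq_zero _).1 h)
      have hres : IsCharacter ↥J (fun h : ↥J => (ξ : G → ℂ) h) :=
        Cfsg.Agent.Lib.Helper2.IsCharacter.restrict hξc J
      have ha : (fun h : ↥J => (ξ : G → ℂ) h) 1 = (charDegree (ξ : G → ℂ) : ℂ) := by
        show (ξ : G → ℂ) ((1 : ↥J) : G) = _
        rw [Subgroup.coe_one, Cfsg.Agent.Lib.Helper2.TwoDeg.apply_one_eq_charDegree ξ]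
      have hb : (σ : ↥J → ℂ) 1 = (charDegree (σ : ↥J → ℂ) : ℂ) :=
        Cfsg.Agent.Lib.Helper2.TwoDeg.apply_one_eq_charDegree σ
      have hle : charDegree (ξ : G → ℂ) ≤ charDegree (σ : ↥J → ℂ) := by
        rw [hσ]; exact hG ξ
      have heq := Cfsg.Agent.Lib.Helper2.BG.eq_of_classInner_ne_zero_of_degree_le hres σ hcon'
        ha hb hle
      rw [← congrFun heq y]
  -- value on `J`
  have hval : ∀ y : ↥J, Cfsg.indFun J (σ : ↥J → ℂ) (y : G)
      = (∑ ξ : IrrCharacter G, classInner (Cfsg.indFun J (σ : ↥J → ℂ)) (ξ : G → ℂ))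
        * (σ : ↥J → ℂ) y := by
    intro y
    have h1 := congrFun hexp (y : G)
    rw [Finset.sum_apply] at h1
    simp only [Pi.smul_apply, smul_eq_mul] at h1
    rw [h1, Finset.sum_mul]
    exact Finset.sum_congr rfl (fun ξ _ => hterm ξ y)
  have h1 := hval 1
  rw [Subgroup.coe_one, Cfsg.Agent.Lib.Helper2.indFun_apply_one] at h1
  have hσ1 : (σ : ↥J → ℂ) 1 ≠ 0 := Cfsg.Agent.Lib.Helper2.IsIrrCharacter.apply_one_ne_zero σ.2
  have hm : (∑ ξ : IrrCharacter G, classInner (Cfsg.indFun J (σ : ↥J → ℂ)) (ξ : G → ℂ))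
      = (J.index : ℂ) := (mul_right_cancel₀ hσ1 h1).symm
  rw [hval x, hm]

end Cfsg.Agent.Lib.Helper13.IPL05
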