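import Mathlib

/-!
# Normal subgroups of index `p`

A finite group whose Sylow `p`-subgroup `S` is not contained in the derived subgroup has a normal
subgroup of index `p` (by the transfer into `S / S*`).
-/

set_option autoImplicit false

namespace Cfsg.Agent.Lib.Helper13

open scoped commutatorElement

/-- a nontrivial finite `p`-group in which all subgroups are normal has a normal subgroup of index `p` -/
theorem exists_index_p_of_isPGroup {Q : Type*} [Group Q] [Finite Q] [Nontrivial Q] {p : ℕ} [Fact p.Prime]
    (hQ : IsPGroup p Q) : ∃ K : Subgroup Q, K.index = p := by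
  have hp : p.Prime := Fact.out
  obtain ⟨m, hm⟩ := hQ.exists_card_eq
  have hm1 : 1 ≤ m := by
    by_contra h
    have : m = 0 := by omega
    rw [this, pow_zero] at hm
    have := Finite.one_lt_card (α := Q)
    omega
  have hdvd : p ^ (m - 1) ∣ Nat.card Q := by
    rw [hm]; exact pow_dvd_pow p (by omega)
  obtain ⟨K, hK⟩ := Sylow.exists_subgroup_card_pow_prime p hdvd
  refine ⟨K, ?_⟩
  have h1 := K.card_mul_index
  rw [hK, hm] at h1
  have h2 : p ^ m = p ^ (m - 1) * p := by
    rw [← pow_succ]; congr 1; omega
  rw [h2] at h1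
  exact Nat.eq_of_mul_eq_mul_left (pow_pos hp.pos _) h1

theorem exists_normal_index_p_of_inf_commutator_ne {G : Type*} [Group G] [Finite G] {p : ℕ} [Fact p.Prime]
    (S : Sylow p G) (h : (S : Subgroup G) ⊓ commutator G ≠ (S : Subgroup G)) :
    ∃ N : Subgroup G, N.Normal ∧ N.index = p := by
  have hfoc : (S : Subgroup G).focalSubgroup ≠ (S : Subgroup G) := by
    rw [← Subgroup.commutator_inf_eq_focalSubgroup S, inf_comm]; exact h
  have hne : (S : Subgroup G).focalSubgroupOf ≠ ⊤ := by
    intro htop
    apply hfoc
    rw [← Subgroup.map_focalSubgroupOf, htop, ← MonoidHom.range_eq_map, Subgroup.range_subtype]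
  have : Nontrivial (↥(S : Subgroup G) ⧸ (S : Subgroup G).focalSubgroupOf) := by
    rw [QuotientGroup.nontrivial_iff]
    exact hne
  have hQ : IsPGroup p (↥(S : Subgroup G) ⧸ (S : Subgroup G).focalSubgroupOf) := S.2.to_quotient _
  obtain ⟨K, hK⟩ := exists_index_p_of_isPGroup hQ
  have hKn : K.Normal := by
    constructor
    intro n hn g
    have hc : g * n = n * g :=
      (inferInstance : IsMulCommutative (↥(S : Subgroup G) ⧸ (S : Subgroup G).focalSubgroupOf)).is_comm.comm g n
    rw [hc, mul_inv_cancel_right]
    exact hn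
  refine ⟨K.comap (S : Subgroup G).transferFocal, hKn.comap _, ?_⟩
  rw [Subgroup.index_comap_of_surjective K (Subgroup.transferFocal_surjective S)]
  exact hK

end Cfsg.Agent.Lib.Helper13
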