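import Mathlib
import Cfsg.Prelude.Def_Classical

/-!
# S2355 farm, leaf [US2] (SPARE by helper13): `exists_SL2_to_SU2_spare`

Conjugating by the basis change `P = [e₁ e₂]` maps the matrices of `SL₂` with `q`-power-fixed
entries into `SU₂` (for a basis with Gram matrix `ε * [[0,1],[-1,0]]`).
-/

set_option autoImplicit false

namespace Cfsg.Agent.Lib.Helper29.Law.Helper13

open Matrix

variable {F : Type} [Field F]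

/-- the basis-change matrix -/
def Pm (e₁ e₂ : Fin 2 → F) : Matrix (Fin 2) (Fin 2) F := !![e₁ 0, e₂ 0; e₁ 1, e₂ 1]

/-- its inverse -/
def Pinv (e₁ e₂ : Fin 2 → F) : Matrix (Fin 2) (Fin 2) F :=
  (e₁ 0 * e₂ 1 - e₁ 1 * e₂ 0)⁻¹ • !![e₂ 1, -e₂ 0; -e₁ 1, e₁ 0]

/-- the adjugate of `Pm` -/
def Padj (e₁ e₂ : Fin 2 → F) : Matrix (Fin 2) (Fin 2) F := !![e₂ 1, -e₂ 0; -e₁ 1, e₁ 0]

theorem Pm_mul_Padj (e₁ e₂ : Fin 2 → F) :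
    Pm e₁ e₂ * Padj e₁ e₂ = (e₁ 0 * e₂ 1 - e₁ 1 * e₂ 0) • (1 : Matrix (Fin 2) (Fin 2) F) := by
  unfold Pm Padj
  ext i j
  fin_cases i <;> fin_cases j <;>
    simp [Matrix.mul_apply, Fin.sum_univ_two] <;> ring

theorem Padj_mul_Pm (e₁ e₂ : Fin 2 → F) :
    Padj e₁ e₂ * Pm e₁ e₂ = (e₁ 0 * e₂ 1 - e₁ 1 * e₂ 0) • (1 : Matrix (Fin 2) (Fin 2) F) := by
  unfold Pm Padj
  ext i j
  fin_cases i <;> fin_cases j <;>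
    simp [Matrix.mul_apply, Fin.sum_univ_two] <;> ring

theorem Pm_mul_Pinv (e₁ e₂ : Fin 2 → F) (hdet : e₁ 0 * e₂ 1 - e₁ 1 * e₂ 0 ≠ 0) :
    Pm e₁ e₂ * Pinv e₁ e₂ = 1 := by
  have : Pinv e₁ e₂ = (e₁ 0 * e₂ 1 - e₁ 1 * e₂ 0)⁻¹ • Padj e₁ e₂ := rfl
  rw [this, Matrix.mul_smul, Pm_mul_Padj, smul_smul, inv_mul_cancel₀ hdet, one_smul]

theorem Pinv_mul_Pm (e₁ e₂ : Fin 2 → F) (hdet : e₁ 0 * e₂ 1 - e₁ 1 * e₂ 0 ≠ 0) :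
    Pinv e₁ e₂ * Pm e₁ e₂ = 1 := by
  have : Pinv e₁ e₂ = (e₁ 0 * e₂ 1 - e₁ 1 * e₂ 0)⁻¹ • Padj e₁ e₂ := rfl
  rw [this, Matrix.smul_mul, Padj_mul_Pm, smul_smul, inv_mul_cancel₀ hdet, one_smul]

theorem det_conj (e₁ e₂ : Fin 2 → F) (hdet : e₁ 0 * e₂ 1 - e₁ 1 * e₂ 0 ≠ 0)
    (g : Matrix (Fin 2) (Fin 2) F) : (Pm e₁ e₂ * g * Pinv e₁ e₂).det = g.det := by
  have h1 : (Pm e₁ e₂).det * (Pinv e₁ e₂).det = 1 := by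
    rw [← Matrix.det_mul, Pm_mul_Pinv e₁ e₂ hdet, Matrix.det_one]
  rw [Matrix.det_mul, Matrix.det_mul]
  calc (Pm e₁ e₂).det * g.det * (Pinv e₁ e₂).det
      = g.det * ((Pm e₁ e₂).det * (Pinv e₁ e₂).det) := by ring
    _ = g.det := by rw [h1, mul_one]

/-- conjugation by `P` as an endomorphism of `SL₂` -/
noncomputable def conjHom (e₁ e₂ : Fin 2 → F) (hdet : e₁ 0 * e₂ 1 - e₁ 1 * e₂ 0 ≠ 0) :
    Matrix.SpecialLinearGroup (Fin 2) F →* Matrix.SpecialLinearGroup (Fin 2) F where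
  toFun g := ⟨Pm e₁ e₂ * (g : Matrix (Fin 2) (Fin 2) F) * Pinv e₁ e₂, by
    rw [det_conj e₁ e₂ hdet]; exact g.2⟩
  map_one' := by
    apply Subtype.ext
    show Pm e₁ e₂ * ((1 : Matrix.SpecialLinearGroup (Fin 2) F) : Matrix (Fin 2) (Fin 2) F)
      * Pinv e₁ e₂ = 1
    rw [Matrix.SpecialLinearGroup.coe_one, Matrix.mul_one, Pm_mul_Pinv e₁ e₂ hdet]
  map_mul' g h := by
    apply Subtype.ext
    show Pm e₁ e₂ * ((g * h : Matrix.SpecialLinearGroup (Fin 2) F) : Matrix (Fin 2) (Fin 2) F)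
      * Pinv e₁ e₂ = (Pm e₁ e₂ * (g : Matrix (Fin 2) (Fin 2) F) * Pinv e₁ e₂) *
        (Pm e₁ e₂ * (h : Matrix (Fin 2) (Fin 2) F) * Pinv e₁ e₂)
    rw [Matrix.SpecialLinearGroup.coe_mul]
    calc Pm e₁ e₂ * ((g : Matrix (Fin 2) (Fin 2) F) * (h : Matrix (Fin 2) (Fin 2) F)) * Pinv e₁ e₂
        = Pm e₁ e₂ * (g : Matrix (Fin 2) (Fin 2) F) * (1 : Matrix (Fin 2) (Fin 2) F) *
            (h : Matrix (Fin 2) (Fin 2) F) * Pinv e₁ e₂ := by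
          rw [Matrix.mul_one]; simp only [Matrix.mul_assoc]
      _ = _ := by
          rw [← Pinv_mul_Pm e₁ e₂ hdet]; simp only [Matrix.mul_assoc]

theorem conjHom_coe (e₁ e₂ : Fin 2 → F) (hdet : e₁ 0 * e₂ 1 - e₁ 1 * e₂ 0 ≠ 0)
    (g : Matrix.SpecialLinearGroup (Fin 2) F) :
    ((conjHom e₁ e₂ hdet g : Matrix.SpecialLinearGroup (Fin 2) F) : Matrix (Fin 2) (Fin 2) F)
      = Pm e₁ e₂ * (g : Matrix (Fin 2) (Fin 2) F) * Pinv e₁ e₂ := rfl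

theorem conjHom_injective (e₁ e₂ : Fin 2 → F) (hdet : e₁ 0 * e₂ 1 - e₁ 1 * e₂ 0 ≠ 0) :
    Function.Injective (conjHom e₁ e₂ hdet) := by
  intro g h hgh
  have h1 : Pm e₁ e₂ * (g : Matrix (Fin 2) (Fin 2) F) * Pinv e₁ e₂
      = Pm e₁ e₂ * (h : Matrix (Fin 2) (Fin 2) F) * Pinv e₁ e₂ := by
    rw [← conjHom_coe e₁ e₂ hdet g, ← conjHom_coe e₁ e₂ hdet h, hgh]
  apply Subtype.ext
  have h2 : Pinv e₁ e₂ * (Pm e₁ e₂ * (g : Matrix (Fin 2) (Fin 2) F) * Pinv e₁ e₂) * Pm e₁ e₂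
      = Pinv e₁ e₂ * (Pm e₁ e₂ * (h : Matrix (Fin 2) (Fin 2) F) * Pinv e₁ e₂) * Pm e₁ e₂ := by
    rw [h1]
  have e : ∀ X : Matrix (Fin 2) (Fin 2) F,
      Pinv e₁ e₂ * (Pm e₁ e₂ * X * Pinv e₁ e₂) * Pm e₁ e₂ = X := by
    intro X
    calc Pinv e₁ e₂ * (Pm e₁ e₂ * X * Pinv e₁ e₂) * Pm e₁ e₂
        = (Pinv e₁ e₂ * Pm e₁ e₂) * X * (Pinv e₁ e₂ * Pm e₁ e₂) := by
          simp only [Matrix.mul_assoc]
      _ = X := by rw [Pinv_mul_Pm e₁ e₂ hdet, Matrix.one_mul, Matrix.mul_one]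
  rw [e, e] at h2
  exact h2

/-- the Gram formula in the new basis -/
theorem herm_Pm (q : ℕ) (hadd : ∀ x y : F, (x + y) ^ q = x ^ q + y ^ q)
    (e₁ e₂ : Fin 2 → F) (ε : F)
    (h11 : Cfsg.hermForm 2 F q e₁ e₁ = 0) (h22 : Cfsg.hermForm 2 F q e₂ e₂ = 0)
    (h12 : Cfsg.hermForm 2 F q e₁ e₂ = ε) (h21 : Cfsg.hermForm 2 F q e₂ e₁ = -ε)
    (x y : Fin 2 → F) :
    Cfsg.hermForm 2 F q (Pm e₁ e₂ *ᵥ x) (Pm e₁ e₂ *ᵥ y)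
      = ε * (x 0 * (y 1) ^ q - x 1 * (y 0) ^ q) := by
  unfold Cfsg.hermForm at *
  simp only [Fin.sum_univ_two] at *
  have hx0 : (Pm e₁ e₂ *ᵥ x) 0 = e₁ 0 * x 0 + e₂ 0 * x 1 := by
    simp [Pm, Matrix.mulVec, dotProduct, Fin.sum_univ_two]
  have hx1 : (Pm e₁ e₂ *ᵥ x) 1 = e₁ 1 * x 0 + e₂ 1 * x 1 := by
    simp [Pm, Matrix.mulVec, dotProduct, Fin.sum_univ_two]
  have hy0 : (Pm e₁ e₂ *ᵥ y) 0 = e₁ 0 * y 0 + e₂ 0 * y 1 := by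
    simp [Pm, Matrix.mulVec, dotProduct, Fin.sum_univ_two]
  have hy1 : (Pm e₁ e₂ *ᵥ y) 1 = e₁ 1 * y 0 + e₂ 1 * y 1 := by
    simp [Pm, Matrix.mulVec, dotProduct, Fin.sum_univ_two]
  rw [hx0, hx1, hy0, hy1, hadd, hadd, mul_pow, mul_pow, mul_pow, mul_pow]
  linear_combination x 0 * (y 0) ^ q * h11 + x 0 * (y 1) ^ q * h12 + x 1 * (y 0) ^ q * h21
    + x 1 * (y 1) ^ q * h22

/-- [US2] (spare) conjugating the `F₀`-rational matrices by the basis change `[e₁ e₂]` lands in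
`SU₂`. -/
theorem exists_SL2_to_SU2_spare (F : Type) [Field F] [Fintype F] (q : ℕ)
    (hadd : ∀ x y : F, (x + y) ^ q = x ^ q + y ^ q)
    (e₁ e₂ : Fin 2 → F) (ε : F) (hε : ε ≠ 0) (hεq : ε ^ q = -ε)
    (hdet : e₁ 0 * e₂ 1 - e₁ 1 * e₂ 0 ≠ 0)
    (h11 : Cfsg.hermForm 2 F q e₁ e₁ = 0) (h22 : Cfsg.hermForm 2 F q e₂ e₂ = 0)
    (h12 : Cfsg.hermForm 2 F q e₁ e₂ = ε) (h21 : Cfsg.hermForm 2 F q e₂ e₁ = -ε) :
    ∃ φ : Matrix.SpecialLinearGroup (Fin 2) F →* Matrix.SpecialLinearGroup (Fin 2) F,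
      Function.Injective φ ∧
      ∀ g : Matrix.SpecialLinearGroup (Fin 2) F,
        (∀ a b, ((g : Matrix (Fin 2) (Fin 2) F) a b) ^ q = (g : Matrix (Fin 2) (Fin 2) F) a b) →
        φ g ∈ Cfsg.SU 2 F q := by
  refine ⟨conjHom e₁ e₂ hdet, conjHom_injective e₁ e₂ hdet, ?_⟩
  intro g hg
  show ∀ u v, Cfsg.hermForm 2 F q (Cfsg.slToMat 2 F (conjHom e₁ e₂ hdet g) *ᵥ u)
      (Cfsg.slToMat 2 F (conjHom e₁ e₂ hdet g) *ᵥ v) = Cfsg.hermForm 2 F q u v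
  intro u v
  have hmat : Cfsg.slToMat 2 F (conjHom e₁ e₂ hdet g)
      = Pm e₁ e₂ * (g : Matrix (Fin 2) (Fin 2) F) * Pinv e₁ e₂ := rfl
  rw [hmat]
  set x := Pinv e₁ e₂ *ᵥ u with hx
  set y := Pinv e₁ e₂ *ᵥ v with hy
  have hu : u = Pm e₁ e₂ *ᵥ x := by
    rw [hx, Matrix.mulVec_mulVec, Pm_mul_Pinv e₁ e₂ hdet, Matrix.one_mulVec]
  have hv : v = Pm e₁ e₂ *ᵥ y := by
    rw [hy, Matrix.mulVec_mulVec, Pm_mul_Pinv e₁ e₂ hdet, Matrix.one_mulVec]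
  have hu' : (Pm e₁ e₂ * (g : Matrix (Fin 2) (Fin 2) F) * Pinv e₁ e₂) *ᵥ u
      = Pm e₁ e₂ *ᵥ ((g : Matrix (Fin 2) (Fin 2) F) *ᵥ x) := by
    rw [hx, Matrix.mulVec_mulVec, Matrix.mulVec_mulVec]
  have hv' : (Pm e₁ e₂ * (g : Matrix (Fin 2) (Fin 2) F) * Pinv e₁ e₂) *ᵥ v
      = Pm e₁ e₂ *ᵥ ((g : Matrix (Fin 2) (Fin 2) F) *ᵥ y) := by
    rw [hy, Matrix.mulVec_mulVec, Matrix.mulVec_mulVec]
  rw [hu', hv', herm_Pm q hadd e₁ e₂ ε h11 h22 h12 h21]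
  conv_rhs => rw [hu, hv, herm_Pm q hadd e₁ e₂ ε h11 h22 h12 h21]
  -- coordinates of `g`
  have hdg : (g : Matrix (Fin 2) (Fin 2) F) 0 0 * (g : Matrix (Fin 2) (Fin 2) F) 1 1
      - (g : Matrix (Fin 2) (Fin 2) F) 0 1 * (g : Matrix (Fin 2) (Fin 2) F) 1 0 = 1 := by
    have := g.2
    rw [Matrix.det_fin_two] at this
    exact this
  have gx0 : ((g : Matrix (Fin 2) (Fin 2) F) *ᵥ x) 0
      = (g : Matrix (Fin 2) (Fin 2) F) 0 0 * x 0 + (g : Matrix (Fin 2) (Fin 2) F) 0 1 * x 1 := by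
    simp [Matrix.mulVec, dotProduct, Fin.sum_univ_two]
  have gx1 : ((g : Matrix (Fin 2) (Fin 2) F) *ᵥ x) 1
      = (g : Matrix (Fin 2) (Fin 2) F) 1 0 * x 0 + (g : Matrix (Fin 2) (Fin 2) F) 1 1 * x 1 := by
    simp [Matrix.mulVec, dotProduct, Fin.sum_univ_two]
  have gy0 : ((g : Matrix (Fin 2) (Fin 2) F) *ᵥ y) 0
      = (g : Matrix (Fin 2) (Fin 2) F) 0 0 * y 0 + (g : Matrix (Fin 2) (Fin 2) F) 0 1 * y 1 := by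
    simp [Matrix.mulVec, dotProduct, Fin.sum_univ_two]
  have gy1 : ((g : Matrix (Fin 2) (Fin 2) F) *ᵥ y) 1
      = (g : Matrix (Fin 2) (Fin 2) F) 1 0 * y 0 + (g : Matrix (Fin 2) (Fin 2) F) 1 1 * y 1 := by
    simp [Matrix.mulVec, dotProduct, Fin.sum_univ_two]
  rw [gx0, gx1, gy0, gy1, hadd, hadd, mul_pow, mul_pow, mul_pow, mul_pow,
    hg 0 0, hg 0 1, hg 1 0, hg 1 1]
  linear_combination ε * (x 0 * (y 1) ^ q - x 1 * (y 0) ^ q) * hdg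

end Cfsg.Agent.Lib.Helper29.Law.Helper13
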