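import Cfsg.Agent.Lib.Helper13.M22Cnt04

/-!
Kernel counts over the cosets of the representative number 8 for the third base point.  (The
files of this series import each other in four chains so that at most four of them are compiled
at the same time: each needs several gigabytes of memory.)
-/

set_option autoImplicit false

namespace Cfsg.Agent.Lib.Helper13.M22Enum

open Cfsg.Agent.Lib.Helper13.PackPerm

set_option maxRecDepth 1000000 in
set_option maxHeartbeats 0 in
theorem n3_08 : cntChunk (TN g3P) 974473841626614080576257848081700128 ss K4P = 3014 := by
  decide +kernel

set_option maxRecDepth 1000000 in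
set_option maxHeartbeats 0 in
theorem n5_08 : cntChunk (TN g5P) 974473841626614080576257848081700128 ss K4P = 3086 := by
  decide +kernel

set_option maxRecDepth 1000000 in
set_option maxHeartbeats 0 in
theorem n7_08 : cntChunk (TN g7P) 974473841626614080576257848081700128 ss K4P = 3094 := by
  decide +kernel

set_option maxRecDepth 1000000 in
set_option maxHeartbeats 0 in
theorem n11_08 : cntChunk (TN g11P) 974473841626614080576257848081700128 ss K4P = 3076 := by
  decide +kernel

set_option maxRecDepth 1000000 in
set_option maxHeartbeats 0 in
theorem c5_08 : cntChunk (TC g5P) 974473841626614080576257848081700128 ss K4P = 0 := by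
  decide +kernel

set_option maxRecDepth 1000000 in
set_option maxHeartbeats 0 in
theorem c7_08 : cntChunk (TC g7P) 974473841626614080576257848081700128 ss K4P = 0 := by
  decide +kernel

set_option maxRecDepth 1000000 in
set_option maxHeartbeats 0 in
theorem c11_08 : cntChunk (TC g11P) 974473841626614080576257848081700128 ss K4P = 1 := by
  decide +kernel

set_option maxRecDepth 1000000 in
set_option maxHeartbeats 0 in
theorem ce_08 : cntChunk (TE) 974473841626614080576257848081700128 ss K4P = 0 := by
  decide +kernel

set_option maxRecDepth 1000000 in
set_option maxHeartbeats 0 in
theorem co_08 : cntChunk (TEout) 974473841626614080576257848081700128 ss K4P = 0 := by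
  decide +kernel

end Cfsg.Agent.Lib.Helper13.M22Enum
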