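import Cfsg.Agent.Lib.Helper13.M22Cnt09

/-!
Kernel counts over the cosets of the representative number 13 for the third base point.  (The
files of this series import each other in four chains so that at most four of them are compiled
at the same time: each needs several gigabytes of memory.)
-/

set_option autoImplicit false

namespace Cfsg.Agent.Lib.Helper13.M22Enum

open Cfsg.Agent.Lib.Helper13.PackPerm

set_option maxRecDepth 1000000 in
set_option maxHeartbeats 0 in
theorem n3_13 : cntChunk (TN g3P) 967291423465684267797732285844300224 ss K4P = 3085 := by
  decide +kernel

set_option maxRecDepth 1000000 in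
set_option maxHeartbeats 0 in
theorem n5_13 : cntChunk (TN g5P) 967291423465684267797732285844300224 ss K4P = 3072 := by
  decide +kernel

set_option maxRecDepth 1000000 in
set_option maxHeartbeats 0 in
theorem n7_13 : cntChunk (TN g7P) 967291423465684267797732285844300224 ss K4P = 3094 := by
  decide +kernel

set_option maxRecDepth 1000000 in
set_option maxHeartbeats 0 in
theorem n11_13 : cntChunk (TN g11P) 967291423465684267797732285844300224 ss K4P = 3062 := by
  decide +kernel

set_option maxRecDepth 1000000 in
set_option maxHeartbeats 0 in
theorem c5_13 : cntChunk (TC g5P) 967291423465684267797732285844300224 ss K4P = 0 := by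
  decide +kernel

set_option maxRecDepth 1000000 in
set_option maxHeartbeats 0 in
theorem c7_13 : cntChunk (TC g7P) 967291423465684267797732285844300224 ss K4P = 0 := by
  decide +kernel

set_option maxRecDepth 1000000 in
set_option maxHeartbeats 0 in
theorem c11_13 : cntChunk (TC g11P) 967291423465684267797732285844300224 ss K4P = 0 := by
  decide +kernel

set_option maxRecDepth 1000000 in
set_option maxHeartbeats 0 in
theorem ce_13 : cntChunk (TE) 967291423465684267797732285844300224 ss K4P = 0 := by
  decide +kernel

set_option maxRecDepth 1000000 in
set_option maxHeartbeats 0 in
theorem co_13 : cntChunk (TEout) 967291423465684267797732285844300224 ss K4P = 0 := by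
  decide +kernel

end Cfsg.Agent.Lib.Helper13.M22Enum
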