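import Cfsg.Agent.Lib.Helper13.M22Cnt10

/-!
Kernel counts over the cosets of the representative number 14 for the third base point.  (The
files of this series import each other in four chains so that at most four of them are compiled
at the same time: each needs several gigabytes of memory.)
-/

set_option autoImplicit false

namespace Cfsg.Agent.Lib.Helper13.M22Enum

open Cfsg.Agent.Lib.Helper13.PackPerm

set_option maxRecDepth 1000000 in
set_option maxHeartbeats 0 in
theorem n3_14 : cntChunk (TN g3P) 981413138003205016059172233116195296 ss K4P = 3060 := by
  decide +kernel

set_option maxRecDepth 1000000 in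
set_option maxHeartbeats 0 in
theorem n5_14 : cntChunk (TN g5P) 981413138003205016059172233116195296 ss K4P = 3090 := by
  decide +kernel

set_option maxRecDepth 1000000 in
set_option maxHeartbeats 0 in
theorem n7_14 : cntChunk (TN g7P) 981413138003205016059172233116195296 ss K4P = 3107 := by
  decide +kernel

set_option maxRecDepth 1000000 in
set_option maxHeartbeats 0 in
theorem n11_14 : cntChunk (TN g11P) 981413138003205016059172233116195296 ss K4P = 3142 := by
  decide +kernel

set_option maxRecDepth 1000000 in
set_option maxHeartbeats 0 in
theorem c5_14 : cntChunk (TC g5P) 981413138003205016059172233116195296 ss K4P = 0 := by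
  decide +kernel

set_option maxRecDepth 1000000 in
set_option maxHeartbeats 0 in
theorem c7_14 : cntChunk (TC g7P) 981413138003205016059172233116195296 ss K4P = 0 := by
  decide +kernel

set_option maxRecDepth 1000000 in
set_option maxHeartbeats 0 in
theorem c11_14 : cntChunk (TC g11P) 981413138003205016059172233116195296 ss K4P = 0 := by
  decide +kernel

set_option maxRecDepth 1000000 in
set_option maxHeartbeats 0 in
theorem ce_14 : cntChunk (TE) 981413138003205016059172233116195296 ss K4P = 0 := by
  decide +kernel

set_option maxRecDepth 1000000 in
set_option maxHeartbeats 0 in
theorem co_14 : cntChunk (TEout) 981413138003205016059172233116195296 ss K4P = 0 := by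
  decide +kernel

end Cfsg.Agent.Lib.Helper13.M22Enum
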