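import Cfsg.Agent.Lib.Helper13.M22Totals

/-!
Counts in the Mathieu group `M22` (the two-point stabiliser of `Cfsg.M24`) obtained by exhaustive
enumeration in the kernel: for elements `g` of order 3, 5, 7 and 11 the number of 2-elements `x`
with `x⁻¹ * g` of odd order is even; the centralizers of the elements of order 5, 7 and 11 are
cyclic; elements normalising them; a subgroup of order 9 whose non-identity elements are all
conjugate.
-/

set_option autoImplicit false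

namespace Cfsg.Agent.Lib.Helper13.M22Count

open Cfsg MulAction Cfsg.Agent.Lib.Helper28 Cfsg.Agent.Lib.Helper13.PackPerm
  Cfsg.Agent.Lib.Helper13.M22Enum

theorem card_M22 : Nat.card ↥Cfsg.Spor.M22 = 443520 := card_G22

/-! ### the witnesses -/

set_option maxRecDepth 1000000 in
set_option maxHeartbeats 40000000 in
theorem g3_ok : TabM24 g3P ∧ Canon g3P ∧ look g3P 0 = 0 ∧ look g3P 23 = 23 := by decide +kernel

set_option maxRecDepth 1000000 in
set_option maxHeartbeats 40000000 in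
theorem g5_ok : TabM24 g5P ∧ Canon g5P ∧ look g5P 0 = 0 ∧ look g5P 23 = 23 := by decide +kernel

set_option maxRecDepth 1000000 in
set_option maxHeartbeats 40000000 in
theorem g7_ok : TabM24 g7P ∧ Canon g7P ∧ look g7P 0 = 0 ∧ look g7P 23 = 23 := by decide +kernel

set_option maxRecDepth 1000000 in
set_option maxHeartbeats 40000000 in
theorem g11_ok : TabM24 g11P ∧ Canon g11P ∧ look g11P 0 = 0 ∧ look g11P 23 = 23 := by
  decide +kernel

set_option maxRecDepth 1000000 in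
set_option maxHeartbeats 40000000 in
theorem n5_ok : TabM24 n5P ∧ Canon n5P ∧ look n5P 0 = 0 ∧ look n5P 23 = 23 := by decide +kernel

set_option maxRecDepth 1000000 in
set_option maxHeartbeats 40000000 in
theorem n7_ok : TabM24 n7P ∧ Canon n7P ∧ look n7P 0 = 0 ∧ look n7P 23 = 23 := by decide +kernel

set_option maxRecDepth 1000000 in
set_option maxHeartbeats 40000000 in
theorem n11_ok : TabM24 n11P ∧ Canon n11P ∧ look n11P 0 = 0 ∧ look n11P 23 = 23 := by
  decide +kernel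

set_option maxRecDepth 1000000 in
set_option maxHeartbeats 40000000 in
theorem b_ok : TabM24 bP ∧ Canon bP ∧ look bP 0 = 0 ∧ look bP 23 = 23 := by decide +kernel

set_option maxRecDepth 1000000 in
set_option maxHeartbeats 40000000 in
theorem k8_ok : ∀ t ∈ k8P, TabM24 t ∧ Canon t ∧ look t 0 = 0 ∧ look t 23 = 23 := by
  decide +kernel

set_option maxRecDepth 1000000 in
theorem e9_ok : ∀ t ∈ e9P, t = idP ∨ ∃ k ∈ k8P, compP k t = compP g3P k := by decide +kernel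

/-- the element of `M22` with a checked packed table -/
noncomputable def mk (t : ℕ) (h : TabM24 t ∧ Canon t ∧ look t 0 = 0 ∧ look t 23 = 23) :
    ↥Cfsg.Spor.M22 :=
  ⟨permOf t, permOf_mem_M22 h.1 h.2.2.1 h.2.2.2⟩

theorem mk_rep (t : ℕ) (h : TabM24 t ∧ Canon t ∧ look t 0 = 0 ∧ look t 23 = 23) :
    Rep (mk t h).1 t := permOf_rep h.1 h.2.1

/-- an element of order 3 -/
noncomputable def g3 : ↥Cfsg.Spor.M22 := mk g3P g3_ok
/-- an element of order 5 -/
noncomputable def g5 : ↥Cfsg.Spor.M22 := mk g5P g5_ok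
/-- an element of order 7 -/
noncomputable def g7 : ↥Cfsg.Spor.M22 := mk g7P g7_ok
/-- an element of order 11 -/
noncomputable def g11 : ↥Cfsg.Spor.M22 := mk g11P g11_ok
/-- a second element of order 3, commuting with `g3` -/
noncomputable def b3 : ↥Cfsg.Spor.M22 := mk bP b_ok

theorem g3_rep : Rep g3.1 g3P := mk_rep _ _
theorem g5_rep : Rep g5.1 g5P := mk_rep _ _
theorem g7_rep : Rep g7.1 g7P := mk_rep _ _
theorem g11_rep : Rep g11.1 g11P := mk_rep _ _
theorem b3_rep : Rep b3.1 bP := mk_rep _ _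

/-! ### orders -/

theorem orderOf_of_rep (p : ℕ) [hp : Fact p.Prime] {x : ↥Cfsg.Spor.M22} {t t' : ℕ}
    (hr : Rep x.1 t) (hpow : Rep (x.1 ^ p) t') (h1 : isOneP t' = true) (h2 : isOneP t = false) :
    orderOf x = p := by
  apply orderOf_eq_prime
  · apply Subtype.ext
    rw [Subgroup.coe_pow]
    exact hpow.isOne_iff.mp h1
  · intro h
    have h3 : x.1 = 1 := by rw [h]; rfl
    rw [hr.isOne_iff.mpr h3] at h2
    exact absurd h2 (by decide)

theorem orderOf_g3 : orderOf g3 = 3 :=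
  haveI : Fact (Nat.Prime 3) := ⟨by norm_num⟩
  orderOf_of_rep 3 g3_rep g3_rep.pow3 (by decide +kernel) (by decide +kernel)

theorem orderOf_g5 : orderOf g5 = 5 :=
  haveI : Fact (Nat.Prime 5) := ⟨by norm_num⟩
  orderOf_of_rep 5 g5_rep g5_rep.pow5 (by decide +kernel) (by decide +kernel)

theorem orderOf_g7 : orderOf g7 = 7 :=
  haveI : Fact (Nat.Prime 7) := ⟨by norm_num⟩
  orderOf_of_rep 7 g7_rep g7_rep.pow7 (by decide +kernel) (by decide +kernel)

theorem orderOf_g11 : orderOf g11 = 11 :=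
  haveI : Fact (Nat.Prime 11) := ⟨by norm_num⟩
  orderOf_of_rep 11 g11_rep g11_rep.pow11 (by decide +kernel) (by decide +kernel)

/-! ### 2-elements and elements of odd order through powers -/

theorem two_pow_iff (x : ↥Cfsg.Spor.M22) : (∃ k : ℕ, orderOf x = 2 ^ k) ↔ x.1 ^ 128 = 1 := by
  have hcoe : x.1 ^ 128 = 1 ↔ x ^ 128 = 1 := by
    rw [← Subgroup.coe_pow]
    exact ⟨fun h => Subtype.ext h, fun h => by rw [h]; rfl⟩
  rw [hcoe]
  constructor
  · rintro ⟨k, hk⟩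
    have hdvd : orderOf x ∣ Nat.card ↥Cfsg.Spor.M22 := orderOf_dvd_natCard x
    rw [hk, card_M22, show 443520 = 2 ^ 7 * 3465 by norm_num] at hdvd
    have hcop : Nat.Coprime (2 ^ k) 3465 := Nat.Coprime.pow_left k (by norm_num)
    have h7 : 2 ^ k ∣ 2 ^ 7 := hcop.dvd_of_dvd_mul_right hdvd
    rw [← hk] at h7
    exact orderOf_dvd_iff_pow_eq_one.mp h7
  · intro h
    have h7 : orderOf x ∣ 2 ^ 7 := orderOf_dvd_iff_pow_eq_one.mpr h
    obtain ⟨k, _, hk⟩ := (Nat.dvd_prime_pow Nat.prime_two).mp h7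
    exact ⟨k, hk⟩

theorem odd_iff (y : ↥Cfsg.Spor.M22) : ¬ 2 ∣ orderOf y ↔ y.1 ^ 3465 = 1 := by
  have hcoe : y.1 ^ 3465 = 1 ↔ y ^ 3465 = 1 := by
    rw [← Subgroup.coe_pow]
    exact ⟨fun h => Subtype.ext h, fun h => by rw [h]; rfl⟩
  rw [hcoe]
  constructor
  · intro h2
    have hdvd : orderOf y ∣ Nat.card ↥Cfsg.Spor.M22 := orderOf_dvd_natCard y
    rw [card_M22, show 443520 = 2 ^ 7 * 3465 by norm_num] at hdvd
    have hcop : Nat.Coprime (orderOf y) (2 ^ 7) :=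
      Nat.Coprime.pow_right 7
        (Nat.Coprime.symm ((Nat.Prime.coprime_iff_not_dvd Nat.prime_two).mpr h2))
    exact orderOf_dvd_iff_pow_eq_one.mp (hcop.dvd_of_dvd_mul_left hdvd)
  · intro h h2
    have h3 : orderOf y ∣ 3465 := orderOf_dvd_iff_pow_eq_one.mpr h
    exact absurd (dvd_trans h2 h3) (by norm_num)

/-! ### the parity counts -/

theorem card_good (g : ↥Cfsg.Spor.M22) (t : ℕ) (hg : Rep g.1 t) :
    Nat.card {x : ↥Cfsg.Spor.M22 // (∃ k : ℕ, orderOf x = 2 ^ k) ∧ ¬ 2 ∣ orderOf (x⁻¹ * g)} =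
      (ms.map fun m => cntChunk (TN t) m ss K4P).sum := by
  rw [← card_M22_filter (fun σ => σ ^ 128 = 1 ∧ (σ * g.1) ^ 3465 = 1) (TN t)
    (fun σ _ r hr => TN_iff hg hr)]
  apply Nat.card_congr
  refine Equiv.subtypeEquiv (Equiv.inv ↥Cfsg.Spor.M22) ?_
  intro x
  rw [two_pow_iff, odd_iff]
  show _ ↔ (x⁻¹).1 ^ 128 = 1 ∧ ((x⁻¹).1 * g.1) ^ 3465 = 1
  rw [Subgroup.coe_inv, inv_pow, inv_eq_one]
  rfl

theorem even_N3 : Even (Nat.card {x : ↥Cfsg.Spor.M22 //
    (∃ k : ℕ, orderOf x = 2 ^ k) ∧ ¬ 2 ∣ orderOf (x⁻¹ * g3)}) := by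
  rw [card_good g3 g3P g3_rep, total_n3]
  decide

theorem even_N5 : Even (Nat.card {x : ↥Cfsg.Spor.M22 //
    (∃ k : ℕ, orderOf x = 2 ^ k) ∧ ¬ 2 ∣ orderOf (x⁻¹ * g5)}) := by
  rw [card_good g5 g5P g5_rep, total_n5]
  decide

theorem even_N7 : Even (Nat.card {x : ↥Cfsg.Spor.M22 //
    (∃ k : ℕ, orderOf x = 2 ^ k) ∧ ¬ 2 ∣ orderOf (x⁻¹ * g7)}) := by
  rw [card_good g7 g7P g7_rep, total_n7]
  decide

theorem even_N11 : Even (Nat.card {x : ↥Cfsg.Spor.M22 //
    (∃ k : ℕ, orderOf x = 2 ^ k) ∧ ¬ 2 ∣ orderOf (x⁻¹ * g11)}) := by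
  rw [card_good g11 g11P g11_rep, total_n11]
  decide

/-! ### centralizers -/

theorem card_cent (g : ↥Cfsg.Spor.M22) (t : ℕ) (hg : Rep g.1 t) :
    Nat.card (Subgroup.centralizer ({g} : Set ↥Cfsg.Spor.M22)) =
      (ms.map fun m => cntChunk (TC t) m ss K4P).sum := by
  rw [← card_M22_filter (fun σ => σ * g.1 = g.1 * σ) (TC t) (fun σ _ r hr => TC_iff hg hr)]
  apply Nat.card_congr
  refine Equiv.subtypeEquivRight ?_
  intro x
  rw [Subgroup.mem_centralizer_iff]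
  constructor
  · intro h
    have := h g rfl
    rw [← Subgroup.coe_mul, ← Subgroup.coe_mul, this]
  · intro h y hy
    rw [Set.mem_singleton_iff] at hy
    subst hy
    apply Subtype.ext
    rw [Subgroup.coe_mul, Subgroup.coe_mul, h]

theorem card_cent5 : Nat.card (Subgroup.centralizer ({g5} : Set ↥Cfsg.Spor.M22)) = 5 := by
  rw [card_cent g5 g5P g5_rep, total_c5]

theorem card_cent7 : Nat.card (Subgroup.centralizer ({g7} : Set ↥Cfsg.Spor.M22)) = 7 := by
  rw [card_cent g7 g7P g7_rep, total_c7]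

theorem card_cent11 : Nat.card (Subgroup.centralizer ({g11} : Set ↥Cfsg.Spor.M22)) = 11 := by
  rw [card_cent g11 g11P g11_rep, total_c11]

/-! ### normalizing elements -/

theorem conj_of_rep {n g h : ↥Cfsg.Spor.M22} {tn tg th : ℕ} (hn : Rep n.1 tn) (hg : Rep g.1 tg)
    (hh : Rep h.1 th) (he : compP tn tg = compP th tn) : n * g * n⁻¹ = h := by
  rw [mul_inv_eq_iff_eq_mul]
  apply Subtype.ext
  rw [Subgroup.coe_mul, Subgroup.coe_mul]
  have h1 := hn.comp hg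
  have h2 := hh.comp hn
  rw [he] at h1
  exact actsBy_unique h1.1 h2.1

theorem norm5 : ∃ n : ↥Cfsg.Spor.M22, n * g5 * n⁻¹ = g5 ^ 2 :=
  ⟨mk n5P n5_ok, conj_of_rep (mk_rep _ _) g5_rep (th := sqP g5P)
    (by rw [Subgroup.coe_pow]; exact g5_rep.sq) (by decide +kernel)⟩

theorem norm7 : ∃ n : ↥Cfsg.Spor.M22, n * g7 * n⁻¹ = g7 ^ 2 :=
  ⟨mk n7P n7_ok, conj_of_rep (mk_rep _ _) g7_rep (th := sqP g7P)
    (by rw [Subgroup.coe_pow]; exact g7_rep.sq) (by decide +kernel)⟩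

theorem norm11 : ∃ n : ↥Cfsg.Spor.M22, n * g11 * n⁻¹ = g11 ^ 3 :=
  ⟨mk n11P n11_ok, conj_of_rep (mk_rep _ _) g11_rep (th := pow3 g11P)
    (by rw [Subgroup.coe_pow]; exact g11_rep.pow3) (by decide +kernel)⟩

/-! ### a Sylow 3-subgroup -/

theorem mem_cent_pair (x : ↥Cfsg.Spor.M22) :
    x ∈ Subgroup.centralizer ({g3, b3} : Set ↥Cfsg.Spor.M22) ↔
      (x.1 * g3.1 = g3.1 * x.1 ∧ x.1 * b3.1 = b3.1 * x.1) := by
  rw [Subgroup.mem_centralizer_iff]
  constructor
  · intro h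
    have h1 := h g3 (by simp)
    have h2 := h b3 (by simp)
    constructor
    · rw [← Subgroup.coe_mul, ← Subgroup.coe_mul, h1]
    · rw [← Subgroup.coe_mul, ← Subgroup.coe_mul, h2]
  · rintro ⟨h1, h2⟩ y hy
    rcases hy with rfl | hy
    · apply Subtype.ext
      rw [Subgroup.coe_mul, Subgroup.coe_mul, h1]
    · rw [Set.mem_singleton_iff] at hy
      subst hy
      apply Subtype.ext
      rw [Subgroup.coe_mul, Subgroup.coe_mul, h2]

theorem syl3 : ∃ E : Subgroup ↥Cfsg.Spor.M22, Nat.card E = 9 ∧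
    ∀ x ∈ E, x ≠ 1 → ∃ k : ↥Cfsg.Spor.M22, k * x * k⁻¹ = g3 := by
  refine ⟨Subgroup.centralizer ({g3, b3} : Set ↥Cfsg.Spor.M22), ?_, ?_⟩
  · rw [← total_ce, ← card_M22_filter (fun σ => σ * g3.1 = g3.1 * σ ∧ σ * b3.1 = b3.1 * σ) TE
      (fun σ _ r hr => TE_iff g3_rep b3_rep hr)]
    apply Nat.card_congr
    exact Equiv.subtypeEquivRight mem_cent_pair
  · intro x hx hx1
    rw [mem_cent_pair] at hx
    have h0 := card_M22_filter
      (fun σ => (σ * g3.1 = g3.1 * σ ∧ σ * b3.1 = b3.1 * σ) ∧ ∀ r, Rep σ r → r ∉ e9P) TEout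
      (fun σ _ r hr => by
        rw [TEout_iff g3_rep b3_rep hr]
        constructor
        · rintro ⟨h1, h2⟩
          refine ⟨h1, fun r' hr' => ?_⟩
          rwa [eq_of_actsBy hr'.1 hr.1 hr'.2 hr.2]
        · rintro ⟨h1, h2⟩
          exact ⟨h1, h2 r hr⟩)
    rw [total_co] at h0
    have hemp : IsEmpty {x : ↥Cfsg.Spor.M22 // (x.1 * g3.1 = g3.1 * x.1 ∧
        x.1 * b3.1 = b3.1 * x.1) ∧ ∀ r, Rep x.1 r → r ∉ e9P} := by
      rcases Finite.card_eq_zero_iff.mp h0 with h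
      exact h
    have hx2 : ¬ ∀ r, Rep x.1 r → r ∉ e9P := fun h => hemp.false ⟨x, hx, h⟩
    push Not at hx2
    obtain ⟨r, hr, hre⟩ := hx2
    rcases e9_ok r hre with rfl | ⟨k, hk, hkr⟩
    · exfalso
      apply hx1
      apply Subtype.ext
      exact actsBy_unique hr.1 rep_one.1
    · exact ⟨mk k (k8_ok k hk), conj_of_rep (mk_rep _ _) hr g3_rep hkr⟩

end Cfsg.Agent.Lib.Helper13.M22Count
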