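import Cfsg.Agent.Lib.Helper13.M22Data
import Cfsg.Prelude.Def_Spor_Mathieu

/-!
Enumeration of the two-point stabiliser of `Cfsg.M24` by packed tables: every element is a product
`m * s * l` of a table moving the third base point, a table moving the fourth and one of the 960
elements fixing four base points; exact counting of subsets through a test on packed tables.
-/

set_option autoImplicit false

namespace Cfsg.Agent.Lib.Helper13.M22Enum

open Cfsg MulAction Cfsg.Agent.Lib.Helper28 Cfsg.Agent.Lib.Helper13.PackPerm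

theorem actsBy_k4 {l : List ℕ} (hl : l ∈ k4_nodes) (hg : GoodPerm l) :
    ActsBy (permOfList l) (packL l) := by
  intro a ha
  rw [k4_look l hl ⟨a, ha⟩]
  exact ⟨getD_lt hg ha, permOfList_ptN hg ha⟩

theorem look_comp (p q i : ℕ) (hi : i < 24) : look (compRaw p q) i = look p (look q i) := by
  rw [compRaw_eq, look_compRec _ _ _ _ hi, digit_eq]

theorem M22_eq : Spor.M22 = G22 := rfl

theorem e23 : Helper4.pt 23 = ptN 23 := (ptN_val 23).symm
theorem e0 : Helper4.pt 0 = ptN 0 := (ptN_val 0).symm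

theorem cover_M22 : ∀ σ ∈ Spor.M22, ∃ r ∈ allProds ms ss K4P, Rep σ r := by
  intro σ hσ
  have hσ' : σ ∈ G22 := hσ
  rw [mem_G22, e23, e0] at hσ'
  obtain ⟨hM, h23, h0⟩ := hσ'
  obtain ⟨a, ha, ea⟩ := exists_ptN (σ (ptN 1))
  obtain ⟨b, hb, eb⟩ := exists_ptN (σ (ptN 2))
  have hne : ∀ i j c : ℕ, i < 24 → j < 24 → c < 24 → i ≠ j → σ (ptN i) = ptN c →
      σ (ptN j) = ptN c → False := by
    intro i j c hi hj _ hij h1 h2
    exact hij (ptN_inj hi hj (σ.injective (h1.trans h2.symm)))
  have ha0 : a ≠ 0 := by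
    rintro rfl
    exact hne 1 0 0 (by norm_num) (by norm_num) (by norm_num) (by norm_num) ea h0
  have ha23 : a ≠ 23 := by
    rintro rfl
    exact hne 1 23 23 (by norm_num) (by norm_num) (by norm_num) (by norm_num) ea h23
  have hb0 : b ≠ 0 := by
    rintro rfl
    exact hne 2 0 0 (by norm_num) (by norm_num) (by norm_num) (by norm_num) eb h0
  have hb23 : b ≠ 23 := by
    rintro rfl
    exact hne 2 23 23 (by norm_num) (by norm_num) (by norm_num) (by norm_num) eb h23
  have hba : b ≠ a := by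
    rintro rfl
    exact hne 2 1 b (by norm_num) (by norm_num) hb (by norm_num) eb ea
  obtain ⟨m, hm, hma⟩ := cover1 ⟨a, ha⟩ ha0 ha23
  obtain ⟨s, hs, hsb⟩ := cover2 m hm ⟨b, hb⟩ hb0 hb23 (by rw [hma]; exact hba)
  simp only at hma hsb
  obtain ⟨hmT, hm0, hm23⟩ := ms_ok m hm
  obtain ⟨hsT, hs0, hs23, hs1⟩ := ss_ok s hs
  obtain ⟨τm, hτm, hτmA⟩ := hmT.exists
  obtain ⟨τs, hτs, hτsA⟩ := hsT.exists
  have hτA := actsBy_comp hτmA hτsA
  have hmem : (τm * τs)⁻¹ * σ ∈ baseStab M24 4 := by
    apply inv_mul_mem_baseStab (M24.mul_mem hτm hτs) hM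
    apply base_pt_cases (fun x => σ x = (τm * τs) x)
    · rw [h23, (hτA 23 (by norm_num)).2, look_comp _ _ 23 (by norm_num), hs23, hm23]
    · rw [h0, (hτA 0 (by norm_num)).2, look_comp _ _ 0 (by norm_num), hs0, hm0]
    · rw [ea, (hτA 1 (by norm_num)).2, look_comp _ _ 1 (by norm_num), hs1, hma]
    · rw [eb, (hτA 2 (by norm_num)).2, look_comp _ _ 2 (by norm_num), hsb]
  obtain ⟨l, hl, hgood, he⟩ := k4_enum _ hmem
  have hσeq : σ = (τm * τs) * permOfList l := by rw [← he, mul_inv_cancel_left]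
  refine ⟨compRaw (compRaw m s) (packL l), ?_, ?_⟩
  · unfold allProds prods
    rw [List.mem_flatMap]
    refine ⟨m, hm, ?_⟩
    rw [List.mem_flatMap]
    refine ⟨s, hs, ?_⟩
    rw [List.mem_map]
    exact ⟨packL l, by rw [← k4_pack]; exact List.mem_map_of_mem hl, rfl⟩
  · rw [hσeq]
    exact ⟨actsBy_comp hτA (actsBy_k4 hl hgood), canon_comp _ _⟩

set_option maxRecDepth 100000 in
theorem length_K4P : K4P.length = 960 := by decide +kernel

theorem length_ms : ms.length = 22 := by decide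

theorem length_ss : ss.length = 21 := by decide

theorem length_all : (allProds ms ss K4P).length = Nat.card ↥Spor.M22 := by
  rw [length_allProds, show Nat.card ↥Spor.M22 = 443520 from card_G22, length_K4P, length_ms,
    length_ss]

/-- exact counting in the two-point stabiliser through a test on packed tables -/
theorem card_M22_filter (P : Equiv.Perm GolayPt → Prop) (T : ℕ → Bool)
    (hT : ∀ σ ∈ Spor.M22, ∀ r, Rep σ r → (T r = true ↔ P σ)) :
    Nat.card {x : ↥Spor.M22 // P x.1} = (ms.map fun m => cntChunk T m ss K4P).sum := by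
  rw [card_filter_of_cover _ length_all cover_M22 P T hT, countP_allProds]

/-! ### named elements from packed tables -/

/-- the element of `M24` with a given packed table -/
noncomputable def permOf (t : ℕ) : Equiv.Perm GolayPt :=
  if h : TabM24 t then tabPerm (tabOfNat t) h.2.1 else 1

theorem permOf_mem {t : ℕ} (h : TabM24 t) : permOf t ∈ M24 := by
  unfold permOf
  rw [dif_pos h]
  exact tabPerm_mem_M24 _ _ h.2.2

theorem permOf_acts {t : ℕ} (h : TabM24 t) : ActsBy (permOf t) t := by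
  unfold permOf
  rw [dif_pos h]
  exact actsBy_tabPerm t h.1 h.2.1

theorem permOf_mem_M22 {t : ℕ} (h : TabM24 t) (h0 : look t 0 = 0) (h23 : look t 23 = 23) :
    permOf t ∈ Spor.M22 := by
  show permOf t ∈ G22
  rw [mem_G22, e23, e0, ((permOf_acts h) 23 (by norm_num)).2, ((permOf_acts h) 0 (by norm_num)).2,
    h0, h23]
  exact ⟨permOf_mem h, rfl, rfl⟩

theorem permOf_rep {t : ℕ} (h : TabM24 t) (hc : Canon t) : Rep (permOf t) t :=
  ⟨permOf_acts h, hc⟩

/-! ### tests -/

/-- `x ^ 128 = 1` and `(x * g) ^ 3465 = 1` -/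
def TN (g r : ℕ) : Bool :=
  frc r fun x => cond (isOneP (pow128 x)) (isOneP (pow3465 (compP x g))) false

theorem TN_iff {γ σ : Equiv.Perm GolayPt} {g r : ℕ} (hg : Rep γ g) (hr : Rep σ r) :
    TN g r = true ↔ (σ ^ 128 = 1 ∧ (σ * γ) ^ 3465 = 1) := by
  unfold TN
  rw [frc_eq, ← hr.pow128.isOne_iff, ← (hr.comp hg).pow3465.isOne_iff]
  cases isOneP (pow128 r) <;> simp

/-- `x * g = g * x` -/
def TC (g r : ℕ) : Bool := frc r fun x => Nat.beq (compP x g) (compP g x)

theorem TC_iff {γ σ : Equiv.Perm GolayPt} {g r : ℕ} (hg : Rep γ g) (hr : Rep σ r) :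
    TC g r = true ↔ σ * γ = γ * σ := by
  unfold TC
  rw [frc_eq]
  exact (hr.comp hg).beq_iff (hg.comp hr)

end Cfsg.Agent.Lib.Helper13.M22Enum
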