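import Cfsg.Agent.Lib.Helper13.M22InvLits

/-!
Kernel counts of the centralizer of an involution of `M22`, coset by coset.
-/

set_option autoImplicit false

namespace Cfsg.Agent.Lib.Helper13.M22Enum

open Cfsg.Agent.Lib.Helper13.PackPerm

set_option maxRecDepth 1000000 in
set_option maxHeartbeats 0 in
theorem ct_00 : cntChunk (TC t0P) 984818244535754528103549039458486304 ss K4P = 24 := by
  decide +kernel

set_option maxRecDepth 1000000 in
set_option maxHeartbeats 0 in
theorem ct_01 : cntChunk (TC t0P) 981833002915611137199226864694146112 ss K4P = 24 := by
  decide +kernel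

set_option maxRecDepth 1000000 in
set_option maxHeartbeats 0 in
theorem ct_02 : cntChunk (TC t0P) 984554320399804676744183959252249696 ss K4P = 24 := by
  decide +kernel

set_option maxRecDepth 1000000 in
set_option maxHeartbeats 0 in
theorem ct_03 : cntChunk (TC t0P) 974059804093660079790937102490882176 ss K4P = 24 := by
  decide +kernel

set_option maxRecDepth 1000000 in
set_option maxHeartbeats 0 in
theorem ct_04 : cntChunk (TC t0P) 968420703460629213462646035651764384 ss K4P = 0 := by
  decide +kernel

set_option maxRecDepth 1000000 in
set_option maxHeartbeats 0 in
theorem ct_05 : cntChunk (TC t0P) 983393132976991762470919875992861888 ss K4P = 24 := by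
  decide +kernel

set_option maxRecDepth 1000000 in
set_option maxHeartbeats 0 in
theorem ct_06 : cntChunk (TC t0P) 978104373054724849442462620747992288 ss K4P = 24 := by
  decide +kernel

set_option maxRecDepth 1000000 in
set_option maxHeartbeats 0 in
theorem ct_07 : cntChunk (TC t0P) 970090197052547287469149359883075840 ss K4P = 24 := by
  decide +kernel

set_option maxRecDepth 1000000 in
set_option maxHeartbeats 0 in
theorem ct_08 : cntChunk (TC t0P) 974473841626614080576257848081700128 ss K4P = 24 := by
  decide +kernel

set_option maxRecDepth 1000000 in
set_option maxHeartbeats 0 in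
theorem ct_09 : cntChunk (TC t0P) 978313968888557037353664979296918848 ss K4P = 0 := by
  decide +kernel

set_option maxRecDepth 1000000 in
set_option maxHeartbeats 0 in
theorem ct_10 : cntChunk (TC t0P) 981731142127247821432824398034996576 ss K4P = 24 := by
  decide +kernel

set_option maxRecDepth 1000000 in
set_option maxHeartbeats 0 in
theorem ct_11 : cntChunk (TC t0P) 984153760302308994797517961751203200 ss K4P = 24 := by
  decide +kernel

set_option maxRecDepth 1000000 in
set_option maxHeartbeats 0 in
theorem ct_12 : cntChunk (TC t0P) 960140729974715450165239683807187360 ss K4P = 0 := by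
  decide +kernel

set_option maxRecDepth 1000000 in
set_option maxHeartbeats 0 in
theorem ct_13 : cntChunk (TC t0P) 967291423465684267797732285844300224 ss K4P = 0 := by
  decide +kernel

set_option maxRecDepth 1000000 in
set_option maxHeartbeats 0 in
theorem ct_14 : cntChunk (TC t0P) 981413138003205016059172233116195296 ss K4P = 0 := by
  decide +kernel

set_option maxRecDepth 1000000 in
set_option maxHeartbeats 0 in
theorem ct_15 : cntChunk (TC t0P) 974043844261271063453943193631543808 ss K4P = 24 := by
  decide +kernel

set_option maxRecDepth 1000000 in
set_option maxHeartbeats 0 in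
theorem ct_16 : cntChunk (TC t0P) 971383089382503312002933055048551968 ss K4P = 24 := by
  decide +kernel

set_option maxRecDepth 1000000 in
set_option maxHeartbeats 0 in
theorem ct_17 : cntChunk (TC t0P) 957553358690893101112658746972381760 ss K4P = 24 := by
  decide +kernel

set_option maxRecDepth 1000000 in
set_option maxHeartbeats 0 in
theorem ct_18 : cntChunk (TC t0P) 974186008376103544796958807695971936 ss K4P = 24 := by
  decide +kernel

set_option maxRecDepth 1000000 in
set_option maxHeartbeats 0 in
theorem ct_19 : cntChunk (TC t0P) 960720284264519898411094232903816832 ss K4P = 24 := by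
  decide +kernel

set_option maxRecDepth 1000000 in
set_option maxHeartbeats 0 in
theorem ct_20 : cntChunk (TC t0P) 967979363999145700623116079051657888 ss K4P = 24 := by
  decide +kernel

set_option maxRecDepth 1000000 in
set_option maxHeartbeats 0 in
theorem ct_21 : cntChunk (TC t0P) 958326665261851194680540727542843072 ss K4P = 0 := by
  decide +kernel

end Cfsg.Agent.Lib.Helper13.M22Enum
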