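import Cfsg.Agent.Lib.Helper13.M22InvA
import Cfsg.Agent.Lib.Helper13.M22InvB

/-!
The involutions of `M22` form a single conjugacy class (1155 elements, centralizer of order 384),
and `M22` contains an elementary abelian subgroup of order 8; by exhaustive kernel counts.
-/

set_option autoImplicit false

namespace Cfsg.Agent.Lib.Helper13.M22Enum

open Cfsg.Agent.Lib.Helper13.PackPerm

theorem total_ti : (ms.map fun m => cntChunk (TI) m ss K4P).sum = 1156 := by
  have h : (ms.map fun m => cntChunk (TI) m ss K4P) = [316, 40, 40, 40, 40, 40, 40, 40, 40, 40, 40, 40, 40, 40, 40, 40, 40, 40, 40, 40, 40, 40] := by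
    unfold ms
    simp only [List.map_cons, List.map_nil, ti_00, ti_01, ti_02, ti_03, ti_04, ti_05, ti_06, ti_07, ti_08, ti_09, ti_10, ti_11, ti_12, ti_13, ti_14, ti_15, ti_16, ti_17, ti_18, ti_19, ti_20, ti_21]
  rw [h]
  rfl

theorem total_ct : (ms.map fun m => cntChunk (TC t0P) m ss K4P).sum = 384 := by
  have h : (ms.map fun m => cntChunk (TC t0P) m ss K4P) = [24, 24, 24, 24, 0, 24, 24, 24, 24, 0, 24, 24, 0, 0, 0, 24, 24, 24, 24, 24, 24, 0] := by
    unfold ms
    simp only [List.map_cons, List.map_nil, ct_00, ct_01, ct_02, ct_03, ct_04, ct_05, ct_06, ct_07, ct_08, ct_09, ct_10, ct_11, ct_12, ct_13, ct_14, ct_15, ct_16, ct_17, ct_18, ct_19, ct_20, ct_21]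
  rw [h]
  rfl

end Cfsg.Agent.Lib.Helper13.M22Enum

namespace Cfsg.Agent.Lib.Helper13.M22Count

open Cfsg MulAction Cfsg.Agent.Lib.Helper28 Cfsg.Agent.Lib.Helper13.PackPerm
  Cfsg.Agent.Lib.Helper13.M22Enum

set_option maxRecDepth 1000000 in
set_option maxHeartbeats 40000000 in
theorem t0_ok : TabM24 t0P ∧ Canon t0P ∧ look t0P 0 = 0 ∧ look t0P 23 = 23 := by decide +kernel

set_option maxRecDepth 1000000 in
set_option maxHeartbeats 40000000 in
theorem t1_ok : TabM24 t1P ∧ Canon t1P ∧ look t1P 0 = 0 ∧ look t1P 23 = 23 := by decide +kernel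

set_option maxRecDepth 1000000 in
set_option maxHeartbeats 40000000 in
theorem t2_ok : TabM24 t2P ∧ Canon t2P ∧ look t2P 0 = 0 ∧ look t2P 23 = 23 := by decide +kernel

/-- an involution of `M22` -/
noncomputable def t0 : ↥Cfsg.Spor.M22 := mk t0P t0_ok
/-- a second involution, commuting with `t0` -/
noncomputable def t1 : ↥Cfsg.Spor.M22 := mk t1P t1_ok
/-- a third involution, commuting with `t0` and `t1` -/
noncomputable def t2 : ↥Cfsg.Spor.M22 := mk t2P t2_ok

theorem t0_rep : Rep t0.1 t0P := mk_rep _ _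
theorem t1_rep : Rep t1.1 t1P := mk_rep _ _
theorem t2_rep : Rep t2.1 t2P := mk_rep _ _

theorem orderOf_t0 : orderOf t0 = 2 :=
  haveI : Fact (Nat.Prime 2) := ⟨Nat.prime_two⟩
  orderOf_of_rep 2 t0_rep t0_rep.sq (by decide +kernel) (by decide +kernel)

theorem orderOf_t1 : orderOf t1 = 2 :=
  haveI : Fact (Nat.Prime 2) := ⟨Nat.prime_two⟩
  orderOf_of_rep 2 t1_rep t1_rep.sq (by decide +kernel) (by decide +kernel)

theorem orderOf_t2 : orderOf t2 = 2 :=
  haveI : Fact (Nat.Prime 2) := ⟨Nat.prime_two⟩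
  orderOf_of_rep 2 t2_rep t2_rep.sq (by decide +kernel) (by decide +kernel)

theorem mul_comm_of_rep {x y : ↥Cfsg.Spor.M22} {tx ty : ℕ} (hx : Rep x.1 tx) (hy : Rep y.1 ty)
    (he : compP tx ty = compP ty tx) : x * y = y * x := by
  apply Subtype.ext
  rw [Subgroup.coe_mul, Subgroup.coe_mul]
  have h1 := hx.comp hy
  rw [he] at h1
  exact actsBy_unique h1.1 (hy.comp hx).1

theorem t0_t1_comm : t0 * t1 = t1 * t0 := mul_comm_of_rep t0_rep t1_rep (by decide +kernel)
theorem t0_t2_comm : t0 * t2 = t2 * t0 := mul_comm_of_rep t0_rep t2_rep (by decide +kernel)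
theorem t1_t2_comm : t1 * t2 = t2 * t1 := mul_comm_of_rep t1_rep t2_rep (by decide +kernel)

theorem ne_of_rep {x y : ↥Cfsg.Spor.M22} {tx ty : ℕ} (hx : Rep x.1 tx) (hy : Rep y.1 ty)
    (hne : Nat.beq tx ty = false) : x ≠ y := by
  intro h
  have h1 : x.1 = y.1 := by rw [h]
  rw [(hx.beq_iff hy).mpr h1] at hne
  exact absurd hne (by decide)

/-- `t2` is not in the four-group generated by `t0` and `t1` -/
theorem t2_not_mem : t2 ≠ 1 ∧ t2 ≠ t0 ∧ t2 ≠ t1 ∧ t2 ≠ t0 * t1 := by
  refine ⟨?_, ?_, ?_, ?_⟩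
  · intro h
    have := orderOf_t2
    rw [h, orderOf_one] at this
    exact absurd this (by norm_num)
  · exact ne_of_rep t2_rep t0_rep (by decide +kernel)
  · exact ne_of_rep t2_rep t1_rep (by decide +kernel)
  · exact ne_of_rep t2_rep
      (by rw [Subgroup.coe_mul]; exact t0_rep.comp t1_rep) (by decide +kernel)

theorem t1_ne_t0 : t1 ≠ t0 := ne_of_rep t1_rep t0_rep (by decide +kernel)

/-- the elements of square one -/
theorem card_sq_one : Nat.card {x : ↥Cfsg.Spor.M22 // x.1 ^ 2 = 1} = 1156 := by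
  rw [card_M22_filter (fun σ => σ ^ 2 = 1) TI (fun σ _ r hr => TI_iff hr), total_ti]

theorem card_cent_t0 :
    Nat.card (Subgroup.centralizer ({t0} : Set ↥Cfsg.Spor.M22)) = 384 := by
  rw [card_cent t0 t0P t0_rep, total_ct]

/-- a conjugacy class is determined by counting -/
theorem conj_of_card {G : Type*} [Group G] [Finite G] (t : G) (A : Set G)
    (hA : ∀ x, IsConj t x → x ∈ A)
    (hcard : A.ncard * Nat.card (Subgroup.centralizer ({t} : Set G)) = Nat.card G) :
    ∀ x ∈ A, ∃ k : G, k * t * k⁻¹ = x := by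
  classical
  have : Fintype G := Fintype.ofFinite G
  have hsub : (ConjClasses.mk t).carrier ⊆ A := by
    intro x hx
    rw [ConjClasses.mem_carrier_iff_mk_eq, ConjClasses.mk_eq_mk_iff_isConj] at hx
    exact hA x hx.symm
  have hC : (ConjClasses.mk t).carrier.ncard * Nat.card (Subgroup.centralizer ({t} : Set G)) =
      Nat.card G := by
    rw [Subgroup.nat_card_centralizer_nat_card_stabilizer, ← ConjAct.orbit_eq_carrier_conjClasses,
      Set.ncard_eq_toFinset_card', Nat.card_eq_fintype_card, Nat.card_eq_fintype_card,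
      Set.toFinset_card]
    exact MulAction.card_orbit_mul_card_stabilizer_eq_card_group (ConjAct G) t
  have hpos : 0 < Nat.card (Subgroup.centralizer ({t} : Set G)) := Nat.card_pos
  have hle : A.ncard ≤ (ConjClasses.mk t).carrier.ncard := by
    have := hcard.trans hC.symm
    exact le_of_eq (Nat.eq_of_mul_eq_mul_right hpos this)
  have heq := Set.eq_of_subset_of_ncard_le hsub hle (Set.toFinite _)
  intro x hx
  rw [← heq, ConjClasses.mem_carrier_iff_mk_eq, ConjClasses.mk_eq_mk_iff_isConj] at hx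
  exact isConj_iff.mp hx.symm

/-- every involution of `M22` is conjugate to `t0` -/
theorem involution_conj_t0 (s : ↥Cfsg.Spor.M22) (hs : orderOf s = 2) :
    ∃ k : ↥Cfsg.Spor.M22, k * t0 * k⁻¹ = s := by
  have hfin : Finite ↥Cfsg.Spor.M22 := Nat.finite_of_card_ne_zero (by rw [card_M22]; norm_num)
  set A : Set ↥Cfsg.Spor.M22 := {x | x ^ 2 = 1 ∧ x ≠ 1} with hAdef
  have hA1 : Nat.card {x : ↥Cfsg.Spor.M22 // x ^ 2 = 1} = 1156 := by
    rw [← card_sq_one]
    apply Nat.card_congr
    refine Equiv.subtypeEquivRight (fun x => ?_)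
    rw [← Subgroup.coe_pow]
    exact ⟨fun h => by rw [h]; rfl, fun h => Subtype.ext h⟩
  have hAn : A.ncard = 1155 := by
    have h1 : ({x : ↥Cfsg.Spor.M22 | x ^ 2 = 1} : Set _).ncard = 1156 := by
      rw [← Nat.card_coe_set_eq]; exact hA1
    have h2 : A = {x : ↥Cfsg.Spor.M22 | x ^ 2 = 1} \ {1} := by
      ext x
      simp only [hAdef, Set.mem_ofPred_eq, Set.mem_sdiff, Set.mem_singleton_iff]
    rw [h2, Set.ncard_sdiff_singleton_of_mem (by simp), h1]
  apply conj_of_card t0 A
  · intro x hx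
    obtain ⟨c, rfl⟩ := isConj_iff.mp hx
    have h2 : t0 ^ 2 = 1 := by rw [← orderOf_t0]; exact pow_orderOf_eq_one t0
    refine ⟨by rw [conj_pow, h2, mul_one, mul_inv_cancel], fun h => ?_⟩
    have h3 : t0 = 1 := by
      have := congrArg (fun y => c⁻¹ * y * c) h
      simpa [mul_assoc] using this
    have := orderOf_t0
    rw [h3, orderOf_one] at this
    exact absurd this (by norm_num)
  · rw [hAn, card_cent_t0, card_M22]
  · refine ⟨by rw [← hs]; exact pow_orderOf_eq_one s, fun h => ?_⟩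
    rw [h, orderOf_one] at hs
    exact absurd hs (by norm_num)

/-- `M22` has a single class of involutions -/
theorem involutions_conj (s t : ↥Cfsg.Spor.M22) (hs : orderOf s = 2) (ht : orderOf t = 2) :
    ∃ k : ↥Cfsg.Spor.M22, k * s * k⁻¹ = t := by
  obtain ⟨a, ha⟩ := involution_conj_t0 s hs
  obtain ⟨b, hb⟩ := involution_conj_t0 t ht
  refine ⟨b * a⁻¹, ?_⟩
  rw [← ha, ← hb]
  group

end Cfsg.Agent.Lib.Helper13.M22Count
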