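import Cfsg.Agent.Lib.Helper13.M22Count

/-!
Involutions of `M22`: packed tables of three commuting involutions and the tests for the two
kernel counts (elements of square one; centralizer of an involution).
-/

set_option autoImplicit false

namespace Cfsg.Agent.Lib.Helper13.M22Enum

open Cfsg Cfsg.Agent.Lib.Helper28 Cfsg.Agent.Lib.Helper13.PackPerm

/-- an involution -/
def t0P : ℕ := 984604625376506324054811455785650400
/-- a second involution, commuting with `t0P` -/
def t1P : ℕ := 961996611708926062682608334449314432
/-- a third involution, commuting with both -/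
def t2P : ℕ := 984713093390188445415386470434743936

/-- `x ^ 2 = 1` -/
def TI (r : ℕ) : Bool := frc r fun x => isOneP (sqP x)

theorem TI_iff {σ : Equiv.Perm GolayPt} {r : ℕ} (hr : Rep σ r) : TI r = true ↔ σ ^ 2 = 1 := by
  unfold TI
  rw [frc_eq]
  exact hr.sq.isOne_iff

end Cfsg.Agent.Lib.Helper13.M22Enum
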