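import Cfsg.Agent.Lib.Helper13.M22Enum

/-!
Packed tables of some elements of the two-point stabiliser of `Cfsg.M24`: elements of order 3, 5,
7 and 11, elements normalising the last three, and an elementary abelian subgroup of order 9.
-/

set_option autoImplicit false

namespace Cfsg.Agent.Lib.Helper13.M22Enum

/-- an element of order 3 -/
def g3P : ℕ := 978313968888557037353664979296918848
/-- an element of order 5 -/
def g5P : ℕ := 974380510768821363662145534143076928
/-- an element of order 7 -/
def g7P : ℕ := 984063417796830594628900881013387392
/-- an element of order 11 -/
def g11P : ℕ := 983435072843990828779021698901151808
/-- an element squaring `g5P` -/
def n5P : ℕ := 970204549293238788066583342718883904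
/-- an element squaring `g7P` -/
def n7P : ℕ := 984235106594825145916685891911370912
/-- an element cubing `g11P` -/
def n11P : ℕ := 978329933299122975683446603816964480
/-- an element of order 3 commuting with `g3P` -/
def bP : ℕ := 967641146943648945340526254965754176
/-- the nine products of powers of `g3P` and `bP` -/
def e9P : List ℕ := [984818244535754528103549039458486304, 967641146943648945340526254965754176, 962624133286708754716220980805601408, 978313968888557037353664979296918848, 980620542236761755995165180710427776, 966525922141474399055035349350816800, 977028135651025502189451648683969664, 981922379375586628653612587014130720, 963923673108785579979566389973454144]
/-- conjugators taking the eight non-identity products to `g3P` -/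
def k8P : List ℕ := [967197808527005635414971769412867424, 963479784150796321934565361220933088, 978313968888557037353664979296918848, 966299885603681254900316709421008096, 968608898751073621232630522225079680, 961082868298564291134927918547967136, 980275088268277035596574332479190464, 966388578821204278432082944952257632]

end Cfsg.Agent.Lib.Helper13.M22Enum
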