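import Mathlib

/-!
Sylow counting through the normalizer of a subgroup of prime order, and the
resulting criterion excluding subgroups of index 56 and 210 in a group of order 443520.
-/

set_option autoImplicit false

namespace Cfsg.Agent.Lib.Helper13.SylNormCount

open Subgroup

/-- a subgroup all of whose elements lie in the range of a map from a finite type -/
theorem card_le_of_forall_exists_fin {G ι : Type*} [Group G] [Fintype ι] (K : Subgroup G)
    (f : ι → G) (h : ∀ g ∈ K, ∃ i, g = f i) : Nat.card K ≤ Fintype.card ι := by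
  classical
  choose F hF using fun g : K => h g.1 g.2
  have hinj : Function.Injective F := by
    intro g g' hgg
    apply Subtype.ext
    rw [hF g, hF g', hgg]
  have := Nat.card_le_card_of_injective _ hinj
  rwa [Nat.card_eq_fintype_card (α := ι)] at this

theorem conj_pow_eq {G : Type*} [Group G] (g x : G) (n : ℕ) :
    g * x ^ n * g⁻¹ = (g * x * g⁻¹) ^ n := by
  rw [conj_pow]

/-- in a finite group, conjugating a generator into its cyclic group normalizes the group -/
theorem mem_normalizer_zpowers_of_conj_mem {G : Type*} [Group G] [Finite G] {g x : G}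
    (h : g * x * g⁻¹ ∈ zpowers x) : g ∈ normalizer (zpowers x : Set G) := by
  apply mem_normalizer_fintype
  intro n hn
  rw [SetLike.mem_coe] at hn ⊢
  obtain ⟨k, rfl⟩ := hn
  have : g * x ^ k * g⁻¹ = (g * x * g⁻¹) ^ k := by
    rw [conj_zpow]
  rw [this]
  exact (zpowers x).zpow_mem h k

set_option maxHeartbeats 1000000 in
/-- Sylow counting: if `x ∈ H` has prime order `p` and `p ^ 2` does not divide `|H|`, then
`|H| = |N_G(<x>) ∩ H| * k` with `k ≡ 1` modulo `p`. -/
theorem sylow_norm_count {G : Type*} [Group G] [Finite G] (H : Subgroup G) (p : ℕ)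
    [hp : Fact p.Prime] (x : G) (hxH : x ∈ H) (hox : orderOf x = p)
    (hH : ¬ p ^ 2 ∣ Nat.card H) :
    ∃ k, k ≡ 1 [MOD p] ∧
      Nat.card H = Nat.card ↥(normalizer (zpowers x : Set G) ⊓ H) * k := by
  have hle : zpowers x ≤ H := (zpowers_le).mpr hxH
  set P : Subgroup H := (zpowers x).subgroupOf H with hP
  have hcardP : Nat.card P = p := by
    rw [hP, Nat.card_congr (subgroupOfEquivOfLe hle).toEquiv, Nat.card_zpowers, hox]
  have hdvd : p ∣ Nat.card H := hcardP ▸ card_subgroup_dvd_card P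
  have hpos : Nat.card H ≠ 0 := Nat.card_pos.ne'
  have hfac : (Nat.card H).factorization p = 1 := by
    have h1 : 1 ≤ (Nat.card H).factorization p :=
      (hp.out.dvd_iff_one_le_factorization hpos).mp hdvd
    have h2 : ¬ 2 ≤ (Nat.card H).factorization p := by
      intro h2
      exact hH ((hp.out.pow_dvd_iff_le_factorization hpos).mpr h2)
    omega
  have hS : Nat.card P = p ^ (Nat.card H).factorization p := by
    rw [hfac, pow_one, hcardP]
  set S : Sylow p H := Sylow.ofCard P hS with hSdef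
  have hSP : (S : Subgroup H) = P := Sylow.coe_ofCard P hS
  have h1 := card_sylow_modEq_one p H
  have h2 := Sylow.card_eq_index_normalizer S
  have h3 := Subgroup.card_mul_index (normalizer (S : Set H))
  refine ⟨Nat.card (Sylow p H), h1, ?_⟩
  rw [← h3, ← h2]
  congr 1
  have hSP' : normalizer (S : Set H) = normalizer (P : Set H) := by
    rw [← hSP]; rfl
  rw [hSP', hP, ← subgroupOf_normalizer_eq hle]
  have e : (normalizer (zpowers x : Set G) ⊓ H).subgroupOf H =
      (normalizer (zpowers x : Set G)).subgroupOf H := inf_subgroupOf_right _ _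
  rw [← e]
  exact Nat.card_congr (subgroupOfEquivOfLe (inf_le_right : normalizer (zpowers x : Set G) ⊓ H ≤ H)).toEquiv

/-- the normalizer of a cyclic subgroup whose elements have a two-parameter normal form -/
theorem card_normalizer_le_of_form {G : Type*} [Group G] (x y : G) (m n : ℕ)
    (hm : 0 < m) (hn : 0 < n) (hy : y ^ m = 1) (hx : x ^ n = 1)
    (hN : ∀ g : G, g * x * g⁻¹ ∈ zpowers x → ∃ i j : ℕ, g = y ^ i * x ^ j) :
    Nat.card (normalizer (zpowers x : Set G)) ≤ m * n := by
  have : NeZero m := ⟨hm.ne'⟩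
  have : NeZero n := ⟨hn.ne'⟩
  have := card_le_of_forall_exists_fin (normalizer (zpowers x : Set G))
    (fun p : Fin m × Fin n => y ^ p.1.val * x ^ p.2.val) ?_
  · simpa using this
  · intro g hg
    have h1 : g * x * g⁻¹ ∈ zpowers x :=
      (mem_normalizer_iff.mp hg x).mp (mem_zpowers x)
    obtain ⟨i, j, rfl⟩ := hN g h1
    refine ⟨(⟨i % m, Nat.mod_lt _ hm⟩, ⟨j % n, Nat.mod_lt _ hn⟩), ?_⟩
    show _ = y ^ (i % m) * x ^ (j % n)
    rw [← pow_eq_pow_mod i hy, ← pow_eq_pow_mod j hx]

/-- from the counting: the full normalizer lies in `H` -/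
theorem normalizer_le_of_count {G : Type*} [Group G] [Finite G] (H : Subgroup G) (x : G)
    (B : ℕ) (hB : Nat.card (normalizer (zpowers x : Set G)) ≤ B)
    (hcount : B ≤ Nat.card ↥(normalizer (zpowers x : Set G) ⊓ H)) :
    normalizer (zpowers x : Set G) ≤ H := by
  have h := eq_of_le_of_card_ge (inf_le_left : normalizer (zpowers x : Set G) ⊓ H ≤ _)
    (hB.trans hcount)
  rw [← h]
  exact inf_le_right

theorem dvd_card_normalizer_inf {G : Type*} [Group G] [Finite G] (H : Subgroup G) (x : G)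
    (hxH : x ∈ H) : orderOf x ∣ Nat.card ↥(normalizer (zpowers x : Set G) ⊓ H) := by
  apply Subgroup.orderOf_dvd_natCard
  exact ⟨le_normalizer (mem_zpowers x), hxH⟩

/-- key step: a subgroup of order 7920 or 2112 cannot contain `b` -/
theorem no_sub_of_mem {G : Type*} [Group G] [Finite G] (b c t : G)
    (hb : orderOf b = 11) (hc : orderOf c = 5) (hbt : orderOf (b * t) = 7)
    (hcb : c * b * c⁻¹ ∈ zpowers b) (htc : t * c * t⁻¹ ∈ zpowers c)
    (hNb : ∀ g : G, g * b * g⁻¹ ∈ zpowers b → ∃ i j : ℕ, g = c ^ i * b ^ j)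
    (hNc : ∀ g : G, g * c * g⁻¹ ∈ zpowers c → ∃ i j : ℕ, g = t ^ i * c ^ j)
    (ht4 : t ^ 4 = 1)
    (H : Subgroup G) (hH : Nat.card H = 7920 ∨ Nat.card H = 2112) (hbH : b ∈ H) : False := by
  have : Fact (Nat.Prime 11) := ⟨by norm_num⟩
  have : Fact (Nat.Prime 5) := ⟨by norm_num⟩
  have hb11 : b ^ 11 = 1 := hb ▸ pow_orderOf_eq_one b
  have hc5 : c ^ 5 = 1 := hc ▸ pow_orderOf_eq_one c
  have hNb_card : Nat.card (normalizer (zpowers b : Set G)) ≤ 55 :=
    card_normalizer_le_of_form b c 5 11 (by norm_num) (by norm_num) hc5 hb11 hNb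
  have hNc_card : Nat.card (normalizer (zpowers c : Set G)) ≤ 20 :=
    card_normalizer_le_of_form c t 4 5 (by norm_num) (by norm_num) ht4 hc5 hNc
  -- the prime 11
  have h121 : ¬ 11 ^ 2 ∣ Nat.card H := by
    rcases hH with h | h <;> rw [h] <;> norm_num
  obtain ⟨k, hk1, hk2⟩ := sylow_norm_count H 11 b hbH hb h121
  have hm55 : Nat.card ↥(normalizer (zpowers b : Set G) ⊓ H) ≤ 55 :=
    (card_le_of_le inf_le_left).trans hNb_card
  have h11m := dvd_card_normalizer_inf H b hbH
  rw [hb] at h11m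
  have hmpos : 0 < Nat.card ↥(normalizer (zpowers b : Set G) ⊓ H) := Nat.card_pos
  have hk1' : k % 11 = 1 := hk1
  obtain ⟨hH7920, hm⟩ : Nat.card H = 7920 ∧
      Nat.card ↥(normalizer (zpowers b : Set G) ⊓ H) = 55 := by
    generalize Nat.card ↥(normalizer (zpowers b : Set G) ⊓ H) = m at *
    obtain ⟨m', rfl⟩ := h11m
    have hm'5 : m' ≤ 5 := by omega
    have hm'0 : 0 < m' := by omega
    rcases hH with h | h
    · rw [h] at hk2
      refine ⟨h, ?_⟩
      interval_cases m' <;> omega
    · rw [h] at hk2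
      exfalso
      interval_cases m' <;> omega
  have hNbH : normalizer (zpowers b : Set G) ≤ H :=
    normalizer_le_of_count H b 55 hNb_card hm.ge
  have hcH : c ∈ H := hNbH (mem_normalizer_zpowers_of_conj_mem hcb)
  -- the prime 5
  have h25 : ¬ 5 ^ 2 ∣ Nat.card H := by rw [hH7920]; norm_num
  obtain ⟨k', hk1', hk2'⟩ := sylow_norm_count H 5 c hcH hc h25
  have hm20 : Nat.card ↥(normalizer (zpowers c : Set G) ⊓ H) ≤ 20 :=
    (card_le_of_le inf_le_left).trans hNc_card
  have h5m := dvd_card_normalizer_inf H c hcH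
  rw [hc] at h5m
  have hmpos' : 0 < Nat.card ↥(normalizer (zpowers c : Set G) ⊓ H) := Nat.card_pos
  have hk1'' : k' % 5 = 1 := hk1'
  have hm' : Nat.card ↥(normalizer (zpowers c : Set G) ⊓ H) = 20 := by
    generalize Nat.card ↥(normalizer (zpowers c : Set G) ⊓ H) = m at *
    obtain ⟨m', rfl⟩ := h5m
    have hm'4 : m' ≤ 4 := by omega
    have hm'0 : 0 < m' := by omega
    rw [hH7920] at hk2'
    interval_cases m' <;> omega
  have hNcH : normalizer (zpowers c : Set G) ≤ H :=
    normalizer_le_of_count H c 20 hNc_card hm'.ge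
  have htH : t ∈ H := hNcH (mem_normalizer_zpowers_of_conj_mem htc)
  have hbtH : b * t ∈ H := H.mul_mem hbH htH
  have h7 := H.orderOf_dvd_natCard hbtH
  rw [hbt, hH7920] at h7
  norm_num at h7

theorem factorization_eq_one_of {p n : ℕ} (hp : p.Prime) (hn : n ≠ 0) (h1 : p ∣ n)
    (h2 : ¬ p ^ 2 ∣ n) : n.factorization p = 1 := by
  have h1' : 1 ≤ n.factorization p := (hp.dvd_iff_one_le_factorization hn).mp h1
  have h2' : ¬ 2 ≤ n.factorization p := fun h => h2 ((hp.pow_dvd_iff_le_factorization hn).mpr h)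
  omega

/-- in a group of order 443520 with the given local data, no subgroup has index 56 or 210 -/
theorem no_index_56_210 {G : Type*} [Group G] [Finite G] (hG : Nat.card G = 443520)
    (b c t : G)
    (hb : orderOf b = 11) (hc : orderOf c = 5) (hbt : orderOf (b * t) = 7)
    (hcb : c * b * c⁻¹ ∈ zpowers b) (htc : t * c * t⁻¹ ∈ zpowers c)
    (hNb : ∀ g : G, g * b * g⁻¹ ∈ zpowers b → ∃ i j : ℕ, g = c ^ i * b ^ j)
    (hNc : ∀ g : G, g * c * g⁻¹ ∈ zpowers c → ∃ i j : ℕ, g = t ^ i * c ^ j)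
    (ht4 : t ^ 4 = 1)
    (H : Subgroup G) : H.index ≠ 56 ∧ H.index ≠ 210 := by
  have hp11 : Fact (Nat.Prime 11) := ⟨by norm_num⟩
  have key : ¬ (Nat.card H = 7920 ∨ Nat.card H = 2112) := by
    intro hH
    have hdvd : 11 ∣ Nat.card H := by
      rcases hH with h | h <;> rw [h] <;> norm_num
    obtain ⟨y, hy⟩ := exists_prime_orderOf_dvd_card' 11 hdvd
    have hy' : orderOf (y : G) = 11 := by rw [Subgroup.orderOf_coe]; exact hy
    have hfac : (Nat.card G).factorization 11 = 1 := by
      rw [hG]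
      exact factorization_eq_one_of (by norm_num) (by norm_num) (by norm_num) (by norm_num)
    have hSb : Nat.card (zpowers b) = 11 ^ (Nat.card G).factorization 11 := by
      rw [hfac, pow_one, Nat.card_zpowers, hb]
    have hSy : Nat.card (zpowers (y : G)) = 11 ^ (Nat.card G).factorization 11 := by
      rw [hfac, pow_one, Nat.card_zpowers, hy']
    obtain ⟨g, hg⟩ := MulAction.exists_smul_eq G (Sylow.ofCard (zpowers (y : G)) hSy)
      (Sylow.ofCard (zpowers b) hSb)
    have hbmem : b ∈ ((g • Sylow.ofCard (zpowers (y : G)) hSy : Sylow 11 G) : Subgroup G) := by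
      rw [hg, Sylow.coe_ofCard]
      exact mem_zpowers b
    rw [Sylow.coe_subgroup_smul, Sylow.coe_ofCard, mem_pointwise_smul_iff_inv_smul_mem,
      MulAut.smul_def, MulAut.conj_inv_apply] at hbmem
    have hbH : g⁻¹ * b * g ∈ H := by
      have : zpowers (y : G) ≤ H := zpowers_le.mpr y.2
      exact this hbmem
    have hbH' : b ∈ H.map (MulAut.conj g).toMonoidHom := by
      refine mem_map.mpr ⟨g⁻¹ * b * g, hbH, ?_⟩
      simp only [MulEquiv.coe_toMonoidHom, MulAut.conj_apply]
      group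
    have hcard : Nat.card (H.map (MulAut.conj g).toMonoidHom) = Nat.card H :=
      card_map_of_injective (MulAut.conj g).injective
    exact no_sub_of_mem b c t hb hc hbt hcb htc hNb hNc ht4 _ (hcard.symm ▸ hH) hbH'
  have hmul := H.card_mul_index
  rw [hG] at hmul
  constructor
  · intro h
    rw [h] at hmul
    exact key (Or.inl (by omega))
  · intro h
    rw [h] at hmul
    exact key (Or.inr (by omega))

theorem mem_zpowers_map_iff {G G' : Type*} [Group G] [Group G'] (φ : G →* G')
    (hφ : Function.Injective φ) (x y : G) : φ x ∈ zpowers (φ y) ↔ x ∈ zpowers y := by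
  rw [← MonoidHom.map_zpowers]
  exact mem_map_iff_mem hφ

/-- the same criterion, with the local data given in an overgroup of `G` -/
theorem no_index_56_210_of_hom {G G' : Type*} [Group G] [Finite G] [Group G'] (φ : G →* G')
    (hφ : Function.Injective φ) (hG : Nat.card G = 443520)
    (b c t : G') (B C T : G) (hB : φ B = b) (hC : φ C = c) (hT : φ T = t)
    (hb : orderOf b = 11) (hc : orderOf c = 5) (hbt : orderOf (b * t) = 7)
    (hcb : c * b * c⁻¹ ∈ zpowers b) (htc : t * c * t⁻¹ ∈ zpowers c)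
    (hNb : ∀ g : G, φ g * b * (φ g)⁻¹ ∈ zpowers b → ∃ i j : ℕ, φ g = c ^ i * b ^ j)
    (hNc : ∀ g : G, φ g * c * (φ g)⁻¹ ∈ zpowers c → ∃ i j : ℕ, φ g = t ^ i * c ^ j)
    (ht4 : t ^ 4 = 1)
    (H : Subgroup G) : H.index ≠ 56 ∧ H.index ≠ 210 := by
  subst hB hC hT
  refine no_index_56_210 hG B C T ?_ ?_ ?_ ?_ ?_ ?_ ?_ ?_ H
  · rw [← orderOf_injective φ hφ]; exact hb
  · rw [← orderOf_injective φ hφ]; exact hc
  · rw [← orderOf_injective φ hφ, map_mul]; exact hbt
  · rw [← mem_zpowers_map_iff φ hφ]; simpa using hcb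
  · rw [← mem_zpowers_map_iff φ hφ]; simpa using htc
  · intro g hg
    rw [← mem_zpowers_map_iff φ hφ] at hg
    obtain ⟨i, j, hij⟩ := hNb g (by simpa using hg)
    refine ⟨i, j, hφ ?_⟩
    rw [hij]; simp
  · intro g hg
    rw [← mem_zpowers_map_iff φ hφ] at hg
    obtain ⟨i, j, hij⟩ := hNc g (by simpa using hg)
    refine ⟨i, j, hφ ?_⟩
    rw [hij]; simp
  · apply hφ
    rw [map_pow, ht4, map_one]

end Cfsg.Agent.Lib.Helper13.SylNormCount
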