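import Cfsg.Agent.Lib.Helper28.L23B
import Cfsg.Agent.Lib.Helper28.CentFive
import Cfsg.Agent.Lib.Helper28.M24Multi
import Cfsg.Agent.Lib.Helper28.M24Stab
import Cfsg.Agent.Lib.Helper13.SylNormCount

/-!
The two-point stabiliser of `Cfsg.M24` has no subgroup of index 56 or 210: the normalizers of
`t ↦ 2t` (order 11) and of `cubeTwist` (order 5) in the stabiliser of `none` and `some 0`, one
more element of order 4, and the Sylow counting criterion.
-/

set_option autoImplicit false

namespace Cfsg.Agent.Lib.Helper13.M22Norm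

open Cfsg MulAction Cfsg.Agent.Lib.Helper28 Cfsg.Agent.Lib.Helper28.L23
open scoped Pointwise

/-- an element of order 4 squaring `cubeTwist` by conjugation -/
def t4Tab : Fin 24 → Fin 24 :=
  ![0, 2, 6, 15, 4, 8, 18, 9, 21, 20, 16, 19, 7, 5, 22, 3, 10, 17, 1, 14, 12, 13, 11, 23]

set_option maxRecDepth 100000 in
theorem t4Tab_inj : TabInj t4Tab := by decide +kernel

set_option maxRecDepth 100000 in
set_option maxHeartbeats 4000000 in
theorem t4Tab_check : TabCheck t4Tab := by decide +kernel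

noncomputable def t4 : Equiv.Perm GolayPt := tabPerm t4Tab t4Tab_inj

theorem t4_mem : t4 ∈ M24 := tabPerm_mem_M24 _ _ t4Tab_check

theorem t4_acts : TActs t4 t4Tab := tabPerm_pt _ _

theorem pt23 : Helper4.pt 23 = (none : GolayPt) := by decide

theorem pt0 : Helper4.pt 0 = (some 0 : GolayPt) := by decide

theorem fix_none_of_tab {g : Equiv.Perm GolayPt} {T : Fin 24 → Fin 24} (h : TActs g T)
    (h23 : T 23 = 23) : g none = none := by
  have := h 23
  rwa [h23, pt23] at this

theorem fix_zero_of_tab {g : Equiv.Perm GolayPt} {T : Fin 24 → Fin 24} (h : TActs g T)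
    (h0 : T 0 = 0) : g (some 0) = some 0 := by
  have := h 0
  rwa [h0, pt0] at this

theorem t4_none : t4 none = none := fix_none_of_tab t4_acts (by decide)
theorem t4_zero : t4 (some 0) = some 0 := fix_zero_of_tab t4_acts (by decide)
theorem ct_none : cubeTwist none = none := fix_none_of_tab cubeTwist_acts (by decide)
theorem ct_zero : cubeTwist (some 0) = some 0 := fix_zero_of_tab cubeTwist_acts (by decide)
theorem b_none : o11_b none = none := fix_none_of_tab o11_b_acts (by decide)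
theorem b_zero : o11_b (some 0) = some 0 := fix_zero_of_tab o11_b_acts (by decide)

set_option maxRecDepth 100000 in
theorem t4_ct : t4 * cubeTwist * t4⁻¹ = cubeTwist ^ 2 := by
  rw [mul_inv_eq_iff_eq_mul]
  exact TActs.ext (t4_acts.mul cubeTwist_acts) ((cubeTwist_acts.pow 2).mul t4_acts)
    (by decide +kernel)

set_option maxRecDepth 100000 in
theorem t4_pow : t4 ^ 4 = 1 :=
  TActs.ext (t4_acts.pow 4) TActs.one (by decide +kernel)

set_option maxRecDepth 100000 in
theorem bt_pow : (o11_b * t4) ^ 7 = 1 :=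
  TActs.ext ((o11_b_acts.mul t4_acts).pow 7) TActs.one (by decide +kernel)

theorem bt_ne_one : o11_b * t4 ≠ 1 := by
  intro h
  have h1 : Helper4.pt 1 = Helper4.pt (o11_btab (t4Tab 1)) := by
    have h2 := (o11_b_acts.mul t4_acts) 1
    rw [h] at h2
    exact h2
  exact absurd (Helper4.pt_bijective.1 h1) (by decide)

theorem orderOf_bt : orderOf (o11_b * t4) = 7 := by
  have : Fact (Nat.Prime 7) := ⟨by norm_num⟩
  exact orderOf_eq_prime bt_pow bt_ne_one

theorem arith5 : ∀ n : Fin 5, n.val ≠ 0 → ∃ j : Fin 4, (2 ^ j.val * n.val) % 5 = 1 := by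
  decide

theorem cos_fix : ∀ i : Fin 12, o5_cos i 23 = 23 → o5_cos i 0 = 0 → ∀ a, o5_cos i a = a := by
  decide +kernel

theorem fix_pow {g : Equiv.Perm GolayPt} {x : GolayPt} (hg : g x = x) (n : ℕ) :
    (g ^ n) x = x := by
  induction n with
  | zero => rfl
  | succ n ih => rw [pow_succ, Equiv.Perm.mul_apply, hg, ih]

/-- the normalizer of `cubeTwist` in the stabiliser of `none` and `some 0` -/
theorem norm_ct {g : Equiv.Perm GolayPt} (hg : g ∈ M24) (h1 : g none = none)
    (h0 : g (some 0) = some 0)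
    (hn : g * cubeTwist * g⁻¹ ∈ Subgroup.zpowers cubeTwist) :
    ∃ i j : ℕ, g = t4 ^ i * cubeTwist ^ j := by
  obtain ⟨n, hn0, hn1⟩ :=
    exists_pow_of_conj_mem 5 (by norm_num) orderOf_cubeTwist cubeTwist_ne_one hn
  obtain ⟨j, hj⟩ := arith5 n hn0
  have hconj := conj_pow_mul t4 cubeTwist g 2 n.val j.val t4_ct hn1
  have hmod := pow_mod_orderOf cubeTwist (2 ^ j.val * n.val)
  rw [orderOf_cubeTwist] at hmod
  rw [← hmod, hj, pow_one] at hconj
  have hg' : t4 ^ j.val * g ∈ M24 := M24.mul_mem (M24.pow_mem t4_mem _) hg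
  have hc : (t4 ^ j.val * g) * cubeTwist = cubeTwist * (t4 ^ j.val * g) :=
    mul_inv_eq_iff_eq_mul.mp hconj
  obtain ⟨j', i, hact⟩ := cent_cubeTwist hg' hc
  have hw1 : (cubeTwist ^ j'.val * (t4 ^ j.val * g)) none = none := by
    rw [Equiv.Perm.mul_apply, Equiv.Perm.mul_apply, h1, fix_pow t4_none, fix_pow ct_none]
  have hw0 : (cubeTwist ^ j'.val * (t4 ^ j.val * g)) (some 0) = some 0 := by
    rw [Equiv.Perm.mul_apply, Equiv.Perm.mul_apply, h0, fix_pow t4_zero, fix_pow ct_zero]
  have e23 : o5_cos i 23 = 23 := by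
    have := hact 23
    rw [pt23, hw1, ← pt23] at this
    exact (Helper4.pt_bijective.1 this).symm
  have e0 : o5_cos i 0 = 0 := by
    have := hact 0
    rw [pt0, hw0, ← pt0] at this
    exact (Helper4.pt_bijective.1 this).symm
  have hone : cubeTwist ^ j'.val * (t4 ^ j.val * g) = 1 :=
    TActs.ext hact TActs.one (cos_fix i e23 e0)
  have hinv4 : (t4 ^ j.val)⁻¹ = t4 ^ (4 - j.val) := by
    apply inv_eq_of_mul_eq_one_right
    rw [← pow_add, Nat.add_sub_cancel' (Nat.le_of_lt j.2), t4_pow]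
  have hinv5 : (cubeTwist ^ j'.val)⁻¹ = cubeTwist ^ (5 - j'.val) := by
    apply inv_eq_of_mul_eq_one_right
    rw [← pow_add, Nat.add_sub_cancel' (Nat.le_of_lt j'.2), cubeTwist_pow]
  refine ⟨4 - j.val, 5 - j'.val, ?_⟩
  rw [← hinv4, ← hinv5]
  have : g = (t4 ^ j.val)⁻¹ * ((cubeTwist ^ j'.val)⁻¹ * (cubeTwist ^ j'.val * (t4 ^ j.val * g))) := by
    group
  rw [this, hone, mul_one]

theorem inv_apply_k (k : Equiv.Perm GolayPt) (x : GolayPt) : k⁻¹ (k x) = x := by simp

section Transport

variable {p q : GolayPt} {k : Equiv.Perm GolayPt}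

/-- conjugating an element of the standard two-point stabiliser into the stabiliser of `p`, `q` -/
def liftPQ (hk : k ∈ M24) (hkp : k none = p) (hkq : k (some 0) = q)
    (x : Equiv.Perm GolayPt) (hx : x ∈ M24) (h1 : x none = none) (h0 : x (some 0) = some 0) :
    ↥(stabilizer M24 p ⊓ stabilizer M24 q) :=
  ⟨⟨k * x * k⁻¹, M24.mul_mem (M24.mul_mem hk hx) (M24.inv_mem hk)⟩, by
    rw [Subgroup.mem_inf, mem_stabilizer_iff, mem_stabilizer_iff]
    constructor
    · show (k * x * k⁻¹) p = p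
      rw [← hkp, Equiv.Perm.mul_apply, Equiv.Perm.mul_apply, inv_apply_k, h1]
    · show (k * x * k⁻¹) q = q
      rw [← hkq, Equiv.Perm.mul_apply, Equiv.Perm.mul_apply, inv_apply_k, h0]⟩

/-- conjugating back -/
def unconj (k : Equiv.Perm GolayPt) (p q : GolayPt) :
    ↥(stabilizer M24 p ⊓ stabilizer M24 q) →* Equiv.Perm GolayPt :=
  ((MulAut.conj k⁻¹).toMonoidHom).comp (M24.subtype.comp (Subgroup.subtype _))

theorem unconj_apply (g : ↥(stabilizer M24 p ⊓ stabilizer M24 q)) :
    unconj k p q g = k⁻¹ * (g.1.1 : Equiv.Perm GolayPt) * k := by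
  simp [unconj]

theorem unconj_injective : Function.Injective (unconj k p q) :=
  (MulAut.conj k⁻¹).injective.comp
    ((Subgroup.subtype_injective _).comp (Subgroup.subtype_injective _))

theorem unconj_liftPQ (hk : k ∈ M24) (hkp : k none = p) (hkq : k (some 0) = q)
    (x : Equiv.Perm GolayPt) (hx : x ∈ M24) (h1 : x none = none) (h0 : x (some 0) = some 0) :
    unconj k p q (liftPQ hk hkp hkq x hx h1 h0) = x := by
  rw [unconj_apply]
  show k⁻¹ * (k * x * k⁻¹) * k = x
  group

theorem unconj_mem (hk : k ∈ M24) (g : ↥(stabilizer M24 p ⊓ stabilizer M24 q)) :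
    unconj k p q g ∈ M24 := by
  rw [unconj_apply]
  exact M24.mul_mem (M24.mul_mem (M24.inv_mem hk) g.1.2) hk

theorem fix_p (g : ↥(stabilizer M24 p ⊓ stabilizer M24 q)) :
    (g.1.1 : Equiv.Perm GolayPt) p = p :=
  mem_stabilizer_iff.mp (Subgroup.mem_inf.mp g.2).1

theorem fix_q (g : ↥(stabilizer M24 p ⊓ stabilizer M24 q)) :
    (g.1.1 : Equiv.Perm GolayPt) q = q :=
  mem_stabilizer_iff.mp (Subgroup.mem_inf.mp g.2).2

theorem unconj_none (hkp : k none = p) (g : ↥(stabilizer M24 p ⊓ stabilizer M24 q)) :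
    unconj k p q g none = none := by
  rw [unconj_apply, Equiv.Perm.mul_apply, Equiv.Perm.mul_apply, hkp, fix_p g, ← hkp,
    inv_apply_k]

theorem unconj_zero (hkq : k (some 0) = q) (g : ↥(stabilizer M24 p ⊓ stabilizer M24 q)) :
    unconj k p q g (some 0) = some 0 := by
  rw [unconj_apply, Equiv.Perm.mul_apply, Equiv.Perm.mul_apply, hkq, fix_q g, ← hkq,
    inv_apply_k]

end Transport

/-- the stabiliser of two points in `M24` has no subgroup of index 56 or 210 -/
theorem no_index_56_210 (p q : GolayPt) (hpq : p ≠ q)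
    (H : Subgroup ↥(stabilizer M24 p ⊓ stabilizer M24 q)) :
    H.index ≠ 56 ∧ H.index ≠ 210 := by
  obtain ⟨k, hk, hmap⟩ := M24_exists_map_list [none, some 0] [p, q] (by simp) (by simp [hpq])
    rfl (by norm_num)
  have hkp : k none = p := by
    have := congrArg (fun l => l.getD 0 none) hmap
    simpa using this
  have hkq : k (some 0) = q := by
    have := congrArg (fun l => l.getD 1 none) hmap
    simpa using this
  exact SylNormCount.no_index_56_210_of_hom (unconj k p q) unconj_injective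
    (card_stabilizer_inf_M24 p q hpq) o11_b cubeTwist t4
    (liftPQ hk hkp hkq o11_b o11_b_mem b_none b_zero)
    (liftPQ hk hkp hkq cubeTwist cubeTwist_mem_M24 ct_none ct_zero)
    (liftPQ hk hkp hkq t4 t4_mem t4_none t4_zero)
    (unconj_liftPQ hk hkp hkq _ _ _ _) (unconj_liftPQ hk hkp hkq _ _ _ _)
    (unconj_liftPQ hk hkp hkq _ _ _ _)
    orderOf_o11_b orderOf_cubeTwist orderOf_bt
    (o11_hdb ▸ Subgroup.pow_mem _ (Subgroup.mem_zpowers _) 3)
    (t4_ct ▸ Subgroup.pow_mem _ (Subgroup.mem_zpowers _) 2)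
    (fun g hg => norm_o11 (unconj_mem hk g) (unconj_none hkp g) hg)
    (fun g hg => norm_ct (unconj_mem hk g) (unconj_none hkp g) (unconj_zero hkq g) hg)
    t4_pow H

end Cfsg.Agent.Lib.Helper13.M22Norm
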