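import Cfsg.Agent.Lib.Helper13.M22Lits

/-!
Two more tests on packed tables: commuting with the two generators of the subgroup of order 9,
and commuting with them without being one of its nine listed elements.
-/

set_option autoImplicit false

namespace Cfsg.Agent.Lib.Helper13.M22Enum

open Cfsg MulAction Cfsg.Agent.Lib.Helper28 Cfsg.Agent.Lib.Helper13.PackPerm

/-- commuting with `g3P` and `bP` -/
def TE (r : ℕ) : Bool :=
  frc r fun x => cond (Nat.beq (compP x g3P) (compP g3P x)) (Nat.beq (compP x bP) (compP bP x)) false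

theorem TE_iff {α β σ : Equiv.Perm GolayPt} {r : ℕ} (hα : Rep α g3P) (hβ : Rep β bP)
    (hr : Rep σ r) : TE r = true ↔ (σ * α = α * σ ∧ σ * β = β * σ) := by
  unfold TE
  rw [frc_eq, ← (hr.comp hα).beq_iff (hα.comp hr), ← (hr.comp hβ).beq_iff (hβ.comp hr)]
  cases Nat.beq (compP r g3P) (compP g3P r) <;> simp

/-- commuting with `g3P` and `bP` and different from the nine listed tables -/
def TEout (r : ℕ) : Bool :=
  frc r fun x => cond (TE x) (e9P.all fun e => !Nat.beq x e) false

theorem TEout_iff {α β σ : Equiv.Perm GolayPt} {r : ℕ} (hα : Rep α g3P) (hβ : Rep β bP)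
    (hr : Rep σ r) : TEout r = true ↔ ((σ * α = α * σ ∧ σ * β = β * σ) ∧ r ∉ e9P) := by
  unfold TEout
  rw [frc_eq, ← TE_iff hα hβ hr]
  cases TE r
  · simp
  · simp only [cond_true, List.all_eq_true, Bool.not_eq_true', true_and]
    constructor
    · intro h hm
      have := h r hm
      rw [← Bool.not_eq_true, Nat.beq_eq] at this
      exact this rfl
    · intro h e he
      rw [← Bool.not_eq_true, Nat.beq_eq]
      rintro rfl
      exact h he

end Cfsg.Agent.Lib.Helper13.M22Enum
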