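import Cfsg.Agent.Lib.Helper13.M22Cnt18
import Cfsg.Agent.Lib.Helper13.M22Cnt19
import Cfsg.Agent.Lib.Helper13.M22Cnt20
import Cfsg.Agent.Lib.Helper13.M22Cnt21

/-!
Totals of the kernel counts over the two-point stabiliser of `Cfsg.M24`.
-/

set_option autoImplicit false

namespace Cfsg.Agent.Lib.Helper13.M22Enum

open Cfsg.Agent.Lib.Helper13.PackPerm

theorem total_n3 : (ms.map fun m => cntChunk (TN g3P) m ss K4P).sum = 67600 := by
  have h : (ms.map fun m => cntChunk (TN g3P) m ss K4P) = [2821, 3060, 3060, 3523, 3060, 3014, 3060, 3046, 3014, 3097, 3060, 3184, 3060, 3085, 3060, 3060, 3014, 3085, 3060, 3046, 3085, 3046] := by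
    unfold ms
    simp only [List.map_cons, List.map_nil, n3_00, n3_01, n3_02, n3_03, n3_04, n3_05, n3_06, n3_07, n3_08, n3_09, n3_10, n3_11, n3_12, n3_13, n3_14, n3_15, n3_16, n3_17, n3_18, n3_19, n3_20, n3_21]
  rw [h]
  rfl

theorem total_n5 : (ms.map fun m => cntChunk (TN g5P) m ss K4P).sum = 68256 := by
  have h : (ms.map fun m => cntChunk (TN g5P) m ss K4P) = [2832, 3116, 3110, 3075, 3118, 3560, 3099, 3103, 3086, 3118, 3100, 3071, 3109, 3072, 3090, 3123, 3004, 3155, 3052, 3128, 3125, 3010] := by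
    unfold ms
    simp only [List.map_cons, List.map_nil, n5_00, n5_01, n5_02, n5_03, n5_04, n5_05, n5_06, n5_07, n5_08, n5_09, n5_10, n5_11, n5_12, n5_13, n5_14, n5_15, n5_16, n5_17, n5_18, n5_19, n5_20, n5_21]
  rw [h]
  rfl

theorem total_n7 : (ms.map fun m => cntChunk (TN g7P) m ss K4P).sum = 68608 := by
  have h : (ms.map fun m => cntChunk (TN g7P) m ss K4P) = [2855, 3093, 3094, 3211, 3119, 3107, 3107, 3127, 3094, 3104, 3094, 3104, 3093, 3094, 3107, 3179, 3070, 3107, 3063, 3605, 3070, 3111] := by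
    unfold ms
    simp only [List.map_cons, List.map_nil, n7_00, n7_01, n7_02, n7_03, n7_04, n7_05, n7_06, n7_07, n7_08, n7_09, n7_10, n7_11, n7_12, n7_13, n7_14, n7_15, n7_16, n7_17, n7_18, n7_19, n7_20, n7_21]
  rw [h]
  rfl

theorem total_n11 : (ms.map fun m => cntChunk (TN g11P) m ss K4P).sum = 68168 := by
  have h : (ms.map fun m => cntChunk (TN g11P) m ss K4P) = [2818, 3125, 3129, 3115, 3012, 3128, 3128, 3100, 3076, 3070, 3100, 3568, 3103, 3062, 3142, 3104, 3076, 3086, 3086, 3120, 3012, 3008] := by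
    unfold ms
    simp only [List.map_cons, List.map_nil, n11_00, n11_01, n11_02, n11_03, n11_04, n11_05, n11_06, n11_07, n11_08, n11_09, n11_10, n11_11, n11_12, n11_13, n11_14, n11_15, n11_16, n11_17, n11_18, n11_19, n11_20, n11_21]
  rw [h]
  rfl

theorem total_c5 : (ms.map fun m => cntChunk (TC g5P) m ss K4P).sum = 5 := by
  have h : (ms.map fun m => cntChunk (TC g5P) m ss K4P) = [1, 1, 0, 1, 0, 1, 0, 0, 0, 0, 0, 0, 0, 0, 0, 0, 0, 1, 0, 0, 0, 0] := by
    unfold ms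
    simp only [List.map_cons, List.map_nil, c5_00, c5_01, c5_02, c5_03, c5_04, c5_05, c5_06, c5_07, c5_08, c5_09, c5_10, c5_11, c5_12, c5_13, c5_14, c5_15, c5_16, c5_17, c5_18, c5_19, c5_20, c5_21]
  rw [h]
  rfl

theorem total_c7 : (ms.map fun m => cntChunk (TC g7P) m ss K4P).sum = 7 := by
  have h : (ms.map fun m => cntChunk (TC g7P) m ss K4P) = [1, 0, 0, 1, 1, 0, 0, 1, 0, 0, 0, 0, 0, 0, 0, 1, 0, 0, 1, 1, 0, 0] := by
    unfold ms
    simp only [List.map_cons, List.map_nil, c7_00, c7_01, c7_02, c7_03, c7_04, c7_05, c7_06, c7_07, c7_08, c7_09, c7_10, c7_11, c7_12, c7_13, c7_14, c7_15, c7_16, c7_17, c7_18, c7_19, c7_20, c7_21]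
  rw [h]
  rfl

theorem total_c11 : (ms.map fun m => cntChunk (TC g11P) m ss K4P).sum = 11 := by
  have h : (ms.map fun m => cntChunk (TC g11P) m ss K4P) = [1, 1, 1, 1, 0, 1, 0, 1, 1, 0, 0, 1, 1, 0, 0, 1, 0, 1, 0, 0, 0, 0] := by
    unfold ms
    simp only [List.map_cons, List.map_nil, c11_00, c11_01, c11_02, c11_03, c11_04, c11_05, c11_06, c11_07, c11_08, c11_09, c11_10, c11_11, c11_12, c11_13, c11_14, c11_15, c11_16, c11_17, c11_18, c11_19, c11_20, c11_21]
  rw [h]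
  rfl

theorem total_ce : (ms.map fun m => cntChunk (TE) m ss K4P).sum = 9 := by
  have h : (ms.map fun m => cntChunk (TE) m ss K4P) = [3, 0, 0, 3, 0, 0, 0, 0, 0, 3, 0, 0, 0, 0, 0, 0, 0, 0, 0, 0, 0, 0] := by
    unfold ms
    simp only [List.map_cons, List.map_nil, ce_00, ce_01, ce_02, ce_03, ce_04, ce_05, ce_06, ce_07, ce_08, ce_09, ce_10, ce_11, ce_12, ce_13, ce_14, ce_15, ce_16, ce_17, ce_18, ce_19, ce_20, ce_21]
  rw [h]
  rfl

theorem total_co : (ms.map fun m => cntChunk (TEout) m ss K4P).sum = 0 := by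
  have h : (ms.map fun m => cntChunk (TEout) m ss K4P) = [0, 0, 0, 0, 0, 0, 0, 0, 0, 0, 0, 0, 0, 0, 0, 0, 0, 0, 0, 0, 0, 0] := by
    unfold ms
    simp only [List.map_cons, List.map_nil, co_00, co_01, co_02, co_03, co_04, co_05, co_06, co_07, co_08, co_09, co_10, co_11, co_12, co_13, co_14, co_15, co_16, co_17, co_18, co_19, co_20, co_21]
  rw [h]
  rfl

end Cfsg.Agent.Lib.Helper13.M22Enum
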