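import Mathlib

set_option autoImplicit false

/-! Transvection calculus for linear groups over a prime field (towards the classification of
irreducible groups generated by transvections). -/

namespace Cfsg.Agent.Lib.Helper13.MCL

open Module LinearMap

section general

variable {F : Type*} [Field F] {V : Type*} [AddCommGroup V] [Module F V]

open Classical in
/-- total transvection `x ↦ x + φ x • v` (identity when `φ v ≠ 0`) -/
noncomputable def tv (v : V) (φ : Dual F V) : V ≃ₗ[F] V :=
  if h : φ v = 0 then LinearEquiv.transvection h else 1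

theorem tv_apply {v : V} {φ : Dual F V} (h : φ v = 0) (x : V) : tv v φ x = x + φ x • v := by
  unfold tv
  rw [dif_pos h]
  rfl

theorem tv_zero_right (v : V) : tv v (0 : Dual F V) = 1 := by
  apply LinearEquiv.ext
  intro x
  rw [tv_apply (by simp)]
  simp

theorem tv_zero_left (φ : Dual F V) : tv (0 : V) φ = 1 := by
  apply LinearEquiv.ext
  intro x
  rw [tv_apply (by simp)]
  simp

theorem tv_mul_right {v : V} {φ φ' : Dual F V} (h1 : φ v = 0) (h2 : φ' v = 0) :
    tv v φ * tv v φ' = tv v (φ + φ') := by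
  have h3 : (φ + φ') v = 0 := by rw [LinearMap.add_apply, h1, h2, add_zero]
  apply LinearEquiv.ext
  intro x
  rw [LinearEquiv.mul_apply, tv_apply h2, tv_apply h1, tv_apply h3]
  simp only [map_add, map_smul, smul_eq_mul, h1, mul_zero, add_zero, LinearMap.add_apply]
  module

theorem tv_mul_left {v v' : V} {φ : Dual F V} (h1 : φ v = 0) (h2 : φ v' = 0) :
    tv v φ * tv v' φ = tv (v + v') φ := by
  have h3 : φ (v + v') = 0 := by rw [map_add, h1, h2, add_zero]
  apply LinearEquiv.ext
  intro x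
  rw [LinearEquiv.mul_apply, tv_apply h2, tv_apply h1, tv_apply h3]
  simp only [map_add, map_smul, smul_eq_mul, h2, mul_zero, add_zero]
  module

theorem tv_inv {v : V} {φ : Dual F V} (h : φ v = 0) : (tv v φ)⁻¹ = tv v (-φ) := by
  have h' : (-φ) v = 0 := by rw [LinearMap.neg_apply, h, neg_zero]
  have h3 := tv_mul_right h h'
  rw [add_neg_cancel, tv_zero_right] at h3
  exact inv_eq_of_mul_eq_one_right h3

theorem tv_smul_left {v : V} {φ : Dual F V} (h : φ v = 0) (c : F) :
    tv (c • v) φ = tv v (c • φ) := by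
  have h1 : φ (c • v) = 0 := by rw [map_smul, h, smul_zero]
  have h2 : (c • φ) v = 0 := by rw [LinearMap.smul_apply, h, smul_zero]
  apply LinearEquiv.ext
  intro x
  rw [tv_apply h1, tv_apply h2, LinearMap.smul_apply, smul_eq_mul]
  module

/-- the covector `φ ∘ g⁻¹` -/
noncomputable def cov (φ : Dual F V) (g : V ≃ₗ[F] V) : Dual F V := φ ∘ₗ (g.symm : V →ₗ[F] V)

theorem cov_apply (φ : Dual F V) (g : V ≃ₗ[F] V) (x : V) : cov φ g x = φ (g.symm x) := rfl

theorem cov_ne_zero {φ : Dual F V} (g : V ≃ₗ[F] V) (h : φ ≠ 0) : cov φ g ≠ 0 := by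
  intro h0
  apply h
  apply LinearMap.ext
  intro x
  have := congrArg (fun ψ : Dual F V => ψ (g x)) h0
  simpa [cov_apply] using this

theorem conj_tv (g : V ≃ₗ[F] V) {v : V} {φ : Dual F V} (h : φ v = 0) :
    g * tv v φ * g⁻¹ = tv (g v) (cov φ g) := by
  have h1 : cov φ g (g v) = 0 := by rw [cov_apply, LinearEquiv.symm_apply_apply, h]
  apply LinearEquiv.ext
  intro x
  rw [LinearEquiv.mul_apply, LinearEquiv.mul_apply, tv_apply h, tv_apply h1, cov_apply]
  show g (g.symm x + φ (g.symm x) • v) = _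
  rw [map_add, map_smul, LinearEquiv.apply_symm_apply]

theorem tv_pow {v : V} {φ : Dual F V} (h : φ v = 0) (k : ℕ) : (tv v φ) ^ k = tv v (k • φ) := by
  induction k with
  | zero => rw [pow_zero, zero_smul, tv_zero_right]
  | succ k ih =>
    have hk : (k • φ) v = 0 := by
      rw [← Nat.cast_smul_eq_nsmul F, LinearMap.smul_apply, h, smul_zero]
    rw [pow_succ, ih, tv_mul_right hk h, succ_nsmul]

theorem tv_comm {v w : V} {φ ψ : Dual F V} (hv : φ v = 0) (hw : ψ w = 0) (h : ψ v = 0) :
    tv v φ * tv w ψ * (tv v φ)⁻¹ * (tv w ψ)⁻¹ = tv v (φ w • ψ) := by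
  have hv' : (-φ) v = 0 := by rw [LinearMap.neg_apply, hv, neg_zero]
  have hw' : (-ψ) w = 0 := by rw [LinearMap.neg_apply, hw, neg_zero]
  have h3 : (φ w • ψ) v = 0 := by rw [LinearMap.smul_apply, h, smul_zero]
  rw [tv_inv hv, tv_inv hw]
  apply LinearEquiv.ext
  intro x
  rw [LinearEquiv.mul_apply, LinearEquiv.mul_apply, LinearEquiv.mul_apply, tv_apply hw',
    tv_apply hv', tv_apply hw, tv_apply hv, tv_apply h3]
  simp only [map_add, map_smul, smul_eq_mul, LinearMap.neg_apply, LinearMap.smul_apply,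
    hv, hw, h, mul_zero, add_zero]
  module

theorem tv_eq_one_iff {v : V} {φ : Dual F V} (h : φ v = 0) : tv v φ = 1 ↔ v = 0 ∨ φ = 0 := by
  constructor
  · intro h1
    by_cases hv : v = 0
    · exact Or.inl hv
    · right
      apply LinearMap.ext
      intro x
      have h2 : tv v φ x = x := by rw [h1]; rfl
      rw [tv_apply h, add_eq_left] at h2
      rcases smul_eq_zero.mp h2 with h4 | h4
      · simpa using h4
      · exact absurd h4 hv
  · rintro (rfl | rfl)
    · exact tv_zero_left φ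
    · exact tv_zero_right v

theorem tv_sub_apply {v : V} {φ : Dual F V} (h : φ v = 0) (x : V) : tv v φ x - x = φ x • v := by
  rw [tv_apply h, add_sub_cancel_left]

/-- the product identity behind the splitting of a transvection along a decomposition -/
theorem tv_split {x b : V} {α β : Dual F V} (h1 : α x = 0) (h2 : α b = 0) (h3 : β x = 0)
    (h4 : β b = 0) :
    tv (x + b) (α + β) * tv (-x + b) (-α + β) = tv x ((2 : F) • α) * tv b ((2 : F) • β) := by
  have e1 : (α + β) (x + b) = 0 := by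
    simp only [LinearMap.add_apply, map_add, h1, h2, h3, h4, add_zero]
  have e2 : (-α + β) (-x + b) = 0 := by
    simp only [LinearMap.add_apply, LinearMap.neg_apply, map_add, map_neg, h1, h2, h3, h4,
      add_zero, neg_zero]
  have e3 : ((2 : F) • α) x = 0 := by rw [LinearMap.smul_apply, h1, smul_zero]
  have e4 : ((2 : F) • β) b = 0 := by rw [LinearMap.smul_apply, h4, smul_zero]
  apply LinearEquiv.ext
  intro y
  rw [LinearEquiv.mul_apply, LinearEquiv.mul_apply, tv_apply e2, tv_apply e1, tv_apply e4,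
    tv_apply e3]
  simp only [map_add, map_smul, map_neg, smul_eq_mul, LinearMap.neg_apply, LinearMap.smul_apply,
    LinearMap.add_apply, h1, h2, h3, h4, mul_zero, add_zero, neg_zero]
  module

end general

section prime

variable {p : ℕ} [Fact p.Prime] {V : Type*} [AddCommGroup V] [Module (ZMod p) V]

/-- a linear automorphism of order `p` fixing a hyperplane pointwise is a transvection -/
theorem exists_tv_of_order [Module.Finite (ZMod p) V] (t : V ≃ₗ[ZMod p] V) (ho : orderOf t = p)
    (hf : finrank (ZMod p) (LinearMap.ker ((t : V →ₗ[ZMod p] V) - LinearMap.id)) + 1 =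
      finrank (ZMod p) V) :
    ∃ (v : V) (φ : Dual (ZMod p) V), φ v = 0 ∧ v ≠ 0 ∧ φ ≠ 0 ∧ t = tv v φ := by
  obtain ⟨N, hN⟩ : ∃ N : V →ₗ[ZMod p] V, N = (t : V →ₗ[ZMod p] V) - LinearMap.id := ⟨_, rfl⟩
  have hNx : ∀ x, N x = t x - x := by
    intro x
    rw [hN]
    rfl
  have hrk : finrank (ZMod p) (LinearMap.range N) = 1 := by
    have := LinearMap.finrank_range_add_finrank_ker N
    rw [hN] at this ⊢
    omega
  obtain ⟨⟨v, hvr⟩, hv0, hv⟩ := finrank_eq_one_iff'.mp hrk
  have hv0' : v ≠ 0 := by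
    intro h
    apply hv0
    exact Subtype.ext h
  have hvn : v ∉ (⊥ : Submodule (ZMod p) V) := by simpa using hv0'
  obtain ⟨l0, hl0, -⟩ := Submodule.exists_le_ker_of_notMem hvn
  obtain ⟨l, hl⟩ : ∃ l : Dual (ZMod p) V, l = (l0 v)⁻¹ • l0 := ⟨_, rfl⟩
  have hlv : l v = 1 := by
    rw [hl, LinearMap.smul_apply, smul_eq_mul, inv_mul_cancel₀ hl0]
  obtain ⟨φ, hφ⟩ : ∃ φ : Dual (ZMod p) V, φ = l ∘ₗ N := ⟨_, rfl⟩
  have hNφ : ∀ x, N x = φ x • v := by
    intro x
    obtain ⟨c, hc⟩ := hv ⟨N x, LinearMap.mem_range_self N x⟩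
    have hc' : c • v = N x := congrArg Subtype.val hc
    rw [hφ, LinearMap.comp_apply, ← hc', map_smul, hlv, smul_eq_mul, mul_one]
  have htx : ∀ x, t x = x + φ x • v := by
    intro x
    rw [← hNφ, hNx]
    abel
  have hpow : ∀ k : ℕ, (t ^ k) v = (1 + φ v) ^ k • v := by
    intro k
    induction k with
    | zero => simp
    | succ k ih =>
      rw [pow_succ', LinearEquiv.mul_apply, ih, map_smul, htx v, pow_succ]
      module
  have hφv : φ v = 0 := by
    have h0 : t ^ p = 1 := by
      have := pow_orderOf_eq_one t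
      rwa [ho] at this
    have h1 : (t ^ p) v = v := by
      rw [h0]
      rfl
    rw [hpow, ZMod.pow_card] at h1
    have h2 : φ v • v = 0 := by
      have : (1 + φ v) • v = v := h1
      rw [add_smul, one_smul, add_eq_left] at this
      exact this
    rcases smul_eq_zero.mp h2 with h3 | h3
    · exact h3
    · exact absurd h3 hv0'
  have hφ0 : φ ≠ 0 := by
    intro h0
    obtain ⟨y, hy⟩ := hvr
    apply hv0'
    rw [← hy, hNφ, h0, LinearMap.zero_apply, zero_smul]
  refine ⟨v, φ, hφv, hv0', hφ0, ?_⟩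
  apply LinearEquiv.ext
  intro x
  rw [tv_apply hφv, htx]

/-- `In G v φ`: the transvection with centre `v` and covector `φ` lies in `G`. -/
def In (G : Subgroup (V ≃ₗ[ZMod p] V)) (v : V) (φ : Dual (ZMod p) V) : Prop :=
  φ v = 0 ∧ tv v φ ∈ G

variable {G : Subgroup (V ≃ₗ[ZMod p] V)} {v v' w : V} {φ φ' ψ : Dual (ZMod p) V}

theorem In.zero_right (v : V) : In G v 0 :=
  ⟨by simp, by rw [tv_zero_right]; exact G.one_mem⟩

theorem In.zero_left (φ : Dual (ZMod p) V) : In G 0 φ :=
  ⟨by simp, by rw [tv_zero_left]; exact G.one_mem⟩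

theorem In.add_right (h1 : In G v φ) (h2 : In G v φ') : In G v (φ + φ') :=
  ⟨by rw [LinearMap.add_apply, h1.1, h2.1, add_zero],
    by rw [← tv_mul_right h1.1 h2.1]; exact G.mul_mem h1.2 h2.2⟩

theorem In.add_left (h1 : In G v φ) (h2 : In G v' φ) : In G (v + v') φ :=
  ⟨by rw [map_add, h1.1, h2.1, add_zero],
    by rw [← tv_mul_left h1.1 h2.1]; exact G.mul_mem h1.2 h2.2⟩

theorem In.neg_right (h : In G v φ) : In G v (-φ) :=
  ⟨by rw [LinearMap.neg_apply, h.1, neg_zero], by rw [← tv_inv h.1]; exact G.inv_mem h.2⟩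

theorem In.nsmul_right (h : In G v φ) (k : ℕ) : In G v (k • φ) :=
  ⟨by rw [← Nat.cast_smul_eq_nsmul (ZMod p), LinearMap.smul_apply, h.1, smul_zero],
    by rw [← tv_pow h.1]; exact G.pow_mem h.2 k⟩

theorem In.smul_right (h : In G v φ) (c : ZMod p) : In G v (c • φ) := by
  have hc : c • φ = c.val • φ := by
    rw [← Nat.cast_smul_eq_nsmul (ZMod p), ZMod.natCast_zmod_val]
  rw [hc]
  exact h.nsmul_right _

theorem In.smul_left (h : In G v φ) (c : ZMod p) : In G (c • v) φ :=
  ⟨by rw [map_smul, h.1, smul_zero], by rw [tv_smul_left h.1]; exact (h.smul_right c).2⟩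

theorem In.neg_left (h : In G v φ) : In G (-v) φ := by
  have := h.smul_left (-1)
  rwa [neg_smul, one_smul] at this

theorem In.sub_right (h1 : In G v φ) (h2 : In G v φ') : In G v (φ - φ') := by
  rw [sub_eq_add_neg]
  exact h1.add_right h2.neg_right

theorem In.sub_left (h1 : In G v φ) (h2 : In G v' φ) : In G (v - v') φ := by
  rw [sub_eq_add_neg]
  exact h1.add_left h2.neg_left

theorem In.of_smul_right {c : ZMod p} (hc : c ≠ 0) (h : In G v (c • φ)) : In G v φ := by
  have := h.smul_right c⁻¹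
  rwa [smul_smul, inv_mul_cancel₀ hc, one_smul] at this

theorem In.of_smul_left {c : ZMod p} (hc : c ≠ 0) (h : In G (c • v) φ) : In G v φ := by
  have := h.smul_left c⁻¹
  rwa [smul_smul, inv_mul_cancel₀ hc, one_smul] at this

theorem In.conj {g : V ≃ₗ[ZMod p] V} (hg : g ∈ G) (h : In G v φ) : In G (g v) (cov φ g) :=
  ⟨by rw [cov_apply, LinearEquiv.symm_apply_apply, h.1],
    by rw [← conj_tv g h.1]; exact G.mul_mem (G.mul_mem hg h.2) (G.inv_mem hg)⟩

theorem cov_tv (φ : Dual (ZMod p) V) {w : V} {ψ : Dual (ZMod p) V} (hw : ψ w = 0) :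
    cov φ (tv w ψ) = φ - φ w • ψ := by
  apply LinearMap.ext
  intro x
  rw [cov_apply]
  have h1 : (tv w ψ).symm x = tv w (-ψ) x := by
    rw [← tv_inv hw]
    rfl
  rw [h1, tv_apply (by rw [LinearMap.neg_apply, hw, neg_zero])]
  simp only [map_add, map_smul, LinearMap.neg_apply, LinearMap.sub_apply, LinearMap.smul_apply,
    smul_eq_mul]
  ring

/-- conjugating one transvection of `G` by another -/
theorem In.conj_tv (h1 : In G v φ) (h2 : In G w ψ) : In G (v + ψ v • w) (φ - φ w • ψ) := by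
  have h3 := h1.conj h2.2
  rwa [tv_apply h2.1, cov_tv φ h2.1] at h3

/-- the commutator of two transvections of `G` -/
theorem In.comm (h1 : In G v φ) (h2 : In G w ψ) (h : ψ v = 0) : In G v (φ w • ψ) :=
  ⟨by rw [LinearMap.smul_apply, h, smul_zero],
    by
      rw [← tv_comm h1.1 h2.1 h]
      exact G.mul_mem (G.mul_mem (G.mul_mem h1.2 h2.2) (G.inv_mem h1.2)) (G.inv_mem h2.2)⟩

theorem In.mono {G' : Subgroup (V ≃ₗ[ZMod p] V)} (hGG : G ≤ G') (h : In G v φ) : In G' v φ :=
  ⟨h.1, hGG h.2⟩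

/-- the covectors of the transvections of `G` with centre `v` -/
def PhiSub (G : Subgroup (V ≃ₗ[ZMod p] V)) (v : V) : Submodule (ZMod p) (Dual (ZMod p) V) where
  carrier := {φ | In G v φ}
  add_mem' := fun h1 h2 => h1.add_right h2
  zero_mem' := In.zero_right v
  smul_mem' := fun c _ h => h.smul_right c

/-- the centres of the transvections of `G` with covector `φ` -/
def CenSub (G : Subgroup (V ≃ₗ[ZMod p] V)) (φ : Dual (ZMod p) V) : Submodule (ZMod p) V where
  carrier := {v | In G v φ}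
  add_mem' := fun h1 h2 => h1.add_left h2
  zero_mem' := In.zero_left φ
  smul_mem' := fun c _ h => h.smul_left c

theorem mem_PhiSub : φ ∈ PhiSub G v ↔ In G v φ := Iff.rfl

theorem mem_CenSub : v ∈ CenSub G φ ↔ In G v φ := Iff.rfl

/-- `v` is the centre of a non-trivial transvection of `G` -/
def IsCenter (G : Subgroup (V ≃ₗ[ZMod p] V)) (v : V) : Prop :=
  v ≠ 0 ∧ ∃ φ : Dual (ZMod p) V, φ ≠ 0 ∧ In G v φ

theorem IsCenter.map {g : V ≃ₗ[ZMod p] V} (hg : g ∈ G) (h : IsCenter G v) : IsCenter G (g v) := by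
  obtain ⟨hv, φ, hφ, hin⟩ := h
  refine ⟨?_, cov φ g, cov_ne_zero g hφ, hin.conj hg⟩
  intro h0
  apply hv
  exact (LinearEquiv.map_eq_zero_iff g).mp h0

/-- `Y` is stable under `G` -/
def Inv (G : Subgroup (V ≃ₗ[ZMod p] V)) (Y : Submodule (ZMod p) V) : Prop :=
  ∀ g ∈ G, ∀ y ∈ Y, g y ∈ Y

/-- the standing hypotheses: invariance can be tested on transvections, no unipotent normal
subgroup attached to an invariant subspace, and minimality of the span of the centres. -/
structure Hyp (G : Subgroup (V ≃ₗ[ZMod p] V)) : Prop where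
  gen : ∀ Y : Submodule (ZMod p) V, (∀ v φ, In G v φ → ∀ y ∈ Y, tv v φ y ∈ Y) → Inv G Y
  noP : ∀ Y : Submodule (ZMod p) V, Inv G Y → ∀ v φ, In G v φ → v ∈ Y → (∀ y ∈ Y, φ y = 0) →
    v = 0 ∨ φ = 0
  min : ∀ Y : Submodule (ZMod p) V, Inv G Y → (∃ v ∈ Y, IsCenter G v) →
    ∀ w, IsCenter G w → w ∈ Y

/-- the span of the centres is invariant -/
theorem inv_span_centers (P : V → Prop) (hP : ∀ g ∈ G, ∀ v, P v → P (g v)) :
    Inv G (Submodule.span (ZMod p) {v | P v}) := by
  intro g hg y hy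
  induction hy using Submodule.span_induction with
  | mem x hx => exact Submodule.subset_span (hP g hg x hx)
  | zero => rw [map_zero]; exact Submodule.zero_mem _
  | add x y _ _ hx hy => rw [map_add]; exact Submodule.add_mem _ hx hy
  | smul c x _ hx => rw [map_smul]; exact Submodule.smul_mem _ c hx

end prime

end Cfsg.Agent.Lib.Helper13.MCL
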