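import Cfsg.Agent.Lib.Helper13.MclA

set_option autoImplicit false

/-! Hyperbolic pairs of transvections, symmetry of the perpendicularity relation on centres. -/

namespace Cfsg.Agent.Lib.Helper13.MCL

open Module LinearMap

section linalg

variable {F : Type*} [Field F] {V : Type*} [AddCommGroup V] [Module F V]

theorem exists_decomp {U K : Submodule F V} (h : IsCompl U K) (x : V) :
    ∃ a ∈ U, ∃ b ∈ K, x = a + b := by
  have hx : x ∈ U ⊔ K := by rw [h.sup_eq_top]; exact Submodule.mem_top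
  obtain ⟨a, ha, b, hb, hab⟩ := Submodule.mem_sup.mp hx
  exact ⟨a, ha, b, hb, hab.symm⟩

theorem eq_zero_of_mem_both {U K : Submodule F V} (h : IsCompl U K) {x : V} (hx : x ∈ U)
    (hx' : x ∈ K) : x = 0 := by
  have h1 : x ∈ U ⊓ K := ⟨hx, hx'⟩
  rw [h.inf_eq_bot] at h1
  simpa using h1

/-- splitting a covector along a decomposition -/
theorem exists_split_cov {U K : Submodule F V} (h : IsCompl U K) (χ : Dual F V) :
    ∃ χU χK : Dual F V, χ = χU + χK ∧ (∀ k ∈ K, χU k = 0) ∧ (∀ y ∈ U, χK y = 0) ∧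
      (∀ y ∈ U, χU y = χ y) ∧ (∀ k ∈ K, χK k = χ k) := by
  obtain ⟨χU, hχU⟩ : ∃ χU : Dual F V, χU = LinearMap.ofIsCompl h (χ.domRestrict U) 0 := ⟨_, rfl⟩
  obtain ⟨χK, hχK⟩ : ∃ χK : Dual F V, χK = LinearMap.ofIsCompl h 0 (χ.domRestrict K) := ⟨_, rfl⟩
  have a1 : ∀ k ∈ K, χU k = 0 := by
    intro k hk
    rw [hχU]
    exact LinearMap.ofIsCompl_apply_right h (⟨k, hk⟩ : K)
  have a2 : ∀ y ∈ U, χK y = 0 := by
    intro y hy
    rw [hχK]
    exact LinearMap.ofIsCompl_apply_left h (⟨y, hy⟩ : U)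
  have a3 : ∀ y ∈ U, χU y = χ y := by
    intro y hy
    rw [hχU]
    exact LinearMap.ofIsCompl_apply_left h (⟨y, hy⟩ : U)
  have a4 : ∀ k ∈ K, χK k = χ k := by
    intro k hk
    rw [hχK]
    exact LinearMap.ofIsCompl_apply_right h (⟨k, hk⟩ : K)
  refine ⟨χU, χK, ?_, a1, a2, a3, a4⟩
  apply LinearMap.ext
  intro x
  obtain ⟨a, ha, b, hb, rfl⟩ := exists_decomp h x
  rw [LinearMap.add_apply, map_add, map_add, map_add, a1 b hb, a2 a ha, a3 a ha, a4 b hb]
  ring

/-- a covector vanishing on `K`, with prescribed values on two independent vectors of `U` -/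
theorem exists_cov_sep {U K : Submodule F V} (h : IsCompl U K) {y z : V} (hy : y ∈ U)
    (hz : z ∈ U) (hyz : ∀ c : F, y ≠ c • z) :
    ∃ η : Dual F V, (∀ k ∈ K, η k = 0) ∧ η y = 1 ∧ η z = 0 := by
  have hnot : y ∉ K ⊔ Submodule.span F {z} := by
    intro hmem
    obtain ⟨k, hk, s, hs, hks⟩ := Submodule.mem_sup.mp hmem
    obtain ⟨c, rfl⟩ := Submodule.mem_span_singleton.mp hs
    have hkU : k ∈ U := by
      have : k = y - c • z := by rw [← hks]; abel
      rw [this]
      exact U.sub_mem hy (U.smul_mem c hz)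
    have hk0 := eq_zero_of_mem_both h hkU hk
    rw [hk0, zero_add] at hks
    exact hyz c hks.symm
  obtain ⟨f, hfy, hf⟩ := Submodule.exists_le_ker_of_notMem hnot
  refine ⟨(f y)⁻¹ • f, ?_, ?_, ?_⟩
  · intro k hk
    have : f k = 0 := hf (Submodule.mem_sup_left hk)
    rw [LinearMap.smul_apply, this, smul_zero]
  · rw [LinearMap.smul_apply, smul_eq_mul, inv_mul_cancel₀ hfy]
  · have : f z = 0 := hf (Submodule.mem_sup_right (Submodule.mem_span_singleton_self z))
    rw [LinearMap.smul_apply, this, smul_zero]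

/-- a subspace containing `E` minus a line contains `E`, when `E` is not inside the line -/
theorem le_of_diff_line {M : Type*} [AddCommGroup M] [Module F M] (Φ E : Submodule F M) (l : M)
    (hE : ∃ e ∈ E, ∀ c : F, e ≠ c • l) (h : ∀ e ∈ E, (∀ c : F, e ≠ c • l) → e ∈ Φ) : E ≤ Φ := by
  intro e he
  by_cases hc : ∀ c : F, e ≠ c • l
  · exact h e he hc
  · push Not at hc
    obtain ⟨c, rfl⟩ := hc
    obtain ⟨e', he', hne⟩ := hE
    have h1 : e' ∈ Φ := h e' he' hne
    have h2 : c • l + e' ∈ Φ := by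
      apply h _ (E.add_mem he he')
      intro c' hc'
      apply hne (c' - c)
      rw [sub_smul, ← hc']
      abel
    have : c • l = (c • l + e') - e' := by abel
    rw [this]
    exact Φ.sub_mem h2 h1

theorem exists_not_smul_of_finrank {M : Type*} [AddCommGroup M] [Module F M]
    [FiniteDimensional F M] (E : Submodule F M) (hE : 2 ≤ finrank F E) (l : M) :
    ∃ e ∈ E, ∀ c : F, e ≠ c • l := by
  by_contra hcon
  push Not at hcon
  have hle : E ≤ Submodule.span F {l} := by
    intro e he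
    obtain ⟨c, hc⟩ := hcon e he
    rw [hc]
    exact Submodule.smul_mem _ c (Submodule.mem_span_singleton_self l)
  have h1 := Submodule.finrank_mono hle
  have h2 : finrank F (Submodule.span F {l}) ≤ 1 := by
    by_cases hl : l = 0
    · rw [hl, Submodule.span_zero_singleton, finrank_bot]
      exact zero_le_one
    · rw [finrank_span_singleton hl]
  omega

/-- skew-symmetry of an alternating form -/
theorem alt_swap (f : LinearMap.BilinForm F V) (alt : ∀ x, f x x = 0) (x y : V) :
    f x y = - f y x := by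
  have h := alt (x + y)
  simp only [map_add, LinearMap.add_apply, alt, zero_add, add_zero] at h
  linear_combination h

/-- the orbit of a non-zero vector under the symplectic transvections of a non-degenerate subspace -/
theorem sp_transitive {U : Submodule F V} (f : LinearMap.BilinForm F V) (alt : ∀ x, f x x = 0)
    (nd : ∀ x ∈ U, (∀ y ∈ U, f x y = 0) → x = 0) (X : Set V) (hXU : ∀ x ∈ X, x ∈ U)
    (hX : ∀ x ∈ X, ∀ y ∈ U, ∀ c : F, x + (c * f y x) • y ∈ X) {x₀ : V} (hx₀ : x₀ ∈ X)
    (hne : x₀ ≠ 0) : ∀ z ∈ U, z ≠ 0 → z ∈ X := by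
  have step : ∀ x ∈ X, ∀ z ∈ U, f x z ≠ 0 → z ∈ X := by
    intro x hx z hz hxz
    have hzx : f z x ≠ 0 := by
      rw [alt_swap f alt z x]
      exact neg_ne_zero.mpr hxz
    have h1 := hX x hx (z - x) (U.sub_mem hz (hXU x hx)) (f z x)⁻¹
    have h2 : f (z - x) x = f z x := by
      rw [map_sub, LinearMap.sub_apply, alt, sub_zero]
    rw [h2, inv_mul_cancel₀ hzx, one_smul] at h1
    have : x + (z - x) = z := by abel
    rwa [this] at h1
  intro z hz hz0
  by_cases hxz : f x₀ z ≠ 0
  · exact step x₀ hx₀ z hz hxz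
  · push Not at hxz
    have e1 : ∃ y₁ ∈ U, f x₀ y₁ ≠ 0 := by
      by_contra hcon
      push Not at hcon
      exact hne (nd x₀ (hXU x₀ hx₀) hcon)
    have e2 : ∃ y₂ ∈ U, f z y₂ ≠ 0 := by
      by_contra hcon
      push Not at hcon
      exact hz0 (nd z hz hcon)
    obtain ⟨y₁, hy₁, h1⟩ := e1
    obtain ⟨y₂, hy₂, h2⟩ := e2
    have key : ∃ y ∈ U, f x₀ y ≠ 0 ∧ f z y ≠ 0 := by
      by_cases h3 : f z y₁ ≠ 0
      · exact ⟨y₁, hy₁, h1, h3⟩
      · push Not at h3
        by_cases h4 : f x₀ y₂ ≠ 0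
        · exact ⟨y₂, hy₂, h4, h2⟩
        · push Not at h4
          refine ⟨y₁ + y₂, U.add_mem hy₁ hy₂, ?_, ?_⟩
          · rw [map_add, h4, add_zero]
            exact h1
          · rw [map_add, h3, zero_add]
            exact h2
    obtain ⟨y, hy, hxy, hzy⟩ := key
    have hyX := step x₀ hx₀ y hy hxy
    apply step y hyX z hz
    rw [alt_swap f alt y z]
    exact neg_ne_zero.mpr hzy

/-- a non-zero subspace of `U` stable under all transvections of `U` is `U` -/
theorem sl_transitive {U K : Submodule F V} (h : IsCompl U K) (Y : Submodule F V)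
    (hY : ∀ y ∈ Y, ∀ z ∈ U, ∀ η : Dual F V, (∀ k ∈ K, η k = 0) → η z = 0 → y + η y • z ∈ Y)
    {y₀ : V} (hy₀ : y₀ ∈ Y) (hy₀U : y₀ ∈ U) (hne : y₀ ≠ 0) : U ≤ Y := by
  intro z hz
  by_cases hc : ∃ c : F, z = c • y₀
  · obtain ⟨c, rfl⟩ := hc
    exact Y.smul_mem c hy₀
  · push Not at hc
    have hsep : ∀ c : F, y₀ ≠ c • z := by
      intro c hcz
      by_cases hc0 : c = 0
      · rw [hc0, zero_smul] at hcz
        exact hne hcz
      · apply hc c⁻¹
        rw [hcz, smul_smul, inv_mul_cancel₀ hc0, one_smul]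
    obtain ⟨η, hηK, hηy, hηz⟩ := exists_cov_sep h hy₀U hz hsep
    have h1 := hY y₀ hy₀ z hz η hηK hηz
    rw [hηy, one_smul] at h1
    have : z = (y₀ + z) - y₀ := by abel
    rw [this]
    exact Y.sub_mem h1 hy₀

/-- the complement attached to a hyperbolic pair -/
theorem hyp_isCompl {v w : V} {φ ψ : Dual F V} (hv : φ v = 0) (hw : ψ w = 0) (hφw : φ w ≠ 0)
    (hψv : ψ v ≠ 0) :
    IsCompl (Submodule.span F {v, w}) (LinearMap.ker φ ⊓ LinearMap.ker ψ) := by
  constructor
  · rw [Submodule.disjoint_def]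
    intro x hx hx'
    obtain ⟨a, b, rfl⟩ := Submodule.mem_span_pair.mp hx
    obtain ⟨h1', h2'⟩ := hx'
    have h1 : φ (a • v + b • w) = 0 := h1'
    have h2 : ψ (a • v + b • w) = 0 := h2'
    simp only [map_add, map_smul, smul_eq_mul, hv, hw, mul_zero, zero_add, add_zero] at h1 h2
    have hb : b = 0 := by
      rcases mul_eq_zero.mp h1 with h | h
      · exact h
      · exact absurd h hφw
    have ha : a = 0 := by
      rcases mul_eq_zero.mp h2 with h | h
      · exact h
      · exact absurd h hψv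
    rw [ha, hb, zero_smul, zero_smul, add_zero]
  · rw [codisjoint_iff, Submodule.eq_top_iff']
    intro x
    have hx : x = ((ψ x / ψ v) • v + (φ x / φ w) • w) +
        (x - ((ψ x / ψ v) • v + (φ x / φ w) • w)) := by abel
    rw [hx]
    apply Submodule.add_mem
    · apply Submodule.mem_sup_left
      exact Submodule.mem_span_pair.mpr ⟨_, _, rfl⟩
    · apply Submodule.mem_sup_right
      constructor
      · show φ _ = 0
        simp only [map_sub, map_add, map_smul, smul_eq_mul, hv, mul_zero, zero_add]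
        field_simp
        ring
      · show ψ _ = 0
        simp only [map_sub, map_add, map_smul, smul_eq_mul, hw, mul_zero, add_zero]
        field_simp
        ring

/-- a covector vanishing on the complement of a hyperbolic pair -/
theorem cov_eq_of_kills {v w : V} {φ ψ : Dual F V} (hv : φ v = 0) (hw : ψ w = 0) (hφw : φ w ≠ 0)
    (hψv : ψ v ≠ 0) (η : Dual F V) (hη : ∀ k, φ k = 0 → ψ k = 0 → η k = 0) :
    η = (η w / φ w) • φ + (η v / ψ v) • ψ := by
  apply LinearMap.ext
  intro x
  have h1 : φ (x - ((ψ x / ψ v) • v + (φ x / φ w) • w)) = 0 := by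
    simp only [map_sub, map_add, map_smul, smul_eq_mul, hv, mul_zero, zero_add]
    field_simp
    ring
  have h2 : ψ (x - ((ψ x / ψ v) • v + (φ x / φ w) • w)) = 0 := by
    simp only [map_sub, map_add, map_smul, smul_eq_mul, hw, mul_zero, add_zero]
    field_simp
    ring
  have h3 := hη _ h1 h2
  simp only [map_sub, map_add, map_smul, smul_eq_mul] at h3
  simp only [LinearMap.add_apply, LinearMap.smul_apply, smul_eq_mul]
  field_simp
  field_simp at h3
  linear_combination h3

end linalg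

section prime

variable {p : ℕ} [Fact p.Prime] {V : Type*} [AddCommGroup V] [Module (ZMod p) V]
variable {G : Subgroup (V ≃ₗ[ZMod p] V)}

/-- a hyperbolic pair of transvections of `G` gives all transvections of its plane -/
theorem In.hyp_pair {v w : V} {φ ψ : Dual (ZMod p) V} (h1 : In G v φ) (h2 : In G w ψ)
    (hφw : φ w ≠ 0) (hψv : ψ v ≠ 0) (a b α β : ZMod p)
    (h : (α • φ + β • ψ) (a • v + b • w) = 0) : In G (a • v + b • w) (α • φ + β • ψ) := by
  have hexp : α * b * φ w + β * a * ψ v = 0 := by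
    have h' := h
    simp only [LinearMap.add_apply, LinearMap.smul_apply, map_add, map_smul, smul_eq_mul, h1.1,
      h2.1, mul_zero, zero_add, add_zero] at h'
    linear_combination h'
  by_cases hb : b = 0
  · subst hb
    rw [zero_smul, add_zero]
    have h3 : β * a = 0 := by
      have h4 : β * a * ψ v = 0 := by linear_combination hexp
      rcases mul_eq_zero.mp h4 with h5 | h5
      · exact h5
      · exact absurd h5 hψv
    rcases mul_eq_zero.mp h3 with h4 | h4
    · subst h4
      rw [zero_smul, add_zero]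
      exact (h1.smul_right α).smul_left a
    · subst h4
      rw [zero_smul]
      exact In.zero_left _
  · have h3 := h2.conj_tv (h1.smul_right (a / (b * φ w)))
    have h4 := (h3.smul_left b).smul_right β
    have e1 : b • (w + ((a / (b * φ w)) • φ) w • v) = a • v + b • w := by
      rw [LinearMap.smul_apply, smul_eq_mul, smul_add, smul_smul]
      have h5 : b * (a / (b * φ w) * φ w) = a := by field_simp
      rw [h5, add_comm]
    have e2 : β • (ψ - ψ v • (a / (b * φ w)) • φ) = α • φ + β • ψ := by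
      have hα : α = -(β * a * ψ v) / (b * φ w) := by
        field_simp
        linear_combination hexp
      rw [hα]
      apply LinearMap.ext
      intro x
      simp only [LinearMap.add_apply, LinearMap.smul_apply, LinearMap.sub_apply, smul_eq_mul]
      field_simp
      ring
    rwa [e1, e2] at h4

variable [Finite V]

theorem phiSub_lt {v w : V} {φ₀ : Dual (ZMod p) V} (h0 : In G v φ₀) (h0w : φ₀ w ≠ 0)
    (hall : ∀ ψ, In G w ψ → ψ v = 0) :
    finrank (ZMod p) (PhiSub G w) < finrank (ZMod p) (PhiSub G v) := by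
  apply Submodule.finrank_lt_finrank_of_lt
  rw [SetLike.lt_iff_le_and_exists]
  refine ⟨fun ψ hψ => ?_, φ₀, h0, fun h => h0w h.1⟩
  exact (h0.comm hψ (hall ψ hψ)).of_smul_right h0w

theorem phiSub_le {v w : V} {φ₀ ψ₀ : Dual (ZMod p) V} (h1 : In G v φ₀) (h2 : In G w ψ₀)
    (hφw : φ₀ w ≠ 0) (hψv : ψ₀ v ≠ 0) :
    finrank (ZMod p) (PhiSub G v) ≤ finrank (ZMod p) (PhiSub G w) := by
  obtain ⟨L, hL⟩ : ∃ L : Dual (ZMod p) V →ₗ[ZMod p] Dual (ZMod p) V,
      ∀ φ, L φ = φ + (φ w / φ₀ w) • (ψ₀ - φ₀) := by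
    refine ⟨LinearMap.id + (Dual.eval (ZMod p) V w).smulRight ((φ₀ w)⁻¹ • (ψ₀ - φ₀)), fun φ => ?_⟩
    rw [LinearMap.add_apply, LinearMap.id_apply, LinearMap.smulRight_apply, Dual.eval_apply,
      smul_smul, div_eq_mul_inv]
  have hmem : ∀ φ, In G v φ → In G w (L φ) := by
    intro φ hφ
    have e : L φ = (φ - (φ w / φ₀ w) • φ₀) + (φ w / φ₀ w) • ψ₀ := by
      rw [hL, smul_sub]
      abel
    rw [e]
    apply In.add_right _ (h2.smul_right _)
    have h3 : In G v (φ - (φ w / φ₀ w) • φ₀) := hφ.sub_right (h1.smul_right _)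
    have h4 : (φ - (φ w / φ₀ w) • φ₀) w = 0 := by
      rw [LinearMap.sub_apply, LinearMap.smul_apply, smul_eq_mul, div_mul_cancel₀ _ hφw, sub_self]
    exact (h2.comm h3 h4).of_smul_right hψv
  obtain ⟨f, hf⟩ : ∃ f : ↥(PhiSub G v) →ₗ[ZMod p] ↥(PhiSub G w),
      ∀ a, ((f a : ↥(PhiSub G w)) : Dual (ZMod p) V) = L a :=
    ⟨LinearMap.codRestrict (PhiSub G w) (L.domRestrict (PhiSub G v)) (fun a => hmem a.1 a.2),
      fun a => rfl⟩
  have hinj : Function.Injective f := by
    rw [← LinearMap.ker_eq_bot, LinearMap.ker_eq_bot']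
    intro a ha
    have h3 : L a = 0 := by
      rw [← hf a, ha]
      rfl
    have hav : (a : Dual (ZMod p) V) v = 0 := a.2.1
    have h4 : (L a) v = 0 := by rw [h3]; rfl
    rw [hL, LinearMap.add_apply, LinearMap.smul_apply, LinearMap.sub_apply, hav, h1.1, sub_zero,
      zero_add, smul_eq_mul] at h4
    have h5 : (a : Dual (ZMod p) V) w = 0 := by
      rcases mul_eq_zero.mp h4 with h6 | h6
      · rcases div_eq_zero_iff.mp h6 with h7 | h7
        · exact h7
        · exact absurd h7 hφw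
      · exact absurd h6 hψv
    apply Subtype.ext
    rw [hL, h5, zero_div, zero_smul, add_zero] at h3
    exact h3
  exact LinearMap.finrank_le_finrank_of_injective hinj

theorem phiSub_map_le {g : V ≃ₗ[ZMod p] V} (hg : g ∈ G) (v : V) :
    finrank (ZMod p) (PhiSub G v) ≤ finrank (ZMod p) (PhiSub G (g v)) := by
  have h1 : (PhiSub G v).map (g.symm.dualMap : Dual (ZMod p) V →ₗ[ZMod p] Dual (ZMod p) V) ≤
      PhiSub G (g v) := by
    rintro _ ⟨φ, hφ, rfl⟩
    have h2 : In G (g v) (cov φ g) := In.conj hg hφ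
    exact h2
  calc finrank (ZMod p) (PhiSub G v)
      = finrank (ZMod p) ((PhiSub G v).map
          (g.symm.dualMap : Dual (ZMod p) V →ₗ[ZMod p] Dual (ZMod p) V)) :=
        (LinearEquiv.finrank_map_eq g.symm.dualMap (PhiSub G v)).symm
    _ ≤ _ := Submodule.finrank_mono h1

/-- all centres carry covector spaces of the same dimension -/
theorem finrank_phiSub_eq (hG : Hyp G) {v w : V} (hv : IsCenter G v) (hw : IsCenter G w) :
    finrank (ZMod p) (PhiSub G v) = finrank (ZMod p) (PhiSub G w) := by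
  obtain ⟨v₀, hv₀, hmax⟩ := Set.exists_max_image {u : V | IsCenter G u}
    (fun u => finrank (ZMod p) (PhiSub G u)) (Set.toFinite _) ⟨v, hv⟩
  have key : ∀ u, IsCenter G u → finrank (ZMod p) (PhiSub G u) = finrank (ZMod p) (PhiSub G v₀) := by
    intro u hu
    by_contra hne
    have hlt : finrank (ZMod p) (PhiSub G u) < finrank (ZMod p) (PhiSub G v₀) :=
      lt_of_le_of_ne (hmax u hu) hne
    have hinv : Inv G (Submodule.span (ZMod p) {x : V | IsCenter G x ∧
        finrank (ZMod p) (PhiSub G x) = finrank (ZMod p) (PhiSub G v₀)}) := by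
      apply inv_span_centers
      intro g hg x hx
      refine ⟨hx.1.map hg, le_antisymm (hmax _ (hx.1.map hg)) ?_⟩
      rw [← hx.2]
      exact phiSub_map_le hg x
    have huY := hG.min _ hinv ⟨v₀, Submodule.subset_span ⟨hv₀, rfl⟩, hv₀⟩ u hu
    obtain ⟨hu0, ψ₁, hψ₁, hin⟩ := hu
    have hkill : ∀ y ∈ Submodule.span (ZMod p) {x : V | IsCenter G x ∧
        finrank (ZMod p) (PhiSub G x) = finrank (ZMod p) (PhiSub G v₀)}, ψ₁ y = 0 := by
      intro y hy
      induction hy using Submodule.span_induction with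
      | mem x hx =>
        by_contra hne'
        by_cases hc : ∀ φ, In G x φ → φ u = 0
        · have := phiSub_lt (v := u) (w := x) hin hne' hc
          rw [hx.2] at this
          omega
        · push Not at hc
          obtain ⟨φ₁, hφ₁, hφ₁u⟩ := hc
          have a1 := phiSub_le hin hφ₁ hne' hφ₁u
          have a2 := phiSub_le hφ₁ hin hφ₁u hne'
          rw [hx.2] at a1 a2
          omega
      | zero => exact map_zero _
      | add x y _ _ hx hy => rw [map_add, hx, hy, add_zero]
      | smul c x _ hx => rw [map_smul, hx, smul_zero]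
    rcases hG.noP _ hinv u ψ₁ hin huY hkill with h | h
    · exact hu0 h
    · exact hψ₁ h
  rw [key v hv, key w hw]

/-- the perpendicularity relation on centres is symmetric -/
theorem perp_symm (hG : Hyp G) {v w : V} (hv : IsCenter G v) (hw : IsCenter G w)
    (h : ∀ φ, In G v φ → φ w = 0) : ∀ ψ, In G w ψ → ψ v = 0 := by
  by_contra hc
  push Not at hc
  obtain ⟨ψ₁, hψ₁, hne⟩ := hc
  have h1 := phiSub_lt (v := w) (w := v) hψ₁ hne h
  have h2 := finrank_phiSub_eq hG hv hw
  omega

omit [Finite V] in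
theorem exists_center_not_killed (hG : Hyp G) {v : V} {φ : Dual (ZMod p) V} (h : In G v φ)
    (hv : v ≠ 0) (hφ : φ ≠ 0) : ∃ w, IsCenter G w ∧ φ w ≠ 0 := by
  by_contra hcon
  push Not at hcon
  have hinv : Inv G (Submodule.span (ZMod p) {x : V | IsCenter G x}) :=
    inv_span_centers _ (fun g hg x hx => hx.map hg)
  have hvY : v ∈ Submodule.span (ZMod p) {x : V | IsCenter G x} :=
    Submodule.subset_span ⟨hv, φ, hφ, h⟩
  have hkill : ∀ y ∈ Submodule.span (ZMod p) {x : V | IsCenter G x}, φ y = 0 := by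
    intro y hy
    induction hy using Submodule.span_induction with
    | mem x hx => exact hcon x hx
    | zero => exact map_zero _
    | add x y _ _ hx hy => rw [map_add, hx, hy, add_zero]
    | smul c x _ hx => rw [map_smul, hx, smul_zero]
  rcases hG.noP _ hinv v φ h hvY hkill with h1 | h1
  · exact hv h1
  · exact hφ h1

/-- every centre belongs to a hyperbolic pair -/
theorem exists_partner (hG : Hyp G) {v : V} (hv : IsCenter G v) :
    ∃ (w : V) (φ ψ : Dual (ZMod p) V), In G v φ ∧ In G w ψ ∧ φ w ≠ 0 ∧ ψ v ≠ 0 := by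
  obtain ⟨hv0, φ, hφ, hin⟩ := hv
  obtain ⟨w, hw, hφw⟩ := exists_center_not_killed hG hin hv0 hφ
  have hnot : ¬ ∀ ψ, In G w ψ → ψ v = 0 := by
    intro hall
    exact hφw (perp_symm hG hw ⟨hv0, φ, hφ, hin⟩ hall φ hin)
  push Not at hnot
  obtain ⟨ψ, hψ, hψv⟩ := hnot
  exact ⟨w, φ, ψ, hin, hψ, hφw, hψv⟩

end prime

end Cfsg.Agent.Lib.Helper13.MCL
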