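import Cfsg.Agent.Lib.Helper13.MclB

set_option autoImplicit false

/-! The symplectic case: blocks carrying an alternating form. -/

namespace Cfsg.Agent.Lib.Helper13.MCL

open Module LinearMap

section linalg

variable {F : Type*} [Field F] {V : Type*} [AddCommGroup V] [Module F V]

/-- the alternating form `φ ∧ ψ` -/
noncomputable def wedge (φ ψ : Dual F V) : LinearMap.BilinForm F V :=
  φ.smulRight ψ - ψ.smulRight φ

theorem wedge_apply (φ ψ : Dual F V) (x y : V) : wedge φ ψ x y = φ x * ψ y - ψ x * φ y := by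
  simp [wedge, LinearMap.smulRight_apply, LinearMap.sub_apply, LinearMap.smul_apply]

theorem isCompl_sup_inf {U K P M : Submodule F V} (h1 : IsCompl U K) (h2 : IsCompl P M)
    (hPK : P ≤ K) (_hUM : U ≤ M) : IsCompl (U ⊔ P) (K ⊓ M) := by
  constructor
  · rw [Submodule.disjoint_def]
    intro x hx hx'
    obtain ⟨a, ha, z, hz, rfl⟩ := Submodule.mem_sup.mp hx
    obtain ⟨hxK, hxM⟩ := Submodule.mem_inf.mp hx'
    have haK : a ∈ K := by
      have : a = (a + z) - z := by abel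
      rw [this]
      exact K.sub_mem hxK (hPK hz)
    have ha0 := eq_zero_of_mem_both h1 ha haK
    rw [ha0, zero_add] at hxM ⊢
    exact eq_zero_of_mem_both h2 hz hxM
  · rw [codisjoint_iff, Submodule.eq_top_iff']
    intro x
    obtain ⟨a, ha, k, hk, rfl⟩ := exists_decomp h1 x
    obtain ⟨z, hz, m, hm, rfl⟩ := exists_decomp h2 k
    have hmK : m ∈ K := by
      have : m = (z + m) - z := by abel
      rw [this]
      exact K.sub_mem hk (hPK hz)
    have : a + (z + m) = (a + z) + m := by abel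
    rw [this]
    exact Submodule.add_mem _
      (Submodule.mem_sup_left (Submodule.mem_sup.mpr ⟨a, ha, z, hz, rfl⟩))
      (Submodule.mem_sup_right (Submodule.mem_inf.mpr ⟨hmK, hm⟩))

theorem wedge_nd {v w : V} {φ ψ : Dual F V} (hv : φ v = 0) (hw : ψ w = 0) (hφw : φ w ≠ 0)
    (hψv : ψ v ≠ 0) {z : V} (hz : z ∈ Submodule.span F {v, w}) (h1 : wedge φ ψ z v = 0)
    (h2 : wedge φ ψ z w = 0) : z = 0 := by
  rw [wedge_apply, hv, mul_zero, sub_zero] at h1
  rw [wedge_apply, hw, mul_zero, zero_sub, neg_eq_zero] at h2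
  have hφz : φ z = 0 := by
    rcases mul_eq_zero.mp h1 with h | h
    · exact h
    · exact absurd h hψv
  have hψz : ψ z = 0 := by
    rcases mul_eq_zero.mp h2 with h | h
    · exact h
    · exact absurd h hφw
  exact eq_zero_of_mem_both (hyp_isCompl hv hw hφw hψv) hz
    (Submodule.mem_inf.mpr ⟨LinearMap.mem_ker.mpr hφz, LinearMap.mem_ker.mpr hψz⟩)

end linalg

section prime

variable {p : ℕ} [Fact p.Prime] {V : Type*} [AddCommGroup V] [Module (ZMod p) V]
variable {G : Subgroup (V ≃ₗ[ZMod p] V)}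

theorem wedge_mem {v w : V} {φ ψ : Dual (ZMod p) V} (h1 : In G v φ) (h2 : In G w ψ)
    (hφw : φ w ≠ 0) (hψv : ψ v ≠ 0) (c : ZMod p) {z : V}
    (hz : z ∈ Submodule.span (ZMod p) {v, w}) : In G z (c • wedge φ ψ z) := by
  have e : ∀ z : V, c • wedge φ ψ z = (-(c * ψ z)) • φ + (c * φ z) • ψ := by
    intro z
    apply LinearMap.ext
    intro y
    simp only [LinearMap.smul_apply, LinearMap.add_apply, wedge_apply, smul_eq_mul]
    ring
  obtain ⟨s, t, rfl⟩ := Submodule.mem_span_pair.mp hz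
  rw [e]
  apply In.hyp_pair h1 h2 hφw hψv
  simp only [LinearMap.add_apply, LinearMap.smul_apply, smul_eq_mul]
  ring

theorem eq_smul_of_finrank_one {y : V} {φ₀ φ : Dual (ZMod p) V}
    (hd : finrank (ZMod p) (PhiSub G y) = 1) (h0 : In G y φ₀) (hφ₀ : φ₀ ≠ 0) (h : In G y φ) :
    ∃ c : ZMod p, φ = c • φ₀ := by
  have hne : (⟨φ₀, h0⟩ : PhiSub G y) ≠ 0 := by
    intro h1
    exact hφ₀ (congrArg Subtype.val h1)
  obtain ⟨c, hc⟩ := (finrank_eq_one_iff_of_nonzero' (⟨φ₀, h0⟩ : PhiSub G y) hne).mp hd ⟨φ, h⟩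
  exact ⟨c, (congrArg Subtype.val hc).symm⟩

/-- spreading a family of transvections along the orbit of symplectic transvections -/
theorem family_spread {P : Submodule (ZMod p) V} (f : LinearMap.BilinForm (ZMod p) V)
    (alt : ∀ x, f x x = 0) (nd : ∀ x ∈ P, (∀ y ∈ P, f x y = 0) → x = 0)
    (mem : ∀ y ∈ P, In G y (f y)) {x₀ : V} {ξ : Dual (ZMod p) V} (hξ : ∀ y ∈ P, ξ y = 0)
    (hx₀ : ∀ y ∈ P, f y x₀ = 0) {z₀ : V} (hz₀ : z₀ ∈ P) (hz₀0 : z₀ ≠ 0)
    (h0 : In G (z₀ + x₀) (f z₀ + ξ)) : ∀ z ∈ P, z ≠ 0 → In G (z + x₀) (f z + ξ) := by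
  have hX : ∀ z ∈ {z : V | z ∈ P ∧ In G (z + x₀) (f z + ξ)}, ∀ y ∈ P, ∀ c : ZMod p,
      z + (c * f y z) • y ∈ {z : V | z ∈ P ∧ In G (z + x₀) (f z + ξ)} := by
    rintro z ⟨hzP, hz⟩ y hy c
    refine ⟨P.add_mem hzP (P.smul_mem _ hy), ?_⟩
    have h2 : In G y (c • f y) := (mem y hy).smul_right c
    have h3 := hz.conj_tv h2
    have e0 : (c • f y) (z + x₀) = c * f y z := by
      rw [LinearMap.smul_apply, map_add, hx₀ y hy, add_zero, smul_eq_mul]
    have e1 : (z + x₀) + (c • f y) (z + x₀) • y = (z + (c * f y z) • y) + x₀ := by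
      rw [e0]
      abel
    have e2 : (f z + ξ) - (f z + ξ) y • (c • f y) = f (z + (c * f y z) • y) + ξ := by
      apply LinearMap.ext
      intro t
      have h5 : f z y = - f y z := alt_swap f alt z y
      simp only [LinearMap.add_apply, LinearMap.sub_apply, LinearMap.smul_apply, map_add, map_smul,
        smul_eq_mul, hξ y hy, h5, add_zero]
      ring
    rw [e1, e2] at h3
    exact h3
  intro z hz hz0
  exact (sp_transitive f alt nd {z : V | z ∈ P ∧ In G (z + x₀) (f z + ξ)} (fun z hz => hz.1) hX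
    (x₀ := z₀) ⟨hz₀, h0⟩ hz₀0 z hz hz0).2

/-- a block: a subspace `U` with complement `K`, carrying an alternating form whose
transvections all lie in `G` -/
structure SpBlock (G : Subgroup (V ≃ₗ[ZMod p] V)) (U K : Submodule (ZMod p) V)
    (f : LinearMap.BilinForm (ZMod p) V) : Prop where
  compl : IsCompl U K
  alt : ∀ x, f x x = 0
  killK : ∀ k ∈ K, ∀ x, f x k = 0
  nd : ∀ x ∈ U, (∀ y ∈ U, f x y = 0) → x = 0
  mem : ∀ x ∈ U, In G x (f x)
  ne : ∃ x ∈ U, x ≠ 0

variable {U K : Submodule (ZMod p) V} {f : LinearMap.BilinForm (ZMod p) V}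

theorem SpBlock.killK' (hB : SpBlock G U K f) {k : V} (hk : k ∈ K) (x : V) : f k x = 0 := by
  rw [alt_swap f hB.alt k x, hB.killK k hk x, neg_zero]

theorem SpBlock.fx_ne_zero (hB : SpBlock G U K f) {x : V} (hx : x ∈ U) (hx0 : x ≠ 0) :
    f x ≠ 0 := by
  intro h
  apply hx0
  apply hB.nd x hx
  intro y _
  rw [h]
  rfl

theorem SpBlock.isCenter (hB : SpBlock G U K f) {x : V} (hx : x ∈ U) (hx0 : x ≠ 0) :
    IsCenter G x :=
  ⟨hx0, f x, hB.fx_ne_zero hx hx0, hB.mem x hx⟩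

theorem SpBlock.init {v w : V} {φ ψ : Dual (ZMod p) V} (h1 : In G v φ) (h2 : In G w ψ)
    (hφw : φ w ≠ 0) (hψv : ψ v ≠ 0) :
    SpBlock G (Submodule.span (ZMod p) {v, w}) (LinearMap.ker φ ⊓ LinearMap.ker ψ)
      (wedge φ ψ) where
  compl := hyp_isCompl h1.1 h2.1 hφw hψv
  alt := fun x => by rw [wedge_apply]; ring
  killK := fun k hk x => by
    obtain ⟨hk1, hk2⟩ := Submodule.mem_inf.mp hk
    rw [wedge_apply, LinearMap.mem_ker.mp hk1, LinearMap.mem_ker.mp hk2]
    ring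
  nd := fun x hx hall => by
    apply wedge_nd h1.1 h2.1 hφw hψv hx
    · exact hall v (Submodule.subset_span (by simp))
    · exact hall w (Submodule.subset_span (by simp))
  mem := fun x hx => by
    have := wedge_mem h1 h2 hφw hψv 1 hx
    rwa [one_smul] at this
  ne := ⟨v, Submodule.subset_span (by simp), fun h => hψv (by rw [h, map_zero])⟩

variable [Finite V]

theorem SpBlock.cov_on_U (hG : Hyp G)
    (hd : ∀ v, IsCenter G v → finrank (ZMod p) (PhiSub G v) = 1) (hB : SpBlock G U K f)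
    {w x : V} (hw : IsCenter G w) (hx : x ∈ U) (h : f x w = 0) {χ : Dual (ZMod p) V}
    (hχ : In G w χ) : χ x = 0 := by
  by_cases hx0 : x = 0
  · rw [hx0, map_zero]
  · have hxc := hB.isCenter hx hx0
    refine perp_symm hG hxc hw ?_ χ hχ
    intro φ hφ
    obtain ⟨c, rfl⟩ := eq_smul_of_finrank_one (hd x hxc) (hB.mem x hx) (hB.fx_ne_zero hx hx0) hφ
    rw [LinearMap.smul_apply, h, smul_zero]

theorem SpBlock.cov_on_U' (hG : Hyp G)
    (hd : ∀ v, IsCenter G v → finrank (ZMod p) (PhiSub G v) = 1) (hB : SpBlock G U K f)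
    {w x : V} (hw : IsCenter G w) (hx : x ∈ U) {χ : Dual (ZMod p) V} (hχ0 : χ ≠ 0)
    (hχ : In G w χ) (h : χ x = 0) : f x w = 0 := by
  by_cases hx0 : x = 0
  · rw [hx0, map_zero]
    rfl
  · have hxc := hB.isCenter hx hx0
    refine perp_symm hG hw hxc ?_ (f x) (hB.mem x hx)
    intro φ hφ
    obtain ⟨c, rfl⟩ := eq_smul_of_finrank_one (hd w hw) hχ hχ0 hφ
    rw [LinearMap.smul_apply, h, smul_zero]

/-- the part in `K` of a centre is again a centre, with a covector vanishing on `U` -/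
theorem SpBlock.K_part (hp2 : (2 : ZMod p) ≠ 0) (hG : Hyp G)
    (hd : ∀ v, IsCenter G v → finrank (ZMod p) (PhiSub G v) = 1) (hB : SpBlock G U K f)
    {a b : V} (ha : a ∈ U) (hb : b ∈ K) (hb0 : b ≠ 0) (hw : IsCenter G (a + b)) :
    ∃ β : Dual (ZMod p) V, β ≠ 0 ∧ (∀ y ∈ U, β y = 0) ∧ In G b β ∧
      (a ≠ 0 → ∀ x ∈ U, x ≠ 0 → In G (x + b) (f x + β)) := by
  by_cases ha0 : a = 0
  · obtain ⟨-, χ, hχ0, hχ⟩ := id hw
    refine ⟨χ, hχ0, ?_, ?_, fun h => absurd ha0 h⟩
    · intro y hy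
      refine hB.cov_on_U hG hd hw hy ?_ hχ
      rw [map_add, ha0, map_zero, zero_add, hB.killK b hb y]
    · rw [ha0, zero_add] at hχ
      exact hχ
  · obtain ⟨-, χ₀, hχ₀0, hχ₀⟩ := id hw
    have hy₀ : ∃ y₀ ∈ U, f a y₀ ≠ 0 := by
      by_contra hcon
      push Not at hcon
      exact ha0 (hB.nd a ha hcon)
    obtain ⟨y₀, hy₀U, hay₀⟩ := hy₀
    have hfw : ∀ y, f y (a + b) = f y a := by
      intro y
      rw [map_add, hB.killK b hb y, add_zero]
    have hχy₀ : χ₀ y₀ ≠ 0 := by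
      intro h0
      have h1 := hB.cov_on_U' hG hd hw hy₀U hχ₀0 hχ₀ h0
      rw [hfw, alt_swap f hB.alt y₀ a, neg_eq_zero] at h1
      exact hay₀ h1
    have hprop : ∀ y ∈ U, χ₀ y = (χ₀ y₀ / f a y₀) * f a y := by
      intro y hy
      have hy' : y - (f a y / f a y₀) • y₀ ∈ U := U.sub_mem hy (U.smul_mem _ hy₀U)
      have h1 : f (y - (f a y / f a y₀) • y₀) (a + b) = 0 := by
        rw [hfw, alt_swap f hB.alt _ a, map_sub, map_smul, smul_eq_mul, div_mul_cancel₀ _ hay₀,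
          sub_self, neg_zero]
      have h2 := hB.cov_on_U hG hd hw hy' h1 hχ₀
      rw [map_sub, map_smul, smul_eq_mul, sub_eq_zero] at h2
      rw [h2]
      ring
    obtain ⟨c, hc⟩ : ∃ c : ZMod p, c = χ₀ y₀ / f a y₀ := ⟨_, rfl⟩
    have hc0 : c ≠ 0 := by
      rw [hc]
      exact div_ne_zero hχy₀ hay₀
    obtain ⟨χ, hχdef⟩ : ∃ χ : Dual (ZMod p) V, χ = c⁻¹ • χ₀ := ⟨_, rfl⟩
    have hχ : In G (a + b) χ := by
      rw [hχdef]
      exact hχ₀.smul_right _
    have hχU : ∀ y ∈ U, χ y = f a y := by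
      intro y hy
      rw [hχdef, LinearMap.smul_apply, hprop y hy, ← hc, smul_eq_mul, ← mul_assoc,
        inv_mul_cancel₀ hc0, one_mul]
    obtain ⟨β, hβdef⟩ : ∃ β : Dual (ZMod p) V, β = χ - f a := ⟨_, rfl⟩
    have hβU : ∀ y ∈ U, β y = 0 := by
      intro y hy
      rw [hβdef, LinearMap.sub_apply, hχU y hy, sub_self]
    have hχβ : f a + β = χ := by
      rw [hβdef]
      abel
    have hβb : β b = 0 := by
      have h1 : χ (a + b) = 0 := hχ.1
      rw [map_add, hχU a ha, hB.alt a, zero_add] at h1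
      rw [hβdef, LinearMap.sub_apply, h1, hB.killK b hb a, sub_zero]
    have fam : ∀ x ∈ U, x ≠ 0 → In G (x + b) (f x + β) :=
      family_spread (P := U) (x₀ := b) (ξ := β) (z₀ := a) f hB.alt hB.nd hB.mem hβU
        (fun y _ => hB.killK b hb y) ha ha0 (by rw [hχβ]; exact hχ)
    have hinb : In G b β := by
      have f1 := fam a ha ha0
      have f2 := fam (-a) (U.neg_mem ha) (neg_ne_zero.mpr ha0)
      rw [map_neg] at f2
      have hs := tv_split (x := a) (b := b) (α := f a) (β := β) (hB.alt a) (hB.killK b hb a)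
        (hβU a ha) hβb
      have h2a : In G a ((2 : ZMod p) • f a) := (hB.mem a ha).smul_right 2
      have h3 : tv b ((2 : ZMod p) • β) ∈ G := by
        have h4 : tv b ((2 : ZMod p) • β) = (tv a ((2 : ZMod p) • f a))⁻¹ *
            (tv (a + b) (f a + β) * tv (-a + b) (-f a + β)) := by
          rw [hs, inv_mul_cancel_left]
        rw [h4]
        exact G.mul_mem (G.inv_mem h2a.2) (G.mul_mem f1.2 f2.2)
      have h5 : In G b ((2 : ZMod p) • β) :=
        ⟨by rw [LinearMap.smul_apply, hβb, smul_zero], h3⟩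
      exact h5.of_smul_right hp2
    have hβ0 : β ≠ 0 := by
      intro h0
      have hy₀0 : y₀ ≠ 0 := by
        intro h
        apply hay₀
        rw [h, map_zero]
      have famz : ∀ x ∈ U, x ≠ 0 → In G b (f x) := by
        intro x hx hx0
        have h1 := fam x hx hx0
        rw [h0, add_zero] at h1
        have h2 := h1.sub_left (hB.mem x hx)
        rwa [add_sub_cancel_left] at h2
      have g1 := famz a ha ha0
      have g2 := famz y₀ hy₀U hy₀0
      have hbc : IsCenter G b := ⟨hb0, f a, hB.fx_ne_zero ha ha0, g1⟩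
      obtain ⟨e, he⟩ := eq_smul_of_finrank_one (hd b hbc) g1 (hB.fx_ne_zero ha ha0) g2
      have h7 : f y₀ a = 0 := by
        rw [he, LinearMap.smul_apply, hB.alt a, smul_zero]
      rw [alt_swap f hB.alt y₀ a, neg_eq_zero] at h7
      exact hay₀ h7
    exact ⟨β, hβ0, hβU, hinb, fun _ => fam⟩

omit [Finite V] in
/-- enlarging a block by a hyperbolic plane inside `K` -/
theorem SpBlock.extend (hB : SpBlock G U K f) {b k : V} {β β₂ : Dual (ZMod p) V}
    (hb : b ∈ K) (hk : k ∈ K) (hβU : ∀ y ∈ U, β y = 0) (hβ₂U : ∀ y ∈ U, β₂ y = 0)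
    (h1 : In G b β) (h2 : In G k β₂) (hβk : β k ≠ 0) (hβ₂b : β₂ b ≠ 0)
    (fam : ∀ x ∈ U, x ≠ 0 → In G (x + b) (f x + β)) :
    ∃ (U' K' : Submodule (ZMod p) V) (f' : LinearMap.BilinForm (ZMod p) V),
      SpBlock G U' K' f' ∧ U ≤ U' ∧ b ∈ U' := by
  obtain ⟨P, hP⟩ : ∃ P : Submodule (ZMod p) V, P = Submodule.span (ZMod p) {b, k} := ⟨_, rfl⟩
  obtain ⟨M, hM⟩ : ∃ M : Submodule (ZMod p) V, M = LinearMap.ker β ⊓ LinearMap.ker β₂ :=
    ⟨_, rfl⟩
  obtain ⟨c₀, hc₀⟩ : ∃ c₀ : ZMod p, c₀ = -(β₂ b)⁻¹ := ⟨_, rfl⟩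
  have hc₀b : c₀ * β₂ b = -1 := by rw [hc₀, neg_mul, inv_mul_cancel₀ hβ₂b]
  have hc₀0 : c₀ ≠ 0 := by
    rw [hc₀]
    exact neg_ne_zero.mpr (inv_ne_zero hβ₂b)
  obtain ⟨f', hf'⟩ : ∃ f' : LinearMap.BilinForm (ZMod p) V, f' = f + c₀ • wedge β β₂ :=
    ⟨_, rfl⟩
  have hPM : IsCompl P M := by
    rw [hP, hM]
    exact hyp_isCompl h1.1 h2.1 hβk hβ₂b
  have hbP : b ∈ P := by
    rw [hP]
    exact Submodule.subset_span (by simp)
  have hkP : k ∈ P := by
    rw [hP]
    exact Submodule.subset_span (by simp)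
  have hPK : P ≤ K := by
    rw [hP, Submodule.span_le]
    intro x hx
    rcases hx with rfl | rfl
    · exact hb
    · exact hk
  have hUM : U ≤ M := by
    intro y hy
    rw [hM]
    exact Submodule.mem_inf.mpr
      ⟨LinearMap.mem_ker.mpr (hβU y hy), LinearMap.mem_ker.mpr (hβ₂U y hy)⟩
  have F1 : ∀ x y, f' x y = f x y + c₀ * (β x * β₂ y - β₂ x * β y) := by
    intro x y
    simp only [hf', LinearMap.add_apply, LinearMap.smul_apply, wedge_apply, smul_eq_mul]
  have F2 : ∀ x ∈ U, f' x = f x := by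
    intro x hx
    apply LinearMap.ext
    intro y
    rw [F1, hβU x hx, hβ₂U x hx]
    ring
  have F3 : ∀ z ∈ P, f' z = c₀ • wedge β β₂ z := by
    intro z hz
    apply LinearMap.ext
    intro y
    rw [F1, hB.killK' (hPK hz) y, LinearMap.smul_apply, wedge_apply, smul_eq_mul, zero_add]
  have F4 : ∀ z ∈ P, In G z (f' z) := by
    intro z hz
    rw [F3 z hz]
    rw [hP] at hz
    exact wedge_mem h1 h2 hβk hβ₂b c₀ hz
  have F5 : ∀ z ∈ P, (∀ y ∈ P, f' z y = 0) → z = 0 := by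
    intro z hz hall
    have e1 : ∀ y ∈ P, wedge β β₂ z y = 0 := by
      intro y hy
      have h3 := hall y hy
      rw [F3 z hz, LinearMap.smul_apply, smul_eq_mul] at h3
      rcases mul_eq_zero.mp h3 with h4 | h4
      · exact absurd h4 hc₀0
      · exact h4
    rw [hP] at hz
    exact wedge_nd h1.1 h2.1 hβk hβ₂b hz (e1 b hbP) (e1 k hkP)
  have alt' : ∀ x, f' x x = 0 := by
    intro x
    rw [F1, hB.alt x]
    ring
  have hf'b : f' b = β := by
    rw [F3 b hbP]
    apply LinearMap.ext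
    intro y
    rw [LinearMap.smul_apply, wedge_apply, smul_eq_mul, h1.1]
    linear_combination (-(β y)) * hc₀b
  refine ⟨U ⊔ P, K ⊓ M, f', ?_, le_sup_left, Submodule.mem_sup_right hbP⟩
  refine ⟨isCompl_sup_inf hB.compl hPM hPK hUM, alt', ?_, ?_, ?_, ?_⟩
  · intro k' hk' x
    obtain ⟨hk'K, hk'M⟩ := Submodule.mem_inf.mp hk'
    rw [hM] at hk'M
    obtain ⟨m1, m2⟩ := Submodule.mem_inf.mp hk'M
    rw [F1, hB.killK k' hk'K x, LinearMap.mem_ker.mp m1, LinearMap.mem_ker.mp m2]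
    ring
  · intro x' hx' hall
    obtain ⟨x, hx, z, hz, rfl⟩ := Submodule.mem_sup.mp hx'
    have hx0 : x = 0 := by
      apply hB.nd x hx
      intro y hy
      have h3 := hall y (Submodule.mem_sup_left hy)
      have e : f' (x + z) y = f x y := by
        simp only [F1, map_add, LinearMap.add_apply, hβU y hy, hβ₂U y hy,
          hB.killK' (hPK hz) y]
        ring
      rw [← e]
      exact h3
    subst hx0
    rw [zero_add] at hall ⊢
    apply F5 z hz
    intro y hy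
    exact hall y (Submodule.mem_sup_right hy)
  · intro x' hx'
    obtain ⟨x, hx, z, hz, rfl⟩ := Submodule.mem_sup.mp hx'
    have e : f' (x + z) = f x + f' z := by rw [map_add, F2 x hx]
    rw [e]
    by_cases hz0 : z = 0
    · subst hz0
      rw [map_zero, add_zero, add_zero]
      exact hB.mem x hx
    · by_cases hx0 : x = 0
      · subst hx0
        rw [map_zero, zero_add, zero_add]
        exact F4 z hz
      · have hb0 : b ≠ 0 := fun h => hβ₂b (by rw [h, map_zero])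
        have h0 : In G (b + x) (f' b + f x) := by
          rw [hf'b, add_comm b x, add_comm β (f x)]
          exact fam x hx hx0
        have hx₀ : ∀ y ∈ P, f' y x = 0 := by
          intro y hy
          rw [F1, hB.killK' (hPK hy) x, hβU x hx, hβ₂U x hx]
          ring
        have h3 := family_spread (P := P) (x₀ := x) (ξ := f x) (z₀ := b) f' alt' F5 F4
          (fun y hy => hB.killK y (hPK hy) x) hx₀ hbP hb0 h0 z hz hz0
        rw [add_comm x z, add_comm (f x) (f' z)]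
        exact h3
  · obtain ⟨x, hx, hx0⟩ := hB.ne
    exact ⟨x, Submodule.mem_sup_left hx, hx0⟩

omit [Finite V] in
theorem SpBlock.exists_mixed (hG : Hyp G) (hB : SpBlock G U K f) {u : V}
    (hu : IsCenter G u) (huU : u ∉ U) :
    ∃ a ∈ U, ∃ b ∈ K, a ≠ 0 ∧ b ≠ 0 ∧ IsCenter G (a + b) := by
  by_contra hcon
  push Not at hcon
  apply huU
  obtain ⟨x₁, hx₁, hx₁0⟩ := hB.ne
  refine hG.min U (hG.gen U ?_) ⟨x₁, hx₁, hB.isCenter hx₁ hx₁0⟩ u hu
  intro v φ hin y hy
  rw [tv_apply hin.1]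
  by_cases hφy : φ y = 0
  · rw [hφy, zero_smul, add_zero]
    exact hy
  · have hy0 : y ≠ 0 := fun h => hφy (by rw [h, map_zero])
    have hφ0 : φ ≠ 0 := fun h => hφy (by rw [h]; rfl)
    by_cases hv0 : v = 0
    · rw [hv0, smul_zero, add_zero]
      exact hy
    · have hvc : IsCenter G v := ⟨hv0, φ, hφ0, hin⟩
      obtain ⟨a, ha, b, hb, hab⟩ := exists_decomp hB.compl v
      by_cases hb0 : b = 0
      · rw [hb0, add_zero] at hab
        rw [hab]
        exact U.add_mem hy (U.smul_mem _ ha)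
      · by_cases ha0 : a = 0
        · rw [ha0, zero_add] at hab
          exfalso
          have hvK : v ∈ K := by
            rw [hab]
            exact hb
          have h3 := (hB.mem y hy).conj_tv hin
          rw [hB.killK v hvK y, zero_smul, sub_zero] at h3
          have hsK : φ y • v ∈ K := K.smul_mem _ hvK
          have hs0 : φ y • v ≠ 0 := smul_ne_zero hφy hv0
          apply hcon y hy (φ y • v) hsK hy0 hs0
          refine ⟨?_, f y, hB.fx_ne_zero hy hy0, h3⟩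
          intro hsum
          apply hy0
          apply eq_zero_of_mem_both hB.compl hy
          have : y = -(φ y • v) := eq_neg_of_add_eq_zero_left hsum
          rw [this]
          exact K.neg_mem hsK
        · exfalso
          rw [hab] at hvc
          exact hcon a ha b hb ha0 hb0 hvc

theorem SpBlock.exists_bigger (hp2 : (2 : ZMod p) ≠ 0) (hG : Hyp G)
    (hd : ∀ v, IsCenter G v → finrank (ZMod p) (PhiSub G v) = 1) (hB : SpBlock G U K f) {u : V}
    (hu : IsCenter G u) (huU : u ∉ U) :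
    ∃ (U' K' : Submodule (ZMod p) V) (f' : LinearMap.BilinForm (ZMod p) V),
      SpBlock G U' K' f' ∧ finrank (ZMod p) U < finrank (ZMod p) U' := by
  obtain ⟨a, ha, b, hb, ha0, hb0, hc⟩ := hB.exists_mixed hG hu huU
  obtain ⟨β, hβ0, hβU, hinb, fam⟩ := hB.K_part hp2 hG hd ha hb hb0 hc
  obtain ⟨w, hw, hβw⟩ := exists_center_not_killed hG hinb hb0 hβ0
  obtain ⟨a', ha', b', hb', rfl⟩ := exists_decomp hB.compl w
  have hβb' : β b' ≠ 0 := by
    rw [map_add, hβU a' ha', zero_add] at hβw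
    exact hβw
  have hb'0 : b' ≠ 0 := fun h => hβb' (by rw [h, map_zero])
  obtain ⟨β₂, hβ₂0, hβ₂U, hinb', -⟩ := hB.K_part hp2 hG hd ha' hb' hb'0 hw
  have hbc : IsCenter G b := ⟨hb0, β, hβ0, hinb⟩
  have hb'c : IsCenter G b' := ⟨hb'0, β₂, hβ₂0, hinb'⟩
  have hβ₂b : β₂ b ≠ 0 := by
    intro h0
    apply hβb'
    refine perp_symm hG hb'c hbc ?_ β hinb
    intro φ hφ
    obtain ⟨c, rfl⟩ := eq_smul_of_finrank_one (hd b' hb'c) hinb' hβ₂0 hφ
    rw [LinearMap.smul_apply, h0, smul_zero]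
  obtain ⟨U', K', f', hB', hUU', hbU'⟩ :=
    hB.extend hb hb' hβU hβ₂U hinb hinb' hβb' hβ₂b (fam ha0)
  refine ⟨U', K', f', hB', Submodule.finrank_lt_finrank_of_lt ?_⟩
  rw [SetLike.lt_iff_le_and_exists]
  exact ⟨hUU', b, hbU', fun hbU => hb0 (eq_zero_of_mem_both hB.compl hbU hb)⟩

/-- a block containing all centres -/
theorem SpBlock.exists_max (hp2 : (2 : ZMod p) ≠ 0) (hG : Hyp G)
    (hd : ∀ v, IsCenter G v → finrank (ZMod p) (PhiSub G v) = 1) (hB : SpBlock G U K f) :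
    ∃ (U' K' : Submodule (ZMod p) V) (f' : LinearMap.BilinForm (ZMod p) V),
      SpBlock G U' K' f' ∧ ∀ u, IsCenter G u → u ∈ U' := by
  obtain ⟨U₁, ⟨K₁, f₁, hB₁⟩, hmax⟩ := Set.exists_max_image
    {U' : Submodule (ZMod p) V | ∃ (K' : Submodule (ZMod p) V)
      (f' : LinearMap.BilinForm (ZMod p) V), SpBlock G U' K' f'}
    (fun U' => finrank (ZMod p) U') (Set.toFinite _) ⟨U, K, f, hB⟩
  refine ⟨U₁, K₁, f₁, hB₁, fun u hu => ?_⟩
  by_contra huU
  obtain ⟨U₂, K₂, f₂, hB₂, hlt⟩ := hB₁.exists_bigger hp2 hG hd hu huU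
  have h5 : finrank (ZMod p) U₂ ≤ finrank (ZMod p) U₁ := hmax U₂ ⟨K₂, f₂, hB₂⟩
  omega

omit [Finite V] in
theorem SpBlock.all_in (hd : ∀ v, IsCenter G v → finrank (ZMod p) (PhiSub G v) = 1)
    (hB : SpBlock G U K f) (hall : ∀ u, IsCenter G u → u ∈ U) {v : V} {φ : Dual (ZMod p) V}
    (hin : In G v φ) (hv : v ≠ 0) (hφ : φ ≠ 0) : v ∈ U ∧ ∃ c : ZMod p, φ = c • f v := by
  have hvc : IsCenter G v := ⟨hv, φ, hφ, hin⟩
  have hvU := hall v hvc
  exact ⟨hvU, eq_smul_of_finrank_one (hd v hvc) (hB.mem v hvU) (hB.fx_ne_zero hvU hv) hin⟩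

end prime

end Cfsg.Agent.Lib.Helper13.MCL
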