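import Cfsg.Agent.Lib.Helper13.MclC

set_option autoImplicit false

/-! The linear case: pre-blocks containing all transvections of a subspace. -/

namespace Cfsg.Agent.Lib.Helper13.MCL

open Module LinearMap

section linalg

variable {F : Type*} [Field F] {V : Type*} [AddCommGroup V] [Module F V]

theorem isCompl_span_ker {b : V} {ξ : Dual F V} (h : ξ b ≠ 0) :
    IsCompl (Submodule.span F {b}) (LinearMap.ker ξ) := by
  constructor
  · rw [Submodule.disjoint_def]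
    intro x hx hx'
    obtain ⟨c, rfl⟩ := Submodule.mem_span_singleton.mp hx
    have h1 : ξ (c • b) = 0 := LinearMap.mem_ker.mp hx'
    rw [map_smul, smul_eq_mul] at h1
    rcases mul_eq_zero.mp h1 with h2 | h2
    · rw [h2, zero_smul]
    · exact absurd h2 h
  · rw [codisjoint_iff, Submodule.eq_top_iff']
    intro x
    have hx : x = (ξ x / ξ b) • b + (x - (ξ x / ξ b) • b) := by abel
    rw [hx]
    apply Submodule.add_mem
    · exact Submodule.mem_sup_left (Submodule.mem_span_singleton.mpr ⟨_, rfl⟩)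
    · apply Submodule.mem_sup_right
      refine LinearMap.mem_ker.mpr ?_
      rw [map_sub, map_smul, smul_eq_mul, div_mul_cancel₀ _ h, sub_self]

theorem exists_vec_sep {U K : Submodule F V} (h : IsCompl U K) {η₀ ζ : Dual F V}
    (hη₀ : ∀ k ∈ K, η₀ k = 0) (hζ : ∀ k ∈ K, ζ k = 0) (hne : ∀ c : F, η₀ ≠ c • ζ) :
    ∃ z ∈ U, η₀ z = 1 ∧ ζ z = 0 := by
  by_contra hcon
  push Not at hcon
  have h1 : ∀ z ∈ U, ζ z = 0 → η₀ z = 0 := by
    intro z hz hζz
    by_contra h2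
    apply hcon ((η₀ z)⁻¹ • z) (U.smul_mem _ hz)
    · rw [map_smul, smul_eq_mul, inv_mul_cancel₀ h2]
    · rw [map_smul, hζz, smul_zero]
  by_cases hz₀ : ∃ z₀ ∈ U, ζ z₀ ≠ 0
  · obtain ⟨z₀, hz₀U, hz₀⟩ := hz₀
    apply hne (η₀ z₀ / ζ z₀)
    apply LinearMap.ext
    intro x
    obtain ⟨a, ha, k, hk, rfl⟩ := exists_decomp h x
    have h2 : η₀ (a - (ζ a / ζ z₀) • z₀) = 0 := by
      apply h1 _ (U.sub_mem ha (U.smul_mem _ hz₀U))
      rw [map_sub, map_smul, smul_eq_mul, div_mul_cancel₀ _ hz₀, sub_self]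
    rw [map_sub, map_smul, smul_eq_mul, sub_eq_zero] at h2
    rw [LinearMap.smul_apply, map_add, map_add, hη₀ k hk, hζ k hk, h2, smul_eq_mul]
    ring
  · push Not at hz₀
    apply hne 0
    rw [zero_smul]
    apply LinearMap.ext
    intro x
    obtain ⟨a, ha, k, hk, rfl⟩ := exists_decomp h x
    rw [map_add, hη₀ k hk, h1 a ha (hz₀ a ha), add_zero]
    rfl

/-- a non-zero space of covectors of `U` stable under all transvections of `U` is everything -/
theorem sl_transitive_dual {U K : Submodule F V} (h : IsCompl U K)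
    (Φ : Submodule F (Dual F V))
    (hΦ : ∀ η ∈ Φ, ∀ z ∈ U, ∀ ζ : Dual F V, (∀ k ∈ K, ζ k = 0) → ζ z = 0 → η - η z • ζ ∈ Φ)
    {η₀ : Dual F V} (hη₀ : η₀ ∈ Φ) (hη₀K : ∀ k ∈ K, η₀ k = 0) (hne : η₀ ≠ 0) :
    ∀ ζ : Dual F V, (∀ k ∈ K, ζ k = 0) → ζ ∈ Φ := by
  intro ζ hζ
  by_cases hc : ∃ c : F, ζ = c • η₀
  · obtain ⟨c, rfl⟩ := hc
    exact Φ.smul_mem c hη₀
  · push Not at hc
    have hsep : ∀ c : F, η₀ ≠ c • ζ := by
      intro c hcz
      by_cases hc0 : c = 0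
      · rw [hc0, zero_smul] at hcz
        exact hne hcz
      · apply hc c⁻¹
        rw [hcz, smul_smul, inv_mul_cancel₀ hc0, one_smul]
    obtain ⟨z, hz, hz1, hz2⟩ := exists_vec_sep h hη₀K hζ hsep
    have h1 := hΦ η₀ hη₀ z hz ζ hζ hz2
    rw [hz1, one_smul] at h1
    have : ζ = η₀ - (η₀ - ζ) := by abel
    rw [this]
    exact Φ.sub_mem hη₀ h1

theorem exists_cov_kill_two [FiniteDimensional F V] {U K : Submodule F V} (h : IsCompl U K)
    (h3 : 3 ≤ finrank F U) (y a : V) :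
    ∃ η : Dual F V, η ≠ 0 ∧ (∀ k ∈ K, η k = 0) ∧ η y = 0 ∧ η a = 0 := by
  classical
  have hdim := Submodule.finrank_add_eq_of_isCompl h
  have h2 : finrank F (Submodule.span F ({y, a} : Set V)) ≤ 2 := by
    have h' := finrank_span_finset_le_card (R := F) ({y, a} : Finset V)
    rw [Finset.coe_pair] at h'
    exact h'.trans Finset.card_le_two
  have hlt : K ⊔ Submodule.span F ({y, a} : Set V) < ⊤ := by
    apply Submodule.lt_top_of_finrank_lt_finrank
    have := Submodule.finrank_add_le_finrank_add_finrank K (Submodule.span F ({y, a} : Set V))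
    omega
  obtain ⟨η, hη0, hη⟩ := Submodule.exists_le_ker_of_lt_top _ hlt
  refine ⟨η, hη0, fun k hk => ?_, ?_, ?_⟩
  · exact LinearMap.mem_ker.mp (hη (Submodule.mem_sup_left hk))
  · exact LinearMap.mem_ker.mp
      (hη (Submodule.mem_sup_right (Submodule.subset_span (by simp))))
  · exact LinearMap.mem_ker.mp
      (hη (Submodule.mem_sup_right (Submodule.subset_span (by simp))))

theorem exists_vec_kill_two [FiniteDimensional F V] {U : Submodule F V} (h3 : 3 ≤ finrank F U)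
    (η χ : Dual F V) : ∃ y ∈ U, y ≠ 0 ∧ η y = 0 ∧ χ y = 0 := by
  obtain ⟨g, hg⟩ : ∃ g : U →ₗ[F] F × F, ∀ y : U, g y = (η y, χ y) :=
    ⟨(η.domRestrict U).prod (χ.domRestrict U), fun y => rfl⟩
  have hker : LinearMap.ker g ≠ ⊥ := by
    apply LinearMap.ker_ne_bot_of_finrank_lt
    rw [Module.finrank_prod, Module.finrank_self]
    omega
  obtain ⟨y, hy, hy0⟩ := Submodule.exists_mem_ne_zero_of_ne_bot hker
  have h1 := LinearMap.mem_ker.mp hy
  rw [hg] at h1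
  refine ⟨y, y.2, fun h => hy0 (Subtype.ext h), ?_, ?_⟩
  · exact congrArg Prod.fst h1
  · exact congrArg Prod.snd h1

end linalg

section prime

variable {p : ℕ} [Fact p.Prime] {V : Type*} [AddCommGroup V] [Module (ZMod p) V]
variable {G : Subgroup (V ≃ₗ[ZMod p] V)}

/-- a pre-block: `G` contains every transvection of `U` extended trivially to `K` -/
def PreBlock (G : Subgroup (V ≃ₗ[ZMod p] V)) (U K : Submodule (ZMod p) V) : Prop :=
  IsCompl U K ∧ ∀ x ∈ U, ∀ η : Dual (ZMod p) V, (∀ k ∈ K, η k = 0) → η x = 0 → In G x η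

theorem preBlock_init {v w : V} {φ ψ : Dual (ZMod p) V} (h1 : In G v φ) (h2 : In G w ψ)
    (hφw : φ w ≠ 0) (hψv : ψ v ≠ 0) :
    PreBlock G (Submodule.span (ZMod p) {v, w}) (LinearMap.ker φ ⊓ LinearMap.ker ψ) := by
  refine ⟨hyp_isCompl h1.1 h2.1 hφw hψv, fun x hx η hη hηx => ?_⟩
  have e := cov_eq_of_kills h1.1 h2.1 hφw hψv η (fun k hk1 hk2 => hη k
    (Submodule.mem_inf.mpr ⟨LinearMap.mem_ker.mpr hk1, LinearMap.mem_ker.mpr hk2⟩))
  obtain ⟨α, β, hαβ⟩ : ∃ α β : ZMod p, η = α • φ + β • ψ := ⟨_, _, e⟩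
  subst hαβ
  obtain ⟨a, b, rfl⟩ := Submodule.mem_span_pair.mp hx
  exact In.hyp_pair h1 h2 hφw hψv a b α β hηx

/-- the set of vectors of `K` which are centres for every covector vanishing on `K` -/
def XSub (G : Subgroup (V ≃ₗ[ZMod p] V)) (K : Submodule (ZMod p) V) : Submodule (ZMod p) V where
  carrier := {b | b ∈ K ∧ ∀ η : Dual (ZMod p) V, (∀ k ∈ K, η k = 0) → In G b η}
  add_mem' := fun h1 h2 =>
    ⟨K.add_mem h1.1 h2.1, fun η hη => (h1.2 η hη).add_left (h2.2 η hη)⟩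
  zero_mem' := ⟨K.zero_mem, fun η _ => In.zero_left η⟩
  smul_mem' := fun c _ h => ⟨K.smul_mem c h.1, fun η hη => (h.2 η hη).smul_left c⟩

variable {U K : Submodule (ZMod p) V}

theorem PreBlock.extend (hB : PreBlock G U K) {b : V} {ξ : Dual (ZMod p) V} (hb : b ∈ K)
    (hbX : ∀ η : Dual (ZMod p) V, (∀ k ∈ K, η k = 0) → In G b η)
    (hξU : ∀ y ∈ U, ξ y = 0) (hξ : ∀ y ∈ U, In G y ξ) (hξb : ξ b ≠ 0) :
    PreBlock G (U ⊔ Submodule.span (ZMod p) {b}) (K ⊓ LinearMap.ker ξ) := by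
  have hPK : Submodule.span (ZMod p) {b} ≤ K := by
    rw [Submodule.span_le]
    intro x hx
    rw [Set.mem_singleton_iff.mp hx]
    exact hb
  have hUM : U ≤ LinearMap.ker ξ := fun y hy => LinearMap.mem_ker.mpr (hξU y hy)
  refine ⟨isCompl_sup_inf hB.1 (isCompl_span_ker hξb) hPK hUM, ?_⟩
  intro x' hx' η' hη' hη'x'
  obtain ⟨y, hy, z, hz, rfl⟩ := Submodule.mem_sup.mp hx'
  obtain ⟨c, rfl⟩ := Submodule.mem_span_singleton.mp hz
  obtain ⟨e, he⟩ : ∃ e : ZMod p, e = η' b / ξ b := ⟨_, rfl⟩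
  obtain ⟨η, hηdef⟩ : ∃ η : Dual (ZMod p) V, η = η' - e • ξ := ⟨_, rfl⟩
  have hηb : η b = 0 := by
    rw [hηdef, LinearMap.sub_apply, LinearMap.smul_apply, smul_eq_mul, he,
      div_mul_cancel₀ _ hξb, sub_self]
  have hηK : ∀ k ∈ K, η k = 0 := by
    intro k hk
    have hξk' : ξ (k - (ξ k / ξ b) • b) = 0 := by
      rw [map_sub, map_smul, smul_eq_mul, div_mul_cancel₀ _ hξb, sub_self]
    have hk' : k - (ξ k / ξ b) • b ∈ K ⊓ LinearMap.ker ξ :=
      Submodule.mem_inf.mpr ⟨K.sub_mem hk (K.smul_mem _ hb), LinearMap.mem_ker.mpr hξk'⟩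
    have h1 : η (k - (ξ k / ξ b) • b) = 0 := by
      rw [hηdef, LinearMap.sub_apply, hη' _ hk', LinearMap.smul_apply, hξk', smul_zero,
        sub_zero]
    rw [map_sub, map_smul, hηb, smul_zero, sub_zero] at h1
    exact h1
  have hη'eq : η' = η + e • ξ := by
    rw [hηdef]
    abel
  have hcond : η y + e * c * ξ b = 0 := by
    have h1 := hη'x'
    rw [hη'eq] at h1
    simp only [LinearMap.add_apply, LinearMap.smul_apply, map_add, map_smul, smul_eq_mul, hηb,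
      hξU y hy, mul_zero, add_zero, zero_add] at h1
    linear_combination h1
  rw [hη'eq]
  by_cases hc : c = 0
  · subst hc
    rw [zero_smul, add_zero]
    have hηy : η y = 0 := by linear_combination hcond
    exact (hB.2 y hy η hηK hηy).add_right ((hξ y hy).smul_right e)
  · have hcξ : c * ξ b ≠ 0 := mul_ne_zero hc hξb
    have h1 : In G (c • b) η := (hbX η hηK).smul_left c
    have h2 : In G y ((c * ξ b)⁻¹ • ξ) := (hξ y hy).smul_right _
    have h3 := h1.conj_tv h2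
    have e0 : ((c * ξ b)⁻¹ • ξ) (c • b) = 1 := by
      rw [LinearMap.smul_apply, map_smul, smul_eq_mul, smul_eq_mul, inv_mul_cancel₀ hcξ]
    have e1 : c • b + ((c * ξ b)⁻¹ • ξ) (c • b) • y = y + c • b := by
      rw [e0, one_smul, add_comm]
    have e2 : η - η y • ((c * ξ b)⁻¹ • ξ) = η + e • ξ := by
      have he' : e = -(η y) * (c * ξ b)⁻¹ := by
        rw [eq_mul_inv_iff_mul_eq₀ hcξ]
        linear_combination hcond
      rw [he', smul_smul]
      module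
    rw [e1, e2] at h3
    exact h3

variable [Finite V]

theorem exists_preBlock_three (hG : Hyp G)
    (hd2 : ∀ v, IsCenter G v → 2 ≤ finrank (ZMod p) (PhiSub G v)) {v₀ : V}
    (hv₀ : IsCenter G v₀) :
    ∃ U K : Submodule (ZMod p) V, PreBlock G U K ∧ 3 ≤ finrank (ZMod p) U := by
  obtain ⟨w, φ, ψ, h1, h2, hφw, hψv⟩ := exists_partner hG hv₀
  have hv0 : v₀ ≠ 0 := hv₀.1
  obtain ⟨φ₂, hφ₂, hφ₂ne⟩ := exists_not_smul_of_finrank (PhiSub G v₀) (hd2 v₀ hv₀) φ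
  have hφ₂' : In G v₀ φ₂ := hφ₂
  obtain ⟨ψ', hψ'def⟩ : ∃ ψ' : Dual (ZMod p) V, ψ' = φ₂ - (φ₂ w / φ w) • φ := ⟨_, rfl⟩
  have hψ'0 : ψ' ≠ 0 := by
    intro h0
    apply hφ₂ne (φ₂ w / φ w)
    rw [hψ'def, sub_eq_zero] at h0
    exact h0
  have hψ'v : In G v₀ ψ' := by
    rw [hψ'def]
    exact In.sub_right hφ₂' (h1.smul_right _)
  have hψ'w0 : ψ' w = 0 := by
    rw [hψ'def, LinearMap.sub_apply, LinearMap.smul_apply, smul_eq_mul, div_mul_cancel₀ _ hφw,
      sub_self]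
  have hψ'w : In G w ψ' := (h2.comm hψ'v hψ'w0).of_smul_right hψv
  obtain ⟨L, hL⟩ : ∃ L : Submodule (ZMod p) V, L = Submodule.span (ZMod p) {v₀, w} := ⟨_, rfl⟩
  obtain ⟨K₀, hK₀⟩ : ∃ K₀ : Submodule (ZMod p) V, K₀ = LinearMap.ker φ ⊓ LinearMap.ker ψ :=
    ⟨_, rfl⟩
  have hB : PreBlock G L K₀ := by
    rw [hL, hK₀]
    exact preBlock_init h1 h2 hφw hψv
  have hvL : v₀ ∈ L := by
    rw [hL]
    exact Submodule.subset_span (by simp)
  have hwL : w ∈ L := by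
    rw [hL]
    exact Submodule.subset_span (by simp)
  have hψ'L : ∀ y ∈ L, ψ' y = 0 := by
    intro y hy
    rw [hL] at hy
    obtain ⟨a, b, rfl⟩ := Submodule.mem_span_pair.mp hy
    rw [map_add, map_smul, map_smul, hψ'v.1, hψ'w0, smul_zero, smul_zero, add_zero]
  have hψ'in : ∀ y ∈ L, In G y ψ' := by
    intro y hy
    rw [hL] at hy
    obtain ⟨a, b, rfl⟩ := Submodule.mem_span_pair.mp hy
    exact (hψ'v.smul_left a).add_left (hψ'w.smul_left b)
  obtain ⟨k₁, hk₁, hψ'k₁⟩ := exists_center_not_killed hG hψ'v hv0 hψ'0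
  obtain ⟨a₁, ha₁, b₁, hb₁, hk₁eq⟩ := exists_decomp hB.1 k₁
  have hψ'b₁ : ψ' b₁ ≠ 0 := by
    rw [hk₁eq, map_add, hψ'L a₁ ha₁, zero_add] at hψ'k₁
    exact hψ'k₁
  have hxin : In G ((-(ψ' k₁)⁻¹) • a₁) ψ' := hψ'in _ (L.smul_mem _ ha₁)
  have hkc : IsCenter G b₁ := by
    have h3 := hk₁.map hxin.2
    rw [tv_apply hxin.1, smul_smul] at h3
    have : k₁ + (ψ' k₁ * -(ψ' k₁)⁻¹) • a₁ = b₁ := by
      rw [mul_neg, mul_inv_cancel₀ hψ'k₁, neg_one_smul, hk₁eq]
      abel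
    rwa [this] at h3
  have hb₁0 : b₁ ≠ 0 := hkc.1
  have hex : ∃ χ'' : Dual (ZMod p) V, In G b₁ χ'' ∧ χ'' v₀ ≠ 0 := by
    by_contra hcon
    push Not at hcon
    exact hψ'b₁ (perp_symm hG hkc hv₀ hcon ψ' hψ'v)
  obtain ⟨χ'', hχ'', hχ''v⟩ := hex
  have hb₁' : b₁ ∈ LinearMap.ker φ ⊓ LinearMap.ker ψ := by
    rw [← hK₀]
    exact hb₁
  have hb₁φ : φ b₁ = 0 := LinearMap.mem_ker.mp (Submodule.mem_inf.mp hb₁').1
  have hb₁ψ : ψ b₁ = 0 := LinearMap.mem_ker.mp (Submodule.mem_inf.mp hb₁').2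
  have hinφ : In G b₁ φ := (hχ''.comm h1 hb₁φ).of_smul_right hχ''v
  have hinψ : In G b₁ ψ := by
    by_cases hχw : χ'' w = 0
    · have hηK : ∀ k ∈ K₀, (ψ v₀ • φ - φ w • ψ) k = 0 := by
        intro k hk
        rw [hK₀] at hk
        rw [LinearMap.sub_apply, LinearMap.smul_apply, LinearMap.smul_apply,
          LinearMap.mem_ker.mp (Submodule.mem_inf.mp hk).1,
          LinearMap.mem_ker.mp (Submodule.mem_inf.mp hk).2, smul_zero, smul_zero, sub_zero]
      have hηy : (ψ v₀ • φ - φ w • ψ) (v₀ + w) = 0 := by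
        simp only [LinearMap.sub_apply, LinearMap.smul_apply, map_add, smul_eq_mul, h1.1, h2.1]
        ring
      have h5 : In G (v₀ + w) (ψ v₀ • φ - φ w • ψ) :=
        hB.2 (v₀ + w) (L.add_mem hvL hwL) _ hηK hηy
      have h6 := hχ''.comm h5 (hηK b₁ hb₁)
      have hne : χ'' (v₀ + w) ≠ 0 := by
        rw [map_add, hχw, add_zero]
        exact hχ''v
      have h7 := h6.of_smul_right hne
      have h8 := (hinφ.smul_right (ψ v₀)).sub_right h7
      rw [sub_sub_cancel] at h8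
      exact h8.of_smul_right hφw
    · exact (hχ''.comm h2 hb₁ψ).of_smul_right hχw
  have hbX : ∀ η : Dual (ZMod p) V, (∀ k ∈ K₀, η k = 0) → In G b₁ η := by
    intro η hη
    have e := cov_eq_of_kills h1.1 h2.1 hφw hψv η (fun k hk1 hk2 => hη k (by
      rw [hK₀]
      exact Submodule.mem_inf.mpr ⟨LinearMap.mem_ker.mpr hk1, LinearMap.mem_ker.mpr hk2⟩))
    rw [e]
    exact (hinφ.smul_right _).add_right (hinψ.smul_right _)
  have hB3 := hB.extend hb₁ hbX hψ'L hψ'in hψ'b₁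
  refine ⟨_, _, hB3, ?_⟩
  have f1 : finrank (ZMod p) (Submodule.span (ZMod p) {v₀}) = 1 := finrank_span_singleton hv0
  have f2 : finrank (ZMod p) (Submodule.span (ZMod p) {v₀}) < finrank (ZMod p) L := by
    apply Submodule.finrank_lt_finrank_of_lt
    rw [SetLike.lt_iff_le_and_exists]
    refine ⟨?_, w, hwL, ?_⟩
    · rw [Submodule.span_le]
      intro x hx
      rw [Set.mem_singleton_iff.mp hx]
      exact hvL
    · intro hw
      obtain ⟨c, hc⟩ := Submodule.mem_span_singleton.mp hw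
      apply hφw
      rw [← hc, map_smul, h1.1, smul_zero]
  have f3 : finrank (ZMod p) L <
      finrank (ZMod p) ↥(L ⊔ Submodule.span (ZMod p) {b₁}) := by
    apply Submodule.finrank_lt_finrank_of_lt
    rw [SetLike.lt_iff_le_and_exists]
    refine ⟨le_sup_left, b₁,
      Submodule.mem_sup_right (Submodule.mem_span_singleton_self b₁), ?_⟩
    intro hbL
    exact hb₁0 (eq_zero_of_mem_both hB.1 hbL hb₁)
  omega

omit [Finite V] in
theorem PreBlock.lemA [Module.Finite (ZMod p) V] (hB : PreBlock G U K)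
    (h3 : 3 ≤ finrank (ZMod p) U) {a b : V}
    {χ : Dual (ZMod p) V} (ha : a ∈ U) (hb : b ∈ K) (hin : In G (a + b) χ) {y : V} (hy : y ∈ U)
    (hχy : χ y ≠ 0) : ∀ η : Dual (ZMod p) V, (∀ k ∈ K, η k = 0) → In G b η := by
  obtain ⟨η₀, hη₀0, hη₀K, hη₀y, hη₀a⟩ := exists_cov_kill_two hB.1 h3 y a
  have hyη₀ : In G y η₀ := hB.2 y hy η₀ hη₀K hη₀y
  have hη₀u : η₀ (a + b) = 0 := by rw [map_add, hη₀a, hη₀K b hb, add_zero]
  have h1 : In G (a + b) η₀ := (hin.comm hyη₀ hη₀u).of_smul_right hχy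
  have h2 : In G a η₀ := hB.2 a ha η₀ hη₀K hη₀a
  have h4 : In G b η₀ := by
    have := h1.sub_left h2
    rwa [add_sub_cancel_left] at this
  intro ζ hζ
  refine sl_transitive_dual hB.1 (PhiSub G b) ?_ h4 hη₀K hη₀0 ζ hζ
  intro η hη z hz ζ' hζ' hζ'z
  have hη' : In G b η := hη
  have h5 : In G z ζ' := hB.2 z hz ζ' hζ' hζ'z
  have h6 := hη'.conj_tv h5
  rw [hζ' b hb, zero_smul, add_zero] at h6
  exact h6

omit [Finite V] in
theorem PreBlock.lemB [Module.Finite (ZMod p) V] (hB : PreBlock G U K)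
    (h3 : 3 ≤ finrank (ZMod p) U) {a b : V}
    {χ χU χK : Dual (ZMod p) V} (ha : a ∈ U) (ha0 : a ≠ 0) (hb : b ∈ K) (hin : In G (a + b) χ)
    (hχ : χ = χU + χK) (hχU : ∀ k ∈ K, χU k = 0) (hχK : ∀ y ∈ U, χK y = 0) :
    ∀ y ∈ U, In G y χK := by
  obtain ⟨η, hηK, hηa⟩ : ∃ η : Dual (ZMod p) V, (∀ k ∈ K, η k = 0) ∧ η a ≠ 0 := by
    have hnot : a ∉ K := fun h => ha0 (eq_zero_of_mem_both hB.1 ha h)
    obtain ⟨f, hfa, hf⟩ := Submodule.exists_le_ker_of_notMem hnot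
    exact ⟨f, fun k hk => LinearMap.mem_ker.mp (hf hk), hfa⟩
  obtain ⟨y₀, hy₀U, hy₀0, hηy₀, hχy₀⟩ := exists_vec_kill_two h3 η χ
  have h1 : In G y₀ η := hB.2 y₀ hy₀U η hηK hηy₀
  have hηu : η (a + b) ≠ 0 := by
    rw [map_add, hηK b hb, add_zero]
    exact hηa
  have h2 : In G y₀ χ := (h1.comm hin hχy₀).of_smul_right hηu
  have hχUy₀ : χU y₀ = 0 := by
    have h5 := hχy₀
    rw [hχ, LinearMap.add_apply, hχK y₀ hy₀U, add_zero] at h5
    exact h5
  have h3' : In G y₀ χU := hB.2 y₀ hy₀U χU hχU hχUy₀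
  have h4 : In G y₀ χK := by
    have h5 := h2.sub_right h3'
    rwa [hχ, add_sub_cancel_left] at h5
  have hle : U ≤ CenSub G χK := by
    refine sl_transitive hB.1 (CenSub G χK) ?_ h4 hy₀U hy₀0
    intro y hy z hz η' hη' hη'z
    have hy' : In G y χK := hy
    have h5 := hB.2 z hz η' hη' hη'z
    have h6 := hy'.conj_tv h5
    rw [hχK z hz, zero_smul, sub_zero] at h6
    exact h6
  intro y hy
  exact hle hy

/-- a maximal pre-block of dimension at least three carries all the transvections of `G` -/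
theorem PreBlock.final (hG : Hyp G) (hB : PreBlock G U K) (h3 : 3 ≤ finrank (ZMod p) U)
    (hmax : ∀ U' K' : Submodule (ZMod p) V, PreBlock G U' K' →
      finrank (ZMod p) U' ≤ finrank (ZMod p) U) :
    ∀ (v : V) (φ : Dual (ZMod p) V), In G v φ → v ≠ 0 → φ ≠ 0 → v ∈ U ∧ ∀ k ∈ K, φ k = 0 := by
  have P2 : ∀ (a b : V) (χ χU χK : Dual (ZMod p) V), a ∈ U → a ≠ 0 → b ∈ K → In G (a + b) χ →
      χ = χU + χK → (∀ k ∈ K, χU k = 0) → (∀ y ∈ U, χK y = 0) →
      ∀ x ∈ XSub G K, χK x = 0 := by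
    intro a b χ χU χK ha ha0 hb hin hχ hχU hχK x hx
    have hΞ := hB.lemB h3 ha ha0 hb hin hχ hχU hχK
    by_contra hne
    have hB' := hB.extend hx.1 hx.2 hχK hΞ hne
    have hlt : finrank (ZMod p) U <
        finrank (ZMod p) ↥(U ⊔ Submodule.span (ZMod p) {x}) := by
      apply Submodule.finrank_lt_finrank_of_lt
      rw [SetLike.lt_iff_le_and_exists]
      refine ⟨le_sup_left, x,
        Submodule.mem_sup_right (Submodule.mem_span_singleton_self x), ?_⟩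
      intro hxU
      apply hne
      rw [eq_zero_of_mem_both hB.1 hxU hx.1, map_zero]
    have := hmax _ _ hB'
    omega
  have CI : ∀ (u : V) (χ : Dual (ZMod p) V), In G u χ → ∀ x ∈ XSub G K, χ x ≠ 0 →
      u ∈ XSub G K := by
    intro u χ hin x hx hχx
    obtain ⟨a, ha, b, hb, rfl⟩ := exists_decomp hB.1 u
    obtain ⟨χU, χK, hχ, hχU, hχK, -, -⟩ := exists_split_cov hB.1 χ
    have ha0 : a = 0 := by
      by_contra ha0
      apply hχx
      have h5 := P2 a b χ χU χK ha ha0 hb hin hχ hχU hχK x hx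
      rw [hχ, LinearMap.add_apply, hχU x hx.1, h5, add_zero]
    subst ha0
    rw [zero_add] at hin ⊢
    refine ⟨hb, fun η hη => ?_⟩
    have h1 : In G x η := hx.2 η hη
    have h2 := h1.conj_tv hin
    rw [hη b hb, zero_smul, sub_zero] at h2
    have h4 := h2.sub_left h1
    rw [add_sub_cancel_left] at h4
    exact h4.of_smul_left hχx
  have hinvX : Inv G (XSub G K) := by
    apply hG.gen
    intro v φ hin y hy
    rw [tv_apply hin.1]
    by_cases hφy : φ y = 0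
    · rw [hφy, zero_smul, add_zero]
      exact hy
    · exact (XSub G K).add_mem hy ((XSub G K).smul_mem _ (CI v φ hin y hy hφy))
  have hU0 : ∃ y₁ ∈ U, y₁ ≠ 0 := by
    have hne : U ≠ ⊥ := by
      intro h
      rw [h, finrank_bot] at h3
      omega
    exact Submodule.exists_mem_ne_zero_of_ne_bot hne
  obtain ⟨y₁, hy₁U, hy₁0⟩ := hU0
  have hX0 : ∀ x ∈ XSub G K, x = 0 := by
    intro x hx
    have hnot : y₁ ∉ K := fun h => hy₁0 (eq_zero_of_mem_both hB.1 hy₁U h)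
    obtain ⟨η₁, hη₁y, hη₁⟩ := Submodule.exists_le_ker_of_notMem hnot
    have hη₁K : ∀ k ∈ K, η₁ k = 0 := fun k hk => LinearMap.mem_ker.mp (hη₁ hk)
    rcases hG.noP _ hinvX x η₁ (hx.2 η₁ hη₁K) hx (fun y hy => hη₁K y hy.1) with h | h
    · exact h
    · exfalso
      apply hη₁y
      rw [h]
      rfl
  have hinvU : Inv G U := by
    apply hG.gen
    intro u χ hin y hy
    rw [tv_apply hin.1]
    by_cases hχy : χ y = 0
    · rw [hχy, zero_smul, add_zero]
      exact hy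
    · obtain ⟨a, ha, b, hb, rfl⟩ := exists_decomp hB.1 u
      have hbX : b ∈ XSub G K := ⟨hb, hB.lemA h3 ha hb hin hy hχy⟩
      rw [hX0 b hbX, add_zero]
      exact U.add_mem hy (U.smul_mem _ ha)
  have hy₁c : IsCenter G y₁ := by
    obtain ⟨η, hη0, hηK, hηy, -⟩ := exists_cov_kill_two hB.1 h3 y₁ y₁
    exact ⟨hy₁0, η, hη0, hB.2 y₁ hy₁U η hηK hηy⟩
  intro v φ hin hv hφ
  have hvU : v ∈ U := hG.min U hinvU ⟨y₁, hy₁U, hy₁c⟩ v ⟨hv, φ, hφ, hin⟩
  refine ⟨hvU, ?_⟩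
  obtain ⟨φU, φK, hφeq, hφU, hφK, -, -⟩ := exists_split_cov hB.1 φ
  have hin' : In G (v + 0) φ := by
    rw [add_zero]
    exact hin
  have hΞ := hB.lemB h3 hvU hv K.zero_mem hin' hφeq hφU hφK
  have hφK0 : φK = 0 := by
    rcases hG.noP U hinvU y₁ φK (hΞ y₁ hy₁U) hy₁U hφK with h | h
    · exact absurd h hy₁0
    · exact h
  intro k hk
  rw [hφeq, hφK0, add_zero]
  exact hφU k hk

/-- the linear case of the classification -/
theorem sl_case (hG : Hyp G) (hd2 : ∀ v, IsCenter G v → 2 ≤ finrank (ZMod p) (PhiSub G v))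
    {v₀ : V} (hv₀ : IsCenter G v₀) :
    ∃ U K : Submodule (ZMod p) V, PreBlock G U K ∧ 3 ≤ finrank (ZMod p) U ∧
      ∀ (v : V) (φ : Dual (ZMod p) V), In G v φ → v ≠ 0 → φ ≠ 0 →
        v ∈ U ∧ ∀ k ∈ K, φ k = 0 := by
  obtain ⟨U₀, K₀, hB₀, h₀⟩ := exists_preBlock_three hG hd2 hv₀
  obtain ⟨U₁, ⟨K₁, hB₁, h₁⟩, hmax⟩ := Set.exists_max_image
    {U' : Submodule (ZMod p) V | ∃ K' : Submodule (ZMod p) V,
      PreBlock G U' K' ∧ 3 ≤ finrank (ZMod p) U'}
    (fun U' => finrank (ZMod p) U') (Set.toFinite _) ⟨U₀, K₀, hB₀, h₀⟩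
  refine ⟨U₁, K₁, hB₁, h₁, hB₁.final hG h₁ ?_⟩
  intro U' K' hB'
  by_cases h : 3 ≤ finrank (ZMod p) U'
  · exact hmax U' ⟨K', hB', h⟩
  · omega

end prime

end Cfsg.Agent.Lib.Helper13.MCL
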