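import Cfsg.Agent.Lib.Helper13.MclD

set_option autoImplicit false

/-! The classification of the groups satisfying `Hyp`. -/

namespace Cfsg.Agent.Lib.Helper13.MCL

open Module LinearMap

section prime

variable {p : ℕ} [Fact p.Prime] {V : Type*} [AddCommGroup V] [Module (ZMod p) V] [Finite V]
variable {G : Subgroup (V ≃ₗ[ZMod p] V)}

/-- the conclusion of the classification for a group satisfying `Hyp` -/
structure Concl (G : Subgroup (V ≃ₗ[ZMod p] V)) (U K : Submodule (ZMod p) V) : Prop where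
  compl : IsCompl U K
  all : ∀ (v : V) (φ : Dual (ZMod p) V), In G v φ → v ≠ 0 → φ ≠ 0 → v ∈ U ∧ ∀ k ∈ K, φ k = 0
  cen : ∀ x ∈ U, x ≠ 0 → IsCenter G x
  sep : ∀ u ∈ U, u ≠ 0 → ∃ (x : V) (η : Dual (ZMod p) V), In G x η ∧ x ≠ 0 ∧ η u ≠ 0
  typ : (∀ x ∈ U, ∀ η : Dual (ZMod p) V, (∀ k ∈ K, η k = 0) → η x = 0 → In G x η) ∨
    ∃ f : LinearMap.BilinForm (ZMod p) V, SpBlock G U K f ∧
      ∀ (v : V) (φ : Dual (ZMod p) V), In G v φ → v ≠ 0 → φ ≠ 0 → ∃ c : ZMod p, φ = c • f v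

theorem theoremB (hp2 : (2 : ZMod p) ≠ 0) (hG : Hyp G) {v₀ : V} (hv₀ : IsCenter G v₀) :
    ∃ U K : Submodule (ZMod p) V, Concl G U K := by
  by_cases hd1 : finrank (ZMod p) (PhiSub G v₀) = 1
  · have hd : ∀ v, IsCenter G v → finrank (ZMod p) (PhiSub G v) = 1 := by
      intro v hv
      rw [finrank_phiSub_eq hG hv hv₀]
      exact hd1
    obtain ⟨w, φ, ψ, h1, h2, hφw, hψv⟩ := exists_partner hG hv₀
    obtain ⟨U, K, f, hB, hall⟩ := (SpBlock.init h1 h2 hφw hψv).exists_max hp2 hG hd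
    refine ⟨U, K, hB.compl, ?_, fun x hx hx0 => hB.isCenter hx hx0, ?_, Or.inr ⟨f, hB, ?_⟩⟩
    · intro v φ' hin hv hφ'
      obtain ⟨hvU, c, hc⟩ := hB.all_in hd hall hin hv hφ'
      refine ⟨hvU, fun k hk => ?_⟩
      rw [hc, LinearMap.smul_apply, hB.killK k hk v, smul_zero]
    · intro u hu hu0
      have hex : ∃ x ∈ U, f u x ≠ 0 := by
        by_contra hcon
        push Not at hcon
        exact hu0 (hB.nd u hu hcon)
      obtain ⟨x, hx, hux⟩ := hex
      have hxu : f x u ≠ 0 := by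
        rw [alt_swap f hB.alt x u]
        exact neg_ne_zero.mpr hux
      refine ⟨x, f x, hB.mem x hx, ?_, hxu⟩
      intro h0
      apply hux
      rw [h0, map_zero]
    · intro v φ' hin hv hφ'
      exact (hB.all_in hd hall hin hv hφ').2
  · have hpos : 0 < finrank (ZMod p) (PhiSub G v₀) := by
      obtain ⟨-, φ, hφ, hin⟩ := id hv₀
      exact Module.finrank_pos_iff_exists_ne_zero.mpr
        ⟨⟨φ, hin⟩, fun h => hφ (congrArg Subtype.val h)⟩
    have hd2 : ∀ v, IsCenter G v → 2 ≤ finrank (ZMod p) (PhiSub G v) := by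
      intro v hv
      rw [finrank_phiSub_eq hG hv hv₀]
      omega
    obtain ⟨U, K, hB, h3, hall⟩ := sl_case hG hd2 hv₀
    refine ⟨U, K, hB.1, hall, ?_, ?_, Or.inl hB.2⟩
    · intro x hx hx0
      obtain ⟨η, hη0, hηK, hηx, -⟩ := exists_cov_kill_two hB.1 h3 x x
      exact ⟨hx0, η, hη0, hB.2 x hx η hηK hηx⟩
    · intro u hu hu0
      have hnot : u ∉ K := fun h => hu0 (eq_zero_of_mem_both hB.1 hu h)
      obtain ⟨η, hηu, hη⟩ := Submodule.exists_le_ker_of_notMem hnot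
      have hηK : ∀ k ∈ K, η k = 0 := fun k hk => LinearMap.mem_ker.mp (hη hk)
      obtain ⟨x, hxU, hx0, hηx, -⟩ := exists_vec_kill_two h3 η η
      exact ⟨x, η, hB.2 x hxU η hηK hηx, hx0, hηu⟩

end prime

end Cfsg.Agent.Lib.Helper13.MCL
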