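import Cfsg.Agent.Lib.Helper13.MclB
import Cfsg.Agent.Lib.Helper13.AltRank
import Cfsg.Agent.Lib.Helper15.SLNormal
import Cfsg.Agent.Lib.Helper16.SympEmbed
import Cfsg.Agent.S0765

set_option autoImplicit false

/-! Generation of the special linear and symplectic groups of an abstract space by transvections. -/

namespace Cfsg.Agent.Lib.Helper13.MCL

open Module LinearMap

section sl

variable {F : Type*} [Field F] {W : Type*} [AddCommGroup W] [Module F W]

theorem sl_gen_aux (n : ℕ) (b : Basis (Fin n) F W) (g : W ≃ₗ[F] W)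
    (hg : LinearMap.det (g : W →ₗ[F] W) = 1) :
    g ∈ Subgroup.closure {t : W ≃ₗ[F] W | ∃ (x : W) (η : Dual F W), η x = 0 ∧ t = tv x η} := by
  obtain ⟨A, hA⟩ : ∃ A : Matrix (Fin n) (Fin n) F,
      A = LinearMap.toMatrix b b (g : W →ₗ[F] W) := ⟨_, rfl⟩
  have hdet : A.det = 1 := by rw [hA, LinearMap.det_toMatrix b, hg]
  have hAx : ∀ x : W, A.mulVec (b.equivFun x) = b.equivFun (g x) := by
    intro x
    rw [hA]
    exact LinearMap.toMatrix_mulVec_repr b b (g : W →ₗ[F] W) x
  have key : ∀ A' : Matrix.SpecialLinearGroup (Fin n) F,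
      ∃ g' ∈ Subgroup.closure {t : W ≃ₗ[F] W | ∃ (x : W) (η : Dual F W), η x = 0 ∧ t = tv x η},
        ∀ x : W, b.equivFun (g' x) =
          (A' : Matrix (Fin n) (Fin n) F).mulVec (b.equivFun x) := by
    rcases subsingleton_or_nontrivial (Fin n) with hs | hn
    · intro A'
      refine ⟨1, Subgroup.one_mem _, fun x => ?_⟩
      have hA1 : (A' : Matrix (Fin n) (Fin n) F) = 1 := by
        ext i j
        have hij : i = j := Subsingleton.elim i j
        subst hij
        rw [Matrix.one_apply_eq]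
        have h1 := A'.2
        have : Unique (Fin n) := uniqueOfSubsingleton i
        rw [Matrix.det_unique] at h1
        have h2 : (default : Fin n) = i := Subsingleton.elim _ _
        rw [h2] at h1
        exact h1
      rw [hA1, Matrix.one_mulVec]
      rfl
    · intro A'
      refine Cfsg.Agent.Lib.Helper15.SLn_transvection_induction (F := F) (ι := Fin n)
        (fun A' => ∃ g' ∈ Subgroup.closure
          {t : W ≃ₗ[F] W | ∃ (x : W) (η : Dual F W), η x = 0 ∧ t = tv x η},
          ∀ x : W, b.equivFun (g' x) =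
            (A' : Matrix (Fin n) (Fin n) F).mulVec (b.equivFun x)) ?_ ?_ A'
      · intro i j h c
        have hη : (c • b.coord j) (b i) = 0 := by
          simp [Basis.coord_apply, h.symm]
        refine ⟨tv (b i) (c • b.coord j), Subgroup.subset_closure ⟨b i, c • b.coord j, hη, rfl⟩,
          fun x => ?_⟩
        rw [tv_apply hη, map_add, map_smul]
        show _ = (1 + Matrix.single i j c).mulVec _
        rw [Matrix.add_mulVec, Matrix.one_mulVec, Matrix.single_mulVec]
        ext k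
        by_cases hk : k = i
        · subst hk
          simp [Basis.coord_apply, Basis.equivFun_apply]
        · simp [Basis.coord_apply, Basis.equivFun_apply, hk]
      · rintro A₁ A₂ ⟨g₁, hg₁, h₁⟩ ⟨g₂, hg₂, h₂⟩
        refine ⟨g₁ * g₂, Subgroup.mul_mem _ hg₁ hg₂, fun x => ?_⟩
        rw [LinearEquiv.mul_apply, h₁, h₂, Matrix.SpecialLinearGroup.coe_mul,
          Matrix.mulVec_mulVec]
  obtain ⟨g', hg', hx⟩ := key ⟨A, hdet⟩
  have hgg : g' = g := by
    apply LinearEquiv.ext
    intro x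
    apply b.equivFun.injective
    rw [hx x]
    exact hAx x
  rw [← hgg]
  exact hg'

/-- the special linear group of a finite-dimensional space is generated by transvections -/
theorem sl_gen [FiniteDimensional F W] (g : W ≃ₗ[F] W)
    (hg : LinearMap.det (g : W →ₗ[F] W) = 1) :
    g ∈ Subgroup.closure {t : W ≃ₗ[F] W | ∃ (x : W) (η : Dual F W), η x = 0 ∧ t = tv x η} :=
  sl_gen_aux (finrank F W) (Module.finBasis F W) g hg

end sl

section sp

variable {F : Type*} [Field F] [Finite F] {W : Type*} [AddCommGroup W] [Module F W]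
  [FiniteDimensional F W]

/-- the isometry group of a non-degenerate alternating form is generated by its transvections -/
theorem sp_gen (B : LinearMap.BilinForm F W) (halt : ∀ x, B x x = 0)
    (hnd : ∀ x, (∀ y, B x y = 0) → x = 0) (g : W ≃ₗ[F] W)
    (hg : ∀ x y, B (g x) (g y) = B x y) :
    g ∈ Subgroup.closure
      {t : W ≃ₗ[F] W | ∃ (w : W) (c : F), ∀ x, t x = x + (c * B x w) • w} := by
  have hev : Even (finrank F W) := by
    have h1 := Cfsg.Agent.Lib.Helper13.even_finrank_sub_radical B halt ⊥ (by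
      intro x
      rw [Submodule.mem_bot]
      constructor
      · intro hx y
        rw [hx, map_zero]
      · intro hx
        apply hnd x
        intro y
        rw [alt_swap B halt x y, hx y, neg_zero])
    rw [finrank_bot, Nat.sub_zero] at h1
    exact h1
  obtain ⟨m, hm⟩ := hev
  have hm' : finrank F W = 2 * m := by omega
  obtain ⟨Ψ, hΨ⟩ := Cfsg.Agent.Lib.Helper16.exists_symp_equiv B halt hnd m hm'
  have key : ∀ A : Matrix.symplecticGroup (Fin m) F,
      A ∈ Subgroup.closure {A : Matrix.symplecticGroup (Fin m) F |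
        ∃ (w : Fin m ⊕ Fin m → F) (c : F),
          (A : Matrix (Fin m ⊕ Fin m) (Fin m ⊕ Fin m) F) = Cfsg.sympTransvection m w c} →
      ∃ g' ∈ Subgroup.closure
          {t : W ≃ₗ[F] W | ∃ (w : W) (c : F), ∀ x, t x = x + (c * B x w) • w},
        ∀ x : Fin m ⊕ Fin m → F,
          g' (Ψ x) = Ψ ((A : Matrix (Fin m ⊕ Fin m) (Fin m ⊕ Fin m) F).mulVec x) := by
    intro A hA
    induction hA using Subgroup.closure_induction with
    | mem A hA =>
      obtain ⟨w, c, hwc⟩ := hA
      have hη : (c • LinearMap.flip B (Ψ w)) (Ψ w) = 0 := by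
        rw [LinearMap.smul_apply, LinearMap.flip_apply, halt, smul_zero]
      refine ⟨tv (Ψ w) (c • LinearMap.flip B (Ψ w)), Subgroup.subset_closure ⟨Ψ w, c, fun x => ?_⟩,
        fun x => ?_⟩
      · rw [tv_apply hη, LinearMap.smul_apply, LinearMap.flip_apply, smul_eq_mul]
      · rw [tv_apply hη, LinearMap.smul_apply, LinearMap.flip_apply, smul_eq_mul, hwc,
          Cfsg.Agent.Lib.Helper6.sympTransvection_mulVec, map_add, map_smul, hΨ]
    | one =>
      refine ⟨1, Subgroup.one_mem _, fun x => ?_⟩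
      have h1 : ((1 : Matrix.symplecticGroup (Fin m) F) :
          Matrix (Fin m ⊕ Fin m) (Fin m ⊕ Fin m) F) = 1 := rfl
      rw [h1, Matrix.one_mulVec]
      rfl
    | mul A A' _ _ ih ih' =>
      obtain ⟨g₁, hg₁, h₁⟩ := ih
      obtain ⟨g₂, hg₂, h₂⟩ := ih'
      refine ⟨g₁ * g₂, Subgroup.mul_mem _ hg₁ hg₂, fun x => ?_⟩
      rw [LinearEquiv.mul_apply, h₂, h₁, Cfsg.Agent.S0765.mul_mulVec']
    | inv A _ ih =>
      obtain ⟨g₁, hg₁, h₁⟩ := ih
      refine ⟨g₁⁻¹, Subgroup.inv_mem _ hg₁, fun x => ?_⟩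
      have h2 : g₁ (Ψ (((A⁻¹ : Matrix.symplecticGroup (Fin m) F) :
          Matrix (Fin m ⊕ Fin m) (Fin m ⊕ Fin m) F).mulVec x)) = Ψ x := by
        rw [h₁, ← Cfsg.Agent.S0765.mul_mulVec', mul_inv_cancel]
        have h1 : ((1 : Matrix.symplecticGroup (Fin m) F) :
            Matrix (Fin m ⊕ Fin m) (Fin m ⊕ Fin m) F) = 1 := rfl
        rw [h1, Matrix.one_mulVec]
      rw [← h2]
      show (g₁⁻¹ * g₁) _ = _
      rw [inv_mul_cancel]
      rfl
  obtain ⟨A₀, hA₀⟩ : ∃ A₀ : Matrix (Fin m ⊕ Fin m) (Fin m ⊕ Fin m) F,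
      A₀ = LinearMap.toMatrix' ((Ψ.symm : W →ₗ[F] (Fin m ⊕ Fin m → F)) ∘ₗ
        (g : W →ₗ[F] W) ∘ₗ (Ψ : (Fin m ⊕ Fin m → F) →ₗ[F] W)) := ⟨_, rfl⟩
  have hA₀x : ∀ x, A₀.mulVec x = Ψ.symm (g (Ψ x)) := by
    intro x
    rw [hA₀, LinearMap.toMatrix'_mulVec]
    rfl
  have hmem : A₀ ∈ Matrix.symplecticGroup (Fin m) F := by
    rw [Cfsg.Agent.Lib.Helper6.mem_symplecticGroup_iff_preserves]
    intro u v
    rw [hA₀x, hA₀x, ← hΨ, Ψ.apply_symm_apply, Ψ.apply_symm_apply, hg, hΨ]
  have htop := Cfsg.Agent.S0765.result (F := F) m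
  obtain ⟨g', hg', hx⟩ := key ⟨A₀, hmem⟩ (htop ▸ Subgroup.mem_top _)
  have hgg : g' = g := by
    apply LinearEquiv.ext
    intro y
    obtain ⟨x, rfl⟩ := Ψ.surjective y
    rw [hx]
    show Ψ (A₀.mulVec x) = g (Ψ x)
    rw [hA₀x, Ψ.apply_symm_apply]
  rw [← hgg]
  exact hg'

end sp

end Cfsg.Agent.Lib.Helper13.MCL
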