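import Cfsg.Agent.Lib.Helper13.MclE

set_option autoImplicit false

/-! Minimal invariant subspaces containing a centre, and the subgroups attached to them. -/

namespace Cfsg.Agent.Lib.Helper13.MCL

open Module LinearMap

section prime

variable {p : ℕ} [Fact p.Prime] {V : Type*} [AddCommGroup V] [Module (ZMod p) V]
variable {H : Subgroup (V ≃ₗ[ZMod p] V)}

/-- the subgroup generated by the transvections of `H` with centre in `Y` -/
def GY (H : Subgroup (V ≃ₗ[ZMod p] V)) (Y : Submodule (ZMod p) V) :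
    Subgroup (V ≃ₗ[ZMod p] V) :=
  Subgroup.closure {g | ∃ (v : V) (φ : Dual (ZMod p) V), In H v φ ∧ v ∈ Y ∧ g = tv v φ}

/-- the common kernel of the covectors of the transvections of `H` with centre in `Y` -/
def CY (H : Subgroup (V ≃ₗ[ZMod p] V)) (Y : Submodule (ZMod p) V) : Submodule (ZMod p) V where
  carrier := {x | ∀ (v : V) (φ : Dual (ZMod p) V), In H v φ → v ∈ Y → v ≠ 0 → φ x = 0}
  add_mem' := fun hx hy v φ h1 h2 h3 => by
    rw [map_add, hx v φ h1 h2 h3, hy v φ h1 h2 h3, add_zero]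
  zero_mem' := fun v φ _ _ _ => map_zero φ
  smul_mem' := fun c x hx v φ h1 h2 h3 => by rw [map_smul, hx v φ h1 h2 h3, smul_zero]

/-- the hypotheses on the ambient group: generation by transvections, and no unipotent normal
subgroup attached to an invariant subspace -/
structure HHyp (H : Subgroup (V ≃ₗ[ZMod p] V)) : Prop where
  gen : H ≤ GY H ⊤
  noP : ∀ Y : Submodule (ZMod p) V, Inv H Y → ∀ (v : V) (φ : Dual (ZMod p) V), In H v φ →
    v ∈ Y → (∀ y ∈ Y, φ y = 0) → v = 0 ∨ φ = 0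

/-- minimal among the invariant subspaces containing a centre -/
def IsMinCC (H : Subgroup (V ≃ₗ[ZMod p] V)) (Y : Submodule (ZMod p) V) : Prop :=
  Inv H Y ∧ (∃ v ∈ Y, IsCenter H v) ∧
    ∀ Y' : Submodule (ZMod p) V, Inv H Y' → Y' ≤ Y → (∃ v ∈ Y', IsCenter H v) → Y' = Y

variable {Y : Submodule (ZMod p) V}

theorem GY_induction {P : (V ≃ₗ[ZMod p] V) → Prop} (h1 : P 1)
    (hmul : ∀ a b, P a → P b → P (a * b))
    (htv : ∀ (v : V) (φ : Dual (ZMod p) V), In H v φ → v ∈ Y → P (tv v φ))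
    {g : V ≃ₗ[ZMod p] V} (hg : g ∈ GY H Y) : P g := by
  have key : P g ∧ P g⁻¹ := by
    unfold GY at hg
    induction hg using Subgroup.closure_induction with
    | mem x hx =>
      obtain ⟨v, φ, hin, hv, rfl⟩ := hx
      refine ⟨htv v φ hin hv, ?_⟩
      rw [tv_inv hin.1]
      exact htv v (-φ) hin.neg_right hv
    | one =>
      rw [inv_one]
      exact ⟨h1, h1⟩
    | mul a b _ _ iha ihb =>
      rw [mul_inv_rev]
      exact ⟨hmul a b iha.1 ihb.1, hmul _ _ ihb.2 iha.2⟩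
    | inv a _ iha =>
      rw [inv_inv]
      exact ⟨iha.2, iha.1⟩
  exact key.1

theorem GY_le (Y : Submodule (ZMod p) V) : GY H Y ≤ H := by
  unfold GY
  rw [Subgroup.closure_le]
  rintro _ ⟨v, φ, hin, -, rfl⟩
  exact hin.2

theorem In.toGY {v : V} {φ : Dual (ZMod p) V} (hin : In H v φ) (hv : v ∈ Y) :
    In (GY H Y) v φ :=
  ⟨hin.1, Subgroup.subset_closure ⟨v, φ, hin, hv, rfl⟩⟩

theorem GY_sub {g : V ≃ₗ[ZMod p] V} (hg : g ∈ GY H Y) : ∀ x, g x - x ∈ Y := by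
  refine GY_induction (P := fun g => ∀ x, g x - x ∈ Y) ?_ ?_ ?_ hg
  · intro x
    have : (1 : V ≃ₗ[ZMod p] V) x - x = 0 := sub_self x
    rw [this]
    exact Y.zero_mem
  · intro a b ha hb x
    have : (a * b) x - x = (a (b x) - b x) + (b x - x) := by
      rw [LinearEquiv.mul_apply]
      abel
    rw [this]
    exact Y.add_mem (ha (b x)) (hb x)
  · intro v φ hin hv x
    rw [tv_sub_apply hin.1]
    exact Y.smul_mem _ hv

theorem GY_fix {g : V ≃ₗ[ZMod p] V} (hg : g ∈ GY H Y) : ∀ x ∈ CY H Y, g x = x := by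
  refine GY_induction (P := fun g => ∀ x ∈ CY H Y, g x = x) ?_ ?_ ?_ hg
  · intro x _
    rfl
  · intro a b ha hb x hx
    rw [LinearEquiv.mul_apply, hb x hx, ha x hx]
  · intro v φ hin hv x hx
    rw [tv_apply hin.1]
    by_cases hv0 : v = 0
    · rw [hv0, smul_zero, add_zero]
    · rw [hx v φ hin hv hv0, zero_smul, add_zero]

theorem In_GY_mem {v : V} {φ : Dual (ZMod p) V} (hin : In (GY H Y) v φ) (hφ : φ ≠ 0) :
    v ∈ Y := by
  have hex : ∃ x, φ x ≠ 0 := by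
    by_contra hcon
    push Not at hcon
    exact hφ (LinearMap.ext hcon)
  obtain ⟨x, hx⟩ := hex
  have h1 := GY_sub hin.2 x
  rw [tv_sub_apply hin.1] at h1
  exact (Submodule.smul_mem_iff Y hx).mp h1

theorem out_kills (hY : Inv H Y) {v : V} {φ : Dual (ZMod p) V} (hin : In H v φ)
    (hv : v ∉ Y) : ∀ y ∈ Y, φ y = 0 := by
  intro y hy
  by_contra hne
  apply hv
  have h1 := hY _ hin.2 y hy
  rw [tv_apply hin.1] at h1
  have h2 : φ y • v ∈ Y := by
    have : φ y • v = (y + φ y • v) - y := by abel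
    rw [this]
    exact Y.sub_mem h1 hy
  exact (Submodule.smul_mem_iff Y hne).mp h2

theorem out_comm (hH : HHyp H) (hY : Inv H Y) {v w : V} {φ ψ : Dual (ZMod p) V}
    (h1 : In H v φ) (hv : v ∈ Y) (hv0 : v ≠ 0) (h2 : In H w ψ) (hw : w ∉ Y) (hψ : ψ ≠ 0) :
    φ w = 0 := by
  have hk := out_kills hY h2 hw
  have h3 := h1.comm h2 (hk v hv)
  rcases hH.noP Y hY v (φ w • ψ) h3 hv (fun y hy => by
    rw [LinearMap.smul_apply, hk y hy, smul_zero]) with h | h
  · exact absurd h hv0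
  · rcases smul_eq_zero.mp h with h' | h'
    · exact h'
    · exact absurd h' hψ

theorem HHyp.inv_of_tv (hH : HHyp H) (Z : Submodule (ZMod p) V)
    (h : ∀ (v : V) (φ : Dual (ZMod p) V), In H v φ → ∀ y ∈ Z, tv v φ y ∈ Z) : Inv H Z := by
  intro g hg
  refine GY_induction (P := fun g => ∀ y ∈ Z, g y ∈ Z) ?_ ?_ ?_ (hH.gen hg)
  · intro y hy
    exact hy
  · intro a b ha hb y hy
    rw [LinearEquiv.mul_apply]
    exact ha _ (hb y hy)
  · intro v φ hin _ y hy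
    exact h v φ hin y hy

theorem inv_inf {Z Z' : Submodule (ZMod p) V} (h1 : Inv H Z) (h2 : Inv H Z') :
    Inv H (Z ⊓ Z') := by
  intro g hg y hy
  obtain ⟨hy1, hy2⟩ := Submodule.mem_inf.mp hy
  exact Submodule.mem_inf.mpr ⟨h1 g hg y hy1, h2 g hg y hy2⟩

/-- the intersection with `Y` of a `GY`-invariant subspace is invariant under `H` -/
theorem inv_inf_GY (hH : HHyp H) (hY : Inv H Y) {Y' : Submodule (ZMod p) V}
    (hY' : Inv (GY H Y) Y') : Inv H (Y' ⊓ Y) := by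
  apply hH.inv_of_tv
  intro w ψ hin y hy
  obtain ⟨hy1, hy2⟩ := Submodule.mem_inf.mp hy
  by_cases hw : w ∈ Y
  · exact Submodule.mem_inf.mpr ⟨hY' _ (hin.toGY hw).2 y hy1, hY _ hin.2 y hy2⟩
  · rw [tv_apply hin.1, out_kills hY hin hw y hy2, zero_smul, add_zero]
    exact hy

theorem hyp_GY (hH : HHyp H) (hY : IsMinCC H Y) : Hyp (GY H Y) := by
  refine ⟨?_, ?_, ?_⟩
  · intro Y' h g hg
    refine GY_induction (P := fun g => ∀ y ∈ Y', g y ∈ Y') ?_ ?_ ?_ hg
    · intro y hy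
      exact hy
    · intro a b ha hb y hy
      rw [LinearEquiv.mul_apply]
      exact ha _ (hb y hy)
    · intro v φ hin hv y hy
      exact h v φ (hin.toGY hv) y hy
  · intro Y' hY' v φ hin hvY' hkill
    by_contra hcon
    push Not at hcon
    obtain ⟨hv0, hφ0⟩ := hcon
    have hvY : v ∈ Y := In_GY_mem hin hφ0
    have hinv := inv_inf_GY hH hY.1 hY'
    rcases hH.noP _ hinv v φ (hin.mono (GY_le Y)) (Submodule.mem_inf.mpr ⟨hvY', hvY⟩)
      (fun y hy => hkill y (Submodule.mem_inf.mp hy).1) with h | h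
    · exact hv0 h
    · exact hφ0 h
  · intro Y' hY' hex w hw
    obtain ⟨v, hvY', hv0, φ, hφ, hin⟩ := hex
    have hvY : v ∈ Y := In_GY_mem hin hφ
    have hinv := inv_inf_GY hH hY.1 hY'
    have heq : Y' ⊓ Y = Y := hY.2.2 _ hinv inf_le_right
      ⟨v, Submodule.mem_inf.mpr ⟨hvY', hvY⟩, hv0, φ, hφ, hin.mono (GY_le Y)⟩
    obtain ⟨-, ψ, hψ, hinw⟩ := hw
    have hwY : w ∈ Y := In_GY_mem hinw hψ
    rw [← heq] at hwY
    exact (Submodule.mem_inf.mp hwY).1

theorem CY_inv (hY : Inv H Y) : Inv H (CY H Y) := by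
  intro h hh x hx v φ hin hv hv0
  have hh' : h⁻¹ ∈ H := H.inv_mem hh
  have h1 : In H (h⁻¹ v) (cov φ h⁻¹) := hin.conj hh'
  have h2 : h⁻¹ v ∈ Y := hY _ hh' v hv
  have h3 : h⁻¹ v ≠ 0 := by
    intro h0
    apply hv0
    exact (LinearEquiv.map_eq_zero_iff h⁻¹).mp h0
  have h4 := hx (h⁻¹ v) (cov φ h⁻¹) h1 h2 h3
  exact h4

variable [Finite V]

theorem concl_minCC (hp2 : (2 : ZMod p) ≠ 0) (hH : HHyp H) (hY : IsMinCC H Y) :
    Concl (GY H Y) Y (CY H Y) := by
  obtain ⟨v₀, hv₀Y, hv₀0, φ₀, hφ₀, hin₀⟩ := hY.2.1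
  have hc₀ : IsCenter (GY H Y) v₀ := ⟨hv₀0, φ₀, hφ₀, hin₀.toGY hv₀Y⟩
  obtain ⟨U, K, hC⟩ := theoremB hp2 (hyp_GY hH hY) hc₀
  have hUY : U = Y := by
    apply le_antisymm
    · intro x hx
      by_cases hx0 : x = 0
      · rw [hx0]
        exact Y.zero_mem
      · obtain ⟨-, φ, hφ, hin⟩ := hC.cen x hx hx0
        exact In_GY_mem hin hφ
    · have hS : Submodule.span (ZMod p) {v : V | IsCenter H v ∧ v ∈ Y} = Y := by
        apply hY.2.2
        · apply inv_span_centers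
          intro g hg v hv
          exact ⟨hv.1.map hg, hY.1 g hg v hv.2⟩
        · rw [Submodule.span_le]
          intro v hv
          exact hv.2
        · exact ⟨v₀, Submodule.subset_span ⟨⟨hv₀0, φ₀, hφ₀, hin₀⟩, hv₀Y⟩, hv₀0, φ₀, hφ₀, hin₀⟩
      rw [← hS, Submodule.span_le]
      rintro v ⟨⟨hv0, φ, hφ, hin⟩, hvY⟩
      exact (hC.all v φ (hin.toGY hvY) hv0 hφ).1
  subst hUY
  have hKC : K = CY H U := by
    apply le_antisymm
    · intro k hk v φ hin hv hv0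
      by_cases hφ : φ = 0
      · rw [hφ]
        rfl
      · exact (hC.all v φ (hin.toGY hv) hv0 hφ).2 k hk
    · intro x hx
      obtain ⟨u, hu, k, hk, rfl⟩ := exists_decomp hC.compl x
      have hu0 : u = 0 := by
        by_contra hu0
        obtain ⟨x', η, hin, hx'0, hηu⟩ := hC.sep u hu hu0
        have hη0 : η ≠ 0 := by
          intro h
          apply hηu
          rw [h]
          rfl
        obtain ⟨hx'U, hηK⟩ := hC.all x' η hin hx'0 hη0
        have h1 := hx x' η (hin.mono (GY_le U)) hx'U hx'0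
        rw [map_add, hηK k hk, add_zero] at h1
        exact hηu h1
      rw [hu0, zero_add]
      exact hk
  subst hKC
  exact hC

omit [Finite V] in
theorem minCC_le_CY {Y' : Submodule (ZMod p) V} (hY : IsMinCC H Y) (hY' : IsMinCC H Y')
    (hne : Y ≠ Y') : Y' ≤ CY H Y := by
  intro y' hy' v φ hin hv hv0
  by_cases hφ : φ = 0
  · rw [hφ]
    rfl
  · have hvY' : v ∉ Y' := by
      intro hvY'
      have hc : ∃ u ∈ Y ⊓ Y', IsCenter H u :=
        ⟨v, Submodule.mem_inf.mpr ⟨hv, hvY'⟩, hv0, φ, hφ, hin⟩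
      have h1 : Y ⊓ Y' = Y := hY.2.2 _ (inv_inf hY.1 hY'.1) inf_le_left hc
      have h2 : Y ≤ Y' := by
        rw [← h1]
        exact inf_le_right
      exact hne (hY'.2.2 Y hY.1 h2 ⟨v, hv, hv0, φ, hφ, hin⟩)
    exact out_kills hY'.1 hin hvY' y' hy'

omit [Finite V] in
theorem center_mem_or (hH : HHyp H) (hY : IsMinCC H Y) {v : V} (hv : IsCenter H v) :
    v ∈ Y ∨ v ∈ CY H Y := by
  by_cases hvY : v ∈ Y
  · exact Or.inl hvY
  · right
    obtain ⟨-, φ, hφ, hin⟩ := hv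
    intro w ψ hinw hw hw0
    exact out_comm hH hY.1 hinw hw hw0 hin hvY hφ

theorem exists_minCC_le {Z : Submodule (ZMod p) V} (hZ : Inv H Z)
    (hc : ∃ v ∈ Z, IsCenter H v) : ∃ Y, IsMinCC H Y ∧ Y ≤ Z := by
  obtain ⟨Y, ⟨h1, h2, h3⟩, hmin⟩ := Set.exists_min_image
    {Y' : Submodule (ZMod p) V | Inv H Y' ∧ Y' ≤ Z ∧ ∃ v ∈ Y', IsCenter H v}
    (fun Y' => finrank (ZMod p) Y') (Set.toFinite _) ⟨Z, hZ, le_refl Z, hc⟩
  refine ⟨Y, ⟨h1, h3, fun Y' hY' hle hc' => ?_⟩, h2⟩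
  have h5 : finrank (ZMod p) Y ≤ finrank (ZMod p) Y' := hmin Y' ⟨hY', hle.trans h2, hc'⟩
  exact Submodule.eq_of_le_of_finrank_le hle h5

theorem center_in_some_minCC (hp2 : (2 : ZMod p) ≠ 0) (hH : HHyp H) {v : V}
    (hv : IsCenter H v) : ∃ Y, IsMinCC H Y ∧ v ∈ Y := by
  by_contra hcon
  push Not at hcon
  have hvW : v ∈ ⨅ Y : {Y : Submodule (ZMod p) V // IsMinCC H Y}, CY H Y.1 := by
    rw [Submodule.mem_iInf]
    intro Y
    rcases center_mem_or hH Y.2 hv with h | h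
    · exact absurd h (hcon Y.1 Y.2)
    · exact h
  have hinv : Inv H (⨅ Y : {Y : Submodule (ZMod p) V // IsMinCC H Y}, CY H Y.1) := by
    intro g hg x hx
    rw [Submodule.mem_iInf] at hx ⊢
    intro Y
    exact CY_inv Y.2.1 g hg x (hx Y)
  obtain ⟨Y₀, hY₀, hle⟩ := exists_minCC_le hinv ⟨v, hvW, hv⟩
  obtain ⟨w, hwY, hw⟩ := hY₀.2.1
  have hwC : w ∈ CY H Y₀ := by
    have h1 := hle hwY
    rw [Submodule.mem_iInf] at h1
    exact h1 ⟨Y₀, hY₀⟩
  exact hw.1 (eq_zero_of_mem_both (concl_minCC hp2 hH hY₀).compl hwY hwC)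

end prime

end Cfsg.Agent.Lib.Helper13.MCL
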