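import Cfsg.Agent.Lib.Helper13.MclG
import Cfsg.Agent.Lib.Helper13.MclF

set_option autoImplicit false

/-! The decomposition of a group generated by transvections without normal `p`-subgroup. -/

namespace Cfsg.Agent.Lib.Helper13.MCL

open Module LinearMap

section linalg

variable {F : Type*} [Field F] {V : Type*} [AddCommGroup V] [Module F V]

/-- a family of subspaces `Y j` with complements `C j` containing the other `Y i` gives a
direct decomposition together with the intersection of the `C j` -/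
theorem isInternal_cons {n : ℕ} (Y C : Fin n → Submodule F V) (h1 : ∀ j, IsCompl (Y j) (C j))
    (h2 : ∀ i j, i ≠ j → Y i ≤ C j) :
    DirectSum.IsInternal (Fin.cons (α := fun _ => Submodule F V) (⨅ j, C j) Y) := by
  obtain ⟨W, hW⟩ : ∃ W : Fin (n + 1) → Submodule F V,
      W = Fin.cons (α := fun _ => Submodule F V) (⨅ j, C j) Y := ⟨_, rfl⟩
  have hW0 : W 0 = ⨅ j, C j := by
    rw [hW]
    rfl
  have hWs : ∀ j : Fin n, W j.succ = Y j := by
    intro j
    rw [hW]
    rfl
  rw [← hW]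
  obtain ⟨π, hπ⟩ : ∃ π : Fin n → (V →ₗ[F] V),
      ∀ j, π j = LinearMap.ofIsCompl (h1 j) (Y j).subtype 0 := ⟨fun j => _, fun j => rfl⟩
  have π_Y : ∀ j, ∀ y ∈ Y j, π j y = y := by
    intro j y hy
    rw [hπ]
    exact LinearMap.ofIsCompl_apply_left (h1 j) (⟨y, hy⟩ : Y j)
  have π_C : ∀ j, ∀ c ∈ C j, π j c = 0 := by
    intro j c hc
    rw [hπ]
    exact LinearMap.ofIsCompl_apply_right (h1 j) (⟨c, hc⟩ : C j)
  have π_mem : ∀ j x, π j x ∈ Y j := by
    intro j x
    obtain ⟨y, hy, c, hc, rfl⟩ := exists_decomp (h1 j) x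
    rw [map_add, π_Y j y hy, π_C j c hc, add_zero]
    exact hy
  have π_sub : ∀ j x, x - π j x ∈ C j := by
    intro j x
    obtain ⟨y, hy, c, hc, rfl⟩ := exists_decomp (h1 j) x
    rw [map_add, π_Y j y hy, π_C j c hc, add_zero, add_sub_cancel_left]
    exact hc
  have hWC : ∀ (j : Fin n) (i : Fin (n + 1)), i ≠ j.succ → W i ≤ C j := by
    intro j i hi
    induction i using Fin.cases with
    | zero =>
      rw [hW0]
      exact iInf_le _ j
    | succ i' =>
      rw [hWs]
      exact h2 i' j (fun h => hi (by rw [h]))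
  rw [DirectSum.isInternal_submodule_iff_iSupIndep_and_iSup_eq_top]
  constructor
  · rw [iSupIndep_def]
    intro i
    induction i using Fin.cases with
    | zero =>
      rw [Submodule.disjoint_def]
      intro x hx hx'
      have hPi : (⨆ (j : Fin (n + 1)) (_ : j ≠ 0), W j) ≤
          LinearMap.eqLocus (∑ j, π j) LinearMap.id := by
        refine iSup₂_le ?_
        intro i hi
        induction i using Fin.cases with
        | zero => exact absurd rfl hi
        | succ i' =>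
          intro y hy
          rw [hWs] at hy
          rw [LinearMap.mem_eqLocus, LinearMap.sum_apply, LinearMap.id_apply,
            Finset.sum_eq_single i', π_Y i' y hy]
          · intro j _ hj
            exact π_C j y (h2 i' j (Ne.symm hj) hy)
          · intro h
            exact absurd (Finset.mem_univ _) h
      have h3 := hPi hx'
      rw [LinearMap.mem_eqLocus, LinearMap.sum_apply, LinearMap.id_apply] at h3
      rw [← h3]
      apply Finset.sum_eq_zero
      intro j _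
      rw [hW0] at hx
      exact π_C j x ((Submodule.mem_iInf _).mp hx j)
    | succ j =>
      rw [hWs]
      exact (h1 j).disjoint.mono_right (iSup₂_le (fun i hi => hWC j i hi))
  · rw [eq_top_iff]
    intro x _
    have hx : x = (x - ∑ j, π j x) + ∑ j, π j x := by abel
    rw [hx]
    apply Submodule.add_mem
    · apply Submodule.mem_iSup_of_mem 0
      rw [hW0, Submodule.mem_iInf]
      intro i
      have h5 : x - ∑ j, π j x = (x - π i x) - ∑ j ∈ Finset.univ.erase i, π j x := by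
        rw [← Finset.add_sum_erase Finset.univ (fun j => π j x) (Finset.mem_univ i)]
        abel
      rw [h5]
      apply Submodule.sub_mem _ (π_sub i x)
      apply Submodule.sum_mem
      intro j hj
      exact h2 j i (Finset.ne_of_mem_erase hj) (π_mem j x)
    · apply Submodule.sum_mem
      intro j _
      apply Submodule.mem_iSup_of_mem j.succ
      rw [hWs]
      exact π_mem j x

end linalg

section prime

variable {p : ℕ} [Fact p.Prime] {V : Type*} [AddCommGroup V] [Module (ZMod p) V]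
variable {H : Subgroup (V ≃ₗ[ZMod p] V)} {Y : Submodule (ZMod p) V}

/-- the automorphisms fixing `Z` pointwise -/
def fixSub (Z : Submodule (ZMod p) V) : Subgroup (V ≃ₗ[ZMod p] V) where
  carrier := {g | ∀ z ∈ Z, g z = z}
  mul_mem' := fun {a b} ha hb z hz => by rw [LinearEquiv.mul_apply, hb z hz, ha z hz]
  one_mem' := fun z _ => rfl
  inv_mem' := fun {a} ha z hz => by
    have h1 : a z = z := ha z hz
    calc a⁻¹ z = a⁻¹ (a z) := by rw [h1]
      _ = (a⁻¹ * a) z := rfl
      _ = z := by rw [inv_mul_cancel]; rfl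

theorem map_eq_of_inv {Z : Submodule (ZMod p) V} (hZ : Inv H Z) {h : V ≃ₗ[ZMod p] V}
    (hh : h ∈ H) : Z.map (h : V →ₗ[ZMod p] V) = Z := by
  apply le_antisymm
  · rintro _ ⟨z, hz, rfl⟩
    exact hZ h hh z hz
  · intro z hz
    refine ⟨h⁻¹ z, hZ h⁻¹ (H.inv_mem hh) z hz, ?_⟩
    show (h * h⁻¹) z = z
    rw [mul_inv_cancel]
    rfl

theorem GY_conj (hY : Inv H Y) {h : V ≃ₗ[ZMod p] V} (hh : h ∈ H) {g : V ≃ₗ[ZMod p] V}
    (hg : g ∈ GY H Y) : h * g * h⁻¹ ∈ GY H Y := by
  refine GY_induction (P := fun g => h * g * h⁻¹ ∈ GY H Y) ?_ ?_ ?_ hg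
  · rw [mul_one, mul_inv_cancel]
    exact Subgroup.one_mem _
  · intro a b ha hb
    have : h * (a * b) * h⁻¹ = (h * a * h⁻¹) * (h * b * h⁻¹) := by group
    rw [this]
    exact Subgroup.mul_mem _ ha hb
  · intro v φ hin hv
    rw [conj_tv h hin.1]
    exact Subgroup.subset_closure ⟨h v, cov φ h, hin.conj hh, hY h hh v hv, rfl⟩

theorem pres_form {f : LinearMap.BilinForm (ZMod p) V} (alt : ∀ x, f x x = 0)
    (hsp : ∀ (v : V) (φ : Dual (ZMod p) V), In (GY H Y) v φ → v ≠ 0 → φ ≠ 0 →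
      ∃ c : ZMod p, φ = c • f v) {g : V ≃ₗ[ZMod p] V} (hg : g ∈ GY H Y) :
    ∀ x y, f (g x) (g y) = f x y := by
  refine GY_induction (P := fun g => ∀ x y, f (g x) (g y) = f x y) ?_ ?_ ?_ hg
  · intro x y
    rfl
  · intro a b ha hb x y
    rw [LinearEquiv.mul_apply, LinearEquiv.mul_apply, ha, hb]
  · intro v φ hin hv x y
    by_cases hv0 : v = 0
    · rw [hv0, tv_zero_left]
      rfl
    · by_cases hφ : φ = 0
      · rw [hφ, tv_zero_right]
        rfl
      · obtain ⟨c, rfl⟩ := hsp v φ (hin.toGY hv) hv0 hφ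
        rw [tv_apply hin.1, tv_apply hin.1]
        have h5 := alt_swap f alt x v
        have h6 := alt v
        simp only [map_add, map_smul, LinearMap.add_apply, LinearMap.smul_apply, smul_eq_mul]
        linear_combination (c * f v y) * h5 + (c * f v x) * (c * f v y) * h6

variable [Finite V]

theorem det_res {g : V ≃ₗ[ZMod p] V} (hg : g ∈ GY H Y) :
    (∀ y ∈ Y, g y ∈ Y) ∧ ∀ r : ↥Y →ₗ[ZMod p] ↥Y, (∀ z : ↥Y, (r z : V) = g z) →
      LinearMap.det r = 1 := by
  refine GY_induction (P := fun g => (∀ y ∈ Y, g y ∈ Y) ∧ ∀ r : ↥Y →ₗ[ZMod p] ↥Y,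
    (∀ z : ↥Y, (r z : V) = g z) → LinearMap.det r = 1) ?_ ?_ ?_ hg
  · refine ⟨fun y hy => hy, fun r hr => ?_⟩
    have : r = LinearMap.id := by
      apply LinearMap.ext
      intro z
      apply Subtype.ext
      rw [hr z]
      rfl
    rw [this, LinearMap.det_id]
  · rintro a b ⟨ha1, ha2⟩ ⟨hb1, hb2⟩
    refine ⟨fun y hy => ?_, fun r hr => ?_⟩
    · rw [LinearEquiv.mul_apply]
      exact ha1 _ (hb1 y hy)
    · have hra := ha2 ((a : V →ₗ[ZMod p] V).restrict ha1) (fun z => rfl)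
      have hrb := hb2 ((b : V →ₗ[ZMod p] V).restrict hb1) (fun z => rfl)
      have : r = ((a : V →ₗ[ZMod p] V).restrict ha1) * ((b : V →ₗ[ZMod p] V).restrict hb1) := by
        apply LinearMap.ext
        intro z
        apply Subtype.ext
        rw [hr z]
        rfl
      rw [this, map_mul, hra, hrb, one_mul]
  · intro v φ hin hv
    refine ⟨fun y hy => ?_, fun r hr => ?_⟩
    · rw [tv_apply hin.1]
      exact Y.add_mem hy (Y.smul_mem _ hv)
    · have : r = LinearMap.transvection (φ ∘ₗ Y.subtype) ⟨v, hv⟩ := by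
        apply LinearMap.ext
        intro z
        apply Subtype.ext
        rw [hr z, tv_apply hin.1]
        rfl
      rw [this, LinearMap.transvection.det]
      show 1 + φ v = 1
      rw [hin.1, add_zero]

/-- the action of `K` on the invariant subspace `Z` is the full special linear group or the full
isometry group of a non-degenerate alternating form -/
def RhoProp (K : Subgroup (V ≃ₗ[ZMod p] V)) (Z : Submodule (ZMod p) V) : Prop :=
  ∃ ρ : ↥K →* (↥Z ≃ₗ[ZMod p] ↥Z),
    (∀ (h : ↥K) (v : ↥Z), ((ρ h v : ↥Z) : V) = (h : V ≃ₗ[ZMod p] V) (v : V)) ∧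
    ((ρ.range : Set (↥Z ≃ₗ[ZMod p] ↥Z)) =
        {f : ↥Z ≃ₗ[ZMod p] ↥Z | LinearMap.det (f : ↥Z →ₗ[ZMod p] ↥Z) = 1} ∨
      ∃ B : LinearMap.BilinForm (ZMod p) ↥Z, B.IsAlt ∧ B.Nondegenerate ∧
        (ρ.range : Set (↥Z ≃ₗ[ZMod p] ↥Z)) =
          {f : ↥Z ≃ₗ[ZMod p] ↥Z | ∀ x y, B (f x) (f y) = B x y})

theorem rho_exists (hYinv : Inv H Y) (hC : Concl (GY H Y) Y (CY H Y)) :
    RhoProp (GY H Y) Y := by
  have hmap : ∀ g ∈ GY H Y, Y.map ((g : V ≃ₗ[ZMod p] V) : V →ₗ[ZMod p] V) = Y :=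
    fun g hg => map_eq_of_inv hYinv (GY_le Y hg)
  obtain ⟨ρ, hρ⟩ : ∃ ρ : ↥(GY H Y) →* (↥Y ≃ₗ[ZMod p] ↥Y),
      ∀ (h : ↥(GY H Y)) (v : ↥Y), ((ρ h v : ↥Y) : V) = (h : V ≃ₗ[ZMod p] V) (v : V) := by
    refine ⟨{ toFun := fun g => LinearEquiv.ofSubmodules g.1 Y Y (hmap g.1 g.2)
              map_one' := ?_
              map_mul' := ?_ }, fun h v => rfl⟩
    · apply LinearEquiv.ext
      intro v
      apply Subtype.ext
      rfl
    · intro a b
      apply LinearEquiv.ext
      intro v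
      apply Subtype.ext
      rfl
  refine ⟨ρ, hρ, ?_⟩
  rcases hC.typ with hsl | ⟨f₀, hB, hsp⟩
  · left
    ext f
    constructor
    · rintro ⟨g, rfl⟩
      exact (det_res g.2).2 _ (fun z => hρ g z)
    · intro hf
      have hf' : LinearMap.det (f : ↥Y →ₗ[ZMod p] ↥Y) = 1 := hf
      have h1 := sl_gen f hf'
      refine (Subgroup.closure_le ρ.range).mpr ?_ h1
      rintro t ⟨x, η, hηx, rfl⟩
      obtain ⟨proj, hproj⟩ : ∃ proj : V →ₗ[ZMod p] ↥Y,
          proj = LinearMap.ofIsCompl hC.compl LinearMap.id 0 := ⟨_, rfl⟩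
      have hprojY : ∀ z : ↥Y, proj (z : V) = z := by
        intro z
        rw [hproj]
        exact LinearMap.ofIsCompl_apply_left hC.compl z
      have hprojC : ∀ k ∈ CY H Y, proj k = 0 := by
        intro k hk
        rw [hproj]
        exact LinearMap.ofIsCompl_apply_right hC.compl (⟨k, hk⟩ : ↥(CY H Y))
      have hη'Y : ∀ z : ↥Y, (η ∘ₗ proj) (z : V) = η z := by
        intro z
        rw [LinearMap.comp_apply, hprojY]
      have hη'C : ∀ k ∈ CY H Y, (η ∘ₗ proj) k = 0 := by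
        intro k hk
        rw [LinearMap.comp_apply, hprojC k hk, map_zero]
      have hin : In (GY H Y) (x : V) (η ∘ₗ proj) :=
        hsl x x.2 (η ∘ₗ proj) hη'C (by rw [hη'Y]; exact hηx)
      show tv x η ∈ ρ.range
      refine MonoidHom.mem_range.mpr ⟨⟨tv (x : V) (η ∘ₗ proj), hin.2⟩, ?_⟩
      apply LinearEquiv.ext
      intro z
      apply Subtype.ext
      rw [hρ]
      show tv (x : V) (η ∘ₗ proj) (z : V) = ((tv x η z : ↥Y) : V)
      rw [tv_apply hin.1, tv_apply hηx, hη'Y]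
      rfl
  · right
    have hsepL : ∀ x : ↥Y, (∀ y : ↥Y, (LinearMap.BilinForm.restrict f₀ Y) x y = 0) → x = 0 := by
      intro x hx
      apply Subtype.ext
      exact hB.nd x x.2 (fun y hy => hx ⟨y, hy⟩)
    refine ⟨LinearMap.BilinForm.restrict f₀ Y, fun x => hB.alt x, ⟨hsepL, ?_⟩, ?_⟩
    · intro y hy
      apply hsepL
      intro x
      have h5 : f₀ (y : V) (x : V) = - f₀ (x : V) (y : V) := alt_swap f₀ hB.alt y x
      have h6 : f₀ (x : V) (y : V) = 0 := hy x
      show f₀ (y : V) (x : V) = 0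
      rw [h5, h6, neg_zero]
    · ext f
      constructor
      · rintro ⟨g, rfl⟩ x y
        show f₀ ((ρ g x : ↥Y) : V) ((ρ g y : ↥Y) : V) = f₀ x y
        rw [hρ, hρ]
        exact pres_form hB.alt hsp g.2 x y
      · intro hf
        have h1 := sp_gen (LinearMap.BilinForm.restrict f₀ Y) (fun x => hB.alt x) hsepL f hf
        refine (Subgroup.closure_le ρ.range).mpr ?_ h1
        rintro t ⟨w, c, ht⟩
        have hin : In (GY H Y) (w : V) ((-c) • f₀ w) := (hB.mem w w.2).smul_right (-c)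
        show t ∈ ρ.range
        refine MonoidHom.mem_range.mpr ⟨⟨tv (w : V) ((-c) • f₀ w), hin.2⟩, ?_⟩
        apply LinearEquiv.ext
        intro z
        apply Subtype.ext
        rw [hρ, ht z]
        show tv (w : V) ((-c) • f₀ w) (z : V) = (z : V) + (c * f₀ z w) • (w : V)
        rw [tv_apply hin.1, LinearMap.smul_apply, smul_eq_mul, alt_swap f₀ hB.alt w z,
          neg_mul_neg]

/-- the conclusion of the theorem -/
def Conclusion (H : Subgroup (V ≃ₗ[ZMod p] V)) : Prop :=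
  ∃ (n : ℕ) (W : Fin (n + 1) → Submodule (ZMod p) V) (K : Fin n → Subgroup (V ≃ₗ[ZMod p] V)),
    1 ≤ n ∧ DirectSum.IsInternal W ∧
    (∀ h ∈ H, ∀ i, (W i).map (h : V →ₗ[ZMod p] V) = W i) ∧
    (∀ j, K j ≤ H ∧ ((K j).subgroupOf H).Normal) ∧ ⨆ j, K j = H ∧
    (∀ j, K j ⊓ (⨆ j' ∈ {j' : Fin n | j' ≠ j}, K j') = ⊥) ∧
    (∀ j j', j ≠ j' → ∀ a ∈ K j, ∀ b ∈ K j', a * b = b * a) ∧
    (∀ j, ∀ h ∈ K j, ∀ i : Fin (n + 1), i ≠ j.succ → ∀ v ∈ W i, h v = v) ∧
    (∀ j, RhoProp (K j) (W j.succ))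

theorem main_of_family (hH : HHyp H) (n : ℕ) (hn : 1 ≤ n)
    (Y : Fin n → Submodule (ZMod p) V) (hYinv : ∀ j, Inv H (Y j))
    (hC : ∀ j, Concl (GY H (Y j)) (Y j) (CY H (Y j)))
    (h2 : ∀ i j, i ≠ j → Y i ≤ CY H (Y j))
    (hcov : ∀ v, IsCenter H v → ∃ j, v ∈ Y j) : Conclusion H := by
  obtain ⟨W, hW⟩ : ∃ W : Fin (n + 1) → Submodule (ZMod p) V,
      W = Fin.cons (α := fun _ => Submodule (ZMod p) V) (⨅ j, CY H (Y j)) Y := ⟨_, rfl⟩
  have hW0 : W 0 = ⨅ j, CY H (Y j) := by
    rw [hW]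
    rfl
  have hWs : ∀ j : Fin n, W j.succ = Y j := by
    intro j
    rw [hW]
    rfl
  have hWC : ∀ (j : Fin n) (i : Fin (n + 1)), i ≠ j.succ → W i ≤ CY H (Y j) := by
    intro j i hi
    induction i using Fin.cases with
    | zero =>
      rw [hW0]
      exact iInf_le _ j
    | succ i' =>
      rw [hWs]
      exact h2 i' j (fun h => hi (by rw [h]))
  have hWinv : ∀ i, Inv H (W i) := by
    intro i
    induction i using Fin.cases with
    | zero =>
      rw [hW0]
      intro g hg x hx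
      rw [Submodule.mem_iInf] at hx ⊢
      intro j
      exact CY_inv (hYinv j) g hg x (hx j)
    | succ i' =>
      rw [hWs]
      exact hYinv i'
  refine ⟨n, W, fun j => GY H (Y j), hn, ?_, ?_, ?_, ?_, ?_, ?_, ?_, ?_⟩
  · rw [hW]
    exact isInternal_cons Y (fun j => CY H (Y j)) (fun j => (hC j).compl) h2
  · intro h hh i
    exact map_eq_of_inv (hWinv i) hh
  · intro j
    refine ⟨GY_le _, ⟨fun a ha b => ?_⟩⟩
    rw [Subgroup.mem_subgroupOf] at ha ⊢
    rw [Subgroup.coe_mul, Subgroup.coe_mul, Subgroup.coe_inv]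
    exact GY_conj (hYinv j) b.2 ha
  · apply le_antisymm
    · exact iSup_le (fun j => GY_le _)
    · intro g hg
      refine GY_induction (P := fun g => g ∈ ⨆ j, GY H (Y j)) ?_ ?_ ?_ (hH.gen hg)
      · exact Subgroup.one_mem _
      · intro a b ha hb
        exact Subgroup.mul_mem _ ha hb
      · intro v φ hin _
        by_cases hv0 : v = 0
        · rw [hv0, tv_zero_left]
          exact Subgroup.one_mem _
        · by_cases hφ : φ = 0
          · rw [hφ, tv_zero_right]
            exact Subgroup.one_mem _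
          · obtain ⟨j, hj⟩ := hcov v ⟨hv0, φ, hφ, hin⟩
            exact Subgroup.mem_iSup_of_mem j (hin.toGY hj).2
  · intro j
    rw [eq_bot_iff]
    intro g hg
    obtain ⟨hg1, hg2⟩ := Subgroup.mem_inf.mp hg
    rw [Subgroup.mem_bot]
    have hle : (⨆ j' ∈ {j' : Fin n | j' ≠ j}, GY H (Y j')) ≤ fixSub (Y j) := by
      refine iSup₂_le (fun j' hj' => ?_)
      have hj'' : j' ≠ j := hj'
      intro g' hg' z hz
      exact GY_fix hg' z (h2 j j' (Ne.symm hj'') hz)
    have hfixY : ∀ z ∈ Y j, g z = z := hle hg2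
    apply LinearEquiv.ext
    intro x
    obtain ⟨y, hy, c, hc, rfl⟩ := exists_decomp (hC j).compl x
    rw [map_add, hfixY y hy, GY_fix hg1 c hc]
    rfl
  · intro j j' hjj' a ha b hb
    apply LinearEquiv.ext
    intro x
    obtain ⟨y, hy, c, hc, rfl⟩ := exists_decomp (hC j).compl x
    have haH : a ∈ H := GY_le _ ha
    have hbH : b ∈ H := GY_le _ hb
    have e1 : b y = y := GY_fix hb y (h2 j j' hjj' hy)
    have e2 : a c = c := GY_fix ha c hc
    have e3 : a (b c) = b c := GY_fix ha _ (CY_inv (hYinv j) b hbH c hc)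
    have e4 : b (a y) = a y := GY_fix hb _ (h2 j j' hjj' (hYinv j a haH y hy))
    simp only [LinearEquiv.mul_apply, map_add]
    rw [e1, e2, e3, e4]
  · intro j h hh i hi v hv
    exact GY_fix hh v (hWC j i hi hv)
  · intro j
    show RhoProp (GY H (Y j)) (W j.succ)
    rw [hWs j]
    exact rho_exists (hYinv j) (hC j)

theorem main (hp2 : (2 : ZMod p) ≠ 0) (hH : HHyp H) : Conclusion H := by
  by_cases hcen : ∃ v, IsCenter H v
  · obtain ⟨v₁, hv₁⟩ := hcen
    obtain ⟨Y₁, hY₁, -⟩ := center_in_some_minCC hp2 hH hv₁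
    have : Nonempty {Y : Submodule (ZMod p) V // IsMinCC H Y} := ⟨⟨Y₁, hY₁⟩⟩
    obtain ⟨n, hn⟩ : ∃ n, n = Nat.card {Y : Submodule (ZMod p) V // IsMinCC H Y} := ⟨_, rfl⟩
    obtain ⟨e⟩ : Nonempty ({Y : Submodule (ZMod p) V // IsMinCC H Y} ≃ Fin n) := by
      rw [hn]
      exact ⟨Finite.equivFin _⟩
    have hn1 : 1 ≤ n := by
      rw [hn]
      exact Nat.card_pos
    refine main_of_family hH n hn1 (fun j => (e.symm j).1) (fun j => (e.symm j).2.1)
      (fun j => concl_minCC hp2 hH (e.symm j).2) ?_ ?_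
    · intro i j hij
      apply minCC_le_CY (e.symm j).2 (e.symm i).2
      intro h
      apply hij
      exact (e.symm.injective (Subtype.ext h)).symm
    · intro v hv
      obtain ⟨Y, hY, hvY⟩ := center_in_some_minCC hp2 hH hv
      refine ⟨e ⟨Y, hY⟩, ?_⟩
      show v ∈ (e.symm (e ⟨Y, hY⟩)).1
      rw [Equiv.symm_apply_apply]
      exact hvY
  · push Not at hcen
    have hCtop : CY H (⊥ : Submodule (ZMod p) V) = ⊤ :=
      eq_top_iff.mpr (fun x _ v φ _ hv hv0 => absurd ((Submodule.mem_bot _).mp hv) hv0)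
    have hCb : Concl (GY H (⊥ : Submodule (ZMod p) V)) ⊥ (CY H ⊥) := by
      refine ⟨by rw [hCtop]; exact isCompl_bot_top, ?_, ?_, ?_, Or.inl ?_⟩
      · intro v φ hin hv hφ
        exact absurd ((Submodule.mem_bot _).mp (In_GY_mem hin hφ)) hv
      · intro x hx hx0
        exact absurd ((Submodule.mem_bot _).mp hx) hx0
      · intro u hu hu0
        exact absurd ((Submodule.mem_bot _).mp hu) hu0
      · intro x hx η _ _
        rw [(Submodule.mem_bot _).mp hx]
        exact In.zero_left η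
    refine main_of_family hH 1 (le_refl 1) (fun _ => ⊥) (fun _ g _ y hy => ?_) (fun _ => hCb)
      (fun i j hij => absurd (Subsingleton.elim i j) hij) (fun v hv => absurd hv (hcen v))
    rw [(Submodule.mem_bot _).mp hy, map_zero]
    exact Submodule.zero_mem _

omit [Finite V] in
/-- unipotent elements attached to a subspace have order dividing `p` -/
theorem unip_pow (a : V ≃ₗ[ZMod p] V) (Z : Submodule (ZMod p) V) (h1 : ∀ x, a x - x ∈ Z)
    (h2 : ∀ y ∈ Z, a y = y) : a ^ p = 1 := by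
  have key : ∀ (k : ℕ) (x : V), (a ^ k) x = x + k • (a x - x) := by
    intro k
    induction k with
    | zero =>
      intro x
      rw [pow_zero, zero_smul, add_zero]
      rfl
    | succ k ih =>
      intro x
      rw [pow_succ', LinearEquiv.mul_apply, ih, map_add, map_nsmul, h2 _ (h1 x), succ_nsmul]
      abel
  apply LinearEquiv.ext
  intro x
  rw [key p x, ← Nat.cast_smul_eq_nsmul (ZMod p), CharP.cast_eq_zero, zero_smul, add_zero]
  rfl

/-- the hypotheses `HHyp` for a group generated by transvections with trivial `p`-core -/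
theorem hhyp_of_closure (H : Subgroup (V ≃ₗ[ZMod p] V)) (T : Set (V ≃ₗ[ZMod p] V))
    (hHT : H = Subgroup.closure T)
    (hT : ∀ t ∈ T, orderOf t = p ∧
      finrank (ZMod p) (LinearMap.ker ((t : V →ₗ[ZMod p] V) - LinearMap.id)) + 1 =
        finrank (ZMod p) V)
    (hOp : ∀ N : Subgroup ↥H, N.Normal → IsPGroup p ↥N → N = ⊥) : HHyp H := by
  refine ⟨?_, ?_⟩
  · have hTH : ∀ t ∈ T, t ∈ H := fun t ht => by
      rw [hHT]
      exact Subgroup.subset_closure ht
    intro g hg
    rw [hHT] at hg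
    refine (Subgroup.closure_le (GY H ⊤)).mpr ?_ hg
    intro t ht
    obtain ⟨ho, hf⟩ := hT t ht
    obtain ⟨v, φ, hφv, -, -, hteq⟩ := exists_tv_of_order t ho hf
    have htH := hTH t ht
    rw [hteq] at htH ⊢
    exact Subgroup.subset_closure ⟨v, φ, ⟨hφv, htH⟩, Submodule.mem_top, rfl⟩
  · intro Z hZ v φ hin hvZ hkill
    obtain ⟨N₀, hN₀⟩ : ∃ N₀ : Subgroup (V ≃ₗ[ZMod p] V),
        ∀ g, g ∈ N₀ ↔ (∀ x, g x - x ∈ Z) ∧ ∀ y ∈ Z, g y = y := by
      refine ⟨{ carrier := {g | (∀ x, g x - x ∈ Z) ∧ ∀ y ∈ Z, g y = y}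
                mul_mem' := ?_
                one_mem' := ?_
                inv_mem' := ?_ }, fun g => Iff.rfl⟩
      · rintro a b ⟨ha1, ha2⟩ ⟨hb1, hb2⟩
        refine ⟨fun x => ?_, fun y hy => ?_⟩
        · have : (a * b) x - x = (a (b x) - b x) + (b x - x) := by
            rw [LinearEquiv.mul_apply]
            abel
          rw [this]
          exact Z.add_mem (ha1 _) (hb1 x)
        · rw [LinearEquiv.mul_apply, hb2 y hy, ha2 y hy]
      · refine ⟨fun x => ?_, fun y _ => rfl⟩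
        have : (1 : V ≃ₗ[ZMod p] V) x - x = 0 := sub_self x
        rw [this]
        exact Z.zero_mem
      · rintro a ⟨ha1, ha2⟩
        have hinv : ∀ x, a (a⁻¹ x) = x := by
          intro x
          show (a * a⁻¹) x = x
          rw [mul_inv_cancel]
          rfl
        refine ⟨fun x => ?_, fun y hy => ?_⟩
        · have h3 := ha1 (a⁻¹ x)
          rw [hinv] at h3
          have : a⁻¹ x - x = -(x - a⁻¹ x) := by abel
          rw [this]
          exact Z.neg_mem h3
        · calc a⁻¹ y = a⁻¹ (a y) := by rw [ha2 y hy]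
            _ = (a⁻¹ * a) y := rfl
            _ = y := by rw [inv_mul_cancel]; rfl
    have hnorm : (N₀.subgroupOf H).Normal := by
      refine ⟨fun n hn g => ?_⟩
      rw [Subgroup.mem_subgroupOf] at hn ⊢
      rw [Subgroup.coe_mul, Subgroup.coe_mul, Subgroup.coe_inv]
      obtain ⟨hn1, hn2⟩ := (hN₀ _).mp hn
      have hgi : ∀ x, (g : V ≃ₗ[ZMod p] V) ((g : V ≃ₗ[ZMod p] V)⁻¹ x) = x := by
        intro x
        show ((g : V ≃ₗ[ZMod p] V) * (g : V ≃ₗ[ZMod p] V)⁻¹) x = x
        rw [mul_inv_cancel]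
        rfl
      rw [hN₀]
      refine ⟨fun x => ?_, fun y hy => ?_⟩
      · have h3 : ((g : V ≃ₗ[ZMod p] V) * (n : V ≃ₗ[ZMod p] V) * (g : V ≃ₗ[ZMod p] V)⁻¹) x - x =
            (g : V ≃ₗ[ZMod p] V) ((n : V ≃ₗ[ZMod p] V) ((g : V ≃ₗ[ZMod p] V)⁻¹ x) -
              (g : V ≃ₗ[ZMod p] V)⁻¹ x) := by
          rw [map_sub, hgi]
          rfl
        rw [h3]
        exact hZ _ g.2 _ (hn1 _)
      · have h4 : (g : V ≃ₗ[ZMod p] V)⁻¹ y ∈ Z := hZ _ (H.inv_mem g.2) y hy
        show (g : V ≃ₗ[ZMod p] V) ((n : V ≃ₗ[ZMod p] V) ((g : V ≃ₗ[ZMod p] V)⁻¹ y)) = y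
        rw [hn2 _ h4, hgi]
    have hpg₀ : IsPGroup p ↥N₀ := by
      intro g
      refine ⟨1, ?_⟩
      apply Subtype.ext
      rw [pow_one, Subgroup.coe_pow]
      obtain ⟨hg1, hg2⟩ := (hN₀ _).mp g.2
      exact unip_pow _ Z hg1 hg2
    have hpg : IsPGroup p ↥(N₀.subgroupOf H) :=
      hpg₀.comap_of_injective H.subtype H.subtype_injective
    have hbot := hOp _ hnorm hpg
    have hmem : (⟨tv v φ, hin.2⟩ : ↥H) ∈ N₀.subgroupOf H := by
      rw [Subgroup.mem_subgroupOf, hN₀]
      refine ⟨fun x => ?_, fun y hy => ?_⟩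
      · rw [tv_sub_apply hin.1]
        exact Z.smul_mem _ hvZ
      · rw [tv_apply hin.1, hkill y hy, zero_smul, add_zero]
    rw [hbot, Subgroup.mem_bot] at hmem
    have h1 : tv v φ = 1 := congrArg Subtype.val hmem
    exact (tv_eq_one_iff hin.1).mp h1

end prime

end Cfsg.Agent.Lib.Helper13.MCL
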