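import Mathlib
import Cfsg.Prelude.Def_GeometricClasses
import Cfsg.Agent.Lib.Helper6.S5814CFRAME

/-!
# Even orthogonal rows, piece S1 (4,3,3) (helper13): over `GF(3)` the stabiliser of four pairwise orthogonal isometric
non-degenerate 3-spaces stabilises a decomposition into twelve pairwise orthogonal isometric non-degenerate lines
(helper6's `S5814CFRAME.frame_le_decomp` with four blocks instead of three).
-/

set_option autoImplicit false
set_option linter.unusedSectionVars false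
set_option linter.unusedVariables false

namespace Cfsg.Agent.Lib.Helper13.OEFrame4

open Matrix Cfsg.Geo Module QuadraticMap
open Cfsg.Agent.Lib.Helper6 Cfsg.Agent.Lib.Helper13 Cfsg.Agent.Lib.Helper13.OND
open Cfsg.Agent.Lib.Helper6.S5814CFRAME

universe u
variable {F : Type u} [Field F] {ι : Type} [Fintype ι] [DecidableEq ι]
variable (Q : QuadraticForm F (ι → F))

variable [Fintype F]

/-- `O₃(3) ≀ S₄ ≤ O₁(3) ≀ S₁₂` -/
theorem frame_le_decomp4 (hQ : (polarBilin Q).Nondegenerate) (hq : Fintype.card F = 3)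
    (D : Fin 4 → Submodule F (ι → F)) (hD : IsOrthogonalMDecomposition ⇑Q 3 D) :
    ∃ D' : Fin 12 → Submodule F (ι → F), IsOrthogonalMDecomposition ⇑Q 1 D' ∧
      decompositionStabilizer D ⊓ Cfsg.isometryGroup F ⇑Q ≤ decompositionStabilizer D' := by
  have h3 : (3 : F) = 0 := by
    have h := FiniteField.cast_card_eq_zero F
    rw [hq] at h
    exact_mod_cast h
  have hF : ∀ x : F, x ≠ 0 → x * x = 1 := by
    intro x hx
    have h1 := FiniteField.pow_card_sub_one_eq_one x hx
    rw [hq, show 3 - 1 = 2 from rfl, pow_two] at h1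
    exact h1
  have h2 : (2 : F) ≠ 0 := two_ne_zero_of_three h3
  have hcard : Fintype.card ι = 12 := by
    have := Cfsg.Agent.Lib.Helper9.HubCor.mul_eq_card_of_isMDecomposition D hD.decomp.decomp
    omega
  have hnd : ∀ i, NondegOn Q (D i) := by
    intro i x hx hall
    by_contra hx0
    obtain ⟨y, hy, hne⟩ := (hD.decomp.nondegenerate i x hx hx0).2
    exact hne (hall y hy)
  have hfr : ∀ i, finrank F (D i) = 3 := hD.decomp.decomp.finrank_eq
  obtain ⟨c, hc, w₁, hw₁, w₂, hw₂, w₃, hw₃, hQ₁, hQ₂, hQ₃, h12, h13, h23⟩ :=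
    exists_orth_triple_eq Q hF h3 (D 0) (hnd 0) (hfr 0)
  have h21 : polar Q w₂ w₁ = 0 := by rw [polar_comm]; exact h12
  have h31 : polar Q w₃ w₁ = 0 := by rw [polar_comm]; exact h13
  have h32 : polar Q w₃ w₂ = 0 := by rw [polar_comm]; exact h23
  choose e he using (fun i => hD.isometric 0 i)
  set w : Fin 3 → D 0 := ![⟨w₁, hw₁⟩, ⟨w₂, hw₂⟩, ⟨w₃, hw₃⟩] with hw
  have hwQ : ∀ a, Q ((w a : D 0) : ι → F) = c := by
    intro a
    fin_cases a
    · exact hQ₁
    · exact hQ₂
    · exact hQ₃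
  have hwpol : ∀ a b, a ≠ b → polar Q ((w a : D 0) : ι → F) ((w b : D 0) : ι → F) = 0 := by
    intro a b hab
    fin_cases a <;> fin_cases b
    · exact absurd rfl hab
    · exact h12
    · exact h13
    · exact h21
    · exact absurd rfl hab
    · exact h23
    · exact h31
    · exact h32
    · exact absurd rfl hab
  set vv : Fin 4 → Fin 3 → (ι → F) := fun i a => ((e i (w a) : D i) : ι → F) with hvv
  have hvvD : ∀ i a, vv i a ∈ D i := fun i a => (e i (w a)).2
  have hvvQ : ∀ i a, Q (vv i a) = c := by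
    intro i a
    have := he i (w a)
    change Q (vv i a) = _ at this
    rw [this]
    exact hwQ a
  have hvvpol : ∀ i a b, a ≠ b → polar Q (vv i a) (vv i b) = 0 := by
    intro i a b hab
    have h1 := polar_of_isometry Q (D 0) (D i) (e i) (he i) (w a) (w b)
    change polar Q (vv i a) (vv i b) = _ at h1
    rw [h1]
    exact hwpol a b hab
  have hcross : ∀ i j a b, i ≠ j → polar Q (vv i a) (vv j b) = 0 := fun i j a b hij =>
    hD.decomp.orthogonal i j hij _ (hvvD i a) _ (hvvD j b)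
  have hclass : ∀ i x, x ∈ D i → Q x = c → ∃ a, x = vv i a ∨ x = - vv i a := by
    intro i x hx hQx
    rcases eq_of_orth_triple Q hF h3 (D i) (hfr i) c hc (vv i 0) (vv i 1) (vv i 2) (hvvD i 0) (hvvD i 1)
      (hvvD i 2) (hvvQ i 0) (hvvQ i 1) (hvvQ i 2) (hvvpol i 0 1 (by decide)) (hvvpol i 0 2 (by decide))
      (hvvpol i 1 2 (by decide)) x hx hQx with (h | h) | (h | h) | (h | h)
    · exact ⟨0, Or.inl h⟩
    · exact ⟨0, Or.inr h⟩
    · exact ⟨1, Or.inl h⟩
    · exact ⟨1, Or.inr h⟩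
    · exact ⟨2, Or.inl h⟩
    · exact ⟨2, Or.inr h⟩
  let E : Fin 12 ≃ Fin 4 × Fin 3 := (finProdFinEquiv (m := 4) (n := 3)).symm
  set v : Fin 12 → ι → F := fun k => vv (E k).1 (E k).2 with hv
  have hvorth : ∀ k k', k ≠ k' → polar ⇑Q (v k) (v k') = 0 := by
    intro k k' hkk'
    by_cases hi : (E k).1 = (E k').1
    · have ha : (E k).2 ≠ (E k').2 := fun ha => hkk' (E.injective (Prod.ext hi ha))
      change polar Q (vv (E k).1 (E k).2) (vv (E k').1 (E k').2) = 0
      rw [← hi]
      exact hvvpol _ _ _ ha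
    · exact hcross _ _ _ _ hi
  have hdec := frame_decomp Q h2 (by norm_num) hcard c hc v (fun k => hvvQ _ _) hvorth
  refine ⟨fun k => Submodule.span F {v k}, hdec, ?_⟩
  rintro g ⟨⟨σ, hσ⟩, hgI⟩
  have hv0 : ∀ k, v k ≠ 0 := by
    intro k h
    have := hvvQ (E k).1 (E k).2
    change Q (v k) = c at this
    rw [h, map_zero] at this
    exact hc this.symm
  apply mem_stab_of_perm_frame v hdec.decomp.decomp.indep hv0 g
  intro k
  have h1 : (g : Matrix ι ι F) *ᵥ v k ∈ D (σ (E k).1) := by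
    rw [← hσ]
    exact ⟨v k, hvvD _ _, by rw [Matrix.toLin'_apply]⟩
  have h2' : Q ((g : Matrix ι ι F) *ᵥ v k) = c := by
    have := hgI (v k) (v k)
    change Q ((g : Matrix ι ι F) *ᵥ v k) = Q (v k) at this
    rw [this]
    exact hvvQ _ _
  obtain ⟨a, ha⟩ := hclass _ _ h1 h2'
  refine ⟨E.symm (σ (E k).1, a), ?_⟩
  change _ = vv (E (E.symm (σ (E k).1, a))).1 (E (E.symm (σ (E k).1, a))).2 ∨
    _ = - vv (E (E.symm (σ (E k).1, a))).1 (E (E.symm (σ (E k).1, a))).2
  rw [Equiv.apply_symm_apply]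
  exact ha

end Cfsg.Agent.Lib.Helper13.OEFrame4
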