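import Mathlib
import Cfsg.Prelude.Def_GeometricClasses
import Cfsg.Agent.Lib.Helper1.OEDefs
import Cfsg.Agent.Lib.Helper13.OrthMax
import Cfsg.Agent.Lib.Helper13.OrthNondeg
import Cfsg.Agent.Lib.Helper6.S5814CPLANE
import Cfsg.Agent.Lib.Helper6.S5814PSUBF
import Cfsg.Agent.Lib.Helper12.OECorE
import Cfsg.Agent.Lib.Helper21.OECorPIRR

/-!
# Even orthogonal PLUS rows S5847 / S5871 : the generic exits (helper13; `exit_nd`, `exit_plane` are helper1's, from
`notes/OECorSkel_helper1.lean.txt`, on the landed pieces of helper12 / helper21 / helper6)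
-/

set_option autoImplicit false
set_option linter.unusedSectionVars false
set_option linter.unusedVariables false

namespace Cfsg.Agent.Lib.Helper13.OEPlus

open Matrix Cfsg Cfsg.Geo Module QuadraticMap
open Cfsg.Agent.Lib.Helper1.OE
open Cfsg.Agent.Lib.Helper13 (toQF toQF_nondegenerate)
open Cfsg.Agent.Lib.Helper21.OECorPIRR (not_omega_le_stab)
open Cfsg.Agent.Lib.Helper12.OECorE (exists_perp plane_le_stab_two)

variable {F : Type*} [Field F] [Fintype F] {n : ℕ}

theorem eq_of_le_member {G : Type*} [Group G] (S H M : Subgroup G) (hH : IsMaximalIn S H)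
    (hle : H ≤ M) (hM : ¬ S ≤ M) : H = M ⊓ S := by
  have h1 : H ≤ M ⊓ S := le_inf hle hH.1.le
  rcases hH.2 _ h1 inf_le_right with h | h
  · exact h.symm
  · exact absurd (h ▸ inf_le_left) hM

/-- a subgroup below a non-maximal one with a proper overgroup is not maximal -/
theorem not_max_of_le_between {G : Type*} [Group G] (S H X : Subgroup G) (hH : IsMaximalIn S H)
    (hle : H ≤ X) (hb : ∃ K : Subgroup G, X < K ∧ K < S) : False := by
  obtain ⟨K, hXK, hKS⟩ := hb
  rcases hH.2 K (hle.trans hXK.le) hKS.le with h | h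
  · have h1 : X ≤ H := by
      have : X ≤ K := hXK.le
      rw [h] at this
      exact this
    have h2 : X = K := le_antisymm hXK.le (by rw [h]; exact hle)
    exact hXK.ne h2
  · exact hKS.ne h

theorem omegaGL_le_iso (Q : (Fin n → F) → F) : omegaGL Q ≤ isometryGroup F Q := by
  rintro g ⟨x, -, rfl⟩
  exact x.2

theorem not_omega_le_subfield {Q : (Fin n → F) → F} (hQ : IsNondegenerateQuadraticForm Q) (h5 : 5 ≤ n)
    (F₀ : Subfield F) (hF₀ : F₀ ≠ ⊤) (P : GL (Fin n) F) : ¬ omegaGL Q ≤ subfieldSubgroup F₀ P :=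
  Cfsg.Agent.Lib.Helper6.S5814PSUBF.not_omega_le_subfield (toQF Q hQ) (toQF_nondegenerate Q hQ)
    (by rw [Fintype.card_fin]; exact h5) F₀ hF₀ P

theorem plane_le_stab {Q : (Fin n → F) → F} (hQ : IsNondegenerateQuadraticForm Q) (h5 : 5 ≤ n)
    (hq : Fintype.card F = 3) (W : Submodule F (Fin n → F)) (hdim : finrank F W = 2)
    (hW : IsNondegenerateOn (polar Q) W) (hWp : IsPlusTypeOn Q W) :
    ∃ W' : Submodule F (Fin n → F), finrank F W' + 1 = n ∧ IsNondegenerateOn (polar Q) W' ∧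
      subspaceStabilizer W ⊓ omegaGL Q ≤ subspaceStabilizer W' := by
  have h := Cfsg.Agent.Lib.Helper6.S5814CPLANE.plane_le_stab (toQF Q hQ) (toQF_nondegenerate Q hQ)
    (by rw [Fintype.card_fin]; exact h5) hq W hdim hW hWp
  rw [Fintype.card_fin] at h
  exact h

variable {Q : (Fin n → F) → F}

theorem ne_bot_of_finrank_pos (W : Submodule F (Fin n → F)) (h : 0 < finrank F W) : W ≠ ⊥ := by
  rintro rfl
  rw [finrank_bot] at h
  exact lt_irrefl _ h

theorem ne_top_of_finrank_lt (W : Submodule F (Fin n → F)) (h : finrank F W < n) : W ≠ ⊤ := by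
  rintro rfl
  rw [finrank_top, Module.finrank_fintype_fun_eq_card, Fintype.card_fin] at h
  exact lt_irrefl _ h

theorem finrank_pos_of_ne_bot (W : Submodule F (Fin n → F)) (h : W ≠ ⊥) : 0 < finrank F W := by
  rcases Nat.eq_zero_or_pos (finrank F W) with h0 | h0
  · exact absurd (Submodule.finrank_eq_zero.mp h0) h
  · exact h0

theorem finrank_lt_of_ne_top (W : Submodule F (Fin n → F)) (h : W ≠ ⊤) : finrank F W < n := by
  have hle : finrank F W ≤ n := by
    have := Submodule.finrank_le W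
    rwa [Module.finrank_fintype_fun_eq_card, Fintype.card_fin] at this
  rcases hle.lt_or_eq with h1 | h1
  · exact h1
  · exfalso
    apply h
    apply Submodule.eq_top_of_finrank_eq
    rw [h1, Module.finrank_fintype_fun_eq_card, Fintype.card_fin]

/-- a totally singular subspace is proper -/
theorem ts_ne_top (hQ : IsNondegenerateQuadraticForm Q) (hn : 0 < n) (W : Submodule F (Fin n → F))
    (hW : IsTotallySingularQuad Q W) : W ≠ ⊤ := by
  rintro rfl
  have hv : (Pi.single (⟨0, hn⟩ : Fin n) (1 : F) : Fin n → F) ≠ 0 := by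
    intro h
    have := congrFun h ⟨0, hn⟩
    simp at this
  obtain ⟨⟨x, hx⟩, -⟩ := hQ.nondegenerate _ hv
  apply hx
  unfold QuadraticMap.polar
  rw [hW _ Submodule.mem_top, hW x Submodule.mem_top, hW _ Submodule.mem_top]
  ring

theorem Q_zero (hQ : IsNondegenerateQuadraticForm Q) : Q 0 = 0 := by
  have := hQ.smul 0 (0 : Fin n → F)
  rw [zero_smul] at this
  rw [this]
  ring

/-- the span of a non-singular vector is a proper non-zero subspace -/
theorem span_ne (hQ : IsNondegenerateQuadraticForm Q) (hn : 2 ≤ n) (v : Fin n → F) (hv : Q v ≠ 0) :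
    Submodule.span F {v} ≠ ⊥ ∧ Submodule.span F {v} ≠ ⊤ := by
  have hv0 : v ≠ 0 := by
    rintro rfl
    exact hv (Q_zero hQ)
  refine ⟨?_, ?_⟩
  · rw [Ne, Submodule.span_singleton_eq_bot]
    exact hv0
  · apply ne_top_of_finrank_lt
    rw [finrank_span_singleton hv0]
    omega

/-- the exit for a non-degenerate subspace, first step -/
theorem exit_nd (hQ : IsNondegenerateQuadraticForm Q) (h5 : 5 ≤ n) (H : Subgroup (GL (Fin n) F))
    (hH : IsMaximalIn (omegaGL Q) H) (W : Submodule F (Fin n → F)) (hW0 : W ≠ ⊥) (hW1 : W ≠ ⊤)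
    (hW : IsNondegenerateOn (polar Q) W) (hle : H ≤ subspaceStabilizer W) :
    ∃ W' : Submodule F (Fin n → F), 0 < finrank F W' ∧ 2 * finrank F W' ≤ n ∧
      IsNondegenerateOn (polar Q) W' ∧ H = subspaceStabilizer W' ⊓ omegaGL Q := by
  have hHW : H = subspaceStabilizer W ⊓ omegaGL Q :=
    eq_of_le_member _ H _ hH hle (not_omega_le_stab hQ h5 W hW0 hW1)
  have hpos := finrank_pos_of_ne_bot W hW0
  have hlt := finrank_lt_of_ne_top W hW1
  by_cases hhalf : 2 * finrank F W ≤ n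
  · exact ⟨W, hpos, hhalf, hW, hHW⟩
  · obtain ⟨W', hW', hadd, -, -, hstab⟩ := exists_perp hQ W hW
    exact ⟨W', by omega, by omega, hW', by rw [hHW, hstab]⟩

/-- the exit for a non-degenerate plane -/
theorem exit_plane (hQ : IsNondegenerateQuadraticForm Q) (h5 : 5 ≤ n) (H : Subgroup (GL (Fin n) F))
    (hH : IsMaximalIn (omegaGL Q) H) (W : Submodule F (Fin n → F)) (hdim : finrank F W = 2)
    (hW : IsNondegenerateOn (polar Q) W) (hHW : H = subspaceStabilizer W ⊓ omegaGL Q) :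
    (∃ W : Submodule F (Fin n → F), finrank F W = 2 ∧ IsNondegenerateOn (polar Q) W ∧ ¬ IsPlusTypeOn Q W ∧
      H = subspaceStabilizer W ⊓ omegaGL Q) ∨
    (4 ≤ Fintype.card F ∧ ∃ W : Submodule F (Fin n → F), finrank F W = 2 ∧ IsNondegenerateOn (polar Q) W ∧
      IsPlusTypeOn Q W ∧ H = subspaceStabilizer W ⊓ omegaGL Q) ∨
    (Odd (Fintype.card F) ∧ ∃ W : Submodule F (Fin n → F), finrank F W + 1 = n ∧
      IsNondegenerateOn (polar Q) W ∧ H = subspaceStabilizer W ⊓ omegaGL Q) ∨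
    (¬ Odd (Fintype.card F) ∧ ∃ v : Fin n → F, Q v ≠ 0 ∧
      H = subspaceStabilizer (Submodule.span F {v}) ⊓ omegaGL Q) := by
  by_cases hp : IsPlusTypeOn Q W
  swap
  · exact Or.inl ⟨W, hdim, hW, hp, hHW⟩
  have hq1 : 1 < Fintype.card F := Fintype.one_lt_card
  by_cases hq4 : 4 ≤ Fintype.card F
  · exact Or.inr (Or.inl ⟨hq4, W, hdim, hW, hp, hHW⟩)
  have hq23 : Fintype.card F = 2 ∨ Fintype.card F = 3 := by omega
  rcases hq23 with hq | hq
  · obtain ⟨v, hv, hle⟩ := plane_le_stab_two hQ hq W hdim hW hp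
    have hleH : H ≤ subspaceStabilizer (Submodule.span F {v}) := by
      intro x hx
      rw [hHW] at hx
      exact hle ⟨hx.1, omegaGL_le_iso Q hx.2⟩
    obtain ⟨hs0, hs1⟩ := span_ne hQ (by omega) v hv
    refine Or.inr (Or.inr (Or.inr ⟨by rw [hq]; decide, v, hv,
      eq_of_le_member _ H _ hH hleH (not_omega_le_stab hQ h5 _ hs0 hs1)⟩))
  · obtain ⟨W', hW'dim, hW'nd, hle⟩ := plane_le_stab hQ h5 hq W hdim hW hp
    have hleH : H ≤ subspaceStabilizer W' := by
      intro x hx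
      rw [hHW] at hx
      exact hle hx
    have hs0 : W' ≠ ⊥ := ne_bot_of_finrank_pos W' (by omega)
    have hs1 : W' ≠ ⊤ := ne_top_of_finrank_lt W' (by omega)
    refine Or.inr (Or.inr (Or.inl ⟨by rw [hq]; decide, W', hW'dim, hW'nd,
      eq_of_le_member _ H _ hH hleH (not_omega_le_stab hQ h5 _ hs0 hs1)⟩))

/-- `X ⊓ Ω` is the same when `X` is replaced by a subgroup with the same intersection with the isometry group -/
theorem inf_omega_congr {X Y : Subgroup (GL (Fin n) F)}
    (h1 : X ⊓ isometryGroup F Q ≤ Y) (h2 : Y ⊓ isometryGroup F Q ≤ X) : X ⊓ omegaGL Q = Y ⊓ omegaGL Q := by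
  apply le_antisymm
  · intro g hg
    exact ⟨h1 ⟨hg.1, omegaGL_le_iso Q hg.2⟩, hg.2⟩
  · intro g hg
    exact ⟨h2 ⟨hg.1, omegaGL_le_iso Q hg.2⟩, hg.2⟩

theorem le_of_inf_iso {H X Y : Subgroup (GL (Fin n) F)} (hH : H ≤ omegaGL Q) (hX : H ≤ X)
    (h1 : X ⊓ isometryGroup F Q ≤ Y) : H ≤ Y :=
  fun g hg => h1 ⟨hX hg, omegaGL_le_iso Q (hH hg)⟩

/-- powers: `10` and `12` are not proper powers -/
theorem pow_ne_ten (k t : ℕ) (hk : 2 ≤ k) (ht : 2 ≤ t) : k ^ t ≠ 10 := by
  intro h
  have hk3 : k ≤ 3 := by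
    by_contra hne
    have : 4 ^ 2 ≤ k ^ t := (Nat.pow_le_pow_left (by omega) 2).trans (Nat.pow_le_pow_right (by omega) ht)
    omega
  have ht3 : t ≤ 3 := by
    by_contra hne
    have : 2 ^ 4 ≤ k ^ t := (Nat.pow_le_pow_left hk 4).trans (Nat.pow_le_pow_right (by omega) (by omega))
    omega
  interval_cases k <;> interval_cases t <;> omega

theorem pow_ne_twelve (k t : ℕ) (hk : 2 ≤ k) (ht : 2 ≤ t) : k ^ t ≠ 12 := by
  intro h
  have hk3 : k ≤ 3 := by
    by_contra hne
    have : 4 ^ 2 ≤ k ^ t := (Nat.pow_le_pow_left (by omega) 2).trans (Nat.pow_le_pow_right (by omega) ht)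
    omega
  have ht3 : t ≤ 3 := by
    by_contra hne
    have : 2 ^ 4 ≤ k ^ t := (Nat.pow_le_pow_left hk 4).trans (Nat.pow_le_pow_right (by omega) (by omega))
    omega
  interval_cases k <;> interval_cases t <;> omega

end Cfsg.Agent.Lib.Helper13.OEPlus
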