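import Mathlib
import Cfsg.Prelude.Def_GeometricClasses
import Cfsg.Agent.Lib.Helper13.OrthSmallA
import Cfsg.Agent.Lib.Helper13.OrthSmallGeo
import Cfsg.Agent.Lib.Helper13.SubfField
import Cfsg.Agent.Lib.Helper9.HubCorA1

/-!
# Even orthogonal rows, piece S1 (t,2,4) (helper13): over the field with four elements the stabiliser of an orthogonal
decomposition into plus-type planes lies in a subfield group over the prime field (`O₂⁺(4) ≅ O₂⁻(2)`)
-/

set_option autoImplicit false
set_option linter.unusedSectionVars false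
set_option linter.unusedVariables false

namespace Cfsg.Agent.Lib.Helper13.OESmallFour

open Matrix Cfsg.Geo Module QuadraticMap
open Cfsg.Agent.Lib.Helper13

universe u
variable {F : Type u} [Field F]

/-- a matrix mapping every column of `P` to a combination of the columns of `P` with coefficients in the subfield `K`
lies in the subfield group -/
theorem mem_subfield_of_cols {n : ℕ} (K : Subfield F) (P g : GL (Fin n) F)
    (h : ∀ k, ∃ c : Fin n → K, (g : Matrix (Fin n) (Fin n) F) *ᵥ (fun i => (P : Matrix (Fin n) (Fin n) F) i k) =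
      ∑ l, (c l : F) • (fun i => (P : Matrix (Fin n) (Fin n) F) i l)) :
    g ∈ subfieldSubgroup K P := by
  choose c hc using h
  let B : Matrix (Fin n) (Fin n) K := Matrix.of fun l k => c k l
  apply mem_subfieldSubgroup_of_eq K P g 1 one_ne_zero B
  rw [one_smul]
  have h1 : (g : Matrix (Fin n) (Fin n) F) * (P : Matrix (Fin n) (Fin n) F) =
      (P : Matrix (Fin n) (Fin n) F) * rmat K B := by
    ext i k
    have := congrFun (hc k) i
    rw [Matrix.mul_apply, Matrix.mul_apply]
    simp only [Matrix.mulVec, dotProduct, Finset.sum_apply, Pi.smul_apply, smul_eq_mul] at this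
    rw [this]
    apply Finset.sum_congr rfl
    intro l _
    simp only [rmat, Matrix.map_apply, B, Matrix.of_apply, Subfield.coe_subtype]
    ring
  rw [Units.val_mul, Units.val_mul, mul_assoc, h1, ← mul_assoc, ← Units.val_mul, inv_mul_cancel,
    Units.val_one, one_mul]

variable [Fintype F]

section blocks
variable {V : Type*} [AddCommGroup V] [Module F V] [FiniteDimensional F V] (Q : QuadraticForm F V)

/-- the three vectors of norm one of a plus-type plane over the field with four elements -/
theorem blockFour (hq : Fintype.card F = 4) (X : Submodule F V) (hX : NondegOn Q X)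
    (hdim : finrank F X = 2) (e : V) (he : e ∈ X) (he0 : e ≠ 0) (hQe : Q e = 0) :
    ∃ u ∈ X, ∃ w ∈ X, Q u = 1 ∧ Q w = 1 ∧ polar Q u w = 1 ∧
      (∀ x ∈ X, Q x = 1 → x = u ∨ x = w ∨ x = u + w) ∧ ∀ x ∈ X, ∃ α β : F, x = α • u + β • w := by
  obtain ⟨f, hfX, hQf, hef, hspan⟩ := hyp_plane Q X hX hdim e he he0 hQe
  obtain ⟨hQc, hpc⟩ := hyp_coords Q e f hQe hQf hef
  have h4 : (4 : F) = 0 := by
    have := Nat.cast_card_eq_zero F
    rw [hq] at this
    exact_mod_cast this
  have h2 : (2 : F) = 0 := by
    have : (2 : F) * 2 = 0 := by linear_combination h4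
    exact mul_self_eq_zero.mp this
  obtain ⟨ω, hω0, hω1⟩ := exists_ne_zero_ne_one_of_card (F := F) (by omega)
  have hcube : ∀ z : F, z ≠ 0 → z * z * z = 1 := by
    intro z hz
    have h := FiniteField.pow_card_sub_one_eq_one z hz
    rw [hq] at h
    have h' : z ^ 3 = 1 := h
    linear_combination h'
  have hω : ω * ω + ω + 1 = 0 := by
    have h1 : (ω - 1) * (ω * ω + ω + 1) = 0 := by linear_combination hcube ω hω0
    rcases mul_eq_zero.mp h1 with h | h
    · exact absurd (sub_eq_zero.mp h) hω1
    · exact h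
  have hall : ∀ z : F, z ≠ 0 → z = 1 ∨ z = ω ∨ z = ω * ω := by
    intro z hz
    have h1 : (z - 1) * ((z - ω) * (z - ω * ω)) = 0 := by
      linear_combination hcube z hz + (z - 1) * (ω - 1 - z) * hω
    rcases mul_eq_zero.mp h1 with h | h
    · exact Or.inl (sub_eq_zero.mp h)
    · rcases mul_eq_zero.mp h with h | h
      · exact Or.inr (Or.inl (sub_eq_zero.mp h))
      · exact Or.inr (Or.inr (sub_eq_zero.mp h))
  have hmem : ∀ α β : F, α • e + β • f ∈ X := fun α β =>
    X.add_mem (X.smul_mem _ he) (X.smul_mem _ hfX)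
  refine ⟨(1 : F) • e + (1 : F) • f, hmem _ _, ω • e + (ω * ω) • f, hmem _ _, ?_, ?_, ?_, ?_, ?_⟩
  · rw [hQc, mul_one]
  · rw [hQc]
    linear_combination hcube ω hω0
  · rw [hpc]
    linear_combination hω - h2
  swap
  · intro x hx
    obtain ⟨α, β, hxe⟩ : ∃ α β : F, x = α • e + β • f := ⟨_, _, hspan x hx⟩
    refine ⟨α * (ω * ω) + β * ω, α + β, ?_⟩
    rw [hxe]
    simp only [smul_add, smul_smul, add_smul, mul_one]
    have e1 : α * (ω * ω) + β * ω + (α + β) * ω = α := by linear_combination α * hω + (-α + β * ω) * h2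
    have e2 : α * (ω * ω) + β * ω + (α + β) * (ω * ω) = β := by
      linear_combination β * hω + (α * ω * ω - β) * h2
    calc α • e + β • f = (α * (ω * ω) + β * ω + (α + β) * ω) • e +
          (α * (ω * ω) + β * ω + (α + β) * (ω * ω)) • f := by rw [e1, e2]
      _ = _ := by
        simp only [add_smul, add_mul]
        abel
  · intro x hx hQx
    obtain ⟨α, β, hxe⟩ : ∃ α β : F, x = α • e + β • f := ⟨_, _, hspan x hx⟩
    rw [hxe, hQc] at hQx
    have hα0 : α ≠ 0 := by
      rintro rfl
      rw [zero_mul] at hQx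
      exact zero_ne_one hQx
    have hβ : β = α * α := by
      have := hcube α hα0
      have h3 : α * (β - α * α) = 0 := by linear_combination hQx - this
      rcases mul_eq_zero.mp h3 with h | h
      · exact absurd h hα0
      · exact sub_eq_zero.mp h
    rcases hall α hα0 with h | h | h
    · left
      rw [hxe, hβ, h, mul_one]
    · right; left
      rw [hxe, hβ, h]
    · right; right
      rw [hxe, hβ, h]
      have e1 : ω * ω = 1 + ω := by linear_combination hω - (1 + ω) * h2
      have e2 : ω * ω * (ω * ω) = 1 + ω * ω := by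
        have := hcube ω hω0
        linear_combination ω * this + hω - (1 + ω * ω) * h2
      rw [e2]
      rw [show (1 : F) • e + (1 : F) • f + (ω • e + (ω * ω) • f) = ((1 : F) + ω) • e + ((1 : F) + ω * ω) • f by
        simp only [add_smul]; abel]
      rw [← e1]

end blocks

variable {n : ℕ} (Q : QuadraticForm F (Fin n → F))

/-- a quadratic form is rational on a lattice whose Gram data are rational -/
theorem quad_mem_of_gram (K : Subfield F) (b : Fin n → (Fin n → F)) (hb : ∀ k, Q (b k) ∈ K)
    (hbb : ∀ k l, polar Q (b k) (b l) ∈ K) (c : Fin n → F) (hc : ∀ k, c k ∈ K) (s : Finset (Fin n)) :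
    Q (∑ k ∈ s, c k • b k) ∈ K ∧ ∀ l, polar Q (∑ k ∈ s, c k • b k) (b l) ∈ K := by
  induction s using Finset.induction_on with
  | empty =>
    refine ⟨by simp [K.zero_mem], fun l => ?_⟩
    rw [Finset.sum_empty]
    simp [polar, K.zero_mem]
  | insert a s ha ih =>
    obtain ⟨ih1, ih2⟩ := ih
    constructor
    · rw [Finset.sum_insert ha, QuadraticMap.map_add Q, QuadraticMap.map_smul, polar_comm, polar_smul_right,
        smul_eq_mul, smul_eq_mul]
      exact K.add_mem (K.add_mem (K.mul_mem (K.mul_mem (hc a) (hc a)) (hb a)) ih1) (K.mul_mem (hc a) (ih2 a))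
    · intro l
      rw [Finset.sum_insert ha, polar_add_left, polar_smul_left, smul_eq_mul]
      exact K.add_mem (K.mul_mem (hc a) (hbb a l)) (ih2 l)


/-- `O₂⁺(4) ≀ S_t` lies in a subfield group over the prime field carrying `Q` -/
theorem plus_planes_four (hq : Fintype.card F = 4) {t : ℕ} (D : Fin t → Submodule F (Fin n → F))
    (hD : IsOrthogonalMDecomposition ⇑Q 2 D) (hplus : ∀ i, IsPlusTypeOn ⇑Q (D i)) :
    ∃ (F₀ : Subfield F) (P : GL (Fin n) F), Fintype.card F = Nat.card F₀ ^ 2 ∧
      IsQuadFormRationalStructure ⇑Q F₀ P ∧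
      decompositionStabilizer D ⊓ Cfsg.isometryGroup F ⇑Q ≤ subfieldSubgroup F₀ P := by
  classical
  have h4 : (4 : F) = 0 := by
    have := Nat.cast_card_eq_zero F
    rw [hq] at this
    exact_mod_cast this
  have h2 : (2 : F) = 0 := by
    have : (2 : F) * 2 = 0 := by linear_combination h4
    exact mul_self_eq_zero.mp this
  have : CharP F 2 := CharTwo.of_one_ne_zero_of_two_eq_zero one_ne_zero h2
  have : Fact (Nat.Prime 2) := ⟨Nat.prime_two⟩
  have hnd : ∀ i, NondegOn Q (D i) := by
    intro i x hx hall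
    by_contra hx0
    obtain ⟨y, hy, hne⟩ := (hD.decomp.nondegenerate i x hx hx0).2
    exact hne (hall y hy)
  have hfr : ∀ i, finrank F (D i) = 2 := hD.decomp.decomp.finrank_eq
  have hn : t * 2 = n := by
    have := Cfsg.Agent.Lib.Helper9.HubCor.mul_eq_card_of_isMDecomposition D hD.decomp.decomp
    rwa [Fintype.card_fin] at this
  have hblock : ∀ i, ∃ u ∈ D i, ∃ w ∈ D i, Q u = 1 ∧ Q w = 1 ∧ polar Q u w = 1 ∧
      (∀ x ∈ D i, Q x = 1 → x = u ∨ x = w ∨ x = u + w) ∧ ∀ x ∈ D i, ∃ α β : F, x = α • u + β • w := by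
    intro i
    obtain ⟨e, he, he0, hQe⟩ := exists_singular_of_plus Q (D i) (hplus i) (hfr i)
    exact blockFour Q hq (D i) (hnd i) (hfr i) e he he0 hQe
  choose u huD w hwD hQu hQw huw hclass hspanD using hblock
  let E : Fin n ≃ Fin t × Fin 2 := (finCongr hn.symm).trans finProdFinEquiv.symm
  let b : Fin n → (Fin n → F) := fun k => if (E k).2 = 0 then u (E k).1 else w (E k).1
  have hb0 : ∀ i, b (E.symm (i, 0)) = u i := by
    intro i
    simp only [b, Equiv.apply_symm_apply, if_true]
  have hb1 : ∀ i, b (E.symm (i, 1)) = w i := by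
    intro i
    simp only [b, Equiv.apply_symm_apply]
    rw [if_neg (by decide)]
  have hbD : ∀ k, b k ∈ D (E k).1 := by
    intro k
    simp only [b]
    split_ifs
    · exact huD _
    · exact hwD _
  have hbQ : ∀ k, Q (b k) = 1 := by
    intro k
    simp only [b]
    split_ifs
    · exact hQu _
    · exact hQw _
  have hspan : ⊤ ≤ Submodule.span F (Set.range b) := by
    rw [← hD.decomp.decomp.iSup_eq_top]
    apply iSup_le
    intro i x hx
    obtain ⟨α, β, rfl⟩ := hspanD i x hx
    apply Submodule.add_mem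
    · apply Submodule.smul_mem
      apply Submodule.subset_span
      exact ⟨E.symm (i, 0), hb0 i⟩
    · apply Submodule.smul_mem
      apply Submodule.subset_span
      exact ⟨E.symm (i, 1), hb1 i⟩
  have hli : LinearIndependent F b := by
    apply linearIndependent_of_top_le_span_of_card_eq_finrank hspan
    rw [Fintype.card_fin, Module.finrank_fintype_fun_eq_card, Fintype.card_fin]
  let M : Matrix (Fin n) (Fin n) F := Matrix.of fun i k => b k i
  have hM : IsUnit M := by
    rw [← Matrix.linearIndependent_cols_iff_isUnit]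
    exact hli
  let P : GL (Fin n) F := hM.unit
  have hPcol : ∀ k, (fun i => (P : Matrix (Fin n) (Fin n) F) i k) = b k := fun k => rfl
  have hPmul : ∀ c : Fin n → F, (P : Matrix (Fin n) (Fin n) F) *ᵥ c = ∑ k, c k • b k := by
    intro c
    ext i
    simp only [Matrix.mulVec, dotProduct, Finset.sum_apply, Pi.smul_apply, smul_eq_mul]
    apply Finset.sum_congr rfl
    intro k _
    change b k i * c k = c k * b k i
    ring
  have hpol : ∀ k l, polar Q (b k) (b l) ∈ (⊥ : Subfield F) := by
    intro k l
    by_cases hkl : (E k).1 = (E l).1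
    · simp only [b]
      split_ifs with hk0 hl0 hl0
      · rw [hkl, polar_self, hQu, nsmul_eq_mul, Nat.cast_ofNat, mul_one, h2]
        exact Subfield.zero_mem _
      · rw [hkl, huw]
        exact Subfield.one_mem _
      · rw [hkl, polar_comm, huw]
        exact Subfield.one_mem _
      · rw [hkl, polar_self, hQw, nsmul_eq_mul, Nat.cast_ofNat, mul_one, h2]
        exact Subfield.zero_mem _
    · rw [hD.decomp.orthogonal _ _ hkl _ (hbD k) _ (hbD l)]
      exact Subfield.zero_mem _
  refine ⟨⊥, P, ?_, ?_, ?_⟩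
  · rw [Subfield.card_bot F 2, hq]
    norm_num
  · intro c hc
    rw [hPmul]
    exact (quad_mem_of_gram Q ⊥ b (fun k => by rw [hbQ]; exact Subfield.one_mem _) hpol c hc Finset.univ).1
  · rintro g ⟨⟨σ, hσ⟩, hgI⟩
    apply mem_subfield_of_cols
    intro k
    rw [hPcol]
    simp_rw [hPcol]
    have h1 : (g : Matrix (Fin n) (Fin n) F) *ᵥ b k ∈ D (σ (E k).1) := by
      rw [← hσ]
      exact ⟨b k, hbD k, by rw [Matrix.toLin'_apply]⟩
    have h2' : Q ((g : Matrix (Fin n) (Fin n) F) *ᵥ b k) = 1 := by
      have := hgI (b k) (b k)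
      change Q ((g : Matrix (Fin n) (Fin n) F) *ᵥ b k) = Q (b k) at this
      rw [this, hbQ]
    have hsingle : ∀ m : Fin n, ∑ l, (((Pi.single m (1 : (⊥ : Subfield F)) : Fin n → (⊥ : Subfield F)) l :
        (⊥ : Subfield F)) : F) • b l = b m := by
      intro m
      rw [Finset.sum_eq_single m]
      · rw [Pi.single_eq_same]
        simp
      · intro l _ hl
        rw [Pi.single_eq_of_ne hl]
        simp
      · intro h
        exact absurd (Finset.mem_univ _) h
    rcases hclass _ _ h1 h2' with h | h | h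
    · refine ⟨Pi.single (E.symm (σ (E k).1, 0)) 1, ?_⟩
      rw [hsingle, hb0, h]
    · refine ⟨Pi.single (E.symm (σ (E k).1, 1)) 1, ?_⟩
      rw [hsingle, hb1, h]
    · refine ⟨Pi.single (E.symm (σ (E k).1, 0)) 1 + Pi.single (E.symm (σ (E k).1, 1)) 1, ?_⟩
      have : ∀ l, (((Pi.single (E.symm (σ (E k).1, 0)) (1 : (⊥ : Subfield F)) +
          Pi.single (E.symm (σ (E k).1, 1)) (1 : (⊥ : Subfield F)) : Fin n → (⊥ : Subfield F)) l :
          (⊥ : Subfield F)) : F) • b l =
          (((Pi.single (E.symm (σ (E k).1, 0)) (1 : (⊥ : Subfield F)) : Fin n → (⊥ : Subfield F)) l :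
            (⊥ : Subfield F)) : F) • b l +
          (((Pi.single (E.symm (σ (E k).1, 1)) (1 : (⊥ : Subfield F)) : Fin n → (⊥ : Subfield F)) l :
            (⊥ : Subfield F)) : F) • b l := by
        intro l
        rw [Pi.add_apply, Subfield.coe_add, add_smul]
      simp_rw [this]
      rw [Finset.sum_add_distrib, hsingle, hsingle, hb0, hb1, h]

end Cfsg.Agent.Lib.Helper13.OESmallFour
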