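import Mathlib
import Cfsg.Prelude.Def_GeometricClasses
import Cfsg.Agent.Lib.Helper13.OrthSmallA
import Cfsg.Agent.Lib.Helper13.OrthSmallGeo
import Cfsg.Agent.Lib.Helper13.OrthParab

/-!
# Even orthogonal rows, piece S1 (t,2,2) (helper13): over the field with two elements the stabiliser of an orthogonal
decomposition into plus-type planes fixes the sum of the unique non-singular vectors of the planes
-/

set_option autoImplicit false
set_option linter.unusedSectionVars false
set_option linter.unusedVariables false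

namespace Cfsg.Agent.Lib.Helper13.OESmallTwo

open Matrix Cfsg.Geo Module QuadraticMap
open Cfsg.Agent.Lib.Helper13

universe u
variable {F : Type u} [Field F] [Fintype F] {ι : Type} [Fintype ι] [DecidableEq ι]
variable (Q : QuadraticForm F (ι → F))

/-- the unique non-singular vector of a plus-type plane over the field with two elements -/
theorem exists_unique_nonsing (hF : ∀ x : F, x = 0 ∨ x = 1) (X : Submodule F (ι → F)) (hX : NondegOn Q X)
    (hdim : finrank F X = 2) (hp : IsPlusTypeOn ⇑Q X) :
    ∃ u ∈ X, Q u = 1 ∧ ∀ x ∈ X, Q x ≠ 0 → x = u := by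
  obtain ⟨e, he, he0, hQe⟩ := exists_singular_of_plus Q X hp hdim
  obtain ⟨f, hfX, hQf, hef, hspan⟩ := hyp_plane Q X hX hdim e he he0 hQe
  obtain ⟨hQc, -⟩ := hyp_coords Q e f hQe hQf hef
  have hQn : Q (e + f) = 1 := by
    rw [QuadraticMap.map_add Q, hQe, hQf, hef]
    simp
  refine ⟨e + f, X.add_mem he hfX, hQn, ?_⟩
  intro x hx hQx
  obtain ⟨α, β, hxe⟩ : ∃ α β : F, x = α • e + β • f := ⟨_, _, hspan x hx⟩
  rw [hxe, hQc] at hQx
  have ha : α = 1 := by
    rcases hF α with h | h
    · rw [h, zero_mul] at hQx
      exact absurd rfl hQx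
    · exact h
  have hb : β = 1 := by
    rcases hF β with h | h
    · rw [h, mul_zero] at hQx
      exact absurd rfl hQx
    · exact h
  rw [hxe, ha, hb, one_smul, one_smul]

/-- `O₂⁺(2) ≀ S_t` fixes a non-zero vector `v` with `Q v = t` -/
theorem plus_planes_two (hq : Fintype.card F = 2) {t : ℕ} (D : Fin t → Submodule F (ι → F))
    (hD : IsOrthogonalMDecomposition ⇑Q 2 D) (hplus : ∀ i, IsPlusTypeOn ⇑Q (D i)) :
    ∃ v : ι → F, v ≠ 0 ∧ Q v = (t : F) ∧
      decompositionStabilizer D ⊓ Cfsg.isometryGroup F ⇑Q ≤ subspaceStabilizer (Submodule.span F {v}) := by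
  have hF := zero_or_one_of_card_two hq
  have hnd : ∀ i, NondegOn Q (D i) := by
    intro i x hx hall
    by_contra hx0
    obtain ⟨y, hy, hne⟩ := (hD.decomp.nondegenerate i x hx hx0).2
    exact hne (hall y hy)
  have hfr : ∀ i, finrank F (D i) = 2 := hD.decomp.decomp.finrank_eq
  choose u huD huQ huniq using fun i => exists_unique_nonsing Q hF (D i) (hnd i) (hfr i) (hplus i)
  have horth : ∀ i j, i ≠ j → polar Q (u i) (u j) = 0 := fun i j hij =>
    hD.decomp.orthogonal i j hij _ (huD i) _ (huD j)
  have hsum : ∀ s : Finset (Fin t), Q (∑ i ∈ s, u i) = (s.card : F) ∧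
      ∀ j, j ∉ s → polar Q (∑ i ∈ s, u i) (u j) = 0 := by
    intro s
    induction s using Finset.induction_on with
    | empty =>
      refine ⟨by simp, fun j _ => ?_⟩
      rw [Finset.sum_empty]
      simp [polar]
    | insert a s ha ih =>
      obtain ⟨ih1, ih2⟩ := ih
      constructor
      · rw [Finset.sum_insert ha, QuadraticMap.map_add Q, huQ, ih1, polar_comm, ih2 a ha,
          Finset.card_insert_of_notMem ha]
        push_cast
        ring
      · intro j hj
        rw [Finset.sum_insert ha, polar_add_left, ih2 j (fun h => hj (Finset.mem_insert_of_mem h)),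
          horth a j (fun h => hj (h ▸ Finset.mem_insert_self a s)), add_zero]
  have ht2 : 2 ≤ t := hD.decomp.decomp.two_le
  set v : ι → F := ∑ i, u i with hv
  have hQv : Q v = (t : F) := by
    rw [hv, (hsum Finset.univ).1, Finset.card_univ, Fintype.card_fin]
  have hv0 : v ≠ 0 := by
    intro h0
    -- pair with a vector of `D 0` not orthogonal to `u 0`
    let i0 : Fin t := ⟨0, by omega⟩
    have hu0 : u i0 ≠ 0 := by
      intro h
      have := huQ i0
      rw [h, map_zero] at this
      exact zero_ne_one this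
    have hex : ∃ y ∈ D i0, polar Q (u i0) y ≠ 0 := by
      by_contra hne
      push Not at hne
      exact hu0 (hnd i0 (u i0) (huD i0) hne)
    obtain ⟨y, hy, hyne⟩ := hex
    apply hyne
    have h1 : polar Q v y = polar Q (u i0) y := by
      rw [hv]
      have : ∀ s : Finset (Fin t), polar Q (∑ i ∈ s, u i) y = ∑ i ∈ s, polar Q (u i) y := by
        intro s
        induction s using Finset.induction_on with
        | empty => simp [polar]
        | insert a s ha ih => rw [Finset.sum_insert ha, Finset.sum_insert ha, polar_add_left, ih]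
      rw [this, Finset.sum_eq_single i0]
      · intro j _ hj
        exact hD.decomp.orthogonal j i0 hj _ (huD j) _ hy
      · intro h
        exact absurd (Finset.mem_univ _) h
    rw [← h1, h0]
    simp [polar]
  refine ⟨v, hv0, hQv, ?_⟩
  rintro g ⟨⟨σ, hσ⟩, hgI⟩
  have hgu : ∀ i, (g : Matrix ι ι F) *ᵥ u i = u (σ i) := by
    intro i
    apply huniq
    · rw [← hσ]
      exact ⟨u i, huD i, by rw [Matrix.toLin'_apply]⟩
    · have := hgI (u i) (u i)
      change Q ((g : Matrix ι ι F) *ᵥ u i) = Q (u i) at this
      rw [this, huQ]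
      exact one_ne_zero
  have hgv : (g : Matrix ι ι F) *ᵥ v = v := by
    rw [hv, Matrix.mulVec_sum]
    simp_rw [hgu]
    exact Equiv.sum_comp σ u
  apply mem_subspaceStabilizer_of_forall'
  intro x hx
  obtain ⟨a, rfl⟩ := Submodule.mem_span_singleton.1 hx
  rw [Matrix.mulVec_smul, hgv]
  exact Submodule.smul_mem _ _ (Submodule.mem_span_singleton_self v)

end Cfsg.Agent.Lib.Helper13.OESmallTwo
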