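import Mathlib
import Cfsg.Prelude.Def_GeometricClasses
import Cfsg.Agent.Lib.Helper1.OEDefs
import Cfsg.Agent.Lib.Helper13.OEPlusBase
import Cfsg.Agent.Lib.Helper13.OrthMax2
import Cfsg.Agent.Lib.Helper13.OrthMax3
import Cfsg.Agent.Lib.Helper13.OrthSmallGen
import Cfsg.Agent.Lib.Helper13.OESmallTwo
import Cfsg.Agent.Lib.Helper13.OESmallFour
import Cfsg.Agent.Lib.Helper16.OECorPFLD
import Cfsg.Agent.Lib.Helper16.OEPlusA5
import Cfsg.Agent.Lib.Helper21.OEPDec
import Cfsg.Agent.Lib.Helper7.OETypeC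
import Cfsg.Agent.Lib.Helper28.OETypeTC11
import Cfsg.Agent.Lib.Helper28.OEPlusA
import Cfsg.Agent.Lib.Helper3.OEC6
import Cfsg.Agent.Lib.Helper3.OEC6Plus
import Cfsg.Agent.Lib.Helper29.AschCorB
import Cfsg.Agent.Lib.Helper29.S5814AFLD
import Cfsg.Agent.Lib.Helper9.HubCorA1
import Cfsg.Agent.Lib.Helper15.TensSwap
import Cfsg.Agent.Lib.Helper13.S5663U4TSW

/-!
# S5847 (`Ω₁₀⁺`) from the hub `HubOE Q` (helper13)

`cases10p` is the verbatim conclusion of the frozen S5847; the pieces not yet landed are explicit hypotheses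
(`hT3`, `hF1`, `hF2`, `hX1`, `hX2`), with the signatures of `notes/OEPlusSkel_helper13.lean.txt`.
-/

set_option autoImplicit false
set_option linter.unusedSectionVars false
set_option linter.unusedVariables false
set_option maxHeartbeats 1600000

namespace Cfsg.Agent.Lib.Helper13.OEPlus

open Matrix Cfsg Cfsg.Geo Module QuadraticMap
open Cfsg.Agent.Lib.Helper1.OE
open Cfsg.Agent.Lib.Helper13 (toQF toQF_nondegenerate)
open Cfsg.Agent.Lib.Helper21.OECorPIRR (not_omega_le_stab not_omega_le_tsPair not_omega_le_decomp_of_two_le)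
open Cfsg.Agent.Lib.Helper16.OECorPFLD (not_omega_le_field)
open Cfsg.Agent.Lib.Helper12.OECorE (odd_card_of_odd_finrank exists_perp)

variable {F : Type*} [Field F] [Fintype F]

/-- the swap of the two tensor factors, for the subgroup, the form structure and the pure tensors -/
theorem tensor_swap_data {n n₁ n₂ : ℕ} (f : (Fin n → F) → (Fin n → F) → F) (e : Fin n ≃ Fin n₁ × Fin n₂)
    (P : GL (Fin n) F) (f₁ : (Fin n₁ → F) → (Fin n₁ → F) → F) (f₂ : (Fin n₂ → F) → (Fin n₂ → F) → F)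
    (hT : IsTensorFormStructure id f f₁ f₂ e P) :
    tensorProductSubgroup n₁ n₂ e P = tensorProductSubgroup n₂ n₁ (e.trans (Equiv.prodComm _ _)) P ∧
      IsTensorFormStructure id f f₂ f₁ (e.trans (Equiv.prodComm _ _)) P :=
  ⟨Cfsg.Agent.Lib.Helper15.TensSwap.tensorProductSubgroup_swap n₁ n₂ e P,
    Cfsg.Agent.Lib.Helper13.S5663U4TSW.isTensorFormStructure_swap id f f₁ f₂ e P hT⟩

/-- **S5847** (`Ω₁₀⁺`) from the hub -/
theorem cases10p (Q : (Fin 10 → F) → F) (hQ : IsNondegenerateQuadraticForm Q) (hplus : IsPlusTypeOn Q ⊤)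
    (hub : HubOE Q)
    (hT3 : ∀ D : Fin 2 → Submodule F (Fin 10 → F), IsNondegenerateMDecomposition (polar Q) 5 D →
      (Fintype.card F % 4 = 1 ∧ AreIsometricFor Q (D 0) (D 1)) ∨
        (Fintype.card F % 4 = 3 ∧ ¬ AreIsometricFor Q (D 0) (D 1)))
    (hF1 : ¬ Odd (Fintype.card F) → ∀ K : Subalgebra F (Matrix (Fin 10) (Fin 10) F), IsFieldSubalgebra 2 K →
      IsSelfAdjointFor (polar Q) K → 2 * 2 ∣ 10)
    (hF2 : ∀ K : Subalgebra F (Matrix (Fin 10) (Fin 10) F), IsFieldSubalgebra 5 K →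
      IsSelfAdjointFor (polar Q) K → ∃ D : Fin 2 → Submodule F (Fin 10 → F), IsMDecomposition 5 D ∧
        (∀ i, IsTotallySingularQuad Q (D i)) ∧
        subalgebraNormalizer K ⊓ isometryGroup F Q ≤ decompositionStabilizer D)
    (hX1 : Odd (Fintype.card F) → ∀ (e : Fin 10 ≃ Fin 2 × Fin 5) (P : GL (Fin 10) F)
      (f₁ : (Fin 2 → F) → (Fin 2 → F) → F) (f₂ : (Fin 5 → F) → (Fin 5 → F) → F), IsSymmetricForm f₁ →
      IsSymmetricForm f₂ → IsTensorFormStructure id (polar Q) f₁ f₂ e P → (∃ x, x ≠ 0 ∧ f₁ x x = 0) →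
      ∃ D : Fin 2 → Submodule F (Fin 10 → F), IsMDecomposition 5 D ∧ (∀ i, IsTotallySingularQuad Q (D i)) ∧
        tensorProductSubgroup 2 5 e P ⊓ isometryGroup F Q ≤ decompositionStabilizer D)
    (hX2 : Odd (Fintype.card F) → ∀ (e : Fin 10 ≃ Fin 2 × Fin 5) (P : GL (Fin 10) F)
      (f₁ : (Fin 2 → F) → (Fin 2 → F) → F) (f₂ : (Fin 5 → F) → (Fin 5 → F) → F), IsSymmetricForm f₁ →
      IsSymmetricForm f₂ → IsTensorFormStructure id (polar Q) f₁ f₂ e P → (∀ x, f₁ x x = 0 → x = 0) →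
      ∃ K : Subalgebra F (Matrix (Fin 10) (Fin 10) F), IsFieldSubalgebra 2 K ∧
        IsAdjointClosedFor (polar Q) K ∧ ¬ IsSelfAdjointFor (polar Q) K ∧
        (∀ k ∈ K, ∃ c : F, ∀ v : Fin 10 → F, Q (k *ᵥ v) = c * Q v) ∧
        tensorProductSubgroup 2 5 e P ⊓ isometryGroup F Q ≤ subalgebraNormalizer K)
    (H : Subgroup (GL (Fin 10) F)) (hH : IsMaximalIn (omegaGL Q) H) :
    (∃ W : Submodule F (Fin 10 → F), W ≠ ⊥ ∧ IsTotallySingularQuad Q W ∧ Module.finrank F W ≠ 4 ∧ H = subspaceStabilizer W ⊓ omegaGL Q) ∨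
    (Odd (Fintype.card F) ∧ ∃ W : Submodule F (Fin 10 → F), W ≠ ⊥ ∧ W ≠ ⊤ ∧ Odd (Module.finrank F W) ∧ 2 * Module.finrank F W ≠ 10 ∧ IsNondegenerateOn (QuadraticMap.polar Q) W ∧ H = subspaceStabilizer W ⊓ omegaGL Q) ∨
    (∃ W : Submodule F (Fin 10 → F), Module.finrank F W = 2 ∧ IsNondegenerateOn (QuadraticMap.polar Q) W ∧ ¬ IsPlusTypeOn Q W ∧ H = subspaceStabilizer W ⊓ omegaGL Q) ∨
    (4 ≤ Fintype.card F ∧ ∃ W : Submodule F (Fin 10 → F), Module.finrank F W = 2 ∧ IsNondegenerateOn (QuadraticMap.polar Q) W ∧ IsPlusTypeOn Q W ∧ H = subspaceStabilizer W ⊓ omegaGL Q) ∨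
    (∃ W : Submodule F (Fin 10 → F), Module.finrank F W = 4 ∧ IsNondegenerateOn (QuadraticMap.polar Q) W ∧ H = subspaceStabilizer W ⊓ omegaGL Q) ∨
    (¬ Odd (Fintype.card F) ∧ ∃ v : (Fin 10 → F), Q v ≠ 0 ∧ H = subspaceStabilizer (Submodule.span F {v}) ⊓ omegaGL Q) ∨
    ((∃ p : ℕ, p.Prime ∧ Fintype.card F = p ∧ (p % 4 = 1)) ∧ ∃ D : Fin 10 → Submodule F (Fin 10 → F), IsOrthogonalMDecomposition Q 1 D ∧ H = decompositionStabilizer D ⊓ omegaGL Q) ∨
    (7 ≤ Fintype.card F ∧ ∃ D : Fin 5 → Submodule F (Fin 10 → F), IsOrthogonalMDecomposition Q 2 D ∧ H = decompositionStabilizer D ⊓ omegaGL Q) ∨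
    (Fintype.card F % 4 = 1 ∧ ∃ D : Fin 2 → Submodule F (Fin 10 → F), IsOrthogonalMDecomposition Q 5 D ∧ H = decompositionStabilizer D ⊓ omegaGL Q) ∨
    (Fintype.card F % 4 = 3 ∧ ∃ D : Fin 2 → Submodule F (Fin 10 → F), IsNondegenerateMDecomposition (QuadraticMap.polar Q) 5 D ∧ ¬ AreIsometricFor Q (D 0) (D 1) ∧ H = decompositionStabilizer D ⊓ omegaGL Q) ∨
    (Odd (Fintype.card F) ∧ ∃ K : Subalgebra F (Matrix (Fin 10) (Fin 10) F), IsFieldSubalgebra 2 K ∧ IsSelfAdjointFor (QuadraticMap.polar Q) K ∧ H = subalgebraNormalizer K ⊓ omegaGL Q) ∨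
    (∃ (F₀ : Subfield F) (r : ℕ) (P : Matrix.GeneralLinearGroup (Fin 10) F) (ζ : F), r.Prime ∧ Fintype.card F = Nat.card F₀ ^ r ∧ ζ ≠ 0 ∧ IsQuadFormRationalStructure (fun v : Fin 10 → F => ζ * Q v) F₀ P ∧ H = subfieldSubgroup F₀ P ⊓ omegaGL Q) ∨
    InOrthogonalResidualClass H := by
  have h5 : 5 ≤ 10 := by norm_num
  have hΩI := omegaGL_le_iso Q
  have hHΩ : H ≤ omegaGL Q := hH.1.le
  have hc10 : Fintype.card (Fin 10) = 10 := Fintype.card_fin 10
  have hq1 : 1 < Fintype.card F := Fintype.one_lt_card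
  rcases hub H (hH.1.le.trans hΩI) with ⟨M, hM, hHM⟩ | hres
  swap
  · exact Or.inr (Or.inr (Or.inr (Or.inr (Or.inr (Or.inr (Or.inr (Or.inr (Or.inr (Or.inr (Or.inr (Or.inr hres)))))))))))
  rcases hM with ⟨W, hW0, hW, rfl⟩ | ⟨W, hW0, hW1, hW, rfl⟩ | ⟨hq, v, hv, rfl⟩ | ⟨t, k, D, hD, hprime, rfl⟩ |
    ⟨k, D, hD, hts, rfl⟩ | ⟨r, K, hr, hK, hsa, rfl⟩ | ⟨K, hK, hac, hnsa, hsim, rfl⟩ |
    ⟨n₁, n₂, e, P, f₁, f₂, hq, h1, h2, hf₁, hf₂, hT, rfl⟩ |
    ⟨n₁, n₂, e, P, f₁, f₂, h1, h2, hf₁, hf₂, hT, hpure, rfl⟩ | ⟨F₀, r, P, ζ, hr, hc, hζ, hrat, rfl⟩ |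
    ⟨R, hq, hR, hirr, hRI, rfl⟩ | ⟨k, t, e, P, f₁, hq, hk, ht, hf₁, hT, rfl⟩ |
    ⟨k, t, e, P, f₁, hk, ht, hf₁, hT, hpure, rfl⟩
  · -- (1a) totally singular
    have hW1 : W ≠ ⊤ := ts_ne_top hQ (by norm_num) W hW
    have hHW := eq_of_le_member _ H _ hH (hHM.trans inf_le_left) (not_omega_le_stab hQ h5 W hW0 hW1)
    refine Or.inl ⟨W, hW0, hW, ?_, hHW⟩
    intro h4
    have hb := Cfsg.Agent.Lib.Helper13.ts_hyperplane_not_maximal (toQF Q hQ) (toQF_nondegenerate Q hQ)
      (by norm_num) hplus W hW (by rw [h4])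
    exact not_max_of_le_between _ H _ hH hHW.le hb
  · -- (1b) non-degenerate
    obtain ⟨W', hpos, hhalf, hW', hHW'⟩ := exit_nd hQ h5 H hH W hW0 hW1 hW (hHM.trans inf_le_left)
    have hW'0 := ne_bot_of_finrank_pos W' hpos
    have hW'1 := ne_top_of_finrank_lt W' (by omega)
    rcases Nat.even_or_odd (finrank F W') with hev | hodd
    · obtain ⟨j, hj⟩ := hev
      have hj12 : j = 1 ∨ j = 2 := by omega
      rcases hj12 with rfl | rfl
      · rcases exit_plane hQ h5 H hH W' (by omega) hW' hHW' with h | h | ⟨hq, W'', hdim, hnd, hHW''⟩ | h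
        · exact Or.inr (Or.inr (Or.inl h))
        · exact Or.inr (Or.inr (Or.inr (Or.inl h)))
        · exact Or.inr (Or.inl ⟨hq, W'', ne_bot_of_finrank_pos W'' (by omega),
            ne_top_of_finrank_lt W'' (by omega), ⟨4, by omega⟩, by omega, hnd, hHW''⟩)
        · exact Or.inr (Or.inr (Or.inr (Or.inr (Or.inr (Or.inl h)))))
      · exact Or.inr (Or.inr (Or.inr (Or.inr (Or.inl ⟨W', by omega, hW', hHW'⟩))))
    · have hqodd := odd_card_of_odd_finrank hQ W' hW' hodd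
      by_cases h55 : finrank F W' = 5
      swap
      · exact Or.inr (Or.inl ⟨hqodd, W', hW'0, hW'1, hodd, by omega, hW', hHW'⟩)
      -- the two halves
      obtain ⟨W'', hW'', hadd, horth, hcompl, -⟩ := exists_perp hQ W' hW'
      have h55' : finrank F W'' = 5 := by omega
      obtain ⟨hdec, hle1, hle2⟩ := Cfsg.Agent.Lib.Helper16.OEPlus.pair_decomp hQ 5 (by norm_num) W' W'' hW' hW''
        hcompl horth h55 h55'
      have hHle : H ≤ decompositionStabilizer ![W', W''] :=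
        le_of_inf_iso hHΩ (hHW'.le.trans inf_le_left) hle1
      have hHD : H = decompositionStabilizer ![W', W''] ⊓ omegaGL Q :=
        eq_of_le_member _ H _ hH hHle (not_omega_le_decomp_of_two_le hQ h5 (by norm_num) _ hdec)
      rcases hT3 _ hdec with ⟨hmod, hiso⟩ | ⟨hmod, hniso⟩
      · refine Or.inr (Or.inr (Or.inr (Or.inr (Or.inr (Or.inr (Or.inr (Or.inr (Or.inl ⟨hmod, _, ⟨hdec, ?_⟩, hHD⟩))))))))
        intro i j
        fin_cases i <;> fin_cases j
        · exact Cfsg.Agent.Lib.Helper3.OEC6.areIsometricFor_refl _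
        · exact hiso
        · exact Cfsg.Agent.Lib.Helper3.OEC6.areIsometricFor_symm hiso
        · exact Cfsg.Agent.Lib.Helper3.OEC6.areIsometricFor_refl _
      · exact Or.inr (Or.inr (Or.inr (Or.inr (Or.inr (Or.inr (Or.inr (Or.inr (Or.inr (Or.inl
          ⟨hmod, _, hdec, hniso, hHD⟩)))))))))
  · -- (1c) non-singular vector
    obtain ⟨hs0, hs1⟩ := span_ne hQ (by norm_num) v hv
    exact Or.inr (Or.inr (Or.inr (Or.inr (Or.inr (Or.inl ⟨hq, v, hv,
      eq_of_le_member _ H _ hH (hHM.trans inf_le_left) (not_omega_le_stab hQ h5 _ hs0 hs1)⟩)))))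
  · -- (2a) isometric decomposition
    have hdim := Cfsg.Agent.Lib.Helper9.HubCor.mul_eq_card_of_isMDecomposition D hD.decomp.decomp
    rw [hc10] at hdim
    have ht2 := hD.decomp.decomp.two_le
    have ht10 : t ∣ 10 := Dvd.intro _ hdim
    have ht' : t ≤ 10 := Nat.le_of_dvd (by norm_num) ht10
    have hcases : (t = 2 ∧ k = 5) ∨ (t = 5 ∧ k = 2) ∨ (t = 10 ∧ k = 1) := by
      interval_cases t <;> omega
    rcases hcases with ⟨rfl, rfl⟩ | ⟨rfl, rfl⟩ | ⟨rfl, rfl⟩
    · -- two 5-spaces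
      have hHD : H = decompositionStabilizer D ⊓ omegaGL Q :=
        eq_of_le_member _ H _ hH (hHM.trans inf_le_left)
          (not_omega_le_decomp_of_two_le hQ h5 (by norm_num) _ hD.decomp)
      rcases hT3 D hD.decomp with ⟨hmod, -⟩ | ⟨-, hniso⟩
      · exact Or.inr (Or.inr (Or.inr (Or.inr (Or.inr (Or.inr (Or.inr (Or.inr (Or.inl ⟨hmod, D, hD, hHD⟩))))))))
      · exact absurd (hD.isometric 0 1) hniso
    · -- five planes
      have hHD : H = decompositionStabilizer D ⊓ omegaGL Q :=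
        eq_of_le_member _ H _ hH (hHM.trans inf_le_left)
          (not_omega_le_decomp_of_two_le hQ h5 (by norm_num) _ hD.decomp)
      have hpl : ∀ i, IsPlusTypeOn Q (D i) := fun i =>
        (Cfsg.Agent.Lib.Helper7.OEType.isPlusTypeOn_top_iff_block hQ D hD ⟨2, rfl⟩ ⟨1, rfl⟩ i).mp hplus
      by_cases hq7 : 7 ≤ Fintype.card F
      · exact Or.inr (Or.inr (Or.inr (Or.inr (Or.inr (Or.inr (Or.inr (Or.inl ⟨hq7, D, hD, hHD⟩)))))))
      have hpp : IsPrimePow (Fintype.card F) := Fintype.isPrimePow_card_of_field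
      have hq6 : Fintype.card F ≠ 6 := by
        intro h6
        rw [h6] at hpp
        have : ¬ IsPrimePow 6 := by
          rw [isPrimePow_nat_iff]
          rintro ⟨p, k, hp, hk, hpk⟩
          have h2 : 2 ∣ p ^ k := by rw [hpk]; norm_num
          have h3 : 3 ∣ p ^ k := by rw [hpk]; norm_num
          have h2' := (Nat.prime_dvd_prime_iff_eq Nat.prime_two hp).mp (Nat.Prime.dvd_of_dvd_pow Nat.prime_two h2)
          have h3' := (Nat.prime_dvd_prime_iff_eq Nat.prime_three hp).mp (Nat.Prime.dvd_of_dvd_pow Nat.prime_three h3)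
          omega
        exact this hpp
      have hq : Fintype.card F = 2 ∨ Fintype.card F = 3 ∨ Fintype.card F = 4 ∨ Fintype.card F = 5 := by omega
      rcases hq with hq | hq | hq | hq
      · -- `q = 2` : the sum of the non-singular vectors is fixed
        obtain ⟨v, hv0, hQv, hle⟩ := Cfsg.Agent.Lib.Helper13.OESmallTwo.plus_planes_two (toQF Q hQ) hq D hD hpl
        have h2F : (2 : F) = 0 := Cfsg.Agent.Lib.Helper12.OECorE.two_eq_zero_of_not_odd (by rw [hq]; decide)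
        have hQv' : Q v ≠ 0 := by
          change (toQF Q hQ) v ≠ 0
          rw [hQv]
          have : ((5 : ℕ) : F) = 1 := by
            push_cast
            linear_combination 2 * h2F
          rw [this]
          exact one_ne_zero
        obtain ⟨hs0, hs1⟩ := span_ne hQ (by norm_num) v hQv'
        have hHv : H ≤ subspaceStabilizer (Submodule.span F {v}) :=
          le_of_inf_iso hHΩ (hHD.le.trans inf_le_left) hle
        exact Or.inr (Or.inr (Or.inr (Or.inr (Or.inr (Or.inl ⟨by rw [hq]; decide, v, hQv',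
          eq_of_le_member _ H _ hH hHv (not_omega_le_stab hQ h5 _ hs0 hs1)⟩)))))
      · exact (not_max_of_le_between _ H _ hH hHD.le
          (Cfsg.Agent.Lib.Helper13.frame_not_maximal_of_five_le (toQF Q hQ) (toQF_nondegenerate Q hQ) hq
            (by norm_num) 2 (Or.inl rfl) D hD)).elim
      · -- `q = 4` : inside a subfield group over the prime field
        obtain ⟨F₀, P, hc, hrat, hle⟩ :=
          Cfsg.Agent.Lib.Helper13.OESmallFour.plus_planes_four (toQF Q hQ) hq D hD hpl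
        have hHs : H ≤ subfieldSubgroup F₀ P := le_of_inf_iso hHΩ (hHD.le.trans inf_le_left) hle
        have hrat' : IsQuadFormRationalStructure (fun v : Fin 10 → F => 1 * Q v) F₀ P := by
          intro u hu
          change 1 * Q _ ∈ F₀
          rw [one_mul]
          exact hrat u hu
        exact Or.inr (Or.inr (Or.inr (Or.inr (Or.inr (Or.inr (Or.inr (Or.inr (Or.inr (Or.inr (Or.inr (Or.inl
          ⟨F₀, 2, P, 1, Nat.prime_two, hc, one_ne_zero, hrat',
            eq_of_le_member _ H _ hH hHs (not_omega_le_subfield hQ h5 F₀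
              (Cfsg.Agent.Lib.Helper29.AschCor.proper_of_card F₀ 2 Nat.prime_two hc) P)⟩)))))))))))
      · exact (not_max_of_le_between _ H _ hH hHD.le
          (Cfsg.Agent.Lib.Helper13.small_decomp_not_maximal_of_le (toQF Q hQ) (toQF_nondegenerate Q hQ) 2 D hD hpl
            (Or.inl ⟨rfl, Or.inr (Or.inr ⟨by norm_num, hq⟩)⟩))).elim
    · -- ten lines
      have hHD : H = decompositionStabilizer D ⊓ omegaGL Q :=
        eq_of_le_member _ H _ hH (hHM.trans inf_le_left)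
          (Cfsg.Agent.Lib.Helper21.OEPDec.not_omega_le_decompositionStabilizer (toQF Q hQ)
            (toQF_nondegenerate Q hQ) (by rw [hc10]; norm_num) D hD)
      have hmod := Cfsg.Agent.Lib.Helper28.OEPlus.lines_mod_four hQ rfl hplus D hD
      exact Or.inr (Or.inr (Or.inr (Or.inr (Or.inr (Or.inr (Or.inl
        ⟨⟨Fintype.card F, hprime rfl, rfl, hmod⟩, D, hD, hHD⟩))))))
  · -- (2b) totally singular pair : `k = 5` is odd
    exfalso
    have hdim := Cfsg.Agent.Lib.Helper9.HubCor.mul_eq_card_of_isMDecomposition D hD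
    rw [hc10] at hdim
    have hk5 : k = 5 := by omega
    subst hk5
    exact not_max_of_le_between _ H _ hH (le_inf (hHM.trans inf_le_left) hHΩ)
      (Cfsg.Agent.Lib.Helper13.ts_pair_not_maximal (toQF Q hQ) (toQF_nondegenerate Q hQ) (by norm_num) 5
        (by norm_num) ⟨2, rfl⟩ D hD hts)
  · -- (3a) self-adjoint field
    have hdvd := Cfsg.Agent.Lib.Helper29.S5814.field_degree_dvd r K hK
    rw [hc10] at hdvd
    have hr25 : r = 2 ∨ r = 5 := by
      have hle : r ≤ 10 := Nat.le_of_dvd (by norm_num) hdvd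
      have h2 := hr.two_le
      interval_cases r <;> first | omega | (exfalso; revert hr; decide)
    rcases hr25 with rfl | rfl
    · have hHK := eq_of_le_member _ H _ hH (hHM.trans inf_le_left) (not_omega_le_field hQ h5 2 hr K hK)
      by_cases hodd : Odd (Fintype.card F)
      · exact Or.inr (Or.inr (Or.inr (Or.inr (Or.inr (Or.inr (Or.inr (Or.inr (Or.inr (Or.inr (Or.inl
          ⟨hodd, K, hK, hsa, hHK⟩))))))))))
      · exfalso
        have := hF1 hodd K hK hsa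
        omega
    · exfalso
      obtain ⟨D, hD, hts, hle⟩ := hF2 K hK hsa
      have hHD : H ≤ decompositionStabilizer D := fun g hg => hle (hHM hg)
      exact not_max_of_le_between _ H _ hH (le_inf hHD hHΩ)
        (Cfsg.Agent.Lib.Helper13.ts_pair_not_maximal (toQF Q hQ) (toQF_nondegenerate Q hQ) (by norm_num) 5
          (by norm_num) ⟨2, rfl⟩ D hD hts)
  · -- (3b) unitary field : `n / 2 = 5` is odd
    exfalso
    have := (Cfsg.Agent.Lib.Helper28.OETypeTC11.isPlusTypeOn_top_iff_of_unitaryField hQ 5 (by rw [hc10]) K hK hac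
      hnsa hsim).mp hplus
    revert this
    decide
  · -- (4o) symmetric tensor product
    exfalso
    have hcard := Fintype.card_congr e
    rw [hc10, Fintype.card_prod, Fintype.card_fin, Fintype.card_fin] at hcard
    have h110 : n₁ ∣ 10 := Dvd.intro _ hcard.symm
    have h1' : n₁ ≤ 10 := Nat.le_of_dvd (by norm_num) h110
    have hcases : (n₁ = 2 ∧ n₂ = 5) ∨ (n₁ = 5 ∧ n₂ = 2) := by
      interval_cases n₁ <;> omega
    -- reduce to `2 × 5`
    have key : ∀ (e : Fin 10 ≃ Fin 2 × Fin 5) (P : GL (Fin 10) F) (f₁ : (Fin 2 → F) → (Fin 2 → F) → F)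
        (f₂ : (Fin 5 → F) → (Fin 5 → F) → F), IsSymmetricForm f₁ → IsSymmetricForm f₂ →
        IsTensorFormStructure id (polar Q) f₁ f₂ e P → H ≤ tensorProductSubgroup 2 5 e P → False := by
      intro e P f₁ f₂ hf₁ hf₂ hT hHT
      have hHTI : H ≤ tensorProductSubgroup 2 5 e P ⊓ isometryGroup F Q :=
        le_inf hHT (hHΩ.trans hΩI)
      by_cases hiso : ∃ x, x ≠ 0 ∧ f₁ x x = 0
      · obtain ⟨D, hD, hts, hle⟩ := hX1 hq e P f₁ f₂ hf₁ hf₂ hT hiso
        exact not_max_of_le_between _ H _ hH (le_inf (hHTI.trans hle) hHΩ)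
          (Cfsg.Agent.Lib.Helper13.ts_pair_not_maximal (toQF Q hQ) (toQF_nondegenerate Q hQ) (by norm_num) 5
            (by norm_num) ⟨2, rfl⟩ D hD hts)
      · have haniso : ∀ x, f₁ x x = 0 → x = 0 := by
          intro x hx
          by_contra hx0
          exact hiso ⟨x, hx0, hx⟩
        obtain ⟨K, hK, hac, hnsa, hsim, -⟩ := hX2 hq e P f₁ f₂ hf₁ hf₂ hT haniso
        have := (Cfsg.Agent.Lib.Helper28.OETypeTC11.isPlusTypeOn_top_iff_of_unitaryField hQ 5 (by rw [hc10]) K hK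
          hac hnsa hsim).mp hplus
        revert this
        decide
    rcases hcases with ⟨rfl, rfl⟩ | ⟨rfl, rfl⟩
    · exact key e P f₁ f₂ hf₁ hf₂ hT (hHM.trans inf_le_left)
    · obtain ⟨hsw, hT'⟩ := tensor_swap_data (polar Q) e P f₁ f₂ hT
      exact key _ P f₂ f₁ hf₂ hf₁ hT' (by rw [← hsw]; exact hHM.trans inf_le_left)
  · -- (4s) symplectic tensor product : a factor of odd dimension
    exfalso
    have hcard := Fintype.card_congr e
    rw [hc10, Fintype.card_prod, Fintype.card_fin, Fintype.card_fin] at hcard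
    obtain ⟨a, ha⟩ := Cfsg.Agent.Lib.Helper28.OEPlus.even_of_symplectic f₁ hf₁
    obtain ⟨b, hb⟩ := Cfsg.Agent.Lib.Helper28.OEPlus.even_of_symplectic f₂ hf₂
    rw [ha, hb] at hcard
    have : 10 = 4 * (a * b) := by rw [hcard]; ring
    omega
  · -- (5) subfield
    exact Or.inr (Or.inr (Or.inr (Or.inr (Or.inr (Or.inr (Or.inr (Or.inr (Or.inr (Or.inr (Or.inr (Or.inl
      ⟨F₀, r, P, ζ, hr, hc, hζ, hrat, eq_of_le_member _ H _ hH (hHM.trans inf_le_left)
        (not_omega_le_subfield hQ h5 F₀ (Cfsg.Agent.Lib.Helper29.AschCor.proper_of_card F₀ r hr hc) P)⟩)))))))))))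
  · -- (6) symplectic type
    exact (Cfsg.Agent.Lib.Helper3.OEC6.c6_false_ten hQ R hR hirr hRI).elim
  · -- (7o)
    exfalso
    have hcard := Fintype.card_congr e
    rw [hc10, Fintype.card_fun, Fintype.card_fin, Fintype.card_fin] at hcard
    exact pow_ne_ten k t hk ht hcard.symm
  · -- (7s)
    exfalso
    have hcard := Fintype.card_congr e
    rw [hc10, Fintype.card_fun, Fintype.card_fin, Fintype.card_fin] at hcard
    exact pow_ne_ten k t hk ht hcard.symm

end Cfsg.Agent.Lib.Helper13.OEPlus
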