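import Mathlib
import Cfsg.Agent.Lib.Helper13.TensorF3
import Cfsg.Agent.Lib.Helper13.TensorHerm

set_option autoImplicit false

namespace Cfsg.Agent.Lib.Helper13.TNM

open scoped Matrix Kronecker commutatorElement
open Cfsg Cfsg.Geo

section refl
variable {κ : Type} [Fintype κ] [DecidableEq κ] {F : Type*} [Field F]

theorem ext_mulVec (A B : Matrix κ κ F) (h : ∀ x, A *ᵥ x = B *ᵥ x) : A = B := by
  ext i j
  have := congrFun (h (Pi.single j 1)) i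
  rw [mulVec_single_one', mulVec_single_one'] at this
  exact this

theorem dot_symm (G : Matrix κ κ F) (hG : Gᵀ = G) (x y : κ → F) :
    x ⬝ᵥ (G *ᵥ y) = y ⬝ᵥ (G *ᵥ x) := by
  rw [Matrix.dotProduct_mulVec, ← Matrix.mulVec_transpose, hG, dotProduct_comm]

theorem dot_isom (G g : Matrix κ κ F) (hg : gᵀ * G * g = G) (a b : κ → F) :
    (g *ᵥ a) ⬝ᵥ (G *ᵥ (g *ᵥ b)) = a ⬝ᵥ (G *ᵥ b) := by
  have h1 : a ⬝ᵥ (G *ᵥ b) = a ⬝ᵥ ((gᵀ * G * g) *ᵥ b) := by rw [hg]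
  rw [h1, ← Matrix.mulVec_mulVec, ← Matrix.mulVec_mulVec, Matrix.dotProduct_mulVec a gᵀ,
    Matrix.vecMul_transpose]

theorem exists_nonsingular_vec (G : Matrix κ κ F) (hG : Gᵀ = G) (h2 : (2 : F) ≠ 0) (hne : G ≠ 0) :
    ∃ z : κ → F, z ⬝ᵥ (G *ᵥ z) ≠ 0 := by
  by_contra hcon
  push Not at hcon
  apply hne
  ext a b
  rw [Matrix.zero_apply]
  have hs : ∀ a b, (Pi.single a 1 : κ → F) ⬝ᵥ (G *ᵥ (Pi.single b 1 : κ → F)) = G a b := by
    intro a b
    rw [single_one_dotProduct, mulVec_single_one']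
  have hba : G b a = G a b := by
    have := congrFun (congrFun hG a) b
    rwa [Matrix.transpose_apply] at this
  have haa := hcon (Pi.single a 1)
  rw [hs] at haa
  have hbb := hcon (Pi.single b 1)
  rw [hs] at hbb
  have e1 := hcon ((Pi.single a 1 : κ → F) + Pi.single b 1)
  rw [Matrix.mulVec_add, add_dotProduct, dotProduct_add, dotProduct_add, hs, hs, hs, hs, haa, hbb,
    hba] at e1
  have h3 : (2 : F) * G a b = 0 := by linear_combination e1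
  rcases mul_eq_zero.mp h3 with h | h
  · exact absurd h h2
  · exact h

theorem exists_perp (w : κ → F) (j₀ j₁ : κ) (hj : j₀ ≠ j₁) :
    ∃ y : κ → F, y ≠ 0 ∧ y ⬝ᵥ w = 0 := by
  by_cases h0 : w j₀ = 0
  · refine ⟨Pi.single j₀ 1, ?_, ?_⟩
    · intro h; have := congrFun h j₀; simp at this
    · rw [single_one_dotProduct]; exact h0
  · refine ⟨w j₁ • (Pi.single j₀ 1 : κ → F) - w j₀ • (Pi.single j₁ 1 : κ → F), ?_, ?_⟩
    · intro h
      have := congrFun h j₁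
      simp [hj.symm] at this
      exact h0 this
    · rw [sub_dotProduct, smul_dotProduct, smul_dotProduct, single_one_dotProduct,
        single_one_dotProduct, smul_eq_mul, smul_eq_mul]
      ring

/-- the matrix of the reflection in `u` for the form with Gram matrix `G` -/
def RM (G : Matrix κ κ F) (u : κ → F) : Matrix κ κ F :=
  1 - (2 / (u ⬝ᵥ (G *ᵥ u))) • Matrix.vecMulVec u (G *ᵥ u)

theorem RM_apply (G : Matrix κ κ F) (u : κ → F) (a a' : κ) :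
    RM G u a a' = (1 : Matrix κ κ F) a a' - 2 / (u ⬝ᵥ (G *ᵥ u)) * (u a * (G *ᵥ u) a') := by
  unfold RM
  rw [Matrix.sub_apply, Matrix.smul_apply, Matrix.vecMulVec_apply, smul_eq_mul]

theorem vecMulVec_mulVec' (u w x : κ → F) : Matrix.vecMulVec u w *ᵥ x = (x ⬝ᵥ w) • u := by
  funext a
  simp only [Matrix.mulVec, dotProduct, Matrix.vecMulVec_apply, Pi.smul_apply, smul_eq_mul]
  rw [Finset.sum_mul]
  apply Finset.sum_congr rfl
  intro b _
  ring

theorem RM_mulVec (G : Matrix κ κ F) (u x : κ → F) :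
    RM G u *ᵥ x = x - (2 / (u ⬝ᵥ (G *ᵥ u)) * (x ⬝ᵥ (G *ᵥ u))) • u := by
  unfold RM
  rw [Matrix.sub_mulVec, Matrix.one_mulVec, Matrix.smul_mulVec, vecMulVec_mulVec', smul_smul]

theorem RM_mulVec_of (G : Matrix κ κ F) (u x : κ → F) (h s : F) (hh : u ⬝ᵥ (G *ᵥ u) = h)
    (hs : x ⬝ᵥ (G *ᵥ u) = s) : RM G u *ᵥ x = x - (2 / h * s) • u := by
  rw [RM_mulVec, hh, hs]

theorem RM_fix (G : Matrix κ κ F) (u x : κ → F) (hs : x ⬝ᵥ (G *ᵥ u) = 0) : RM G u *ᵥ x = x := by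
  rw [RM_mulVec, hs, mul_zero, zero_smul, sub_zero]

theorem RM_key (h : F) : 2 / h * (2 / h * h - 2) = 0 := by
  by_cases h0 : h = 0
  · rw [h0, div_zero, zero_mul]
  · rw [div_mul_cancel₀ _ h0]; ring

theorem RM_sq (G : Matrix κ κ F) (u : κ → F) : RM G u * RM G u = 1 := by
  apply ext_mulVec
  intro x
  rw [← Matrix.mulVec_mulVec, Matrix.one_mulVec, RM_mulVec G u x, RM_mulVec, sub_dotProduct,
    smul_dotProduct, smul_eq_mul]
  obtain ⟨h, hh⟩ : ∃ h, h = u ⬝ᵥ (G *ᵥ u) := ⟨_, rfl⟩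
  obtain ⟨s, hs⟩ : ∃ s, s = x ⬝ᵥ (G *ᵥ u) := ⟨_, rfl⟩
  rw [← hh, ← hs]
  have key := RM_key h
  rw [sub_sub, ← add_smul]
  have h0 : 2 / h * s + 2 / h * (s - 2 / h * s * h) = 0 := by linear_combination (-s) * key
  rw [h0, zero_smul, sub_zero]

theorem RM_preserve (G : Matrix κ κ F) (hG : Gᵀ = G) (u : κ → F) :
    (RM G u)ᵀ * G * RM G u = G := by
  have h := (preserves_iff (id : F → F) rfl rfl (fun _ _ => rfl) (fun _ _ => rfl) G (RM G u)).mp ?_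
  · rwa [Matrix.map_id] at h
  intro x y
  rw [formOfGram_eq, formOfGram_eq, Function.id_comp, Function.id_comp, RM_mulVec, RM_mulVec]
  simp only [Matrix.mulVec_sub, Matrix.mulVec_smul, sub_dotProduct, dotProduct_sub, smul_dotProduct,
    dotProduct_smul, smul_eq_mul]
  rw [dot_symm G hG u y]
  linear_combination ((x ⬝ᵥ (G *ᵥ u)) * (y ⬝ᵥ (G *ᵥ u))) * RM_key (u ⬝ᵥ (G *ᵥ u))

/-- the reflection as an invertible matrix -/
def rflG (G : Matrix κ κ F) (u : κ → F) : GL κ F := ⟨RM G u, RM G u, RM_sq G u, RM_sq G u⟩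

theorem rflG_val (G : Matrix κ κ F) (u : κ → F) :
    ((rflG G u : GL κ F) : Matrix κ κ F) = RM G u := rfl

theorem rflG_inv (G : Matrix κ κ F) (u : κ → F) : (rflG G u)⁻¹ = rflG G u := Units.ext rfl

theorem rflG_conj (G : Matrix κ κ F) (g : GL κ F)
    (hg : (g : Matrix κ κ F)ᵀ * G * (g : Matrix κ κ F) = G) (u : κ → F) :
    g * rflG G u * g⁻¹ = rflG G ((g : Matrix κ κ F) *ᵥ u) := by
  apply Units.ext
  rw [Units.val_mul, Units.val_mul, rflG_val, rflG_val]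
  apply ext_mulVec
  intro x
  have h1 : (((g⁻¹ : GL κ F) : Matrix κ κ F) *ᵥ x) ⬝ᵥ (G *ᵥ u)
      = x ⬝ᵥ (G *ᵥ ((g : Matrix κ κ F) *ᵥ u)) := by
    rw [← dot_isom G _ hg (((g⁻¹ : GL κ F) : Matrix κ κ F) *ᵥ x) u,
      Matrix.mulVec_mulVec x (g : Matrix κ κ F) ((g⁻¹ : GL κ F) : Matrix κ κ F), ← Units.val_mul,
      mul_inv_cancel, Units.val_one, Matrix.one_mulVec]
  rw [← Matrix.mulVec_mulVec, ← Matrix.mulVec_mulVec, RM_mulVec, RM_mulVec, Matrix.mulVec_sub,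
    Matrix.mulVec_smul, Matrix.mulVec_mulVec x (g : Matrix κ κ F) ((g⁻¹ : GL κ F) : Matrix κ κ F),
    ← Units.val_mul, mul_inv_cancel, Units.val_one, Matrix.one_mulVec, dot_isom G _ hg u u, h1]

theorem rflG_mul_eq_commutator (G : Matrix κ κ F) (hG : Gᵀ = G) (u u' : κ → F)
    (heq : u ⬝ᵥ (G *ᵥ u) = u' ⬝ᵥ (G *ᵥ u')) (hd : (u - u') ⬝ᵥ (G *ᵥ (u - u')) ≠ 0) :
    rflG G u' * rflG G u = ⁅rflG G (u - u'), rflG G u⁆ := by
  have hdd : (u - u') ⬝ᵥ (G *ᵥ (u - u')) = 2 * (u ⬝ᵥ (G *ᵥ (u - u'))) := by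
    rw [Matrix.mulVec_sub, sub_dotProduct, dotProduct_sub, dotProduct_sub, dot_symm G hG u' u, ← heq]
    ring
  have h2 : (2 : F) ≠ 0 := by
    intro h; apply hd; rw [hdd, h, zero_mul]
  have hne : u ⬝ᵥ (G *ᵥ (u - u')) ≠ 0 := by
    intro h0; apply hd; rw [hdd, h0, mul_zero]
  have hgu : RM G (u - u') *ᵥ u = u' := by
    rw [RM_mulVec]
    have h1 : 2 / ((u - u') ⬝ᵥ (G *ᵥ (u - u'))) * (u ⬝ᵥ (G *ᵥ (u - u'))) = 1 := by
      rw [hdd]; field_simp
    rw [h1, one_smul]; abel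
  have hg : ((rflG G (u - u') : GL κ F) : Matrix κ κ F)ᵀ * G *
      ((rflG G (u - u') : GL κ F) : Matrix κ κ F) = G := RM_preserve G hG _
  rw [commutatorElement_def, rflG_conj G _ hg u, rflG_inv, rflG_val, hgu]

theorem exists_perm_mulVec_mem_blk {t : ℕ} (col : κ → Fin t) (M : GL κ F)
    (hM : M ∈ decompositionStabilizer (blk (F := F) col)) :
    ∃ π : Equiv.Perm (Fin t), ∀ k x, x ∈ blk (F := F) col k →
      (M : Matrix κ κ F) *ᵥ x ∈ blk (F := F) col (π k) := by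
  obtain ⟨π, hπ⟩ := hM
  refine ⟨π, fun k x hx => ?_⟩
  rw [← hπ k]
  exact ⟨x, hx, Matrix.toLin'_apply _ _⟩

theorem blk_unique {t : ℕ} (col : κ → Fin t) (x : κ → F) (k k' : Fin t)
    (hx : x ∈ blk (F := F) col k) (hx' : x ∈ blk (F := F) col k') (hne : x ≠ 0) : k = k' := by
  by_contra h
  apply hne
  funext a
  by_cases ha : col a = k
  · exact (mem_blk col k' x).mp hx' a (by rw [ha]; exact h)
  · exact (mem_blk col k x).mp hx a ha

end refl

section pt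
variable {l m : Type} [Fintype l] [Fintype m] {F : Type*} [Field F]

/-- pure tensors in coordinates -/
def pt (x : l → F) (y : m → F) : l × m → F := fun p => x p.1 * y p.2

omit [Fintype l] [Fintype m] in
theorem pt_apply (x : l → F) (y : m → F) (p : l × m) : pt x y p = x p.1 * y p.2 := rfl

theorem pt_dot (x x' : l → F) (y y' : m → F) : pt x y ⬝ᵥ pt x' y' = (x ⬝ᵥ x') * (y ⬝ᵥ y') := by
  simp only [dotProduct, pt_apply, Fintype.sum_prod_type]
  rw [Finset.sum_mul_sum]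
  apply Finset.sum_congr rfl
  intro i _
  apply Finset.sum_congr rfl
  intro j _
  ring

theorem kron_mulVec_pt (A : Matrix l l F) (B : Matrix m m F) (x : l → F) (y : m → F) :
    (A ⊗ₖ B) *ᵥ pt x y = pt (A *ᵥ x) (B *ᵥ y) :=
  kron_mulVec_pure A B x y

omit [Fintype l] [Fintype m] in
theorem pt_add_left (x x' : l → F) (y : m → F) : pt (x + x') y = pt x y + pt x' y := by
  funext p
  simp only [pt_apply, Pi.add_apply]
  ring

omit [Fintype l] [Fintype m] in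
theorem pt_sub_left (x x' : l → F) (y : m → F) : pt (x - x') y = pt x y - pt x' y := by
  funext p
  simp only [pt_apply, Pi.sub_apply]
  ring

omit [Fintype l] [Fintype m] in
theorem pt_ne_zero (x : l → F) (y : m → F) (hx : x ≠ 0) (hy : y ≠ 0) : pt x y ≠ 0 := by
  obtain ⟨i, hi⟩ : ∃ i, x i ≠ 0 := by
    by_contra hcon; push Not at hcon; exact hx (funext hcon)
  obtain ⟨j, hj⟩ : ∃ j, y j ≠ 0 := by
    by_contra hcon; push Not at hcon; exact hy (funext hcon)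
  intro h
  have := congrFun h (i, j)
  rw [pt_apply] at this
  exact mul_ne_zero hi hj this

theorem pt_single_mem_blk {n₁ n₂ : ℕ} (i : Fin n₁) (y : Fin n₂ → F) :
    pt (Pi.single i 1 : Fin n₁ → F) y ∈ blk (F := F) (Prod.fst : Fin n₁ × Fin n₂ → Fin n₁) i := by
  rw [mem_blk]
  intro a ha
  rw [pt_apply, Pi.single_apply, if_neg ha, zero_mul]

end pt

section omega
variable {ι : Type} [Fintype ι] [DecidableEq ι] {F : Type*} [Field F]

theorem commutator_mem_omegaGL (Q : (ι → F) → F) (A B : GL ι F) (hA : A ∈ Cfsg.isometryGroup F Q)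
    (hB : B ∈ Cfsg.isometryGroup F Q) : ⁅A, B⁆ ∈ omegaGL Q := by
  unfold omegaGL
  rw [Subgroup.mem_map]
  refine ⟨⁅(⟨A, hA⟩ : Cfsg.isometryGroup F Q), ⟨B, hB⟩⁆, ?_, rfl⟩
  exact Subgroup.commutator_mem_commutator (Subgroup.mem_top _) (Subgroup.mem_top _)

theorem mem_isometryGroup_of_mem_omegaGL (Q : (ι → F) → F) (g : GL ι F) (h : g ∈ omegaGL Q) :
    g ∈ Cfsg.isometryGroup F Q := by
  unfold omegaGL at h
  obtain ⟨x, _, rfl⟩ := Subgroup.mem_map.mp h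
  exact x.2

theorem polar_of_iso (Q : (ι → F) → F) (g : GL ι F) (h : g ∈ Cfsg.isometryGroup F Q) :
    g ∈ Cfsg.preserving (Units.coeHom (Matrix ι ι F)) (QuadraticMap.polar Q) := by
  intro u v
  have hq : ∀ x, Q ((Units.coeHom (Matrix ι ι F)) g *ᵥ x) = Q x := fun x => h x x
  unfold QuadraticMap.polar
  rw [← Matrix.mulVec_add, hq, hq, hq]

theorem iso_of_polar (Q : (ι → F) → F) (h2 : (2 : F) ≠ 0)
    (hsmul : ∀ (c : F) (v : ι → F), Q (c • v) = c ^ 2 * Q v) (g : GL ι F)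
    (h : g ∈ Cfsg.preserving (Units.coeHom (Matrix ι ι F)) (QuadraticMap.polar Q)) :
    g ∈ Cfsg.isometryGroup F Q := by
  intro u _
  show Q ((Units.coeHom (Matrix ι ι F)) g *ᵥ u) = Q u
  have hp : ∀ x, QuadraticMap.polar Q x x = 2 * Q x := by
    intro x
    unfold QuadraticMap.polar
    have hx : x + x = (2 : F) • x := (two_smul F x).symm
    rw [hx, hsmul]
    ring
  have h1 := h u u
  rw [hp, hp] at h1
  exact mul_left_cancel₀ h2 h1

end omega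

section main
variable {ι : Type} [Fintype ι] [DecidableEq ι] {F : Type*} [Field F] [Fintype F]

/-- over the field with three elements the stabiliser of a tensor decomposition `3 ⊗ n₂` of
orthogonal type is not maximal in `Ω`: it lies in the stabiliser of a decomposition into three
non-degenerate subspaces -/
theorem tensor_O3_not_maximal (hq : Fintype.card F = 3) (Q : (ι → F) → F)
    (hsmul : ∀ (c : F) (v : ι → F), Q (c • v) = c ^ 2 * Q v)
    (n₂ : ℕ) (hn₂ : 2 ≤ n₂) (e : ι ≃ Fin 3 × Fin n₂) (P : GL ι F)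
    (f₁ : (Fin 3 → F) → (Fin 3 → F) → F) (f₂ : (Fin n₂ → F) → (Fin n₂ → F) → F)
    (hf₁ : IsSymmetricForm f₁) (hf₂ : IsSymmetricForm f₂)
    (hT : IsTensorFormStructure id (QuadraticMap.polar Q) f₁ f₂ e P) :
    ∃ K : Subgroup (GL ι F), tensorProductSubgroup 3 n₂ e P ⊓ omegaGL Q < K ∧ K < omegaGL Q := by
  classical
  obtain ⟨c, hc, hT⟩ := hT
  obtain ⟨G₁, hG₁⟩ : ∃ G₁ : Matrix (Fin 3) (Fin 3) F, G₁ = gramMatrix f₁ := ⟨_, rfl⟩
  obtain ⟨G₂, hG₂⟩ : ∃ G₂ : Matrix (Fin n₂) (Fin n₂) F, G₂ = gramMatrix f₂ := ⟨_, rfl⟩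
  rw [← hG₁, ← hG₂] at hT
  have h2 : (2 : F) ≠ 0 := F3_two_ne hq
  have hG₂symm : G₂ᵀ = G₂ := by
    ext a b
    rw [Matrix.transpose_apply, hG₂]
    exact hf₂.symm _ _
  have hG₂ne : G₂ ≠ 0 := by
    intro hz
    have hv : (Pi.single (⟨0, by omega⟩ : Fin n₂) 1 : Fin n₂ → F) ≠ 0 := by
      intro h
      have := congrFun h ⟨0, by omega⟩
      simp at this
    obtain ⟨x, hx⟩ := (hf₂.nondegenerate _ hv).1
    apply hx
    rw [bilin_eq_formOfGram hf₂.bilinear, ← hG₂, hz]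
    unfold formOfGram
    simp
  obtain ⟨z, hz⟩ := exists_nonsingular_vec G₂ hG₂symm h2 hG₂ne
  obtain ⟨w, hw⟩ : ∃ w : Fin n₂ → F, w = G₂ *ᵥ z := ⟨_, rfl⟩
  obtain ⟨t, ht⟩ : ∃ t : F, t = z ⬝ᵥ w := ⟨_, rfl⟩
  have ht0 : t ≠ 0 := by rw [ht, hw]; exact hz
  have hz0 : z ≠ 0 := by
    rintro rfl
    apply hz
    rw [zero_dotProduct]
  obtain ⟨y₀, hy₀ne, hy₀⟩ : ∃ y₀ : Fin n₂ → F, y₀ ≠ 0 ∧ y₀ ⬝ᵥ w = 0 :=
    exists_perp w (⟨0, by omega⟩ : Fin n₂) ⟨1, by omega⟩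
      (by intro h; have := congrArg Fin.val h; simp at this)
  -- normalise G₁
  obtain ⟨C₁, ε, hε, hC₁⟩ := exists_orthonormal_F3 hq hf₁
  rw [← hG₁] at hC₁
  obtain ⟨C, hCdef⟩ : ∃ C : GL (Fin 3 × Fin n₂) F, C = kronGL C₁ 1 := ⟨_, rfl⟩
  obtain ⟨P', hP'⟩ : ∃ P' : GL ι F, P' = P * glReindex e.symm C := ⟨_, rfl⟩
  have htps : tensorProductSubgroup 3 n₂ e P = (kroneckerSubgroup 3 n₂ F).map (psi e P') := by
    rw [← tps_eq, hP', tps_change _ _ _ _ _ (hCdef ▸ kronGL_mem C₁ 1)]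
  obtain ⟨G, hG⟩ : ∃ G : Matrix (Fin 3 × Fin n₂) (Fin 3 × Fin n₂) F,
      G = (1 : Matrix (Fin 3) (Fin 3) F) ⊗ₖ G₂ := ⟨_, rfl⟩
  have hT' : ∀ x y, QuadraticMap.polar Q (TT e P' x) (TT e P' y) = (c * ε) * formOfGram id G x y := by
    intro x y
    rw [hP', TT_change, TT_change]
    have hmat : (C : Matrix (Fin 3 × Fin n₂) (Fin 3 × Fin n₂) F)ᵀ * (G₁ ⊗ₖ G₂) *
        (C : Matrix (Fin 3 × Fin n₂) (Fin 3 × Fin n₂) F).map id = ε • G := by
      rw [hCdef, kronGL_val, Matrix.map_id, Units.val_one, ← Matrix.kroneckerMap_transpose,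
        Matrix.transpose_one, ← Matrix.mul_kronecker_mul, ← Matrix.mul_kronecker_mul, one_mul, mul_one,
        hC₁, Matrix.smul_kronecker, hG]
    have h3 : QuadraticMap.polar Q (TT e P ((C : Matrix _ _ F) *ᵥ x)) (TT e P ((C : Matrix _ _ F) *ᵥ y))
        = c * formOfGram id (G₁ ⊗ₖ G₂) ((C : Matrix _ _ F) *ᵥ x) ((C : Matrix _ _ F) *ᵥ y) := hT _ _
    rw [h3, formOfGram_mulVec id rfl (fun _ _ => rfl) (fun _ _ => rfl), hmat, formOfGram_smul]
    ring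
  have hGsymm : Gᵀ = G := by
    rw [hG, ← Matrix.kroneckerMap_transpose, Matrix.transpose_one, hG₂symm]
  have hpol : ∀ M : GL (Fin 3 × Fin n₂) F,
      psi e P' M ∈ Cfsg.preserving (Units.coeHom (Matrix ι ι F)) (QuadraticMap.polar Q) ↔
      (M : Matrix _ _ F)ᵀ * G * (M : Matrix _ _ F) = G := by
    intro M
    have h1 := psi_mem_preserving_iff e P' (f := QuadraticMap.polar Q) (φ := formOfGram id G)
      (mul_ne_zero hc hε) hT' M
    have h3 := preserves_iff (id : F → F) rfl rfl (fun _ _ => rfl) (fun _ _ => rfl) G (M : Matrix _ _ F)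
    rw [Matrix.map_id] at h3
    exact h1.trans h3
  have hO2 : ∀ M : GL (Fin 3 × Fin n₂) F, (M : Matrix _ _ F)ᵀ * G * (M : Matrix _ _ F) = G →
      psi e P' M ∈ Cfsg.isometryGroup F Q := by
    intro M hM
    exact iso_of_polar Q h2 hsmul _ ((hpol M).mpr hM)
  have hΩ : ∀ u u' : Fin 3 × Fin n₂ → F, u ⬝ᵥ (G *ᵥ u) = u' ⬝ᵥ (G *ᵥ u') →
      (u - u') ⬝ᵥ (G *ᵥ (u - u')) ≠ 0 → psi e P' (rflG G u' * rflG G u) ∈ omegaGL Q := by
    intro u u' heq hd
    rw [rflG_mul_eq_commutator G hGsymm u u' heq hd, map_commutatorElement]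
    apply commutator_mem_omegaGL
    · exact hO2 _ (RM_preserve G hGsymm _)
    · exact hO2 _ (RM_preserve G hGsymm _)
  have hpt : ∀ (x v : Fin 3 → F) (y z' : Fin n₂ → F),
      pt x y ⬝ᵥ (G *ᵥ pt v z') = (x ⬝ᵥ v) * (y ⬝ᵥ (G₂ *ᵥ z')) := by
    intro x v y z'
    rw [hG, kron_mulVec_pt, Matrix.one_mulVec, pt_dot]
  obtain ⟨E, hE⟩ : ∃ E : Fin 3 → (Fin 3 → F), E = fun i => Pi.single i 1 := ⟨_, rfl⟩
  have hEE : ∀ i j, E i ⬝ᵥ E j = if i = j then 1 else 0 := by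
    intro i j
    rw [hE]
    simp only
    rw [single_one_dotProduct, Pi.single_apply]
  have hEne : ∀ i, E i ≠ 0 := by
    intro i h
    have := hEE i i
    rw [h, zero_dotProduct, if_pos rfl] at this
    exact zero_ne_one this
  have hEblk : ∀ (i : Fin 3) (y : Fin n₂ → F),
      pt (E i) y ∈ blk (F := F) (Prod.fst : Fin 3 × Fin n₂ → Fin 3) i := by
    intro i y
    rw [hE]
    exact pt_single_mem_blk i y
  obtain ⟨K₀, hK₀⟩ : ∃ K₀ : Subgroup (GL (Fin 3 × Fin n₂) F),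
      K₀ = decompositionStabilizer (blk (F := F) (Prod.fst : Fin 3 × Fin n₂ → Fin 3)) := ⟨_, rfl⟩
  have hinj := psi_injective (F := F) e P'
  have hMv : ∀ (u u' x : Fin 3 × Fin n₂ → F),
      ((rflG G u' * rflG G u : GL (Fin 3 × Fin n₂) F) : Matrix _ _ F) *ᵥ x
        = RM G u' *ᵥ (RM G u *ᵥ x) := by
    intro u u' x
    rw [Units.val_mul, rflG_val, rflG_val, ← Matrix.mulVec_mulVec]
  -- values of the form on the relevant vectors
  have e00 : E 0 ⬝ᵥ E 0 = 1 := by rw [hEE, if_pos rfl]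
  have e11 : E 1 ⬝ᵥ E 1 = 1 := by rw [hEE, if_pos rfl]
  have e22 : E 2 ⬝ᵥ E 2 = 1 := by rw [hEE, if_pos rfl]
  have e01 : E 0 ⬝ᵥ E 1 = 0 := by rw [hEE, if_neg (by decide)]
  have e10 : E 1 ⬝ᵥ E 0 = 0 := by rw [hEE, if_neg (by decide)]
  have e02 : E 0 ⬝ᵥ E 2 = 0 := by rw [hEE, if_neg (by decide)]
  have e20 : E 2 ⬝ᵥ E 0 = 0 := by rw [hEE, if_neg (by decide)]
  have e12 : E 1 ⬝ᵥ E 2 = 0 := by rw [hEE, if_neg (by decide)]
  have e21 : E 2 ⬝ᵥ E 1 = 0 := by rw [hEE, if_neg (by decide)]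
  have hzw : z ⬝ᵥ (G₂ *ᵥ z) = t := by rw [ht, hw]
  have hy₀w : y₀ ⬝ᵥ (G₂ *ᵥ z) = 0 := by rw [← hw]; exact hy₀
  -- first witness
  obtain ⟨u₀, hu₀⟩ : ∃ u₀ : Fin 3 × Fin n₂ → F, u₀ = pt (E 0) z := ⟨_, rfl⟩
  obtain ⟨u₁, hu₁⟩ : ∃ u₁ : Fin 3 × Fin n₂ → F, u₁ = pt (E 1) z := ⟨_, rfl⟩
  have hu₀₀ : u₀ ⬝ᵥ (G *ᵥ u₀) = t := by rw [hu₀, hpt, e00, hzw, one_mul]
  have hu₁₁ : u₁ ⬝ᵥ (G *ᵥ u₁) = t := by rw [hu₁, hpt, e11, hzw, one_mul]
  have hu₀₁ : u₀ ⬝ᵥ (G *ᵥ u₁) = 0 := by rw [hu₀, hu₁, hpt, e01, zero_mul]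
  have hdB : (u₀ - u₁) ⬝ᵥ (G *ᵥ (u₀ - u₁)) ≠ 0 := by
    rw [hu₀, hu₁, ← pt_sub_left, hpt, hzw, sub_dotProduct, dotProduct_sub, dotProduct_sub, e00, e01, e10,
      e11]
    intro h
    have h3 : (2 : F) * t = 0 := by linear_combination h
    rcases mul_eq_zero.mp h3 with h' | h'
    · exact h2 h'
    · exact ht0 h'
  obtain ⟨M₁, hM₁⟩ : ∃ M₁ : GL (Fin 3 × Fin n₂) F, M₁ = rflG G u₁ * rflG G u₀ := ⟨_, rfl⟩
  have hM₁Ω : psi e P' M₁ ∈ omegaGL Q := by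
    rw [hM₁]
    exact hΩ u₀ u₁ (by rw [hu₀₀, hu₁₁]) hdB
  have hRK : ∀ i : Fin 3, rflG G (pt (E i) z) ∈ K₀ := by
    intro i
    have hent : ∀ a a' : Fin 3 × Fin n₂, a.1 ≠ a'.1 → RM G (pt (E i) z) a a' = 0 := by
      intro a a' h
      have hne' : a ≠ a' := fun h' => h (by rw [h'])
      rw [RM_apply, Matrix.one_apply_ne hne', zero_sub, hG, kron_mulVec_pt, Matrix.one_mulVec, pt_apply,
        pt_apply]
      by_cases ha : a.1 = i
      · have ha' : a'.1 ≠ i := fun h0 => h (by rw [ha, h0])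
        have h0 : E i a'.1 = 0 := by rw [hE]; simp [ha']
        rw [h0]; ring
      · have h0 : E i a.1 = 0 := by rw [hE]; simp [ha]
        rw [h0]; ring
    rw [hK₀]
    apply mem_decStab_of_blockMonomial _ _ (Equiv.refl _)
    · intro a a' h
      rw [Equiv.refl_apply] at h
      rw [rflG_val]
      exact hent a a' h
    · intro a a' h
      rw [Equiv.refl_symm, Equiv.refl_apply] at h
      rw [rflG_inv, rflG_val]
      exact hent a a' h
  have hM₁K : M₁ ∈ K₀ := by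
    rw [hM₁, hu₀, hu₁]
    exact Subgroup.mul_mem _ (hRK 1) (hRK 0)
  have hM₁kron : M₁ ∉ kroneckerSubgroup 3 n₂ F := by
    rintro ⟨a, b, hab⟩
    have hact : ∀ (x : Fin 3 → F) (y : Fin n₂ → F), (M₁ : Matrix _ _ F) *ᵥ pt x y
        = pt ((a : Matrix (Fin 3) (Fin 3) F) *ᵥ x) ((b : Matrix (Fin n₂) (Fin n₂) F) *ᵥ y) := by
      intro x y
      rw [hab, kron_mulVec_pt]
    -- action of M₁ on three families of vectors
    have a1 : ∀ y : Fin n₂ → F, (M₁ : Matrix _ _ F) *ᵥ pt (E 2) y = pt (E 2) y := by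
      intro y
      rw [hM₁, hMv, RM_fix G u₀, RM_fix G u₁]
      · rw [hu₁, hpt, e21, zero_mul]
      · rw [hu₀, hpt, e20, zero_mul]
    have a2 : (M₁ : Matrix _ _ F) *ᵥ pt (E 0) z = - pt (E 0) z := by
      rw [hM₁, hMv, ← hu₀, RM_mulVec_of G u₀ u₀ t t hu₀₀ hu₀₀]
      have h1 : u₀ - (2 / t * t) • u₀ = -u₀ := by
        rw [div_mul_cancel₀ _ ht0, two_smul]; abel
      rw [h1, RM_fix G u₁]
      rw [neg_dotProduct, hu₀₁, neg_zero]
    have a3 : (M₁ : Matrix _ _ F) *ᵥ pt (E 0) y₀ = pt (E 0) y₀ := by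
      rw [hM₁, hMv, RM_fix G u₀, RM_fix G u₁]
      · rw [hu₁, hpt, e01, zero_mul]
      · rw [hu₀, hpt, hy₀w, mul_zero]
    rw [hact] at a2 a3
    obtain ⟨α, hα⟩ : ∃ α : F, α = ((a : Matrix (Fin 3) (Fin 3) F) *ᵥ E 2) 2 := ⟨_, rfl⟩
    obtain ⟨β, hβ⟩ : ∃ β : F, β = ((a : Matrix (Fin 3) (Fin 3) F) *ᵥ E 0) 0 := ⟨_, rfl⟩
    have hE22 : E 2 2 = 1 := by rw [hE]; simp
    have hE00 : E 0 0 = 1 := by rw [hE]; simp
    have b1 : ∀ (y : Fin n₂ → F) (j : Fin n₂),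
        α * ((b : Matrix (Fin n₂) (Fin n₂) F) *ᵥ y) j = y j := by
      intro y j
      have h := a1 y
      rw [hact] at h
      have := congrFun h (2, j)
      rw [pt_apply, pt_apply, hE22, one_mul, ← hα] at this
      exact this
    have b2 : ∀ j : Fin n₂, β * ((b : Matrix (Fin n₂) (Fin n₂) F) *ᵥ z) j = - z j := by
      intro j
      have := congrFun a2 (0, j)
      rw [Pi.neg_apply, pt_apply, pt_apply, hE00, one_mul, ← hβ] at this
      exact this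
    have b3 : ∀ j : Fin n₂, β * ((b : Matrix (Fin n₂) (Fin n₂) F) *ᵥ y₀) j = y₀ j := by
      intro j
      have := congrFun a3 (0, j)
      rw [pt_apply, pt_apply, hE00, one_mul, ← hβ] at this
      exact this
    obtain ⟨j₁, hj₁⟩ : ∃ j, y₀ j ≠ 0 := by
      by_contra hcon; push Not at hcon; exact hy₀ne (funext hcon)
    obtain ⟨j₂, hj₂⟩ : ∃ j, z j ≠ 0 := by
      by_contra hcon; push Not at hcon; exact hz0 (funext hcon)
    have hαβ : α = β := by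
      have h1 := b1 y₀ j₁
      have h3 := b3 j₁
      have hne : ((b : Matrix (Fin n₂) (Fin n₂) F) *ᵥ y₀) j₁ ≠ 0 := by
        intro h0
        rw [h0, mul_zero] at h1
        exact hj₁ h1.symm
      have : (α - β) * ((b : Matrix (Fin n₂) (Fin n₂) F) *ᵥ y₀) j₁ = 0 := by
        linear_combination h1 - h3
      rcases mul_eq_zero.mp this with h | h
      · exact sub_eq_zero.mp h
      · exact absurd h hne
    have h1 := b1 z j₂
    have h3 := b2 j₂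
    rw [hαβ] at h1
    have : (2 : F) * z j₂ = 0 := by linear_combination h3 - h1
    rcases mul_eq_zero.mp this with h | h
    · exact h2 h
    · exact hj₂ h
  -- second witness
  obtain ⟨v₀, hv₀⟩ : ∃ v₀ : Fin 3 × Fin n₂ → F, v₀ = pt (E 0 + E 1) z := ⟨_, rfl⟩
  obtain ⟨v₁, hv₁⟩ : ∃ v₁ : Fin 3 × Fin n₂ → F, v₁ = pt (E 0 + E 2) z := ⟨_, rfl⟩
  have hv₀₀ : v₀ ⬝ᵥ (G *ᵥ v₀) = 2 * t := by
    rw [hv₀, hpt, hzw, add_dotProduct, dotProduct_add, dotProduct_add, e00, e01, e10, e11]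
    ring
  have hv₁₁ : v₁ ⬝ᵥ (G *ᵥ v₁) = 2 * t := by
    rw [hv₁, hpt, hzw, add_dotProduct, dotProduct_add, dotProduct_add, e00, e02, e20, e22]
    ring
  have h2t : (2 : F) * t ≠ 0 := mul_ne_zero h2 ht0
  have hdC : (v₀ - v₁) ⬝ᵥ (G *ᵥ (v₀ - v₁)) ≠ 0 := by
    have hdiff : (E 0 + E 1) - (E 0 + E 2) = E 1 - E 2 := by abel
    rw [hv₀, hv₁, ← pt_sub_left, hdiff, hpt, hzw, sub_dotProduct, dotProduct_sub, dotProduct_sub, e11,
      e12, e21, e22]
    intro h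
    apply h2t
    linear_combination h
  obtain ⟨M₂, hM₂⟩ : ∃ M₂ : GL (Fin 3 × Fin n₂) F, M₂ = rflG G v₁ * rflG G v₀ := ⟨_, rfl⟩
  have hM₂Ω : psi e P' M₂ ∈ omegaGL Q := by
    rw [hM₂]
    exact hΩ v₀ v₁ (by rw [hv₀₀, hv₁₁]) hdC
  have hM₂K : M₂ ∉ K₀ := by
    intro hmem
    rw [hK₀] at hmem
    obtain ⟨π, hπ⟩ := exists_perm_mulVec_mem_blk _ M₂ hmem
    -- a vector of the second block fixed by M₂
    have c1 : (M₂ : Matrix _ _ F) *ᵥ pt (E 1) y₀ = pt (E 1) y₀ := by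
      rw [hM₂, hMv, RM_fix G v₀, RM_fix G v₁]
      · rw [hv₁, hpt, hy₀w, mul_zero]
      · rw [hv₀, hpt, hy₀w, mul_zero]
    have k1 : (1 : Fin 3) = π 1 := by
      apply blk_unique (F := F) (Prod.fst : Fin 3 × Fin n₂ → Fin 3) (pt (E 1) y₀)
      · exact hEblk 1 y₀
      · have := hπ 1 _ (hEblk 1 y₀)
        rwa [c1] at this
      · exact pt_ne_zero _ _ (hEne 1) hy₀ne
    -- a vector of the second block moved into the third block
    have c2 : (M₂ : Matrix _ _ F) *ᵥ pt (E 1) z = pt (E 2) z := by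
      have s1 : pt (E 1) z ⬝ᵥ (G *ᵥ v₀) = t := by
        rw [hv₀, hpt, hzw, dotProduct_add, e10, e11]
        ring
      have r1 : RM G v₀ *ᵥ pt (E 1) z = - pt (E 0) z := by
        rw [RM_mulVec_of G v₀ _ (2 * t) t hv₀₀ s1]
        have hc1 : 2 / (2 * t) * t = 1 := by field_simp
        rw [hc1, one_smul, hv₀, pt_add_left]
        abel
      have s2 : (- pt (E 0) z) ⬝ᵥ (G *ᵥ v₁) = - t := by
        rw [neg_dotProduct, hv₁, hpt, hzw, dotProduct_add, e00, e02]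
        ring
      have r2 : RM G v₁ *ᵥ (- pt (E 0) z) = pt (E 2) z := by
        rw [RM_mulVec_of G v₁ _ (2 * t) (-t) hv₁₁ s2]
        have hc1 : 2 / (2 * t) * (-t) = -1 := by field_simp
        rw [hc1, neg_one_smul, hv₁, pt_add_left]
        abel
      rw [hM₂, hMv, r1, r2]
    have k2 : (2 : Fin 3) = π 1 := by
      apply blk_unique (F := F) (Prod.fst : Fin 3 × Fin n₂ → Fin 3) (pt (E 2) z)
      · exact hEblk 2 z
      · have := hπ 1 _ (hEblk 1 z)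
        rwa [c2] at this
      · exact pt_ne_zero _ _ (hEne 2) hz0
    rw [← k1] at k2
    exact absurd k2 (by decide)
  -- nonzero entry of G₂
  obtain ⟨j₀, j₁, hji⟩ : ∃ j₀ j₁, G₂ j₀ j₁ ≠ 0 := by
    by_contra hcon
    push Not at hcon
    exact hG₂ne (by ext i j; exact hcon i j)
  refine ⟨K₀.map (psi e P') ⊓ omegaGL Q, ?_, ?_⟩
  · rw [SetLike.lt_iff_le_and_exists]
    constructor
    · intro g hg
      obtain ⟨hg1, hg2⟩ := Subgroup.mem_inf.mp hg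
      rw [htps] at hg1
      obtain ⟨M, hM, rfl⟩ := Subgroup.mem_map.mp hg1
      obtain ⟨a, b, rfl⟩ := eq_kronGL_of_mem hM
      refine Subgroup.mem_inf.mpr ⟨Subgroup.mem_map.mpr ⟨_, ?_, rfl⟩, hg2⟩
      have h1 := (hpol _).mp (polar_of_iso Q _ (mem_isometryGroup_of_mem_omegaGL Q _ hg2))
      rw [kronGL_val, hG, ← Matrix.kroneckerMap_transpose, ← Matrix.mul_kronecker_mul,
        ← Matrix.mul_kronecker_mul, mul_one] at h1
      obtain ⟨s, hs⟩ : ∃ s : F, s = ((b : Matrix (Fin n₂) (Fin n₂) F)ᵀ * G₂ *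
          (b : Matrix (Fin n₂) (Fin n₂) F)) j₀ j₁ := ⟨_, rfl⟩
      have hent : ∀ k k' : Fin 3, ((a : Matrix (Fin 3) (Fin 3) F)ᵀ *
          (a : Matrix (Fin 3) (Fin 3) F)) k k' * s
          = (1 : Matrix (Fin 3) (Fin 3) F) k k' * G₂ j₀ j₁ := by
        intro k k'
        have := congrFun (congrFun h1 (k, j₀)) (k', j₁)
        rw [Matrix.kroneckerMap_apply, Matrix.kroneckerMap_apply, ← hs] at this
        exact this
      have hs0 : s ≠ 0 := by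
        intro h0
        have := hent 0 0
        rw [h0, mul_zero, Matrix.one_apply_eq, one_mul] at this
        exact hji this.symm
      have ha : (a : Matrix (Fin 3) (Fin 3) F)ᵀ * (a : Matrix (Fin 3) (Fin 3) F)
          = (G₂ j₀ j₁ / s) • (1 : Matrix (Fin 3) (Fin 3) F) := by
        ext k k'
        rw [Matrix.smul_apply, smul_eq_mul]
        have := hent k k'
        field_simp
        linear_combination this
      obtain ⟨π, hπ1, hπ2⟩ := monomial_of_orth_F3 hq a (G₂ j₀ j₁ / s) (div_ne_zero hji hs0) ha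
      rw [hK₀]
      exact kronGL_mem_decStab_fst a b π hπ1 hπ2
    · refine ⟨psi e P' M₁, Subgroup.mem_inf.mpr ⟨Subgroup.mem_map.mpr ⟨M₁, hM₁K, rfl⟩, hM₁Ω⟩, ?_⟩
      intro hmem
      have h1 := (Subgroup.mem_inf.mp hmem).1
      rw [htps] at h1
      obtain ⟨M, hM, hMeq⟩ := Subgroup.mem_map.mp h1
      rw [hinj hMeq] at hM
      exact hM₁kron hM
  · rw [SetLike.lt_iff_le_and_exists]
    refine ⟨inf_le_right, psi e P' M₂, hM₂Ω, ?_⟩
    intro hmem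
    have h1 := (Subgroup.mem_inf.mp hmem).1
    obtain ⟨M, hM, hMeq⟩ := Subgroup.mem_map.mp h1
    rw [hinj hMeq] at hM
    exact hM₂K hM

end main

end Cfsg.Agent.Lib.Helper13.TNM
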