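import Mathlib
import Cfsg.Agent.Lib.Helper13.TensorOrth3

set_option autoImplicit false

namespace Cfsg.Agent.Lib.Helper13.TNM

open scoped Matrix Kronecker commutatorElement
open Cfsg Cfsg.Geo

section quad2
variable {κ : Type} [Fintype κ] [DecidableEq κ] {F : Type*} [Field F]

theorem quad_zero (q : (κ → F) → F) (G : Matrix κ κ F)
    (hq : ∀ x y, q (x + y) = q x + q y + x ⬝ᵥ (G *ᵥ y)) : q 0 = 0 := by
  have h := hq 0 0
  rw [add_zero, zero_dotProduct, add_zero] at h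
  linear_combination (-1 : F) * h

theorem quad_alt (q : (κ → F) → F) (G : Matrix κ κ F)
    (hq : ∀ x y, q (x + y) = q x + q y + x ⬝ᵥ (G *ᵥ y)) (h2 : (2 : F) = 0) (x : κ → F) :
    x ⬝ᵥ (G *ᵥ x) = 0 := by
  have h := hq x x
  have hxx : x + x = 0 := by rw [← two_smul F x, h2, zero_smul]
  rw [hxx, quad_zero q G hq] at h
  linear_combination (-1 : F) * h - (q x) * h2

theorem quad_symm (q : (κ → F) → F) (G : Matrix κ κ F)
    (hq : ∀ x y, q (x + y) = q x + q y + x ⬝ᵥ (G *ᵥ y)) (x y : κ → F) :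
    x ⬝ᵥ (G *ᵥ y) = y ⬝ᵥ (G *ᵥ x) := by
  have h1 := hq x y
  have h2 := hq y x
  rw [add_comm y x] at h2
  linear_combination h2 - h1

theorem single_dot_single (G : Matrix κ κ F) (a b : κ) :
    (Pi.single a 1 : κ → F) ⬝ᵥ (G *ᵥ (Pi.single b 1 : κ → F)) = G a b := by
  rw [single_one_dotProduct, mulVec_single_one']

theorem gram_symm_of (G : Matrix κ κ F) (hsymm : ∀ x y : κ → F, x ⬝ᵥ (G *ᵥ y) = y ⬝ᵥ (G *ᵥ x)) :
    Gᵀ = G := by
  ext a b
  rw [Matrix.transpose_apply, ← single_dot_single G b a, ← single_dot_single G a b]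
  exact hsymm _ _

/-- a quadratic form is determined by its polar form and its values on the standard basis -/
theorem quad_ext (q q' : (κ → F) → F) (G : Matrix κ κ F)
    (hq : ∀ x y, q (x + y) = q x + q y + x ⬝ᵥ (G *ᵥ y))
    (hq' : ∀ x y, q' (x + y) = q' x + q' y + x ⬝ᵥ (G *ᵥ y))
    (hs : ∀ (c : F) (x : κ → F), q (c • x) = c ^ 2 * q x)
    (hs' : ∀ (c : F) (x : κ → F), q' (c • x) = c ^ 2 * q' x)
    (hb : ∀ a, q (Pi.single a 1) = q' (Pi.single a 1)) : ∀ x, q x = q' x := by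
  intro x
  obtain ⟨D, hD⟩ : ∃ D : (κ → F) →+ F, ∀ y, D y = q y - q' y := by
    refine ⟨AddMonoidHom.mk' (fun y => q y - q' y) ?_, fun y => rfl⟩
    intro a b
    show q (a + b) - q' (a + b) = (q a - q' a) + (q b - q' b)
    rw [hq, hq']
    ring
  have hx : x = ∑ a, x a • (Pi.single a 1 : κ → F) := by
    funext k
    simp [Finset.sum_apply, Pi.single_apply]
  have h0 : D x = 0 := by
    rw [hx, map_sum]
    apply Finset.sum_eq_zero
    intro a _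
    rw [hD, hs, hs', hb]
    ring
  rw [hD] at h0
  exact sub_eq_zero.mp h0

theorem exists_perp_two (w w' : κ → F) (hcard : 2 < Fintype.card κ) :
    ∃ y : κ → F, y ≠ 0 ∧ y ⬝ᵥ w = 0 ∧ y ⬝ᵥ w' = 0 := by
  obtain ⟨f, hf⟩ : ∃ f : (κ → F) →ₗ[F] (Fin 2 → F), ∀ y, f y = ![y ⬝ᵥ w, y ⬝ᵥ w'] := by
    refine ⟨{ toFun := fun y => ![y ⬝ᵥ w, y ⬝ᵥ w'], map_add' := ?_, map_smul' := ?_ }, fun y => rfl⟩
    · intro x y
      ext i
      fin_cases i <;> simp [add_dotProduct]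
    · intro c x
      ext i
      fin_cases i <;> simp [smul_dotProduct]
  have hlt : Module.finrank F (Fin 2 → F) < Module.finrank F (κ → F) := by
    rw [Module.finrank_fintype_fun_eq_card, Module.finrank_fintype_fun_eq_card, Fintype.card_fin]
    exact hcard
  have hker := LinearMap.ker_ne_bot_of_finrank_lt (f := f) hlt
  obtain ⟨y, hy, hy0⟩ := (Submodule.ne_bot_iff _).mp hker
  have h1 := LinearMap.mem_ker.mp hy
  rw [hf] at h1
  refine ⟨y, hy0, ?_, ?_⟩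
  · have := congrFun h1 0
    simpa using this
  · have := congrFun h1 1
    simpa using this

/-- the orthogonal transvection in characteristic two -/
def rr (G : Matrix κ κ F) (hx : ∀ x : κ → F, x ⬝ᵥ (G *ᵥ x) = 0) (u : κ → F) : GL κ F :=
  tvG G u (by rw [dotProduct_comm]; exact hx u)

theorem rr_val (G : Matrix κ κ F) (hx : ∀ x : κ → F, x ⬝ᵥ (G *ᵥ x) = 0) (u : κ → F) :
    ((rr G hx u : GL κ F) : Matrix κ κ F) = 1 + NN G u := rfl

theorem rr_mulVec (G : Matrix κ κ F) (hx : ∀ x : κ → F, x ⬝ᵥ (G *ᵥ x) = 0) (u x : κ → F) :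
    ((rr G hx u : GL κ F) : Matrix κ κ F) *ᵥ x = x + (x ⬝ᵥ (G *ᵥ u)) • u := by
  rw [rr_val, Matrix.add_mulVec, Matrix.one_mulVec]
  unfold NN
  rw [vecMulVec_mulVec']

theorem rr_mul_self (G : Matrix κ κ F) (hx : ∀ x : κ → F, x ⬝ᵥ (G *ᵥ x) = 0) (h2 : (2 : F) = 0)
    (u : κ → F) : rr G hx u * rr G hx u = 1 := by
  apply Units.ext
  rw [Units.val_mul, rr_val, Units.val_one, sq_expand,
    NN_sq G u (by rw [dotProduct_comm]; exact hx u), ← two_smul F (NN G u), h2, zero_smul, add_zero,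
    add_zero]

theorem rr_inv (G : Matrix κ κ F) (hx : ∀ x : κ → F, x ⬝ᵥ (G *ᵥ x) = 0) (h2 : (2 : F) = 0)
    (u : κ → F) : (rr G hx u)⁻¹ = rr G hx u :=
  inv_eq_of_mul_eq_one_right (rr_mul_self G hx h2 u)

theorem rr_conj (G : Matrix κ κ F) (hx : ∀ x : κ → F, x ⬝ᵥ (G *ᵥ x) = 0) (g : GL κ F)
    (hg : (g : Matrix κ κ F)ᵀ * G * (g : Matrix κ κ F) = G) (u : κ → F) :
    g * rr G hx u * g⁻¹ = rr G hx ((g : Matrix κ κ F) *ᵥ u) := by
  apply Units.ext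
  rw [Units.val_mul, Units.val_mul]
  apply ext_mulVec
  intro x
  have h1 : (((g⁻¹ : GL κ F) : Matrix κ κ F) *ᵥ x) ⬝ᵥ (G *ᵥ u)
      = x ⬝ᵥ (G *ᵥ ((g : Matrix κ κ F) *ᵥ u)) := by
    rw [← dot_isom G _ hg (((g⁻¹ : GL κ F) : Matrix κ κ F) *ᵥ x) u,
      Matrix.mulVec_mulVec x (g : Matrix κ κ F) ((g⁻¹ : GL κ F) : Matrix κ κ F), ← Units.val_mul,
      mul_inv_cancel, Units.val_one, Matrix.one_mulVec]
  rw [← Matrix.mulVec_mulVec, ← Matrix.mulVec_mulVec, rr_mulVec, rr_mulVec, Matrix.mulVec_add,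
    Matrix.mulVec_smul, Matrix.mulVec_mulVec x (g : Matrix κ κ F) ((g⁻¹ : GL κ F) : Matrix κ κ F),
    ← Units.val_mul, mul_inv_cancel, Units.val_one, Matrix.one_mulVec, h1]

theorem rr_isom (q : (κ → F) → F) (G : Matrix κ κ F)
    (hq : ∀ x y, q (x + y) = q x + q y + x ⬝ᵥ (G *ᵥ y))
    (hs : ∀ (c : F) (x : κ → F), q (c • x) = c ^ 2 * q x)
    (hx : ∀ x : κ → F, x ⬝ᵥ (G *ᵥ x) = 0) (h2 : (2 : F) = 0) (u : κ → F) (hu : q u = 1)
    (x : κ → F) : q (((rr G hx u : GL κ F) : Matrix κ κ F) *ᵥ x) = q x := by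
  rw [rr_mulVec, hq, hs, hu, Matrix.mulVec_smul, dotProduct_smul, smul_eq_mul]
  linear_combination ((x ⬝ᵥ (G *ᵥ u)) ^ 2) * h2

theorem rr_preserve (G : Matrix κ κ F) (hG : Gᵀ = -G) (hx : ∀ x : κ → F, x ⬝ᵥ (G *ᵥ x) = 0)
    (u : κ → F) :
    ((rr G hx u : GL κ F) : Matrix κ κ F)ᵀ * G * ((rr G hx u : GL κ F) : Matrix κ κ F) = G :=
  NN_preserve G hG u (by rw [dotProduct_comm]; exact hx u)

end quad2

end Cfsg.Agent.Lib.Helper13.TNM
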