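import Cfsg.Agent.S5638
import Cfsg.Agent.Lib.Helper13.TensorOrthTwo

/-!
# Even orthogonal rows, piece X7 (helper13): `Sp₂(2) ⊗ Sp_s(2)` is not maximal in `Ω⁺_{2s}(2)`, every `s > 2`
(the proof of S5705 does not use its dimension bound)
-/

set_option autoImplicit false
open Cfsg

namespace Cfsg.Agent.Lib.Helper13.OETensTwo

open scoped Matrix Kronecker commutatorElement
open Cfsg.Geo Cfsg.Agent.Lib.Helper13.TNM Cfsg.Agent.S5638

theorem tensor_symp_two {F : Type*} [Field F] [Fintype F] {n : ℕ} (Q : (Fin n → F) → F) (hQ : Cfsg.Geo.IsNondegenerateQuadraticForm Q) (hq : Fintype.card F = 2) (n₂ : ℕ) (h2 : 2 < n₂) (e : (Fin n) ≃ Fin 2 × Fin n₂) (P : Matrix.GeneralLinearGroup (Fin n) F) (f₁ : (Fin 2 → F) → (Fin 2 → F) → F) (f₂ : (Fin n₂ → F) → (Fin n₂ → F) → F) (hf₁ : Cfsg.Geo.IsSymplecticForm f₁) (hf₂ : Cfsg.Geo.IsSymplecticForm f₂) (hT : Cfsg.Geo.IsTensorFormStructure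 id (QuadraticMap.polar Q) f₁ f₂ e P) (hpure : (∀ (x₁ : Fin 2 → F) (x₂ : Fin n₂ → F), Q (Matrix.mulVec (P : Matrix (Fin n) (Fin n) F) ((fun a : Fin 2 × Fin n₂ => x₁ a.1 * x₂ a.2) ∘ e)) = 0)) : ∃ K : Subgroup (Matrix.GeneralLinearGroup (Fin n) F), Cfsg.Geo.tensorProductSubgroup 2 n₂ e P ⊓ Cfsg.Geo.omegaGL Q < K ∧ K < Cfsg.Geo.omegaGL Q := by
  classical
  obtain ⟨c, hc, hT⟩ := hT
  have h11 : (1 : F) + 1 = 0 := Cfsg.Agent.S5638.two_eq_zero hq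
  have h20 : (2 : F) = 0 := by rw [← one_add_one_eq_two]; exact h11
  have hone : ∀ x : F, x ≠ 0 → x = 1 := fun x hx => (F2_cases hq x).resolve_left hx
  have hneg : (-1 : F) = 1 := neg_eq_of_add_eq_zero_left h11
  have hc1 : c = 1 := hone c hc
  obtain ⟨G₁, hG₁⟩ : ∃ G₁ : Matrix (Fin 2) (Fin 2) F, G₁ = gramMatrix f₁ := ⟨_, rfl⟩
  obtain ⟨G₂, hG₂⟩ : ∃ G₂ : Matrix (Fin n₂) (Fin n₂) F, G₂ = gramMatrix f₂ := ⟨_, rfl⟩
  rw [← hG₁, ← hG₂, hc1] at hT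
  obtain ⟨GG, hGG⟩ : ∃ GG : Matrix (Fin 2 × Fin n₂) (Fin 2 × Fin n₂) F, GG = G₁ ⊗ₖ G₂ := ⟨_, rfl⟩
  rw [← hGG] at hT
  have hvv : ∀ x : Fin 2 × Fin n₂ → F, x + x = 0 := fun x => by
    rw [← two_smul F x, h20, zero_smul]
  -- entries of the Gram matrices
  have g00 : G₁ 0 0 = 0 := by rw [hG₁]; exact hf₁.alternating _
  have g11 : G₁ 1 1 = 0 := by rw [hG₁]; exact hf₁.alternating _
  have hG₁skew : ∀ i j, G₁ j i = - G₁ i j := by
    intro i j; rw [hG₁]; exact hf₁.skew _ _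
  have g01 : G₁ 0 1 = 1 := by
    apply hone
    intro h0
    have hz : G₁ = 0 := by
      ext i j
      fin_cases i <;> fin_cases j
      · exact g00
      · exact h0
      · show G₁ 1 0 = 0
        rw [hG₁skew 0 1, h0, neg_zero]
      · exact g11
    have hv : (Pi.single (0 : Fin 2) 1 : Fin 2 → F) ≠ 0 := by
      intro h
      have := congrFun h 0
      simp at this
    obtain ⟨x, hx⟩ := (hf₁.nondegenerate _ hv).1
    apply hx
    rw [bilin_eq_formOfGram hf₁.bilinear, ← hG₁, hz]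
    unfold formOfGram
    simp
  have g10 : G₁ 1 0 = 1 := by rw [hG₁skew 0 1, g01, hneg]
  have hG₂skew : ∀ i j, G₂ j i = - G₂ i j := by
    intro i j; rw [hG₂]; exact hf₂.skew _ _
  have hG₂diag : ∀ i, G₂ i i = 0 := by
    intro i; rw [hG₂]; exact hf₂.alternating _
  obtain ⟨j₀, j₁, hji⟩ : ∃ j₀ j₁, G₂ j₀ j₁ ≠ 0 := by
    by_contra hcon
    push Not at hcon
    have hz : G₂ = 0 := by ext i j; exact hcon i j
    have hv : (Pi.single (⟨0, by omega⟩ : Fin n₂) 1 : Fin n₂ → F) ≠ 0 := by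
      intro h
      have := congrFun h ⟨0, by omega⟩
      simp at this
    obtain ⟨x, hx⟩ := (hf₂.nondegenerate _ hv).1
    apply hx
    rw [bilin_eq_formOfGram hf₂.bilinear, ← hG₂, hz]
    unfold formOfGram
    simp
  have γ01 : G₂ j₀ j₁ = 1 := hone _ hji
  have γ10 : G₂ j₁ j₀ = 1 := by rw [hG₂skew j₀ j₁, γ01, hneg]
  have γ00 : G₂ j₀ j₀ = 0 := hG₂diag j₀
  have γ11 : G₂ j₁ j₁ = 0 := hG₂diag j₁
  -- the quadratic form in coordinates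
  obtain ⟨Q', hQ'⟩ : ∃ Q' : (Fin 2 × Fin n₂ → F) → F, Q' = fun x => Q (TT e P x) := ⟨_, rfl⟩
  have hQ'app : ∀ x, Q' x = Q (TT e P x) := by intro x; rw [hQ']
  have hq' : ∀ x y, Q' (x + y) = Q' x + Q' y + x ⬝ᵥ (GG *ᵥ y) := by
    intro x y
    have h : QuadraticMap.polar Q (TT e P x) (TT e P y) = 1 * formOfGram id GG x y := hT x y
    rw [formOfGram_eq, Function.id_comp, one_mul] at h
    unfold QuadraticMap.polar at h
    rw [hQ'app, hQ'app, hQ'app, TT_add]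
    linear_combination h
  have hs' : ∀ (c : F) (x : Fin 2 × Fin n₂ → F), Q' (c • x) = c ^ 2 * Q' x := by
    intro c x
    rw [hQ'app, hQ'app, TT_smul]
    exact hQ.smul c _
  have hpure' : ∀ (x₁ : Fin 2 → F) (x₂ : Fin n₂ → F), Q' (pt x₁ x₂) = 0 := by
    intro x₁ x₂
    rw [hQ'app]
    exact hpure x₁ x₂
  have halt' : ∀ x : Fin 2 × Fin n₂ → F, x ⬝ᵥ (GG *ᵥ x) = 0 := quad_alt Q' GG hq' h20
  have hGGsymm : GGᵀ = GG := gram_symm_of GG (quad_symm Q' GG hq')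
  have hGGskew : GGᵀ = -GG := by
    rw [hGGsymm]
    exact eq_neg_of_add_eq_zero_left (mat_add_self hq GG)
  have hiso : ∀ M : GL (Fin 2 × Fin n₂) F, psi e P M ∈ Cfsg.isometryGroup F Q ↔
      ∀ x, Q' ((M : Matrix (Fin 2 × Fin n₂) (Fin 2 × Fin n₂) F) *ᵥ x) = Q' x := by
    intro M
    have h1 := psi_mem_preserving_iff e P (f := fun u _ => Q u) (φ := fun x _ => Q' x) (c := 1)
      one_ne_zero (by
        intro x y
        show Q (TT e P x) = 1 * Q' x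
        rw [one_mul, hQ'app]) M
    constructor
    · intro h x
      exact (h1.mp h) x x
    · intro h
      exact h1.mpr (fun x _ => h x)
  -- standard vectors
  obtain ⟨E, hE⟩ : ∃ E : Fin 2 → (Fin 2 → F), E = fun i => Pi.single i 1 := ⟨_, rfl⟩
  obtain ⟨D, hD⟩ : ∃ D : Fin n₂ → (Fin n₂ → F), D = fun a => Pi.single a 1 := ⟨_, rfl⟩
  have hEapp : ∀ i, E i = Pi.single i 1 := by intro i; rw [hE]
  have hDapp : ∀ a, D a = Pi.single a 1 := by intro a; rw [hD]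
  have hpt : ∀ (x v : Fin 2 → F) (y z : Fin n₂ → F),
      pt x y ⬝ᵥ (GG *ᵥ pt v z) = (x ⬝ᵥ (G₁ *ᵥ v)) * (y ⬝ᵥ (G₂ *ᵥ z)) := by
    intro x v y z
    rw [hGG, kron_mulVec_pt, pt_dot]
  obtain ⟨p, hp⟩ : ∃ p : Fin 2 → Fin n₂ → (Fin 2 × Fin n₂ → F), p = fun i a => pt (E i) (D a) :=
    ⟨_, rfl⟩
  have hpapp : ∀ i a, p i a = pt (E i) (D a) := by intro i a; rw [hp]
  have hpp : ∀ i j a b, p i a ⬝ᵥ (GG *ᵥ p j b) = G₁ i j * G₂ a b := by
    intro i j a b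
    rw [hpapp, hpapp, hpt, hEapp, hEapp, hDapp, hDapp, single_dot_single, single_dot_single]
  have hQp : ∀ i a, Q' (p i a) = 0 := by
    intro i a; rw [hpapp]; exact hpure' _ _
  obtain ⟨u, hu⟩ : ∃ u : Fin 2 × Fin n₂ → F, u = p 0 j₀ + p 1 j₁ := ⟨_, rfl⟩
  have hQu : Q' u = 1 := by
    rw [hu, hq', hQp, hQp, hpp, g01, γ01]
    ring
  -- the two matrices of degree two
  have hom1 : (om : Matrix (Fin 2) (Fin 2) F) * (om + 1) = 1 := by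
    rw [mul_add, mul_one, om_sq hq, add_comm (om : Matrix (Fin 2) (Fin 2) F) 1, add_assoc,
      mat_add_self hq, add_zero]
  have hom2 : ((om : Matrix (Fin 2) (Fin 2) F) + 1) * om = 1 := by
    rw [add_mul, one_mul, om_sq hq, add_comm (om : Matrix (Fin 2) (Fin 2) F) 1, add_assoc,
      mat_add_self hq, add_zero]
  obtain ⟨omG, homG⟩ : ∃ omG : GL (Fin 2) F, (omG : Matrix (Fin 2) (Fin 2) F) = om :=
    ⟨⟨om, om + 1, hom1, hom2⟩, rfl⟩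
  have htt : ((1 : Matrix (Fin 2) (Fin 2) F) + nn) * (1 + nn) = 1 := by
    rw [sq_expand, add_assoc, nn_rel hq, add_zero]
  obtain ⟨ttG, httG⟩ : ∃ ttG : GL (Fin 2) F, (ttG : Matrix (Fin 2) (Fin 2) F) = 1 + nn :=
    ⟨⟨1 + nn, 1 + nn, htt, htt⟩, rfl⟩
  obtain ⟨Jg, hJgdef⟩ : ∃ Jg : GL (Fin 2 × Fin n₂) F, Jg = kronGL omG 1 := ⟨_, rfl⟩
  obtain ⟨kg, hkgdef⟩ : ∃ kg : GL (Fin 2 × Fin n₂) F, kg = kronGL ttG 1 := ⟨_, rfl⟩
  have hJgval : (Jg : Matrix (Fin 2 × Fin n₂) (Fin 2 × Fin n₂) F)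
      = (om : Matrix (Fin 2) (Fin 2) F) ⊗ₖ (1 : Matrix (Fin n₂) (Fin n₂) F) := by
    rw [hJgdef, kronGL_val, homG, Units.val_one]
  have hkgval : (kg : Matrix (Fin 2 × Fin n₂) (Fin 2 × Fin n₂) F)
      = ((1 : Matrix (Fin 2) (Fin 2) F) + nn) ⊗ₖ (1 : Matrix (Fin n₂) (Fin n₂) F) := by
    rw [hkgdef, kronGL_val, httG, Units.val_one]
  have omE0 : (om : Matrix (Fin 2) (Fin 2) F) *ᵥ E 0 = E 1 := by
    rw [hEapp, hEapp]
    funext i
    rw [mulVec_single_one']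
    fin_cases i <;> simp [om]
  have omE1 : (om : Matrix (Fin 2) (Fin 2) F) *ᵥ E 1 = E 0 + E 1 := by
    rw [hEapp, hEapp]
    funext i
    rw [mulVec_single_one', Pi.add_apply]
    fin_cases i <;> simp [om]
  have ttE0 : ((1 : Matrix (Fin 2) (Fin 2) F) + nn) *ᵥ E 0 = E 0 := by
    rw [hEapp]
    funext i
    rw [mulVec_single_one']
    fin_cases i <;> simp [nn]
  have ttE1 : ((1 : Matrix (Fin 2) (Fin 2) F) + nn) *ᵥ E 1 = E 0 + E 1 := by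
    rw [hEapp, hEapp]
    funext i
    rw [mulVec_single_one', Pi.add_apply]
    fin_cases i <;> simp [nn]
  have hJ0 : ∀ a, (Jg : Matrix (Fin 2 × Fin n₂) (Fin 2 × Fin n₂) F) *ᵥ p 0 a = p 1 a := by
    intro a
    rw [hpapp, hpapp, hJgval, kron_mulVec_pt, Matrix.one_mulVec, omE0]
  have hJ1 : ∀ a, (Jg : Matrix (Fin 2 × Fin n₂) (Fin 2 × Fin n₂) F) *ᵥ p 1 a = p 0 a + p 1 a := by
    intro a
    rw [hpapp, hpapp, hJgval, kron_mulVec_pt, Matrix.one_mulVec, omE1, pt_add_left]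
  have hk0 : ∀ a, (kg : Matrix (Fin 2 × Fin n₂) (Fin 2 × Fin n₂) F) *ᵥ p 0 a = p 0 a := by
    intro a
    rw [hpapp, hkgval, kron_mulVec_pt, Matrix.one_mulVec, ttE0]
  have hk1 : ∀ a, (kg : Matrix (Fin 2 × Fin n₂) (Fin 2 × Fin n₂) F) *ᵥ p 1 a = p 0 a + p 1 a := by
    intro a
    rw [hpapp, hpapp, hkgval, kron_mulVec_pt, Matrix.one_mulVec, ttE1, pt_add_left]
  -- these preserve the form
  have hG₁eq : G₁ = !![0, 1; 1, 0] := by
    ext i j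
    fin_cases i <;> fin_cases j <;> simp [g00, g01, g10, g11]
  have hompres : (om : Matrix (Fin 2) (Fin 2) F)ᵀ * G₁ * om = G₁ := by
    rw [hG₁eq]
    ext i j
    fin_cases i <;> fin_cases j <;> simp [om, Matrix.mul_apply, Fin.sum_univ_two, h11]
  have httpres : ((1 : Matrix (Fin 2) (Fin 2) F) + nn)ᵀ * G₁ * (1 + nn) = G₁ := by
    rw [hG₁eq]
    ext i j
    fin_cases i <;> fin_cases j <;> simp [nn, Matrix.mul_apply, Fin.sum_univ_two, h11]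
  have hkronpres : ∀ (a : GL (Fin 2) F),
      (a : Matrix (Fin 2) (Fin 2) F)ᵀ * G₁ * (a : Matrix (Fin 2) (Fin 2) F) = G₁ →
      ((kronGL a (1 : GL (Fin n₂) F) : GL (Fin 2 × Fin n₂) F) : Matrix (Fin 2 × Fin n₂) (Fin 2 × Fin n₂) F)ᵀ * GG *
        ((kronGL a (1 : GL (Fin n₂) F) : GL (Fin 2 × Fin n₂) F) : Matrix (Fin 2 × Fin n₂) (Fin 2 × Fin n₂) F) = GG := by
    intro a ha
    rw [kronGL_val, hGG, ← Matrix.kroneckerMap_transpose, ← Matrix.mul_kronecker_mul,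
      ← Matrix.mul_kronecker_mul, ha, Units.val_one, Matrix.transpose_one, one_mul, mul_one]
  have hsingle : ∀ (i : Fin 2) (j : Fin n₂),
      (Pi.single (i, j) 1 : Fin 2 × Fin n₂ → F) = pt (Pi.single i 1) (Pi.single j 1) := by
    intro i j
    funext a
    obtain ⟨i', j'⟩ := a
    simp only [pt_apply, Pi.single_apply, Prod.mk.injEq]
    by_cases hi : i' = i
    · by_cases hj : j' = j
      · simp [hi, hj]
      · simp [hj]
    · simp [hi]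
  have hkiso : ∀ (a : GL (Fin 2) F) (b : GL (Fin n₂) F),
      ((kronGL a b : GL (Fin 2 × Fin n₂) F) : Matrix (Fin 2 × Fin n₂) (Fin 2 × Fin n₂) F)ᵀ * GG *
        ((kronGL a b : GL (Fin 2 × Fin n₂) F) : Matrix (Fin 2 × Fin n₂) (Fin 2 × Fin n₂) F) = GG →
      ∀ x, Q' (((kronGL a b : GL (Fin 2 × Fin n₂) F) : Matrix (Fin 2 × Fin n₂) (Fin 2 × Fin n₂) F) *ᵥ x) = Q' x := by
    intro a b hab x
    refine (quad_ext Q' (fun y => Q' (((kronGL a b : GL (Fin 2 × Fin n₂) F) : Matrix (Fin 2 × Fin n₂) (Fin 2 × Fin n₂) F) *ᵥ y))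
      GG hq' ?_ hs' ?_ ?_ x).symm
    · intro y z
      show Q' (_ *ᵥ (y + z)) = Q' (_ *ᵥ y) + Q' (_ *ᵥ z) + _
      rw [Matrix.mulVec_add, hq', dot_isom GG _ hab]
    · intro c y
      show Q' (_ *ᵥ (c • y)) = c ^ 2 * Q' (_ *ᵥ y)
      rw [Matrix.mulVec_smul, hs']
    · rintro ⟨i, j⟩
      show Q' _ = Q' (_ *ᵥ _)
      rw [hsingle, kronGL_val, kron_mulVec_pt, hpure', hpure']
  have hrriso : ∀ v, Q' v = 1 → psi e P (rr GG halt' v) ∈ Cfsg.isometryGroup F Q := by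
    intro v hv
    exact (hiso _).mpr (rr_isom Q' GG hq' hs' halt' h20 v hv)
  have hJpres : (Jg : Matrix (Fin 2 × Fin n₂) (Fin 2 × Fin n₂) F)ᵀ * GG * (Jg : Matrix (Fin 2 × Fin n₂) (Fin 2 × Fin n₂) F) = GG := by
    rw [hJgdef]
    exact hkronpres omG (by rw [homG]; exact hompres)
  have hkpres : (kg : Matrix (Fin 2 × Fin n₂) (Fin 2 × Fin n₂) F)ᵀ * GG * (kg : Matrix (Fin 2 × Fin n₂) (Fin 2 × Fin n₂) F) = GG := by
    rw [hkgdef]
    exact hkronpres ttG (by rw [httG]; exact httpres)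
  have hJiso : psi e P Jg ∈ Cfsg.isometryGroup F Q := by
    rw [hJgdef]
    exact (hiso _).mpr (hkiso omG 1 (hkronpres omG (by rw [homG]; exact hompres)))
  have hkgiso : psi e P kg ∈ Cfsg.isometryGroup F Q := by
    rw [hkgdef]
    exact (hiso _).mpr (hkiso ttG 1 (hkronpres ttG (by rw [httG]; exact httpres)))
  -- the two witnesses
  obtain ⟨M₁, hM₁⟩ : ∃ M₁ : GL (Fin 2 × Fin n₂) F, M₁ = ⁅Jg, rr GG halt' u⁆ := ⟨_, rfl⟩
  obtain ⟨M₂, hM₂⟩ : ∃ M₂ : GL (Fin 2 × Fin n₂) F, M₂ = ⁅kg, rr GG halt' u⁆ := ⟨_, rfl⟩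
  have hM₁Ω : psi e P M₁ ∈ omegaGL Q := by
    rw [hM₁, map_commutatorElement]
    exact commutator_mem_omegaGL Q _ _ hJiso (hrriso u hQu)
  have hM₂Ω : psi e P M₂ ∈ omegaGL Q := by
    rw [hM₂, map_commutatorElement]
    exact commutator_mem_omegaGL Q _ _ hkgiso (hrriso u hQu)
  obtain ⟨Ju, hJu⟩ : ∃ Ju : Fin 2 × Fin n₂ → F, Ju = p 1 j₀ + (p 0 j₁ + p 1 j₁) := ⟨_, rfl⟩
  obtain ⟨ku, hku⟩ : ∃ ku : Fin 2 × Fin n₂ → F, ku = p 0 j₀ + (p 0 j₁ + p 1 j₁) := ⟨_, rfl⟩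
  have hJu' : (Jg : Matrix (Fin 2 × Fin n₂) (Fin 2 × Fin n₂) F) *ᵥ u = Ju := by
    rw [hu, hJu, Matrix.mulVec_add, hJ0, hJ1]
  have hku' : (kg : Matrix (Fin 2 × Fin n₂) (Fin 2 × Fin n₂) F) *ᵥ u = ku := by
    rw [hu, hku, Matrix.mulVec_add, hk0, hk1]
  have hM₁eq : M₁ = rr GG halt' Ju * rr GG halt' u := by
    rw [hM₁, commutatorElement_def, rr_conj GG halt' Jg hJpres u, rr_inv GG halt' h20, hJu']
  have hM₂eq : M₂ = rr GG halt' ku * rr GG halt' u := by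
    rw [hM₂, commutatorElement_def, rr_conj GG halt' kg hkpres u, rr_inv GG halt' h20, hku']
  have hB_u_Ju : u ⬝ᵥ (GG *ᵥ Ju) = 1 := by
    rw [hu, hJu]
    simp only [Matrix.mulVec_add, add_dotProduct, dotProduct_add, hpp, g00, g01, g10, g11, γ00, γ01,
      γ10, γ11, mul_zero, zero_mul, mul_one, add_zero, zero_add]
  have hB_Ju_u : Ju ⬝ᵥ (GG *ᵥ u) = 1 := by
    rw [quad_symm Q' GG hq']; exact hB_u_Ju
  have hB_u_ku : u ⬝ᵥ (GG *ᵥ ku) = 0 := by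
    rw [hu, hku]
    simp only [Matrix.mulVec_add, add_dotProduct, dotProduct_add, hpp, g00, g01, g10, g11, γ00, γ01,
      γ10, γ11, mul_zero, zero_mul, mul_one, add_zero, zero_add, h11]
  have hB_Ju_ku : Ju ⬝ᵥ (GG *ᵥ ku) = 0 := by
    rw [hJu, hku]
    simp only [Matrix.mulVec_add, add_dotProduct, dotProduct_add, hpp, g00, g01, g10, g11, γ00, γ01,
      γ10, γ11, mul_zero, zero_mul, mul_one, add_zero, zero_add, h11]
  -- M₁ commutes with J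
  have hJJu : (Jg : Matrix (Fin 2 × Fin n₂) (Fin 2 × Fin n₂) F) *ᵥ Ju = u + Ju := by
    rw [hJu, hu, Matrix.mulVec_add, Matrix.mulVec_add, hJ1, hJ0, hJ1]
    abel
  have hrrJu_u : ((rr GG halt' Ju : GL (Fin 2 × Fin n₂) F) : Matrix (Fin 2 × Fin n₂) (Fin 2 × Fin n₂) F) *ᵥ u
      = (Jg : Matrix (Fin 2 × Fin n₂) (Fin 2 × Fin n₂) F) *ᵥ Ju := by
    rw [rr_mulVec, hB_u_Ju, one_smul, hJJu]
  have hcomm : Jg * M₁ * Jg⁻¹ = M₁ := by
    have e1 : Jg * rr GG halt' Ju * Jg⁻¹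
        = rr GG halt' Ju * rr GG halt' u * (rr GG halt' Ju)⁻¹ := by
      rw [rr_conj GG halt' Jg hJpres Ju,
        rr_conj GG halt' (rr GG halt' Ju) (rr_preserve GG hGGskew halt' Ju) u, hrrJu_u]
    have e2 : Jg * rr GG halt' u * Jg⁻¹ = rr GG halt' Ju := by
      rw [rr_conj GG halt' Jg hJpres u, hJu']
    calc Jg * M₁ * Jg⁻¹
        = (Jg * rr GG halt' Ju * Jg⁻¹) * (Jg * rr GG halt' u * Jg⁻¹) := by rw [hM₁eq]; group
      _ = M₁ := by rw [e1, e2, hM₁eq]; group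
  have hM₁K : M₁ ∈ K0 hq n₂ := by
    show NJ n₂ (M₁ : Matrix (Fin 2 × Fin n₂) (Fin 2 × Fin n₂) F)
    left
    have hgm : Jg * M₁ = M₁ * Jg := by
      calc Jg * M₁ = (Jg * M₁ * Jg⁻¹) * Jg := by group
        _ = M₁ * Jg := by rw [hcomm]
    have h : (Jg : Matrix (Fin 2 × Fin n₂) (Fin 2 × Fin n₂) F) * (M₁ : Matrix (Fin 2 × Fin n₂) (Fin 2 × Fin n₂) F) = (M₁ : Matrix (Fin 2 × Fin n₂) (Fin 2 × Fin n₂) F) * (Jg : Matrix (Fin 2 × Fin n₂) (Fin 2 × Fin n₂) F) := by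
      rw [← Units.val_mul, ← Units.val_mul, hgm]
    unfold JJ
    rw [← hJgval]
    exact h.symm
  -- a vector orthogonal to the two relevant coordinates
  obtain ⟨y₂, hy₂ne, hy₂0, hy₂1⟩ := exists_perp_two (G₂ *ᵥ D j₀) (G₂ *ᵥ D j₁)
    (by rw [Fintype.card_fin]; exact h2)
  have hperp : ∀ (x : Fin 2 → F) (i : Fin 2) (a : Fin n₂), (a = j₀ ∨ a = j₁) →
      pt x y₂ ⬝ᵥ (GG *ᵥ p i a) = 0 := by
    intro x i a ha
    rw [hpapp, hpt]
    rcases ha with rfl | rfl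
    · rw [hy₂0, mul_zero]
    · rw [hy₂1, mul_zero]
  have hfix : ∀ (v : Fin 2 × Fin n₂ → F) (x : Fin 2 → F), pt x y₂ ⬝ᵥ (GG *ᵥ v) = 0 →
      ((rr GG halt' v : GL (Fin 2 × Fin n₂) F) : Matrix (Fin 2 × Fin n₂) (Fin 2 × Fin n₂) F) *ᵥ pt x y₂ = pt x y₂ := by
    intro v x h
    rw [rr_mulVec, h, zero_smul, add_zero]
  have hpu : ∀ x, pt x y₂ ⬝ᵥ (GG *ᵥ u) = 0 := by
    intro x
    rw [hu, Matrix.mulVec_add, dotProduct_add, hperp x 0 j₀ (Or.inl rfl), hperp x 1 j₁ (Or.inr rfl),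
      add_zero]
  have hpJu : ∀ x, pt x y₂ ⬝ᵥ (GG *ᵥ Ju) = 0 := by
    intro x
    rw [hJu, Matrix.mulVec_add, Matrix.mulVec_add, dotProduct_add, dotProduct_add,
      hperp x 1 j₀ (Or.inl rfl), hperp x 0 j₁ (Or.inr rfl), hperp x 1 j₁ (Or.inr rfl), add_zero,
      add_zero]
  have hpku : ∀ x, pt x y₂ ⬝ᵥ (GG *ᵥ ku) = 0 := by
    intro x
    rw [hku, Matrix.mulVec_add, Matrix.mulVec_add, dotProduct_add, dotProduct_add,
      hperp x 0 j₀ (Or.inl rfl), hperp x 0 j₁ (Or.inr rfl), hperp x 1 j₁ (Or.inr rfl), add_zero,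
      add_zero]
  have hM₁fix : ∀ x, (M₁ : Matrix (Fin 2 × Fin n₂) (Fin 2 × Fin n₂) F) *ᵥ pt x y₂ = pt x y₂ := by
    intro x
    rw [hM₁eq, Units.val_mul, ← Matrix.mulVec_mulVec, hfix u x (hpu x), hfix Ju x (hpJu x)]
  have hM₂fix : ∀ x, (M₂ : Matrix (Fin 2 × Fin n₂) (Fin 2 × Fin n₂) F) *ᵥ pt x y₂ = pt x y₂ := by
    intro x
    rw [hM₂eq, Units.val_mul, ← Matrix.mulVec_mulVec, hfix u x (hpu x), hfix ku x (hpku x)]
  have hM₁p : (M₁ : Matrix (Fin 2 × Fin n₂) (Fin 2 × Fin n₂) F) *ᵥ p 0 j₀ = p 1 j₁ := by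
    rw [hM₁eq, Units.val_mul, ← Matrix.mulVec_mulVec, rr_mulVec GG halt' u (p 0 j₀)]
    have b1 : p 0 j₀ ⬝ᵥ (GG *ᵥ u) = 1 := by
      rw [hu]
      simp only [Matrix.mulVec_add, dotProduct_add, hpp, g00, g01, γ00, γ01, mul_zero, zero_mul,
        mul_one, zero_add, add_zero]
    rw [b1, one_smul]
    have b2 : p 0 j₀ + u = p 1 j₁ := by rw [hu, ← add_assoc, hvv, zero_add]
    rw [b2, rr_mulVec]
    have b3 : p 1 j₁ ⬝ᵥ (GG *ᵥ Ju) = 0 := by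
      rw [hJu]
      simp only [Matrix.mulVec_add, dotProduct_add, hpp, g10, g11, γ10, γ11, mul_zero, zero_mul,
        add_zero]
    rw [b3, zero_smul, add_zero]
  have hM₁kron : M₁ ∉ kroneckerSubgroup 2 n₂ F := by
    rintro ⟨a, b, hab⟩
    have hact : ∀ (x : Fin 2 → F) (y : Fin n₂ → F), (M₁ : Matrix (Fin 2 × Fin n₂) (Fin 2 × Fin n₂) F) *ᵥ pt x y
        = pt ((a : Matrix (Fin 2) (Fin 2) F) *ᵥ x) ((b : Matrix (Fin n₂) (Fin n₂) F) *ᵥ y) := by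
      intro x y
      rw [hab, kron_mulVec_pt]
    have a1 := hM₁fix (E 0)
    rw [hact] at a1
    have a2 := hM₁p
    rw [hpapp, hpapp, hact] at a2
    obtain ⟨j, hj⟩ : ∃ j, y₂ j ≠ 0 := by
      by_contra hcon; push Not at hcon; exact hy₂ne (funext hcon)
    have hE00 : E 0 0 = 1 := by rw [hEapp]; simp
    have hE01 : E 0 1 = 0 := by rw [hEapp]; simp
    have hE11 : E 1 1 = 1 := by rw [hEapp]; simp
    have hDjj : D j₁ j₁ = 1 := by rw [hDapp]; simp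
    have c0 := congrFun a1 (0, j)
    have c1 := congrFun a1 (1, j)
    have c2 := congrFun a2 (1, j₁)
    simp only [pt_apply, hE00, one_mul] at c0
    simp only [pt_apply, hE01, zero_mul] at c1
    simp only [pt_apply, hE11, hDjj, one_mul] at c2
    have hby : ((b : Matrix (Fin n₂) (Fin n₂) F) *ᵥ y₂) j ≠ 0 := by
      intro h0
      rw [h0, mul_zero] at c0
      exact hj c0.symm
    have ha1 : ((a : Matrix (Fin 2) (Fin 2) F) *ᵥ E 0) 1 = 0 := by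
      rcases mul_eq_zero.mp c1 with h | h
      · exact h
      · exact absurd h hby
    rw [ha1, zero_mul] at c2
    exact zero_ne_one c2
  have hM₂K : M₂ ∉ K0 hq n₂ := by
    intro hmem
    have hNJ : NJ n₂ (M₂ : Matrix (Fin 2 × Fin n₂) (Fin 2 × Fin n₂) F) := hmem
    unfold NJ JJ at hNJ
    rw [← hJgval] at hNJ
    have hM₂u : (M₂ : Matrix (Fin 2 × Fin n₂) (Fin 2 × Fin n₂) F) *ᵥ u = u := by
      rw [hM₂eq, Units.val_mul, ← Matrix.mulVec_mulVec, rr_mulVec GG halt' u u, halt' u, zero_smul, add_zero,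
        rr_mulVec, hB_u_ku, zero_smul, add_zero]
    have hM₂Ju : (M₂ : Matrix (Fin 2 × Fin n₂) (Fin 2 × Fin n₂) F) *ᵥ Ju = Ju + u := by
      rw [hM₂eq, Units.val_mul, ← Matrix.mulVec_mulVec, rr_mulVec GG halt' u Ju, hB_Ju_u, one_smul, rr_mulVec,
        add_dotProduct, hB_Ju_ku, hB_u_ku, add_zero, zero_smul, add_zero]
    have hu0 : u ≠ 0 := by
      intro h0
      rw [h0, quad_zero Q' GG hq'] at hQu
      exact zero_ne_one hQu
    rcases hNJ with h | h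
    · have h3 : ((M₂ : Matrix (Fin 2 × Fin n₂) (Fin 2 × Fin n₂) F) * (Jg : Matrix (Fin 2 × Fin n₂) (Fin 2 × Fin n₂) F)) *ᵥ u
          = ((Jg : Matrix (Fin 2 × Fin n₂) (Fin 2 × Fin n₂) F) * (M₂ : Matrix (Fin 2 × Fin n₂) (Fin 2 × Fin n₂) F)) *ᵥ u := by rw [h]
      rw [← Matrix.mulVec_mulVec, ← Matrix.mulVec_mulVec, hJu', hM₂Ju, hM₂u, hJu'] at h3
      exact hu0 (add_eq_left.mp h3)
    · obtain ⟨x₂, hx₂⟩ : ∃ x₂ : Fin 2 × Fin n₂ → F, x₂ = pt (E 0) y₂ := ⟨_, rfl⟩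
      have hJx : (Jg : Matrix (Fin 2 × Fin n₂) (Fin 2 × Fin n₂) F) *ᵥ x₂ = pt ((om : Matrix (Fin 2) (Fin 2) F) *ᵥ E 0) y₂ := by
        rw [hx₂, hJgval, kron_mulVec_pt, Matrix.one_mulVec]
      have f1 : (M₂ : Matrix (Fin 2 × Fin n₂) (Fin 2 × Fin n₂) F) *ᵥ x₂ = x₂ := by rw [hx₂]; exact hM₂fix _
      have f2 : (M₂ : Matrix (Fin 2 × Fin n₂) (Fin 2 × Fin n₂) F) *ᵥ ((Jg : Matrix (Fin 2 × Fin n₂) (Fin 2 × Fin n₂) F) *ᵥ x₂) = (Jg : Matrix (Fin 2 × Fin n₂) (Fin 2 × Fin n₂) F) *ᵥ x₂ := by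
        rw [hJx]; exact hM₂fix _
      have h3 : ((M₂ : Matrix (Fin 2 × Fin n₂) (Fin 2 × Fin n₂) F) * (Jg : Matrix (Fin 2 × Fin n₂) (Fin 2 × Fin n₂) F)) *ᵥ x₂
          = (((Jg : Matrix (Fin 2 × Fin n₂) (Fin 2 × Fin n₂) F) + 1) * (M₂ : Matrix (Fin 2 × Fin n₂) (Fin 2 × Fin n₂) F)) *ᵥ x₂ := by rw [h]
      rw [← Matrix.mulVec_mulVec, ← Matrix.mulVec_mulVec, f2, f1, Matrix.add_mulVec,
        Matrix.one_mulVec] at h3
      have hx₂0 : x₂ = 0 := left_eq_add.mp h3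
      have hE0ne : E 0 ≠ 0 := by
        intro h0
        have := congrFun h0 0
        rw [hEapp] at this
        simp at this
      exact pt_ne_zero (E 0) y₂ hE0ne hy₂ne (hx₂ ▸ hx₂0)
  have hinj := psi_injective (F := F) e P
  have htps := tps_eq 2 n₂ e P
  refine ⟨(K0 hq n₂).map (psi e P) ⊓ omegaGL Q, ?_, ?_⟩
  · rw [SetLike.lt_iff_le_and_exists]
    constructor
    · intro g hg
      obtain ⟨hg1, hg2⟩ := Subgroup.mem_inf.mp hg
      rw [htps] at hg1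
      obtain ⟨M, hM, rfl⟩ := Subgroup.mem_map.mp hg1
      exact Subgroup.mem_inf.mpr ⟨Subgroup.mem_map.mpr ⟨M, kron_le_K0 hq n₂ hM, rfl⟩, hg2⟩
    · refine ⟨psi e P M₁, Subgroup.mem_inf.mpr ⟨Subgroup.mem_map.mpr ⟨M₁, hM₁K, rfl⟩, hM₁Ω⟩, ?_⟩
      intro hmem
      have h1 := (Subgroup.mem_inf.mp hmem).1
      rw [htps] at h1
      obtain ⟨M, hM, hMeq⟩ := Subgroup.mem_map.mp h1
      rw [hinj hMeq] at hM
      exact hM₁kron hM
  · rw [SetLike.lt_iff_le_and_exists]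
    refine ⟨inf_le_right, psi e P M₂, hM₂Ω, ?_⟩
    intro hmem
    have h1 := (Subgroup.mem_inf.mp hmem).1
    obtain ⟨M, hM, hMeq⟩ := Subgroup.mem_map.mp h1
    rw [hinj hMeq] at hM
    exact hM₂K hM

end Cfsg.Agent.Lib.Helper13.OETensTwo
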