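import Mathlib
import Cfsg.Prelude.Def_GeometricClasses
import Cfsg.Agent.Lib.Helper13.SpDecomp
import Cfsg.Agent.Lib.Helper13.SpMax
import Cfsg.Agent.H5.SpCorA
import Cfsg.Agent.H5.HubCorP4

/-!
SpCor P6 (skeleton notes/SpCorSkel_helper27): the symplectic group lies in no tensor wreath subgroup
(`k ≥ 2` factors of degree `t ≥ 2`).  Elements of the wreath subgroup carry pure tensors to pure tensors; a symplectic
transvection with a suitable centre carries the basis vector `e_{x0}` to a vector which is not pure.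
-/

set_option autoImplicit false
set_option linter.unusedSectionVars false
set_option linter.unusedVariables false

namespace Cfsg.Agent.Lib.Helper13.SpCorP6

open Matrix Module Cfsg Cfsg.Geo
open Cfsg.Agent.Lib.Helper13 (sympTransvGL sympTransvGL_mulVec sympTransvGL_mem sympR sympR_apply)
open Cfsg.Agent.Lib.Helper6 (sympForm_self)
open Cfsg.H5.HubCor (wm wm_apply exists_wm_of_mem)

variable {F : Type*} [Field F]

/-- pure tensors in the coordinates `Fin t → Fin k` -/
def Pure {k t : ℕ} (w : (Fin t → Fin k) → F) : Prop :=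
  ∃ v : Fin t → Fin k → F, ∀ x, w x = ∏ i, v i (x i)

theorem pure_wm {k t : ℕ} (σ : Equiv.Perm (Fin t)) (gs : Fin t → Matrix (Fin k) (Fin k) F)
    (w : (Fin t → Fin k) → F) (hw : Pure w) : Pure (wm k t σ gs *ᵥ w) := by
  obtain ⟨v, hv⟩ := hw
  refine ⟨fun i => gs i *ᵥ v (σ i), fun x => ?_⟩
  show ∑ y, wm k t σ gs x y * w y = ∏ i, ∑ b, gs i (x i) b * v (σ i) b
  rw [Fintype.prod_sum]
  apply Fintype.sum_equiv (Equiv.arrowCongr σ.symm (Equiv.refl (Fin k)))
  intro y
  have hz : ∀ i, (Equiv.arrowCongr σ.symm (Equiv.refl (Fin k)) y) i = y (σ i) := fun i => by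
    simp [Equiv.arrowCongr]
  simp only [hz]
  rw [Finset.prod_mul_distrib, Equiv.prod_comp σ (fun j => v j (y j)), wm_apply, hv]

theorem pure_single {k t : ℕ} (x0 : Fin t → Fin k) : Pure (Pi.single x0 (1 : F)) := by
  classical
  refine ⟨fun i => Pi.single (x0 i) 1, fun x => ?_⟩
  by_cases h : x = x0
  · subst h
    simp
  · rw [Pi.single_eq_of_ne h]
    obtain ⟨i, hi⟩ := Function.ne_iff.mp h
    exact (Finset.prod_eq_zero (Finset.mem_univ i) (Pi.single_eq_of_ne hi _)).symm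

theorem Pure.exch {k t : ℕ} {w : (Fin t → Fin k) → F} (hw : Pure w) (p q : Fin t → Fin k) (j : Fin t) :
    w p * w q = w (Function.update p j (q j)) * w (Function.update q j (p j)) := by
  classical
  obtain ⟨v, hv⟩ := hw
  rw [hv, hv, hv, hv]
  rw [← Finset.mul_prod_erase Finset.univ (fun i => v i (p i)) (Finset.mem_univ j),
    ← Finset.mul_prod_erase Finset.univ (fun i => v i (q i)) (Finset.mem_univ j),
    ← Finset.mul_prod_erase Finset.univ (fun i => v i (Function.update p j (q j) i)) (Finset.mem_univ j),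
    ← Finset.mul_prod_erase Finset.univ (fun i => v i (Function.update q j (p j) i)) (Finset.mem_univ j)]
  have h1 : ∏ i ∈ Finset.univ.erase j, v i (Function.update p j (q j) i) = ∏ i ∈ Finset.univ.erase j, v i (p i) :=
    Finset.prod_congr rfl fun i hi => by rw [Function.update_of_ne (Finset.ne_of_mem_erase hi)]
  have h2 : ∏ i ∈ Finset.univ.erase j, v i (Function.update q j (p j) i) = ∏ i ∈ Finset.univ.erase j, v i (q i) :=
    Finset.prod_congr rfl fun i hi => by rw [Function.update_of_ne (Finset.ne_of_mem_erase hi)]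
  rw [h1, h2]
  simp only [Function.update_self]
  ring

theorem Pure.contra {k t : ℕ} {w : (Fin t → Fin k) → F} (hw : Pure w) (x0 q : Fin t → Fin k) (j : Fin t)
    (h1 : w x0 ≠ 0) (h2 : w q ≠ 0) (h3 : w (Function.update x0 j (q j)) = 0) : False := by
  have := hw.exch x0 q j
  rw [h3, zero_mul] at this
  exact mul_ne_zero h1 h2 this

/-- the action of an element of a tensor wreath subgroup, in tensor coordinates -/
theorem exists_of_mem {ι : Type} [Fintype ι] [DecidableEq ι] {k t : ℕ} (e : ι ≃ (Fin t → Fin k)) (P : GL ι F)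
    (g : GL ι F) (hg : g ∈ tensorWreathSubgroup k t e P) :
    ∃ (σ : Equiv.Perm (Fin t)) (gs : Fin t → Matrix (Fin k) (Fin k) F), ∀ w : (Fin t → Fin k) → F,
      (g : Matrix ι ι F) *ᵥ ((P : Matrix ι ι F) *ᵥ (w ∘ e)) = (P : Matrix ι ι F) *ᵥ ((wm k t σ gs *ᵥ w) ∘ e) := by
  obtain ⟨y, ⟨M, hM, rfl⟩, rfl⟩ := hg
  obtain ⟨σ, gs, hwm⟩ := exists_wm_of_mem M hM
  refine ⟨σ, gs, fun w => ?_⟩
  have h1 : (((MulAut.conj P).toMonoidHom ((glReindex e.symm).toMonoidHom M) : GL ι F) : Matrix ι ι F) =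
      (P : Matrix ι ι F) * Matrix.reindex e.symm e.symm (M : Matrix _ _ F) * ((P⁻¹ : GL ι F) : Matrix ι ι F) := rfl
  rw [h1, Matrix.mulVec_mulVec, Matrix.mul_assoc, Matrix.mul_assoc, ← Units.val_mul, inv_mul_cancel, Units.val_one,
    Matrix.mul_one, ← Matrix.mulVec_mulVec, Matrix.reindex_apply, Equiv.symm_symm, Matrix.submatrix_mulVec_equiv,
    hwm]
  congr 3
  funext x
  simp

theorem not_sp_le_tensorWreathSubgroup {m : ℕ} (k t : ℕ) (hk : 2 ≤ k) (ht : 2 ≤ t)
    (e : (Fin m ⊕ Fin m) ≃ (Fin t → Fin k)) (P : GL (Fin m ⊕ Fin m) F) :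
    ¬ Cfsg.spGL m F ≤ tensorWreathSubgroup k t e P := by
  classical
  intro hle
  obtain ⟨toV, htoV⟩ : ∃ toV : ((Fin t → Fin k) → F) →ₗ[F] (Fin m ⊕ Fin m → F),
      ∀ w, toV w = (P : Matrix (Fin m ⊕ Fin m) (Fin m ⊕ Fin m) F) *ᵥ (w ∘ e) :=
    ⟨(Matrix.toLin' (P : Matrix (Fin m ⊕ Fin m) (Fin m ⊕ Fin m) F)) ∘ₗ (LinearMap.funLeft F F e), fun w => rfl⟩
  have hinj : Function.Injective toV := by
    intro w w' h
    rw [htoV, htoV] at h
    have h2 := congrArg (fun x => ((P⁻¹ : GL (Fin m ⊕ Fin m) F) : Matrix (Fin m ⊕ Fin m) (Fin m ⊕ Fin m) F) *ᵥ x) h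
    simp only [Matrix.mulVec_mulVec, ← Units.val_mul, inv_mul_cancel, Units.val_one, Matrix.one_mulVec] at h2
    funext x
    have := congrFun h2 (e.symm x)
    simpa using this
  have hsurj : ∀ v, ∃ w, toV w = v := by
    intro v
    refine ⟨(((P⁻¹ : GL (Fin m ⊕ Fin m) F) : Matrix (Fin m ⊕ Fin m) (Fin m ⊕ Fin m) F) *ᵥ v) ∘ e.symm, ?_⟩
    rw [htoV]
    have : ((((P⁻¹ : GL (Fin m ⊕ Fin m) F) : Matrix (Fin m ⊕ Fin m) (Fin m ⊕ Fin m) F) *ᵥ v) ∘ e.symm) ∘ e = ((P⁻¹ : GL (Fin m ⊕ Fin m) F) : Matrix (Fin m ⊕ Fin m) (Fin m ⊕ Fin m) F) *ᵥ v := by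
      funext x
      simp
    rw [this, Matrix.mulVec_mulVec, ← Units.val_mul, mul_inv_cancel, Units.val_one, Matrix.one_mulVec]
  -- coordinates
  obtain ⟨c0, hc0⟩ : ∃ c0 : Fin k, c0 = ⟨0, by omega⟩ := ⟨_, rfl⟩
  obtain ⟨x0, hx0⟩ : ∃ x0 : Fin t → Fin k, x0 = fun _ => c0 := ⟨_, rfl⟩
  obtain ⟨w0, hw0⟩ : ∃ w0 : (Fin t → Fin k) → F, w0 = Pi.single x0 1 := ⟨_, rfl⟩
  obtain ⟨u, hu⟩ : ∃ u, u = toV w0 := ⟨_, rfl⟩
  obtain ⟨L, hL⟩ : ∃ L : ((Fin t → Fin k) → F) →ₗ[F] F, ∀ b, L b = Cfsg.sympForm m F u (toV b) :=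
    ⟨(sympR u) ∘ₗ toV, fun b => rfl⟩
  have hw0x : w0 x0 = 1 := by rw [hw0, Pi.single_eq_same]
  have hw0ne : ∀ x, x ≠ x0 → w0 x = 0 := fun x hx => by rw [hw0, Pi.single_eq_of_ne hx]
  have hu0 : u ≠ 0 := by
    intro h
    have h1 : toV w0 = toV 0 := by rw [← hu, h, map_zero]
    have h2 := congrFun (hinj h1) x0
    rw [hw0x] at h2
    exact one_ne_zero h2
  -- every `w0 + L b • b` is pure
  have key : ∀ b, Pure (w0 + L b • b) := by
    intro b
    obtain ⟨σ, gs, h⟩ := exists_of_mem e P _ (hle (sympTransvGL_mem (toV b) 1))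
    have h1 := h w0
    rw [sympTransvGL_mulVec, one_mul, ← htoV, ← htoV, ← hu, ← hL, hu, ← map_smul, ← map_add] at h1
    rw [hinj h1]
    exact pure_wm σ gs w0 (hw0 ▸ pure_single x0)
  -- `L` is not zero on the standard basis
  obtain ⟨y, hy⟩ : ∃ y, L (Pi.single y 1) ≠ 0 := by
    by_contra hcon
    push Not at hcon
    have hL0 : L = 0 := by
      apply (Pi.basisFun F (Fin t → Fin k)).ext
      intro i
      rw [Pi.basisFun_apply, hcon, LinearMap.zero_apply]
    apply hu0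
    apply Cfsg.H5.SpCor.eq_zero_of_forall_right
    intro v
    obtain ⟨w, rfl⟩ := hsurj v
    rw [← hL, hL0, LinearMap.zero_apply]
  have hLw0 : L w0 = 0 := by rw [hL, ← hu, sympForm_self]
  -- case A
  have caseA : ∀ z, L (Pi.single z 1) ≠ 0 → ∀ j1 j2 : Fin t, j1 ≠ j2 → z j1 ≠ x0 j1 → z j2 ≠ x0 j2 → False := by
    intro z hz j1 j2 hj h1 h2
    have hzx : z ≠ x0 := fun h => h1 (by rw [h])
    have hp := key (Pi.single z 1)
    apply hp.contra x0 z j1
    · rw [Pi.add_apply, Pi.smul_apply, hw0x, Pi.single_eq_of_ne hzx.symm, smul_zero, add_zero]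
      exact one_ne_zero
    · rw [Pi.add_apply, Pi.smul_apply, hw0ne z hzx, Pi.single_eq_same, zero_add, smul_eq_mul, mul_one]
      exact hz
    · have hp1 : Function.update x0 j1 (z j1) ≠ x0 := by
        intro h
        have := congrFun h j1
        rw [Function.update_self] at this
        exact h1 this
      have hp2 : Function.update x0 j1 (z j1) ≠ z := by
        intro h
        have := congrFun h j2
        rw [Function.update_of_ne hj.symm] at this
        exact h2 this.symm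
      rw [Pi.add_apply, Pi.smul_apply, hw0ne _ hp1, Pi.single_eq_of_ne hp2, smul_zero, add_zero]
  have hyx : y ≠ x0 := by
    rintro rfl
    rw [← hw0] at hy
    exact hy hLw0
  obtain ⟨j1, hj1⟩ := Function.ne_iff.mp hyx
  obtain ⟨j2, hj2⟩ : ∃ j2 : Fin t, j2 ≠ j1 := by
    by_cases h : j1 = ⟨0, by omega⟩
    · refine ⟨⟨1, by omega⟩, ?_⟩
      rw [h]
      intro h'
      simpa using congrArg Fin.val h'
    · exact ⟨⟨0, by omega⟩, fun h' => h h'.symm⟩
  by_cases hy2 : y j2 = x0 j2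
  swap
  · exact caseA y hy j1 j2 hj2.symm hj1 hy2
  obtain ⟨c', hc'⟩ : ∃ c' : Fin k, c' ≠ x0 j2 := by
    refine ⟨⟨1, by omega⟩, ?_⟩
    rw [hx0, hc0]
    intro h'
    simpa using congrArg Fin.val h'
  obtain ⟨z, hz⟩ : ∃ z, z = Function.update y j2 c' := ⟨_, rfl⟩
  have hz1 : z j1 = y j1 := by rw [hz, Function.update_of_ne hj2.symm]
  have hz2 : z j2 = c' := by rw [hz, Function.update_self]
  by_cases hLz : L (Pi.single z 1) = 0
  swap
  · exact caseA z hLz j1 j2 hj2.symm (by rw [hz1]; exact hj1) (by rw [hz2]; exact hc')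
  have hzx : z ≠ x0 := fun h => hc' (by rw [← hz2, h])
  have hzy : z ≠ y := fun h => hc' (by rw [← hz2, h, hy2])
  have hp := key (Pi.single y 1 + Pi.single z 1)
  rw [map_add, hLz, add_zero] at hp
  apply hp.contra x0 z j2
  · rw [Pi.add_apply, Pi.smul_apply, Pi.add_apply, hw0x, Pi.single_eq_of_ne hyx.symm, Pi.single_eq_of_ne hzx.symm,
      add_zero, smul_zero, add_zero]
    exact one_ne_zero
  · rw [Pi.add_apply, Pi.smul_apply, Pi.add_apply, hw0ne z hzx, Pi.single_eq_of_ne hzy, Pi.single_eq_same, zero_add,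
      zero_add, smul_eq_mul, mul_one]
    exact hy
  · have hp1 : Function.update x0 j2 (z j2) ≠ x0 := by
      intro h
      have := congrFun h j2
      rw [Function.update_self, hz2] at this
      exact hc' this
    have hp2 : Function.update x0 j2 (z j2) ≠ y := by
      intro h
      have := congrFun h j1
      rw [Function.update_of_ne hj2.symm] at this
      exact hj1 this.symm
    have hp3 : Function.update x0 j2 (z j2) ≠ z := by
      intro h
      have := congrFun h j1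
      rw [Function.update_of_ne hj2.symm, hz1] at this
      exact hj1 this.symm
    rw [Pi.add_apply, Pi.smul_apply, Pi.add_apply, hw0ne _ hp1, Pi.single_eq_of_ne hp2, Pi.single_eq_of_ne hp3,
      add_zero, smul_zero, add_zero]

end Cfsg.Agent.Lib.Helper13.SpCorP6
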