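import Mathlib
import Cfsg.Prelude.Def_GeometricClasses
import Cfsg.Agent.Lib.Helper1.OEDefs
import Cfsg.Agent.Lib.Helper13.OEPlus10
import Cfsg.Agent.Lib.Helper13.OEFrame4
import Cfsg.Agent.Lib.Helper13.OETensTwo
import Cfsg.Agent.Lib.Helper16.OEPlusT
import Cfsg.Agent.Lib.Helper14.OETypeTC12
import Cfsg.Agent.Lib.Helper22.OECorPTEN

/-!
# S5871 (`Ω₁₂⁺`) from the hub `HubOE Q` (helper13)

`cases12p` is the verbatim conclusion of the frozen S5871; the pieces not yet landed are explicit hypotheses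
(`hX1`, `hX2`, `hX3`, `hX4`), with the signatures of `notes/OEPlusSkel_helper13.lean.txt` (`hX3` in helper6's amended
shape, inside `Ω`).
-/

set_option autoImplicit false
set_option linter.unusedSectionVars false
set_option linter.unusedVariables false
set_option maxHeartbeats 1600000

namespace Cfsg.Agent.Lib.Helper13.OEPlus

open Matrix Cfsg Cfsg.Geo Module QuadraticMap
open Cfsg.Agent.Lib.Helper1.OE
open Cfsg.Agent.Lib.Helper13 (toQF toQF_nondegenerate)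
open Cfsg.Agent.Lib.Helper21.OECorPIRR (not_omega_le_stab not_omega_le_tsPair not_omega_le_decomp_of_two_le)
open Cfsg.Agent.Lib.Helper16.OECorPFLD (not_omega_le_field)
open Cfsg.Agent.Lib.Helper22.OECorPTEN (not_omega_le_tensor2)
open Cfsg.Agent.Lib.Helper12.OECorE (odd_card_of_odd_finrank exists_perp)

variable {F : Type*} [Field F] [Fintype F]

/-- `q` is a prime power -/
theorem card_ne_six : Fintype.card F ≠ 6 := by
  intro h6
  have hpp : IsPrimePow (Fintype.card F) := Fintype.isPrimePow_card_of_field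
  rw [h6] at hpp
  have : ¬ IsPrimePow 6 := by
    rw [isPrimePow_nat_iff]
    rintro ⟨p, k, hp, hk, hpk⟩
    have h2 : 2 ∣ p ^ k := by rw [hpk]; norm_num
    have h3 : 3 ∣ p ^ k := by rw [hpk]; norm_num
    have h2' := (Nat.prime_dvd_prime_iff_eq Nat.prime_two hp).mp (Nat.Prime.dvd_of_dvd_pow Nat.prime_two h2)
    have h3' := (Nat.prime_dvd_prime_iff_eq Nat.prime_three hp).mp (Nat.Prime.dvd_of_dvd_pow Nat.prime_three h3)
    omega
  exact this hpp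

/-- **S5871** (`Ω₁₂⁺`) from the hub -/
theorem cases12p (Q : (Fin 12 → F) → F) (hQ : IsNondegenerateQuadraticForm Q) (hplus : IsPlusTypeOn Q ⊤)
    (hub : HubOE Q)
    (hX1 : Odd (Fintype.card F) → ∀ (e : Fin 12 ≃ Fin 2 × Fin 6) (P : GL (Fin 12) F)
      (f₁ : (Fin 2 → F) → (Fin 2 → F) → F) (f₂ : (Fin 6 → F) → (Fin 6 → F) → F), IsSymmetricForm f₁ →
      IsSymmetricForm f₂ → IsTensorFormStructure id (polar Q) f₁ f₂ e P → (∃ x, x ≠ 0 ∧ f₁ x x = 0) →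
      ∃ D : Fin 2 → Submodule F (Fin 12 → F), IsMDecomposition 6 D ∧ (∀ i, IsTotallySingularQuad Q (D i)) ∧
        tensorProductSubgroup 2 6 e P ⊓ isometryGroup F Q ≤ decompositionStabilizer D)
    (hX2 : Odd (Fintype.card F) → ∀ (e : Fin 12 ≃ Fin 2 × Fin 6) (P : GL (Fin 12) F)
      (f₁ : (Fin 2 → F) → (Fin 2 → F) → F) (f₂ : (Fin 6 → F) → (Fin 6 → F) → F), IsSymmetricForm f₁ →
      IsSymmetricForm f₂ → IsTensorFormStructure id (polar Q) f₁ f₂ e P → (∀ x, f₁ x x = 0 → x = 0) →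
      ∃ K : Subalgebra F (Matrix (Fin 12) (Fin 12) F), IsFieldSubalgebra 2 K ∧
        IsAdjointClosedFor (polar Q) K ∧ ¬ IsSelfAdjointFor (polar Q) K ∧
        (∀ k ∈ K, ∃ c : F, ∀ v : Fin 12 → F, Q (k *ᵥ v) = c * Q v) ∧
        tensorProductSubgroup 2 6 e P ⊓ isometryGroup F Q ≤ subalgebraNormalizer K)
    (hX3 : Odd (Fintype.card F) → ∀ (e : Fin 12 ≃ Fin 3 × Fin 4) (P : GL (Fin 12) F)
      (f₁ : (Fin 3 → F) → (Fin 3 → F) → F) (f₂ : (Fin 4 → F) → (Fin 4 → F) → F), IsSymmetricForm f₁ →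
      IsSymmetricForm f₂ → IsTensorFormStructure id (polar Q) f₁ f₂ e P →
      (∃ U : Submodule F (Fin 4 → F), finrank F U = 2 ∧ ∀ u ∈ U, ∀ v ∈ U, f₂ u v = 0) →
      ∃ (e' : Fin 12 ≃ Fin 2 × Fin 6) (P' : GL (Fin 12) F) (g₁ : (Fin 2 → F) → (Fin 2 → F) → F)
        (g₂ : (Fin 6 → F) → (Fin 6 → F) → F), IsSymplecticForm g₁ ∧ IsSymplecticForm g₂ ∧
        IsTensorFormStructure id (polar Q) g₁ g₂ e' P' ∧
        tensorProductSubgroup 3 4 e P ⊓ omegaGL Q ≤ tensorProductSubgroup 2 6 e' P')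
    (hX4 : Odd (Fintype.card F) → ∀ (e : Fin 12 ≃ Fin 3 × Fin 4) (P : GL (Fin 12) F)
      (f₁ : (Fin 3 → F) → (Fin 3 → F) → F) (f₂ : (Fin 4 → F) → (Fin 4 → F) → F), IsSymmetricForm f₁ →
      IsSymmetricForm f₂ → IsTensorFormStructure id (polar Q) f₁ f₂ e P →
      (¬ ∃ U : Submodule F (Fin 4 → F), finrank F U = 2 ∧ ∀ u ∈ U, ∀ v ∈ U, f₂ u v = 0) →
      ¬ IsPlusTypeOn Q ⊤)
    (H : Subgroup (GL (Fin 12) F)) (hH : IsMaximalIn (omegaGL Q) H) :
    (∃ W : Submodule F (Fin 12 → F), W ≠ ⊥ ∧ IsTotallySingularQuad Q W ∧ Module.finrank F W ≠ 5 ∧ H = subspaceStabilizer W ⊓ omegaGL Q) ∨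
    (Odd (Fintype.card F) ∧ ∃ W : Submodule F (Fin 12 → F), W ≠ ⊥ ∧ W ≠ ⊤ ∧ Odd (Module.finrank F W) ∧ 2 * Module.finrank F W ≠ 12 ∧ IsNondegenerateOn (QuadraticMap.polar Q) W ∧ H = subspaceStabilizer W ⊓ omegaGL Q) ∨
    (∃ W : Submodule F (Fin 12 → F), Module.finrank F W = 2 ∧ IsNondegenerateOn (QuadraticMap.polar Q) W ∧ ¬ IsPlusTypeOn Q W ∧ H = subspaceStabilizer W ⊓ omegaGL Q) ∨
    (4 ≤ Fintype.card F ∧ ∃ W : Submodule F (Fin 12 → F), Module.finrank F W = 2 ∧ IsNondegenerateOn (QuadraticMap.polar Q) W ∧ IsPlusTypeOn Q W ∧ H = subspaceStabilizer W ⊓ omegaGL Q) ∨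
    (∃ W : Submodule F (Fin 12 → F), Module.finrank F W = 4 ∧ IsNondegenerateOn (QuadraticMap.polar Q) W ∧ H = subspaceStabilizer W ⊓ omegaGL Q) ∨
    (¬ Odd (Fintype.card F) ∧ ∃ v : (Fin 12 → F), Q v ≠ 0 ∧ H = subspaceStabilizer (Submodule.span F {v}) ⊓ omegaGL Q) ∨
    ((∃ p : ℕ, p.Prime ∧ Odd p ∧ Fintype.card F = p) ∧ ∃ D : Fin 12 → Submodule F (Fin 12 → F), IsOrthogonalMDecomposition Q 1 D ∧ H = decompositionStabilizer D ⊓ omegaGL Q) ∨
    (7 ≤ Fintype.card F ∧ ∃ D : Fin 6 → Submodule F (Fin 12 → F), IsOrthogonalMDecomposition Q 2 D ∧ (∀ i, IsPlusTypeOn Q (D i)) ∧ H = decompositionStabilizer D ⊓ omegaGL Q) ∨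
    (Fintype.card F ≠ 3 ∧ ∃ D : Fin 6 → Submodule F (Fin 12 → F), IsOrthogonalMDecomposition Q 2 D ∧ (∀ i, ¬ IsPlusTypeOn Q (D i)) ∧ H = decompositionStabilizer D ⊓ omegaGL Q) ∨
    (Odd (Fintype.card F) ∧ 5 ≤ Fintype.card F ∧ ∃ D : Fin 4 → Submodule F (Fin 12 → F), IsOrthogonalMDecomposition Q 3 D ∧ H = decompositionStabilizer D ⊓ omegaGL Q) ∨
    (3 ≤ Fintype.card F ∧ ∃ D : Fin 3 → Submodule F (Fin 12 → F), IsOrthogonalMDecomposition Q 4 D ∧ H = decompositionStabilizer D ⊓ omegaGL Q) ∨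
    (∃ D : Fin 2 → Submodule F (Fin 12 → F), IsOrthogonalMDecomposition Q 6 D ∧ H = decompositionStabilizer D ⊓ omegaGL Q) ∨
    (∃ D : Fin 2 → Submodule F (Fin 12 → F), IsMDecomposition 6 D ∧ (∀ i, IsTotallySingularQuad Q (D i)) ∧ H = decompositionStabilizer D ⊓ omegaGL Q) ∨
    (∃ K : Subalgebra F (Matrix (Fin 12) (Fin 12) F), IsFieldSubalgebra 2 K ∧ H = subalgebraNormalizer K ⊓ omegaGL Q) ∨
    (∃ K : Subalgebra F (Matrix (Fin 12) (Fin 12) F), IsFieldSubalgebra 3 K ∧ H = subalgebraNormalizer K ⊓ omegaGL Q) ∨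
    (∃ K : Subalgebra F (Matrix (Fin 12) (Fin 12) F), IsFieldSubalgebra 2 K ∧ IsAdjointClosedFor (QuadraticMap.polar Q) K ∧ ¬ IsSelfAdjointFor (QuadraticMap.polar Q) K ∧ (∀ k ∈ K, ∃ c : F, ∀ v : (Fin 12 → F), Q (Matrix.mulVec k v) = c * Q v) ∧ H = subalgebraNormalizer K ⊓ omegaGL Q) ∨
    (3 ≤ Fintype.card F ∧ ∃ (e : Fin 12 ≃ Fin 2 × Fin 6) (P : Matrix.GeneralLinearGroup (Fin 12) F) (f₁ : (Fin 2 → F) → (Fin 2 → F) → F) (f₂ : (Fin 6 → F) → (Fin 6 → F) → F), IsSymplecticForm f₁ ∧ IsSymplecticForm f₂ ∧ IsTensorFormStructure id (QuadraticMap.polar Q) f₁ f₂ e P ∧ (∀ (x₁ : Fin 2 → F) (x₂ : Fin 6 → F), Q (Matrix.mulVec (P : Matrix (Fin 12) (Fin 12) F) ((fun a : Fin 2 × Fin 6 => x₁ a.1 * x₂ a.2) ∘ e)) = 0) ∧ H = tensorProductSubgroup 2 6 e P ⊓ omegaGL Q) ∨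
    (∃ (F₀ : Subfield F) (r : ℕ) (P : Matrix.GeneralLinearGroup (Fin 12) F) (ζ : F), r.Prime ∧ Fintype.card F = Nat.card F₀ ^ r ∧ ζ ≠ 0 ∧ IsQuadFormRationalStructure (fun v : Fin 12 → F => ζ * Q v) F₀ P ∧ H = subfieldSubgroup F₀ P ⊓ omegaGL Q) ∨
    InOrthogonalResidualClass H := by
  have h5 : 5 ≤ 12 := by norm_num
  have hΩI := omegaGL_le_iso Q
  have hHΩ : H ≤ omegaGL Q := hH.1.le
  have hc12 : Fintype.card (Fin 12) = 12 := Fintype.card_fin 12
  have hq1 : 1 < Fintype.card F := Fintype.one_lt_card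
  have hq6 : Fintype.card F ≠ 6 := card_ne_six
  rcases hub H (hH.1.le.trans hΩI) with ⟨M, hM, hHM⟩ | hres
  swap
  · exact Or.inr (Or.inr (Or.inr (Or.inr (Or.inr (Or.inr (Or.inr (Or.inr (Or.inr (Or.inr (Or.inr (Or.inr (Or.inr (Or.inr (Or.inr (Or.inr (Or.inr (Or.inr hres)))))))))))))))))
  rcases hM with ⟨W, hW0, hW, rfl⟩ | ⟨W, hW0, hW1, hW, rfl⟩ | ⟨hq, v, hv, rfl⟩ | ⟨t, k, D, hD, hprime, rfl⟩ |
    ⟨k, D, hD, hts, rfl⟩ | ⟨r, K, hr, hK, hsa, rfl⟩ | ⟨K, hK, hac, hnsa, hsim, rfl⟩ |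
    ⟨n₁, n₂, e, P, f₁, f₂, hq, h1, h2, hf₁, hf₂, hT, rfl⟩ |
    ⟨n₁, n₂, e, P, f₁, f₂, h1, h2, hf₁, hf₂, hT, hpure, rfl⟩ | ⟨F₀, r, P, ζ, hr, hc, hζ, hrat, rfl⟩ |
    ⟨R, hq, hR, hirr, hRI, rfl⟩ | ⟨k, t, e, P, f₁, hq, hk, ht, hf₁, hT, rfl⟩ |
    ⟨k, t, e, P, f₁, hk, ht, hf₁, hT, hpure, rfl⟩
  · -- (1a) totally singular
    have hW1 : W ≠ ⊤ := ts_ne_top hQ (by norm_num) W hW
    have hHW := eq_of_le_member _ H _ hH (hHM.trans inf_le_left) (not_omega_le_stab hQ h5 W hW0 hW1)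
    refine Or.inl ⟨W, hW0, hW, ?_, hHW⟩
    intro h4
    have hb := Cfsg.Agent.Lib.Helper13.ts_hyperplane_not_maximal (toQF Q hQ) (toQF_nondegenerate Q hQ)
      (by norm_num) hplus W hW (by rw [h4])
    exact not_max_of_le_between _ H _ hH hHW.le hb
  · -- (1b) non-degenerate
    obtain ⟨W', hpos, hhalf, hW', hHW'⟩ := exit_nd hQ h5 H hH W hW0 hW1 hW (hHM.trans inf_le_left)
    have hW'0 := ne_bot_of_finrank_pos W' hpos
    have hW'1 := ne_top_of_finrank_lt W' (by omega)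
    rcases Nat.even_or_odd (finrank F W') with hev | hodd
    · obtain ⟨j, hj⟩ := hev
      have hj123 : j = 1 ∨ j = 2 ∨ j = 3 := by omega
      rcases hj123 with rfl | rfl | rfl
      · rcases exit_plane hQ h5 H hH W' (by omega) hW' hHW' with h | h | ⟨hq, W'', hdim, hnd, hHW''⟩ | h
        · exact Or.inr (Or.inr (Or.inl h))
        · exact Or.inr (Or.inr (Or.inr (Or.inl h)))
        · exact Or.inr (Or.inl ⟨hq, W'', ne_bot_of_finrank_pos W'' (by omega),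
            ne_top_of_finrank_lt W'' (by omega), ⟨5, by omega⟩, by omega, hnd, hHW''⟩)
        · exact Or.inr (Or.inr (Or.inr (Or.inr (Or.inr (Or.inl h)))))
      · exact Or.inr (Or.inr (Or.inr (Or.inr (Or.inl ⟨W', by omega, hW', hHW'⟩))))
      · -- two 6-spaces
        have h66 : finrank F W' = 6 := by omega
        obtain ⟨W'', hW'', hadd, horth, hcompl, -⟩ := exists_perp hQ W' hW'
        have h66' : finrank F W'' = 6 := by omega
        obtain ⟨hdec, hle1, -⟩ := Cfsg.Agent.Lib.Helper16.OEPlus.pair_decomp hQ 6 (by norm_num) W' W'' hW' hW''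
          hcompl horth h66 h66'
        have hHle : H ≤ decompositionStabilizer ![W', W''] :=
          le_of_inf_iso hHΩ (hHW'.le.trans inf_le_left) hle1
        have hHD : H = decompositionStabilizer ![W', W''] ⊓ omegaGL Q :=
          eq_of_le_member _ H _ hH hHle (not_omega_le_decomp_of_two_le hQ h5 (by norm_num) _ hdec)
        have hiso : AreIsometricFor Q W' W'' :=
          Cfsg.Agent.Lib.Helper16.OEPlus.halves_iso_of hQ hplus ⟨3, rfl⟩ _ hdec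
            (fun W W' => Cfsg.Agent.Lib.Helper14.OETypeTC12.areIsometricFor_of_plus hQ W W')
            (fun W W' => Cfsg.Agent.Lib.Helper14.OETypeTC12.areIsometricFor_of_not_plus hQ W W')
        refine Or.inr (Or.inr (Or.inr (Or.inr (Or.inr (Or.inr (Or.inr (Or.inr (Or.inr (Or.inr (Or.inr (Or.inl
          ⟨_, ⟨hdec, ?_⟩, hHD⟩)))))))))))
        intro i j
        fin_cases i <;> fin_cases j
        · exact Cfsg.Agent.Lib.Helper3.OEC6.areIsometricFor_refl _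
        · exact hiso
        · exact Cfsg.Agent.Lib.Helper3.OEC6.areIsometricFor_symm hiso
        · exact Cfsg.Agent.Lib.Helper3.OEC6.areIsometricFor_refl _
    · have hqodd := odd_card_of_odd_finrank hQ W' hW' hodd
      have hne : 2 * finrank F W' ≠ 12 := by
        obtain ⟨j, hj⟩ := hodd
        omega
      exact Or.inr (Or.inl ⟨hqodd, W', hW'0, hW'1, hodd, hne, hW', hHW'⟩)
  · -- (1c) non-singular vector
    obtain ⟨hs0, hs1⟩ := span_ne hQ (by norm_num) v hv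
    exact Or.inr (Or.inr (Or.inr (Or.inr (Or.inr (Or.inl ⟨hq, v, hv,
      eq_of_le_member _ H _ hH (hHM.trans inf_le_left) (not_omega_le_stab hQ h5 _ hs0 hs1)⟩)))))
  · -- (2a) isometric decomposition
    have hdim := Cfsg.Agent.Lib.Helper9.HubCor.mul_eq_card_of_isMDecomposition D hD.decomp.decomp
    rw [hc12] at hdim
    have ht2 := hD.decomp.decomp.two_le
    have ht12 : t ∣ 12 := Dvd.intro _ hdim
    have ht' : t ≤ 12 := Nat.le_of_dvd (by norm_num) ht12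
    have hHD : H = decompositionStabilizer D ⊓ omegaGL Q :=
      eq_of_le_member _ H _ hH (hHM.trans inf_le_left)
        (Cfsg.Agent.Lib.Helper21.OEPDec.not_omega_le_decompositionStabilizer (toQF Q hQ)
          (toQF_nondegenerate Q hQ) (by rw [hc12]; norm_num) D hD)
    have hcases : (t = 2 ∧ k = 6) ∨ (t = 3 ∧ k = 4) ∨ (t = 4 ∧ k = 3) ∨ (t = 6 ∧ k = 2) ∨ (t = 12 ∧ k = 1) := by
      interval_cases t <;> omega
    rcases hcases with ⟨rfl, rfl⟩ | ⟨rfl, rfl⟩ | ⟨rfl, rfl⟩ | ⟨rfl, rfl⟩ | ⟨rfl, rfl⟩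
    · exact Or.inr (Or.inr (Or.inr (Or.inr (Or.inr (Or.inr (Or.inr (Or.inr (Or.inr (Or.inr (Or.inr (Or.inl
        ⟨D, hD, hHD⟩)))))))))))
    · -- three 4-spaces
      by_cases hq3 : 3 ≤ Fintype.card F
      · exact Or.inr (Or.inr (Or.inr (Or.inr (Or.inr (Or.inr (Or.inr (Or.inr (Or.inr (Or.inr (Or.inl
          ⟨hq3, D, hD, hHD⟩))))))))))
      exfalso
      have hq : Fintype.card F = 2 := by omega
      have hpl : ∀ i, IsPlusTypeOn Q (D i) := fun i =>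
        (Cfsg.Agent.Lib.Helper7.OEType.isPlusTypeOn_top_iff_block hQ D hD ⟨1, rfl⟩ ⟨2, rfl⟩ i).mp hplus
      exact not_max_of_le_between _ H _ hH hHD.le
        (Cfsg.Agent.Lib.Helper13.small_decomp_not_maximal_of_le (toQF Q hQ) (toQF_nondegenerate Q hQ) 4 D hD hpl
          (Or.inr ⟨rfl, by norm_num, hq⟩))
    · -- four 3-spaces
      have hqodd : Odd (Fintype.card F) :=
        odd_card_of_odd_finrank hQ (D 0) (hD.decomp.nondegenerate 0)
          (by rw [hD.decomp.decomp.finrank_eq 0]; exact ⟨1, rfl⟩)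
      by_cases hq5 : 5 ≤ Fintype.card F
      · exact Or.inr (Or.inr (Or.inr (Or.inr (Or.inr (Or.inr (Or.inr (Or.inr (Or.inr (Or.inl
          ⟨hqodd, hq5, D, hD, hHD⟩)))))))))
      have hq : Fintype.card F = 3 := by
        obtain ⟨j, hj⟩ := hqodd
        omega
      obtain ⟨D', hD', hle⟩ :=
        Cfsg.Agent.Lib.Helper13.OEFrame4.frame_le_decomp4 (toQF Q hQ) (toQF_nondegenerate Q hQ) hq D hD
      have hHD' : H ≤ decompositionStabilizer D' := le_of_inf_iso hHΩ (hHD.le.trans inf_le_left) hle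
      have hHeq := eq_of_le_member _ H _ hH hHD'
        (Cfsg.Agent.Lib.Helper21.OEPDec.not_omega_le_decompositionStabilizer (toQF Q hQ)
          (toQF_nondegenerate Q hQ) (by rw [hc12]; norm_num) D' hD')
      exact Or.inr (Or.inr (Or.inr (Or.inr (Or.inr (Or.inr (Or.inl
        ⟨⟨3, Nat.prime_three, by decide, hq⟩, D', hD', hHeq⟩))))))
    · -- six planes
      by_cases hp0 : IsPlusTypeOn Q (D 0)
      · have hpl : ∀ i, IsPlusTypeOn Q (D i) := fun i =>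
          (Cfsg.Agent.Lib.Helper28.OEPlus.plus_iff_of_isometric _ _ (hD.isometric 0 i)).mp hp0
        by_cases hq7 : 7 ≤ Fintype.card F
        · exact Or.inr (Or.inr (Or.inr (Or.inr (Or.inr (Or.inr (Or.inr (Or.inl ⟨hq7, D, hD, hpl, hHD⟩)))))))
        exfalso
        have hq : Fintype.card F = 2 ∨ Fintype.card F = 3 ∨ Fintype.card F = 4 ∨ Fintype.card F = 5 := by omega
        rcases hq with hq | hq | hq | hq
        · exact not_max_of_le_between _ H _ hH hHD.le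
            (Cfsg.Agent.Lib.Helper13.small_decomp_not_maximal_of_le (toQF Q hQ) (toQF_nondegenerate Q hQ) 2 D hD
              hpl (Or.inl ⟨rfl, Or.inl ⟨by norm_num, hq⟩⟩))
        · exact not_max_of_le_between _ H _ hH hHD.le
            (Cfsg.Agent.Lib.Helper13.frame_not_maximal_of_five_le (toQF Q hQ) (toQF_nondegenerate Q hQ) hq
              (by norm_num) 2 (Or.inl rfl) D hD)
        · exact not_max_of_le_between _ H _ hH hHD.le
            (Cfsg.Agent.Lib.Helper13.small_decomp_not_maximal_of_le (toQF Q hQ) (toQF_nondegenerate Q hQ) 2 D hD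
              hpl (Or.inl ⟨rfl, Or.inr (Or.inl ⟨by norm_num, hq⟩)⟩))
        · exact not_max_of_le_between _ H _ hH hHD.le
            (Cfsg.Agent.Lib.Helper13.small_decomp_not_maximal_of_le (toQF Q hQ) (toQF_nondegenerate Q hQ) 2 D hD
              hpl (Or.inl ⟨rfl, Or.inr (Or.inr ⟨by norm_num, hq⟩)⟩))
      · have hmi : ∀ i, ¬ IsPlusTypeOn Q (D i) := fun i h =>
          hp0 ((Cfsg.Agent.Lib.Helper28.OEPlus.plus_iff_of_isometric _ _ (hD.isometric 0 i)).mpr h)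
        by_cases hq3 : Fintype.card F = 3
        · exact (not_max_of_le_between _ H _ hH hHD.le
            (Cfsg.Agent.Lib.Helper13.frame_not_maximal_of_five_le (toQF Q hQ) (toQF_nondegenerate Q hQ) hq3
              (by norm_num) 2 (Or.inl rfl) D hD)).elim
        · exact Or.inr (Or.inr (Or.inr (Or.inr (Or.inr (Or.inr (Or.inr (Or.inr (Or.inl
            ⟨hq3, D, hD, hmi, hHD⟩))))))))
    · -- twelve lines
      have hqodd : Odd (Fintype.card F) :=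
        odd_card_of_odd_finrank hQ (D 0) (hD.decomp.nondegenerate 0)
          (by rw [hD.decomp.decomp.finrank_eq 0]; exact ⟨0, rfl⟩)
      exact Or.inr (Or.inr (Or.inr (Or.inr (Or.inr (Or.inr (Or.inl
        ⟨⟨Fintype.card F, hprime rfl, hqodd, rfl⟩, D, hD, hHD⟩))))))
  · -- (2b) totally singular pair
    have hdim := Cfsg.Agent.Lib.Helper9.HubCor.mul_eq_card_of_isMDecomposition D hD
    rw [hc12] at hdim
    have hk6 : k = 6 := by omega
    subst hk6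
    exact Or.inr (Or.inr (Or.inr (Or.inr (Or.inr (Or.inr (Or.inr (Or.inr (Or.inr (Or.inr (Or.inr (Or.inr (Or.inl ⟨D, hD, hts, eq_of_le_member _ H _ hH (hHM.trans inf_le_left) (not_omega_le_tsPair hQ h5 6 D hD hts)⟩))))))))))))
  · -- (3a) self-adjoint field
    have hdvd := Cfsg.Agent.Lib.Helper29.S5814.field_degree_dvd r K hK
    rw [hc12] at hdvd
    have hHK := eq_of_le_member _ H _ hH (hHM.trans inf_le_left) (not_omega_le_field hQ h5 r hr K hK)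
    have hr23 : r = 2 ∨ r = 3 := by
      have hle : r ≤ 12 := Nat.le_of_dvd (by norm_num) hdvd
      have h2 := hr.two_le
      interval_cases r <;> first | omega | (exfalso; revert hr; decide)
    rcases hr23 with rfl | rfl
    · exact Or.inr (Or.inr (Or.inr (Or.inr (Or.inr (Or.inr (Or.inr (Or.inr (Or.inr (Or.inr (Or.inr (Or.inr (Or.inr (Or.inl ⟨K, hK, hHK⟩)))))))))))))
    · exact Or.inr (Or.inr (Or.inr (Or.inr (Or.inr (Or.inr (Or.inr (Or.inr (Or.inr (Or.inr (Or.inr (Or.inr (Or.inr (Or.inr (Or.inl ⟨K, hK, hHK⟩))))))))))))))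
  · -- (3b) unitary field
    exact Or.inr (Or.inr (Or.inr (Or.inr (Or.inr (Or.inr (Or.inr (Or.inr (Or.inr (Or.inr (Or.inr (Or.inr (Or.inr (Or.inl ⟨K, hK, eq_of_le_member _ H _ hH (hHM.trans inf_le_left) (not_omega_le_field hQ h5 2 Nat.prime_two K hK)⟩)))))))))))))
  · -- (4o) symmetric tensor product
    have hcard := Fintype.card_congr e
    rw [hc12, Fintype.card_prod, Fintype.card_fin, Fintype.card_fin] at hcard
    have h112 : n₁ ∣ 12 := Dvd.intro _ hcard.symm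
    have h1' : n₁ ≤ 12 := Nat.le_of_dvd (by norm_num) h112
    have hq3 : 3 ≤ Fintype.card F := by
      obtain ⟨j, hj⟩ := hq
      omega
    have hcases : (n₁ = 2 ∧ n₂ = 6) ∨ (n₁ = 6 ∧ n₂ = 2) ∨ (n₁ = 3 ∧ n₂ = 4) ∨ (n₁ = 4 ∧ n₂ = 3) := by
      interval_cases n₁ <;> omega
    have key26 : ∀ (e : Fin 12 ≃ Fin 2 × Fin 6) (P : GL (Fin 12) F) (f₁ : (Fin 2 → F) → (Fin 2 → F) → F)
        (f₂ : (Fin 6 → F) → (Fin 6 → F) → F), IsSymmetricForm f₁ → IsSymmetricForm f₂ →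
        IsTensorFormStructure id (polar Q) f₁ f₂ e P → H ≤ tensorProductSubgroup 2 6 e P →
        (∃ D : Fin 2 → Submodule F (Fin 12 → F), IsMDecomposition 6 D ∧ (∀ i, IsTotallySingularQuad Q (D i)) ∧
          H = decompositionStabilizer D ⊓ omegaGL Q) ∨
        (∃ K : Subalgebra F (Matrix (Fin 12) (Fin 12) F), IsFieldSubalgebra 2 K ∧
          H = subalgebraNormalizer K ⊓ omegaGL Q) := by
      intro e P f₁ f₂ hf₁ hf₂ hT hHT
      have hHTI : H ≤ tensorProductSubgroup 2 6 e P ⊓ isometryGroup F Q :=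
        le_inf hHT (hHΩ.trans hΩI)
      by_cases hiso : ∃ x, x ≠ 0 ∧ f₁ x x = 0
      · obtain ⟨D, hD, hts, hle⟩ := hX1 hq e P f₁ f₂ hf₁ hf₂ hT hiso
        exact Or.inl ⟨D, hD, hts, eq_of_le_member _ H _ hH (hHTI.trans hle) (not_omega_le_tsPair hQ h5 6 D hD hts)⟩
      · have haniso : ∀ x, f₁ x x = 0 → x = 0 := by
          intro x hx
          by_contra hx0
          exact hiso ⟨x, hx0, hx⟩
        obtain ⟨K, hK, hac, hnsa, hsim, hle⟩ := hX2 hq e P f₁ f₂ hf₁ hf₂ hT haniso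
        exact Or.inr ⟨K, hK, eq_of_le_member _ H _ hH (hHTI.trans hle)
          (not_omega_le_field hQ h5 2 Nat.prime_two K hK)⟩
    have key34 : ∀ (e : Fin 12 ≃ Fin 3 × Fin 4) (P : GL (Fin 12) F) (f₁ : (Fin 3 → F) → (Fin 3 → F) → F)
        (f₂ : (Fin 4 → F) → (Fin 4 → F) → F), IsSymmetricForm f₁ → IsSymmetricForm f₂ →
        IsTensorFormStructure id (polar Q) f₁ f₂ e P → H ≤ tensorProductSubgroup 3 4 e P →
        ∃ (e' : Fin 12 ≃ Fin 2 × Fin 6) (P' : GL (Fin 12) F) (g₁ : (Fin 2 → F) → (Fin 2 → F) → F)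
          (g₂ : (Fin 6 → F) → (Fin 6 → F) → F), IsSymplecticForm g₁ ∧ IsSymplecticForm g₂ ∧
          IsTensorFormStructure id (polar Q) g₁ g₂ e' P' ∧
          (∀ (x₁ : Fin 2 → F) (x₂ : Fin 6 → F), Q (Matrix.mulVec (P' : Matrix (Fin 12) (Fin 12) F)
            ((fun a : Fin 2 × Fin 6 => x₁ a.1 * x₂ a.2) ∘ e')) = 0) ∧
          H = tensorProductSubgroup 2 6 e' P' ⊓ omegaGL Q := by
      intro e P f₁ f₂ hf₁ hf₂ hT hHT
      by_cases hp : ∃ U : Submodule F (Fin 4 → F), finrank F U = 2 ∧ ∀ u ∈ U, ∀ v ∈ U, f₂ u v = 0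
      · obtain ⟨e', P', g₁, g₂, hg₁, hg₂, hT', hle⟩ := hX3 hq e P f₁ f₂ hf₁ hf₂ hT hp
        have hH' : H ≤ tensorProductSubgroup 2 6 e' P' := fun g hg => hle ⟨hHT hg, hHΩ hg⟩
        exact ⟨e', P', g₁, g₂, hg₁, hg₂, hT',
          fun x₁ x₂ => Cfsg.Agent.Lib.Helper28.OEPlus.pure_zero_of_odd hQ hq e' P' g₁ g₂ hg₁ hg₂ hT' x₁ x₂,
          eq_of_le_member _ H _ hH hH' (not_omega_le_tensor2 hQ h5 6 (by norm_num) e' P')⟩
      · exact absurd hplus (hX4 hq e P f₁ f₂ hf₁ hf₂ hT hp)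
    rcases hcases with ⟨rfl, rfl⟩ | ⟨rfl, rfl⟩ | ⟨rfl, rfl⟩ | ⟨rfl, rfl⟩
    · rcases key26 e P f₁ f₂ hf₁ hf₂ hT (hHM.trans inf_le_left) with h | h
      · exact Or.inr (Or.inr (Or.inr (Or.inr (Or.inr (Or.inr (Or.inr (Or.inr (Or.inr (Or.inr (Or.inr (Or.inr (Or.inl h))))))))))))
      · exact Or.inr (Or.inr (Or.inr (Or.inr (Or.inr (Or.inr (Or.inr (Or.inr (Or.inr (Or.inr (Or.inr (Or.inr (Or.inr (Or.inl h)))))))))))))
    · obtain ⟨hsw, hT'⟩ := tensor_swap_data (polar Q) e P f₁ f₂ hT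
      rcases key26 _ P f₂ f₁ hf₂ hf₁ hT' (by rw [← hsw]; exact hHM.trans inf_le_left) with h | h
      · exact Or.inr (Or.inr (Or.inr (Or.inr (Or.inr (Or.inr (Or.inr (Or.inr (Or.inr (Or.inr (Or.inr (Or.inr (Or.inl h))))))))))))
      · exact Or.inr (Or.inr (Or.inr (Or.inr (Or.inr (Or.inr (Or.inr (Or.inr (Or.inr (Or.inr (Or.inr (Or.inr (Or.inr (Or.inl h)))))))))))))
    · exact Or.inr (Or.inr (Or.inr (Or.inr (Or.inr (Or.inr (Or.inr (Or.inr (Or.inr (Or.inr (Or.inr (Or.inr (Or.inr (Or.inr (Or.inr (Or.inr (Or.inl ⟨hq3, key34 e P f₁ f₂ hf₁ hf₂ hT (hHM.trans inf_le_left)⟩))))))))))))))))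
    · obtain ⟨hsw, hT'⟩ := tensor_swap_data (polar Q) e P f₁ f₂ hT
      exact Or.inr (Or.inr (Or.inr (Or.inr (Or.inr (Or.inr (Or.inr (Or.inr (Or.inr (Or.inr (Or.inr (Or.inr (Or.inr (Or.inr (Or.inr (Or.inr (Or.inl ⟨hq3, key34 _ P f₂ f₁ hf₂ hf₁ hT' (by rw [← hsw]; exact hHM.trans inf_le_left)⟩))))))))))))))))
  · -- (4s) symplectic tensor product
    have hcard := Fintype.card_congr e
    rw [hc12, Fintype.card_prod, Fintype.card_fin, Fintype.card_fin] at hcard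
    have h112 : n₁ ∣ 12 := Dvd.intro _ hcard.symm
    have h1' : n₁ ≤ 12 := Nat.le_of_dvd (by norm_num) h112
    have hcases : (n₁ = 2 ∧ n₂ = 6) ∨ (n₁ = 6 ∧ n₂ = 2) ∨ (n₁ = 3 ∧ n₂ = 4) ∨ (n₁ = 4 ∧ n₂ = 3) := by
      interval_cases n₁ <;> omega
    have key : ∀ (e : Fin 12 ≃ Fin 2 × Fin 6) (P : GL (Fin 12) F) (f₁ : (Fin 2 → F) → (Fin 2 → F) → F)
        (f₂ : (Fin 6 → F) → (Fin 6 → F) → F), IsSymplecticForm f₁ → IsSymplecticForm f₂ →
        IsTensorFormStructure id (polar Q) f₁ f₂ e P →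
        (∀ (x₁ : Fin 2 → F) (x₂ : Fin 6 → F), Q (Matrix.mulVec (P : Matrix (Fin 12) (Fin 12) F)
            ((fun a : Fin 2 × Fin 6 => x₁ a.1 * x₂ a.2) ∘ e)) = 0) →
        H ≤ tensorProductSubgroup 2 6 e P →
        3 ≤ Fintype.card F ∧ H = tensorProductSubgroup 2 6 e P ⊓ omegaGL Q := by
      intro e P f₁ f₂ hf₁ hf₂ hT hpure hHT
      by_cases hq3 : 3 ≤ Fintype.card F
      · exact ⟨hq3, eq_of_le_member _ H _ hH hHT (not_omega_le_tensor2 hQ h5 6 (by norm_num) e P)⟩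
      · exfalso
        have hq : Fintype.card F = 2 := by omega
        exact not_max_of_le_between _ H _ hH (le_inf hHT hHΩ)
          (Cfsg.Agent.Lib.Helper13.OETensTwo.tensor_symp_two Q hQ hq 6 (by norm_num) e P f₁ f₂ hf₁ hf₂ hT hpure)
    rcases hcases with ⟨rfl, rfl⟩ | ⟨rfl, rfl⟩ | ⟨rfl, rfl⟩ | ⟨rfl, rfl⟩
    · obtain ⟨hq3, hHT⟩ := key e P f₁ f₂ hf₁ hf₂ hT hpure (hHM.trans inf_le_left)
      exact Or.inr (Or.inr (Or.inr (Or.inr (Or.inr (Or.inr (Or.inr (Or.inr (Or.inr (Or.inr (Or.inr (Or.inr (Or.inr (Or.inr (Or.inr (Or.inr (Or.inl ⟨hq3, e, P, f₁, f₂, hf₁, hf₂, hT, hpure, hHT⟩))))))))))))))))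
    · obtain ⟨hsw, hT'⟩ := tensor_swap_data (polar Q) e P f₁ f₂ hT
      have hpure' : ∀ (x₁ : Fin 2 → F) (x₂ : Fin 6 → F), Q (Matrix.mulVec (P : Matrix (Fin 12) (Fin 12) F)
          ((fun a : Fin 2 × Fin 6 => x₁ a.1 * x₂ a.2) ∘ (e.trans (Equiv.prodComm (Fin 6) (Fin 2))))) = 0 := by
        intro x₁ x₂
        have := hpure x₂ x₁
        have heq : ((fun a : Fin 2 × Fin 6 => x₁ a.1 * x₂ a.2) ∘ (e.trans (Equiv.prodComm (Fin 6) (Fin 2)))) =
            (pure2 x₂ x₁ ∘ e) := by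
          funext i
          simp only [Function.comp_apply, Equiv.trans_apply, Equiv.prodComm_apply, Prod.fst_swap, Prod.snd_swap,
            pure2]
          ring
        rw [heq]
        exact this
      obtain ⟨hq3, hHT⟩ := key _ P f₂ f₁ hf₂ hf₁ hT' hpure' (by rw [← hsw]; exact hHM.trans inf_le_left)
      exact Or.inr (Or.inr (Or.inr (Or.inr (Or.inr (Or.inr (Or.inr (Or.inr (Or.inr (Or.inr (Or.inr (Or.inr (Or.inr (Or.inr (Or.inr (Or.inr (Or.inl ⟨hq3, _, P, f₂, f₁, hf₂, hf₁, hT', hpure', hHT⟩))))))))))))))))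
    · exfalso
      obtain ⟨a, ha⟩ := Cfsg.Agent.Lib.Helper28.OEPlus.even_of_symplectic f₁ hf₁
      omega
    · exfalso
      obtain ⟨a, ha⟩ := Cfsg.Agent.Lib.Helper28.OEPlus.even_of_symplectic f₂ hf₂
      omega
  · -- (5) subfield
    exact Or.inr (Or.inr (Or.inr (Or.inr (Or.inr (Or.inr (Or.inr (Or.inr (Or.inr (Or.inr (Or.inr (Or.inr (Or.inr (Or.inr (Or.inr (Or.inr (Or.inr (Or.inl ⟨F₀, r, P, ζ, hr, hc, hζ, hrat, eq_of_le_member _ H _ hH (hHM.trans inf_le_left) (not_omega_le_subfield hQ h5 F₀ (Cfsg.Agent.Lib.Helper29.AschCor.proper_of_card F₀ r hr hc) P)⟩)))))))))))))))))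
  · -- (6) symplectic type
    exact (Cfsg.Agent.Lib.Helper3.OEC6.c6_false_twelve hQ R hR hirr hRI).elim
  · -- (7o)
    exfalso
    have hcard := Fintype.card_congr e
    rw [hc12, Fintype.card_fun, Fintype.card_fin, Fintype.card_fin] at hcard
    exact pow_ne_twelve k t hk ht hcard.symm
  · -- (7s)
    exfalso
    have hcard := Fintype.card_congr e
    rw [hc12, Fintype.card_fun, Fintype.card_fin, Fintype.card_fin] at hcard
    exact pow_ne_twelve k t hk ht hcard.symm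

end Cfsg.Agent.Lib.Helper13.OEPlus
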