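import Cfsg.Agent.Lib.Helper13.PackPerm

/-!
Bit-sliced families of permutations of the 24 points: entry `(i, v)` of a board is a natural number
whose bit `k` says whether the `k`-th permutation of the family sends point `i` to point `v`.
Composition of whole families through bitwise operations, all written out without recursion
(definitions only; their meaning is in `OctBSSem`).
-/

set_option autoImplicit false

namespace Cfsg.Agent.Lib.Helper13.OctBS

open Cfsg.Agent.Lib.Helper13.PackPerm Cfsg.Agent.Lib.Helper28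

/-- twenty-four values -/
structure V24 (α : Type) where
  x0 : α
  x1 : α
  x2 : α
  x3 : α
  x4 : α
  x5 : α
  x6 : α
  x7 : α
  x8 : α
  x9 : α
  x10 : α
  x11 : α
  x12 : α
  x13 : α
  x14 : α
  x15 : α
  x16 : α
  x17 : α
  x18 : α
  x19 : α
  x20 : α
  x21 : α
  x22 : α
  x23 : α

/-- a board: rows `i`, entries `v` -/
abbrev Board := V24 (V24 ℕ)

/-- the entry with a given number -/
def V24.get {α : Type} (r : V24 α) (j : ℕ) : α :=
  cond (Nat.ble 12 j) (cond (Nat.ble 18 j) (cond (Nat.ble 21 j) (cond (Nat.ble 22 j) (cond (Nat.ble 23 j) (r.x23) (r.x22)) (r.x21)) (cond (Nat.ble 19 j) (cond (Nat.ble 20 j) (r.x20) (r.x19)) (r.x18))) (cond (Nat.ble 15 j) (cond (Nat.ble 16 j) (cond (Nat.ble 17 j) (r.x17) (r.x16)) (r.x15)) (cond (Nat.ble 13 j) (cond (Nat.ble 14 j) (r.x14) (r.x13)) (r.x12)))) (cond (Nat.ble 6 j) (cond (Nat.ble 9 j) (cond (Nat.ble 10 j) (cond (Nat.ble 11 j) (r.x11) (r.x10)) (r.x9)) (cond (Nat.ble 7 j) (cond (Nat.ble 8 j) (r.x8) (r.x7)) (r.x6)))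 (cond (Nat.ble 3 j) (cond (Nat.ble 4 j) (cond (Nat.ble 5 j) (r.x5) (r.x4)) (r.x3)) (cond (Nat.ble 1 j) (cond (Nat.ble 2 j) (r.x2) (r.x1)) (r.x0))))

/-- a disjunction over the 24 indices, written out -/
def anyU (f : ℕ → Bool) : Bool :=
  f 0 || (f 1 || (f 2 || (f 3 || (f 4 || (f 5 || (f 6 || (f 7 || (f 8 || (f 9 || (f 10 || (f 11 || (f 12 || (f 13 || (f 14 || (f 15 || (f 16 || (f 17 || (f 18 || (f 19 || (f 20 || (f 21 || (f 22 || (f 23)))))))))))))))))))))))

/-- a conjunction over the 24 indices, written out -/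
def allU (f : ℕ → Bool) : Bool :=
  f 0 && (f 1 && (f 2 && (f 3 && (f 4 && (f 5 && (f 6 && (f 7 && (f 8 && (f 9 && (f 10 && (f 11 && (f 12 && (f 13 && (f 14 && (f 15 && (f 16 && (f 17 && (f 18 && (f 19 && (f 20 && (f 21 && (f 22 && (f 23)))))))))))))))))))))))

/-- force all entries of a row -/
def frcV {α : Type} (r : V24 ℕ) (f : V24 ℕ → α) : α :=
  frc r.x0 fun a0 => frc r.x1 fun a1 => frc r.x2 fun a2 => frc r.x3 fun a3 => frc r.x4 fun a4 => frc r.x5 fun a5 => frc r.x6 fun a6 => frc r.x7 fun a7 => frc r.x8 fun a8 => frc r.x9 fun a9 => frc r.x10 fun a10 => frc r.x11 fun a11 => frc r.x12 fun a12 => frc r.x13 fun a13 => frc r.x14 fun a14 => frc r.x15 fun a15 => frc r.x16 fun a16 => frc r.x17 fun a17 => frc r.x18 fun a18 => frc r.x19 fun a19 => frc r.x20 fun a20 => frc r.x21 fun a21 => frc r.x22 fun a22 => frc r.x23 fun a23 => f ⟨a0, a1, a2, a3, a4, a5, a6, a7, a8, a9, a10, a11, a12, a13, a14, a15, a16, a17, a18, a19, a20, a21, a22, a23⟩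

theorem frcV_eq {α : Type} (r : V24 ℕ) (f : V24 ℕ → α) : frcV r f = f r := by
  unfold frcV
  simp only [frc_eq]

/-- force all entries of a board -/
def frcB {α : Type} (B : Board) (f : Board → α) : α :=
  frcV B.x0 fun r0 => frcV B.x1 fun r1 => frcV B.x2 fun r2 => frcV B.x3 fun r3 => frcV B.x4 fun r4 => frcV B.x5 fun r5 => frcV B.x6 fun r6 => frcV B.x7 fun r7 => frcV B.x8 fun r8 => frcV B.x9 fun r9 => frcV B.x10 fun r10 => frcV B.x11 fun r11 => frcV B.x12 fun r12 => frcV B.x13 fun r13 => frcV B.x14 fun r14 => frcV B.x15 fun r15 => frcV B.x16 fun r16 => frcV B.x17 fun r17 => frcV B.x18 fun r18 => frcV B.x19 fun r19 => frcV B.x20 fun r20 => frcV B.x21 fun r21 => frcV B.x22 fun r22 => frcV B.x23 fun r23 => f ⟨r0, r1, r2, r3, r4, r5, r6, r7, r8, r9, r10, r11, r12, r13, r14, r15, r16, r17, r18, r19, r20, r21, r22, r23⟩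

theorem frcB_eq {α : Type} (B : Board) (f : Board → α) : frcB B f = f B := by
  unfold frcB
  simp only [frcV_eq]

/-- one entry of the composition: `OR_u (G i u AND F u v)` -/
def cell (F G : Board) (pi : Board → V24 ℕ) (pv : V24 ℕ → ℕ) : ℕ :=
  Nat.lor (Nat.land (pi G).x0 (pv F.x0)) (Nat.lor (Nat.land (pi G).x1 (pv F.x1)) (Nat.lor (Nat.land (pi G).x2 (pv F.x2)) (Nat.lor (Nat.land (pi G).x3 (pv F.x3)) (Nat.lor (Nat.land (pi G).x4 (pv F.x4)) (Nat.lor (Nat.land (pi G).x5 (pv F.x5)) (Nat.lor (Nat.land (pi G).x6 (pv F.x6)) (Nat.lor (Nat.land (pi G).x7 (pv F.x7)) (Nat.lor (Nat.land (pi G).x8 (pv F.x8)) (Nat.lor (Nat.land (pi G).x9 (pv F.x9)) (Nat.lor (Nat.land (pi G).x10 (pv F.x10)) (Nat.lor (Nat.land (pi G).x11 (pv F.x11)) (Nat.lor (Nat.land (pi G).x12 (pv F.x12)) (Nat.lor (Nat.land (pi G).x13 (pv F.x13)) (Nat.lor (Nat.land (pi G).x14 (pv F.x14)) (Nat.lor (Nat.land (pi G).x15 (pv F.x15)) (Nat.lor (Nat.land (pi G).x16 (pv F.x16)) (Nat.lor (Nat.land (pi G).x17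 (pv F.x17)) (Nat.lor (Nat.land (pi G).x18 (pv F.x18)) (Nat.lor (Nat.land (pi G).x19 (pv F.x19)) (Nat.lor (Nat.land (pi G).x20 (pv F.x20)) (Nat.lor (Nat.land (pi G).x21 (pv F.x21)) (Nat.lor (Nat.land (pi G).x22 (pv F.x22)) (Nat.land (pi G).x23 (pv F.x23))))))))))))))))))))))))

/-- one row of the composition -/
def mkRow (F G : Board) (pi : Board → V24 ℕ) : V24 ℕ :=
  ⟨cell F G pi V24.x0, cell F G pi V24.x1, cell F G pi V24.x2, cell F G pi V24.x3, cell F G pi V24.x4, cell F G pi V24.x5, cell F G pi V24.x6, cell F G pi V24.x7, cell F G pi V24.x8, cell F G pi V24.x9, cell F G pi V24.x10, cell F G pi V24.x11, cell F G pi V24.x12, cell F G pi V24.x13, cell F G pi V24.x14, cell F G pi V24.x15, cell F G pi V24.x16, cell F G pi V24.x17, cell F G pi V24.x18, cell F G pi V24.x19, cell F G pi V24.x20, cell F G pi V24.x21, cell F G pi V24.x22, cell F G pi V24.x23⟩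

/-- the composition of two families, lane by lane: first `G`, then `F` -/
def mulRaw (F G : Board) : Board :=
  ⟨mkRow F G V24.x0, mkRow F G V24.x1, mkRow F G V24.x2, mkRow F G V24.x3, mkRow F G V24.x4, mkRow F G V24.x5, mkRow F G V24.x6, mkRow F G V24.x7, mkRow F G V24.x8, mkRow F G V24.x9, mkRow F G V24.x10, mkRow F G V24.x11, mkRow F G V24.x12, mkRow F G V24.x13, mkRow F G V24.x14, mkRow F G V24.x15, mkRow F G V24.x16, mkRow F G V24.x17, mkRow F G V24.x18, mkRow F G V24.x19, mkRow F G V24.x20, mkRow F G V24.x21, mkRow F G V24.x22, mkRow F G V24.x23⟩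

/-- the lanes on which the family is the identity -/
def idMask (W : Board) : ℕ :=
  Nat.land W.x0.x0 (Nat.land W.x1.x1 (Nat.land W.x2.x2 (Nat.land W.x3.x3 (Nat.land W.x4.x4 (Nat.land W.x5.x5 (Nat.land W.x6.x6 (Nat.land W.x7.x7 (Nat.land W.x8.x8 (Nat.land W.x9.x9 (Nat.land W.x10.x10 (Nat.land W.x11.x11 (Nat.land W.x12.x12 (Nat.land W.x13.x13 (Nat.land W.x14.x14 (Nat.land W.x15.x15 (Nat.land W.x16.x16 (Nat.land W.x17.x17 (Nat.land W.x18.x18 (Nat.land W.x19.x19 (Nat.land W.x20.x20 (Nat.land W.x21.x21 (Nat.land W.x22.x22 (W.x23.x23)))))))))))))))))))))))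

/-- the family `y * g`: rows moved by the packed table `g` -/
def rowPerm (B : Board) (g : ℕ) : Board :=
  ⟨B.get (look g 0), B.get (look g 1), B.get (look g 2), B.get (look g 3), B.get (look g 4), B.get (look g 5), B.get (look g 6), B.get (look g 7), B.get (look g 8), B.get (look g 9), B.get (look g 10), B.get (look g 11), B.get (look g 12), B.get (look g 13), B.get (look g 14), B.get (look g 15), B.get (look g 16), B.get (look g 17), B.get (look g 18), B.get (look g 19), B.get (look g 20), B.get (look g 21), B.get (look g 22), B.get (look g 23)⟩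

/-- `OR_v (r v AND r' (c v))` -/
def comCell (r r' : V24 ℕ) (c : ℕ) : ℕ :=
  Nat.lor (Nat.land r.x0 (r'.get (look c 0))) (Nat.lor (Nat.land r.x1 (r'.get (look c 1))) (Nat.lor (Nat.land r.x2 (r'.get (look c 2))) (Nat.lor (Nat.land r.x3 (r'.get (look c 3))) (Nat.lor (Nat.land r.x4 (r'.get (look c 4))) (Nat.lor (Nat.land r.x5 (r'.get (look c 5))) (Nat.lor (Nat.land r.x6 (r'.get (look c 6))) (Nat.lor (Nat.land r.x7 (r'.get (look c 7))) (Nat.lor (Nat.land r.x8 (r'.get (look c 8))) (Nat.lor (Nat.land r.x9 (r'.get (look c 9))) (Nat.lor (Nat.land r.x10 (r'.get (look c 10))) (Nat.lor (Nat.land r.x11 (r'.get (look c 11))) (Nat.lor (Nat.land r.x12 (r'.get (look c 12))) (Nat.lor (Nat.land r.x13 (r'.get (look c 13))) (Nat.lor (Nat.land r.x14 (r'.get (look c 14))) (Nat.lor (Nat.land r.x15 (r'.get (look c 15))) (Nat.lor (Nat.land r.x16 (r'.get (look c 16))) (Nat.lor (Nat.land r.x17 (r'.get (look c 17))) (Nat.lor (Nat.land r.x18 (r'.get (look c 18))) (Nat.lor (Nat.land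 r.x19 (r'.get (look c 19))) (Nat.lor (Nat.land r.x20 (r'.get (look c 20))) (Nat.lor (Nat.land r.x21 (r'.get (look c 21))) (Nat.lor (Nat.land r.x22 (r'.get (look c 22))) (Nat.land r.x23 (r'.get (look c 23)))))))))))))))))))))))))

/-- the lanes commuting with the packed table `c` -/
def comMask (B : Board) (c : ℕ) : ℕ :=
  Nat.land (comCell B.x0 (B.get (look c 0)) c) (Nat.land (comCell B.x1 (B.get (look c 1)) c) (Nat.land (comCell B.x2 (B.get (look c 2)) c) (Nat.land (comCell B.x3 (B.get (look c 3)) c) (Nat.land (comCell B.x4 (B.get (look c 4)) c) (Nat.land (comCell B.x5 (B.get (look c 5)) c) (Nat.land (comCell B.x6 (B.get (look c 6)) c) (Nat.land (comCell B.x7 (B.get (look c 7)) c) (Nat.land (comCell B.x8 (B.get (look c 8)) c) (Nat.land (comCell B.x9 (B.get (look c 9)) c) (Nat.land (comCell B.x10 (B.get (look c 10)) c) (Nat.land (comCell B.x11 (B.get (look c 11)) c) (Nat.land (comCell B.x12 (B.get (look c 12)) c) (Nat.land (comCell B.x13 (B.get (look c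 13)) c) (Nat.land (comCell B.x14 (B.get (look c 14)) c) (Nat.land (comCell B.x15 (B.get (look c 15)) c) (Nat.land (comCell B.x16 (B.get (look c 16)) c) (Nat.land (comCell B.x17 (B.get (look c 17)) c) (Nat.land (comCell B.x18 (B.get (look c 18)) c) (Nat.land (comCell B.x19 (B.get (look c 19)) c) (Nat.land (comCell B.x20 (B.get (look c 20)) c) (Nat.land (comCell B.x21 (B.get (look c 21)) c) (Nat.land (comCell B.x22 (B.get (look c 22)) c) (comCell B.x23 (B.get (look c 23)) c)))))))))))))))))))))))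

/-! ### powers -/

def pow3 (F : Board) : Board := frcB F fun a => frcB (mulRaw a a) fun a2 => mulRaw a2 a

def pow5 (F : Board) : Board :=
  frcB F fun a => frcB (mulRaw a a) fun a2 => frcB (mulRaw a2 a2) fun a4 => mulRaw a4 a

def pow7 (F : Board) : Board :=
  frcB F fun a => frcB (mulRaw a a) fun a2 => frcB (mulRaw a2 a) fun a3 =>
    frcB (mulRaw a3 a3) fun a6 => mulRaw a6 a

def pow11 (F : Board) : Board :=
  frcB F fun a => frcB (mulRaw a a) fun a2 => frcB (mulRaw a2 a2) fun a4 =>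
    frcB (mulRaw a4 a) fun a5 => frcB (mulRaw a5 a5) fun a10 => mulRaw a10 a

def pow23 (F : Board) : Board :=
  frcB F fun a => frcB (mulRaw a a) fun a2 => frcB (mulRaw a2 a2) fun a4 =>
    frcB (mulRaw a4 a) fun a5 => frcB (mulRaw a5 a5) fun a10 => frcB (mulRaw a10 a) fun a11 =>
    frcB (mulRaw a11 a11) fun a22 => mulRaw a22 a

/-- the power `3 ^ 3 * 5 * 7 * 11 * 23 = 239085` -/
def powOdd (F : Board) : Board := pow23 (pow11 (pow7 (pow5 (pow3 (pow3 (pow3 F))))))

/-! ### counting bits -/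

def pop64 : ℕ → ℕ → ℕ → ℕ
  | 0, _, acc => acc
  | n + 1, w, acc =>
    frc (Nat.div w 2) fun w' => frc (Nat.add acc (Nat.mod w 2)) fun acc' => pop64 n w' acc'

def popW : ℕ → ℕ → ℕ → ℕ
  | 0, _, acc => acc
  | n + 1, m, acc =>
    frc (pop64 64 (Nat.mod (Nat.shiftRight m (Nat.mul 64 n)) 18446744073709551616) acc) fun acc' =>
      popW n m acc'

/-- the number of set bits among the first `64 * w` -/
def popcnt (w m : ℕ) : ℕ := frc m fun m' => popW w m' 0

/-- the number of lanes `y` among the first `64 * w` with `(y * g) ^ 239085 = 1` and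
`c * y = y * c` -/
def bsCount (w : ℕ) (B : Board) (g c : ℕ) : ℕ :=
  popcnt w (frcB (powOdd (rowPerm B g)) fun W => Nat.land (idMask W) (comMask B c))

/-! ### checking a board against a list of packed tables -/

/-- one bit -/
def bitAt (m k : ℕ) : Bool := Nat.beq (Nat.mod (Nat.shiftRight m k) 2) 1

/-- lane `k` of the board has the bits of the packed table `y` set -/
def chk1 (B : Board) (y k : ℕ) : Bool :=
  bitAt (B.x0.get (look y 0)) k && (bitAt (B.x1.get (look y 1)) k && (bitAt (B.x2.get (look y 2)) k && (bitAt (B.x3.get (look y 3)) k && (bitAt (B.x4.get (look y 4)) k && (bitAt (B.x5.get (look y 5)) k && (bitAt (B.x6.get (look y 6)) k && (bitAt (B.x7.get (look y 7)) k && (bitAt (B.x8.get (look y 8)) k && (bitAt (B.x9.get (look y 9)) k && (bitAt (B.x10.get (look y 10)) k && (bitAt (B.x11.get (look y 11)) k && (bitAt (B.x12.get (look y 12)) k && (bitAt (B.x13.get (look y 13)) k && (bitAt (B.x14.get (look y 14)) k && (bitAt (B.x15.get (look y 15))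 k && (bitAt (B.x16.get (look y 16)) k && (bitAt (B.x17.get (look y 17)) k && (bitAt (B.x18.get (look y 18)) k && (bitAt (B.x19.get (look y 19)) k && (bitAt (B.x20.get (look y 20)) k && (bitAt (B.x21.get (look y 21)) k && (bitAt (B.x22.get (look y 22)) k && (bitAt (B.x23.get (look y 23)) k)))))))))))))))))))))))

def chkL (B : Board) : List ℕ → ℕ → Bool
  | [], _ => true
  | y :: ys, k => frc k fun k' => chk1 B y k' && chkL B ys (Nat.succ k')

end Cfsg.Agent.Lib.Helper13.OctBS
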