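import Cfsg.Agent.Lib.Helper13.OctBS

/-!
Meaning of the bit-sliced operations of `OctBS`: lane `k` of a board represents a permutation, the
operations act lane by lane, and the number of set bits of a mask counts list entries.
-/

set_option autoImplicit false

namespace Cfsg.Agent.Lib.Helper13.OctBS

open Cfsg Cfsg.Agent.Lib.Helper13.PackPerm Cfsg.Agent.Lib.Helper28

theorem lor_eq (a b : ℕ) : Nat.lor a b = a ||| b := rfl

theorem land_eq (a b : ℕ) : Nat.land a b = a &&& b := rfl

theorem anyU_iff (f : ℕ → Bool) : anyU f = true ↔ ∃ u, u < 24 ∧ f u = true := by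
  constructor
  · intro h
    simp only [anyU, Bool.or_eq_true] at h
    rcases h with h | h | h | h | h | h | h | h | h | h | h | h | h | h | h | h | h | h | h | h | h | h | h | h <;> exact ⟨_, by norm_num, h⟩
  · rintro ⟨u, hu, h⟩
    interval_cases u <;> simp [anyU, h]

theorem allU_iff (f : ℕ → Bool) : allU f = true ↔ ∀ u, u < 24 → f u = true := by
  constructor
  · intro h u hu
    simp only [allU, Bool.and_eq_true] at h
    interval_cases u <;> simp [h]
  · intro h
    simp only [allU, Bool.and_eq_true]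
    refine ⟨h 0 (by norm_num), h 1 (by norm_num), h 2 (by norm_num), h 3 (by norm_num),
      h 4 (by norm_num), h 5 (by norm_num), h 6 (by norm_num), h 7 (by norm_num),
      h 8 (by norm_num), h 9 (by norm_num), h 10 (by norm_num), h 11 (by norm_num),
      h 12 (by norm_num), h 13 (by norm_num), h 14 (by norm_num), h 15 (by norm_num),
      h 16 (by norm_num), h 17 (by norm_num), h 18 (by norm_num), h 19 (by norm_num),
      h 20 (by norm_num), h 21 (by norm_num), h 22 (by norm_num), h 23 (by norm_num)⟩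

/-- lane `k` of the board is the permutation `σ` -/
def Lane (B : Board) (k : ℕ) (σ : Equiv.Perm GolayPt) : Prop :=
  ∀ i v : ℕ, i < 24 → v < 24 → ((B.get i).get v).testBit k = decide (σ (ptN i) = ptN v)

theorem get_mulRaw (F G : Board) (i : ℕ) (hi : i < 24) :
    (mulRaw F G).get i = mkRow F G (fun B => B.get i) := by
  interval_cases i <;> rfl

theorem get_mkRow (F G : Board) (pi : Board → V24 ℕ) (v : ℕ) (hv : v < 24) :
    (mkRow F G pi).get v = cell F G pi (fun r => r.get v) := by
  interval_cases v <;> rfl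

theorem cell_testBit (F G : Board) (pi : Board → V24 ℕ) (pv : V24 ℕ → ℕ) (k : ℕ) :
    (cell F G pi pv).testBit k =
      anyU fun u => ((pi G).get u).testBit k && (pv (F.get u)).testBit k := by
  simp only [cell, lor_eq, land_eq, Nat.testBit_or, Nat.testBit_and]
  rfl

theorem Lane.mul {F G : Board} {k : ℕ} {σ τ : Equiv.Perm GolayPt} (hF : Lane F k σ)
    (hG : Lane G k τ) : Lane (mulRaw F G) k (σ * τ) := by
  intro i v hi hv
  rw [get_mulRaw _ _ i hi, get_mkRow _ _ _ v hv, cell_testBit]
  apply Bool.eq_iff_iff.mpr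
  rw [anyU_iff, decide_eq_true_iff]
  simp only [Bool.and_eq_true]
  constructor
  · rintro ⟨u, hu, h1, h2⟩
    rw [hG i u hi hu, decide_eq_true_iff] at h1
    rw [hF u v hu hv, decide_eq_true_iff] at h2
    rw [Equiv.Perm.mul_apply, h1, h2]
  · intro h
    rw [Equiv.Perm.mul_apply] at h
    obtain ⟨u, hu, e⟩ := PackPerm.exists_ptN (τ (ptN i))
    refine ⟨u, hu, ?_, ?_⟩
    · rw [hG i u hi hu, decide_eq_true_iff]
      exact e
    · rw [hF u v hu hv, decide_eq_true_iff, ← e]
      exact h

theorem Lane.congr {F : Board} {k : ℕ} {σ τ : Equiv.Perm GolayPt} (hF : Lane F k σ) (h : σ = τ) :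
    Lane F k τ := h ▸ hF

theorem get_rowPerm (B : Board) (g i : ℕ) (hi : i < 24) :
    (rowPerm B g).get i = B.get (look g i) := by
  interval_cases i <;> rfl

theorem Lane.rowPerm {B : Board} {k : ℕ} {σ γ : Equiv.Perm GolayPt} {g : ℕ} (hB : Lane B k σ)
    (hg : ActsBy γ g) : Lane (rowPerm B g) k (σ * γ) := by
  intro i v hi hv
  obtain ⟨h1, h2⟩ := hg i hi
  rw [get_rowPerm _ _ i hi, hB _ v h1 hv, Equiv.Perm.mul_apply, h2]

theorem Lane.mulPow {F G : Board} {k a b : ℕ} {σ : Equiv.Perm GolayPt} (hF : Lane F k (σ ^ a))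
    (hG : Lane G k (σ ^ b)) : Lane (mulRaw F G) k (σ ^ (a + b)) :=
  (hF.mul hG).congr (pow_add σ a b).symm

theorem Lane.one {F : Board} {k : ℕ} {σ : Equiv.Perm GolayPt} (h : Lane F k σ) :
    Lane F k (σ ^ 1) := h.congr (pow_one σ).symm

theorem Lane.pow3 {F : Board} {k : ℕ} {σ : Equiv.Perm GolayPt} (h : Lane F k σ) :
    Lane (pow3 F) k (σ ^ 3) := by
  unfold OctBS.pow3
  simp only [frcB_eq]
  exact (h.one.mulPow h.one).mulPow h.one

theorem Lane.pow5 {F : Board} {k : ℕ} {σ : Equiv.Perm GolayPt} (h : Lane F k σ) :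
    Lane (pow5 F) k (σ ^ 5) := by
  unfold OctBS.pow5
  simp only [frcB_eq]
  exact ((h.one.mulPow h.one).mulPow (h.one.mulPow h.one)).mulPow h.one

theorem Lane.pow7 {F : Board} {k : ℕ} {σ : Equiv.Perm GolayPt} (h : Lane F k σ) :
    Lane (pow7 F) k (σ ^ 7) := by
  unfold OctBS.pow7
  simp only [frcB_eq]
  exact (((h.one.mulPow h.one).mulPow h.one).mulPow ((h.one.mulPow h.one).mulPow h.one)).mulPow h.one

theorem Lane.pow11 {F : Board} {k : ℕ} {σ : Equiv.Perm GolayPt} (h : Lane F k σ) :
    Lane (pow11 F) k (σ ^ 11) := by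
  unfold OctBS.pow11
  simp only [frcB_eq]
  have h5 := ((h.one.mulPow h.one).mulPow (h.one.mulPow h.one)).mulPow h.one
  exact (h5.mulPow h5).mulPow h.one

theorem Lane.pow23 {F : Board} {k : ℕ} {σ : Equiv.Perm GolayPt} (h : Lane F k σ) :
    Lane (pow23 F) k (σ ^ 23) := by
  unfold OctBS.pow23
  simp only [frcB_eq]
  have h5 := ((h.one.mulPow h.one).mulPow (h.one.mulPow h.one)).mulPow h.one
  have h11 := (h5.mulPow h5).mulPow h.one
  exact (h11.mulPow h11).mulPow h.one

theorem Lane.powOdd {F : Board} {k : ℕ} {σ : Equiv.Perm GolayPt} (h : Lane F k σ) :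
    Lane (powOdd F) k (σ ^ 239085) := by
  unfold OctBS.powOdd
  refine h.pow3.pow3.pow3.pow5.pow7.pow11.pow23.congr ?_
  rw [← pow_mul, ← pow_mul, ← pow_mul, ← pow_mul, ← pow_mul, ← pow_mul]

theorem idMask_testBit {W : Board} {k : ℕ} {σ : Equiv.Perm GolayPt} (h : Lane W k σ) :
    (idMask W).testBit k = decide (σ = 1) := by
  have e : (idMask W).testBit k = allU fun i => ((W.get i).get i).testBit k := by
    simp only [idMask, land_eq, Nat.testBit_and]
    rfl
  rw [e]
  apply Bool.eq_iff_iff.mpr
  rw [allU_iff, decide_eq_true_iff]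
  constructor
  · intro hh
    apply Equiv.ext
    intro x
    obtain ⟨a, ha, rfl⟩ := PackPerm.exists_ptN x
    have := hh a ha
    rw [h a a ha ha, decide_eq_true_iff] at this
    rw [this]
    rfl
  · rintro rfl u hu
    rw [h u u hu hu, decide_eq_true_iff]
    rfl

theorem comCell_testBit (r r' : V24 ℕ) (c k : ℕ) :
    (comCell r r' c).testBit k =
      anyU fun v => (r.get v).testBit k && (r'.get (look c v)).testBit k := by
  simp only [comCell, lor_eq, land_eq, Nat.testBit_or, Nat.testBit_and]
  rfl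

theorem comMask_testBit {B : Board} {k : ℕ} {σ κ : Equiv.Perm GolayPt} {c : ℕ} (h : Lane B k σ)
    (hc : ActsBy κ c) : (comMask B c).testBit k = decide (κ * σ = σ * κ) := by
  have e : (comMask B c).testBit k =
      allU fun i => (comCell (B.get i) (B.get (look c i)) c).testBit k := by
    simp only [comMask, land_eq, Nat.testBit_and]
    rfl
  rw [e]
  apply Bool.eq_iff_iff.mpr
  rw [allU_iff, decide_eq_true_iff]
  constructor
  · intro hh
    apply Equiv.ext
    intro x
    obtain ⟨a, ha, rfl⟩ := PackPerm.exists_ptN x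
    have h1 := hh a ha
    rw [comCell_testBit, anyU_iff] at h1
    obtain ⟨v, hv, h2⟩ := h1
    rw [Bool.and_eq_true, h a v ha hv, h _ _ (hc a ha).1 (hc v hv).1, decide_eq_true_iff,
      decide_eq_true_iff, ← (hc a ha).2, ← (hc v hv).2] at h2
    rw [Equiv.Perm.mul_apply, Equiv.Perm.mul_apply, h2.1, h2.2]
  · intro hh u hu
    rw [comCell_testBit, anyU_iff]
    obtain ⟨v, hv, e2⟩ := PackPerm.exists_ptN (σ (ptN u))
    refine ⟨v, hv, ?_⟩
    rw [Bool.and_eq_true, h u v hu hv, h _ _ (hc u hu).1 (hc v hv).1, decide_eq_true_iff,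
      decide_eq_true_iff, ← (hc u hu).2, ← (hc v hv).2]
    refine ⟨e2, ?_⟩
    have := congrArg (fun f => f (ptN u)) hh
    simp only [Equiv.Perm.mul_apply] at this
    rw [← this, e2]

/-! ### counting bits -/

theorem pop64_eq (n w acc : ℕ) :
    pop64 n w acc = acc + (List.range n).countP fun j => w.testBit j := by
  induction n generalizing w acc with
  | zero => simp [pop64]
  | succ n ih =>
    rw [pop64, frc_eq, frc_eq, ih, List.range_succ_eq_map, List.countP_cons, List.countP_map]
    have h1 : (fun j => (Nat.div w 2).testBit j) = ((fun j => w.testBit j) ∘ Nat.succ) := by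
      funext j
      show (w / 2).testBit j = w.testBit (j + 1)
      rw [Nat.testBit_succ]
    rw [h1]
    have h2 : Nat.mod w 2 = if w.testBit 0 = true then 1 else 0 := by
      rw [Nat.testBit_zero]
      show w % 2 = _
      rcases Nat.mod_two_eq_zero_or_one w with h | h <;> simp [h]
    rw [h2]
    show acc + _ + _ = _
    omega

theorem popW_eq (n m acc : ℕ) :
    popW n m acc = acc + (List.range (64 * n)).countP fun j => m.testBit j := by
  induction n generalizing acc with
  | zero => simp [popW]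
  | succ n ih =>
    rw [popW, frc_eq, ih, pop64_eq, show 64 * (n + 1) = 64 * n + 64 by ring, List.range_add,
      List.countP_append, List.countP_map]
    have h1 : (List.range 64).countP (fun j =>
        (Nat.mod (Nat.shiftRight m (Nat.mul 64 n)) 18446744073709551616).testBit j) =
        (List.range 64).countP ((fun j => m.testBit j) ∘ fun x => 64 * n + x) := by
      apply List.countP_congr
      intro j hj
      rw [List.mem_range] at hj
      show ((m >>> (64 * n)) % 2 ^ 64).testBit j = true ↔ m.testBit (64 * n + j) = true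
      rw [Nat.testBit_mod_two_pow, Nat.testBit_shiftRight]
      simp [hj]
    rw [h1]
    omega

theorem popcnt_eq (w m : ℕ) :
    popcnt w m = (List.range (64 * w)).countP fun j => m.testBit j := by
  unfold popcnt
  rw [frc_eq, popW_eq, Nat.zero_add]

theorem countP_range_eq (T : ℕ → Bool) : ∀ (L : List ℕ) (f : ℕ → Bool),
    (∀ k (h : k < L.length), f k = T L[k]) → (List.range L.length).countP f = L.countP T
  | [], _, _ => by simp
  | a :: L, f, h => by
    rw [List.length_cons, List.range_succ_eq_map, List.countP_cons, List.countP_map,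
      List.countP_cons, countP_range_eq T L (f ∘ Nat.succ) (fun k hk => h (k + 1) (by simpa using hk)),
      h 0 (by simp)]
    rfl

/-! ### the count of a board -/

theorem bsCount_eq {w : ℕ} {B : Board} {Y : List ℕ} (hlen : Y.length = 64 * w)
    (hB : ∀ k (h : k < Y.length), ∃ σ : Equiv.Perm GolayPt, Rep σ Y[k] ∧ Lane B k σ)
    {γ κ : Equiv.Perm GolayPt} {g c : ℕ} (hg : Rep γ g) (hc : Rep κ c)
    (T : ℕ → Bool)
    (hT : ∀ σ r, Rep σ r → (T r = true ↔ ((σ * γ) ^ 239085 = 1 ∧ κ * σ = σ * κ))) :
    bsCount w B g c = Y.countP T := by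
  unfold bsCount
  rw [popcnt_eq, frcB_eq, ← hlen]
  apply countP_range_eq
  intro k hk
  obtain ⟨σ, hr, hl⟩ := hB k hk
  rw [land_eq, Nat.testBit_and, idMask_testBit (hl.rowPerm hg.1).powOdd, comMask_testBit hl hc.1]
  apply Bool.eq_iff_iff.mpr
  rw [hT σ _ hr, Bool.and_eq_true, decide_eq_true_iff, decide_eq_true_iff]

/-! ### certifying a board -/

theorem bitAt_eq (m k : ℕ) : bitAt m k = m.testBit k := by
  unfold bitAt
  rw [Nat.testBit_eq_decide_div_mod_eq]
  show Nat.beq (m >>> k % 2) 1 = _
  rw [Nat.shiftRight_eq_div_pow]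
  apply Bool.eq_iff_iff.mpr
  constructor
  · intro h
    exact decide_eq_true (Nat.eq_of_beq_eq_true h)
  · intro h
    rw [of_decide_eq_true h]
    rfl

theorem chk1_eq (B : Board) (y k : ℕ) :
    chk1 B y k = allU fun i => ((B.get i).get (look y i)).testBit k := by
  simp only [chk1, bitAt_eq]
  rfl

/-- the entries of each row are pairwise disjoint -/
def Disj (B : Board) : Prop :=
  ∀ i, i < 24 → ∀ v, v < 24 → ∀ j, j < 24 → v ≠ j → Nat.land ((B.get i).get v) ((B.get i).get j) = 0

instance (B : Board) : Decidable (Disj B) := by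
  unfold Disj
  infer_instance

theorem lane_of_chk {B : Board} (hd : Disj B) {y k : ℕ} {σ : Equiv.Perm GolayPt}
    (h : chk1 B y k = true) (hr : ActsBy σ y) : Lane B k σ := by
  intro i v hi hv
  rw [chk1_eq, allU_iff] at h
  obtain ⟨h1, h2⟩ := hr i hi
  have h3 := h i hi
  rw [h2]
  by_cases hv2 : v = look y i
  · rw [hv2, h3]
    simp
  · have h4 := hd i hi v hv (look y i) h1 hv2
    have h5 := congrArg (fun n => Nat.testBit n k) h4
    simp only [land_eq, Nat.testBit_and, h3, Bool.and_true, Nat.zero_testBit] at h5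
    rw [h5]
    symm
    rw [decide_eq_false_iff_not]
    intro e
    exact hv2 (ptN_inj h1 hv e).symm

theorem chkL_get (B : Board) : ∀ (L : List ℕ) (k0 : ℕ), chkL B L k0 = true →
    ∀ j (h : j < L.length), chk1 B L[j] (k0 + j) = true
  | [], _, _, j, h => absurd h (Nat.not_lt_zero _)
  | y :: L, k0, hc, j, h => by
    rw [chkL, frc_eq, Bool.and_eq_true] at hc
    cases j with
    | zero => exact hc.1
    | succ j =>
      have := chkL_get B L (k0 + 1) hc.2 j (by simpa using h)
      rw [show k0 + (j + 1) = k0 + 1 + j by ring]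
      exact this

end Cfsg.Agent.Lib.Helper13.OctBS
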