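import Cfsg.Agent.Lib.Helper13.OctYAll

/-!
The list `Yall` of the 2-elements of the octad stabiliser cut into four blocks of 16384.
-/

set_option autoImplicit false

namespace Cfsg.Agent.Lib.Helper13.OctEnum

def Yr1 : List ℕ := Yall.drop 16384

def Yr2 : List ℕ := Yr1.drop 16384

def Yb0 : List ℕ := Yall.take 16384

def Yb1 : List ℕ := Yr1.take 16384

def Yb2 : List ℕ := Yr2.take 16384

def Yb3 : List ℕ := Yr2.drop 16384

theorem Yall_eq : Yall = Yb0 ++ (Yb1 ++ (Yb2 ++ Yb3)) := by
  unfold Yb0 Yb1 Yb2 Yb3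
  rw [List.take_append_drop]
  unfold Yr2
  rw [List.take_append_drop]
  unfold Yr1
  rw [List.take_append_drop]

theorem length_Yb0 : Yb0.length = 64 * 256 := by
  unfold Yb0
  rw [List.length_take, length_Yall]
  decide

theorem length_Yb1 : Yb1.length = 64 * 256 := by
  unfold Yb1 Yr1
  rw [List.length_take, List.length_drop, length_Yall]
  decide

theorem length_Yb2 : Yb2.length = 64 * 256 := by
  unfold Yb2 Yr2 Yr1
  rw [List.length_take, List.length_drop, List.length_drop, length_Yall]
  decide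

theorem length_Yb3 : Yb3.length = 64 * 256 := by
  unfold Yb3 Yr2 Yr1
  rw [List.length_drop, List.length_drop, List.length_drop, length_Yall]

theorem mem_Yall_of_Yb0 {r : ℕ} (h : r ∈ Yb0) : r ∈ Yall := List.mem_of_mem_take h

theorem mem_Yall_of_Yb1 {r : ℕ} (h : r ∈ Yb1) : r ∈ Yall :=
  List.mem_of_mem_drop (List.mem_of_mem_take h)

theorem mem_Yall_of_Yb2 {r : ℕ} (h : r ∈ Yb2) : r ∈ Yall :=
  List.mem_of_mem_drop (List.mem_of_mem_drop (List.mem_of_mem_take h))

theorem mem_Yall_of_Yb3 {r : ℕ} (h : r ∈ Yb3) : r ∈ Yall :=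
  List.mem_of_mem_drop (List.mem_of_mem_drop (List.mem_of_mem_drop h))

theorem countP_Yall (T : ℕ → Bool) :
    Yall.countP T = Yb0.countP T + Yb1.countP T + Yb2.countP T + Yb3.countP T := by
  rw [Yall_eq, List.countP_append, List.countP_append, List.countP_append]
  omega

end Cfsg.Agent.Lib.Helper13.OctEnum
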