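import Cfsg.Agent.Lib.Helper13.OctBlocks
import Cfsg.Agent.Lib.Helper13.OctBoard2
import Cfsg.Agent.Lib.Helper13.OctBSSem

/-! The board `board2` against block 2 of the list of 2-elements (kernel computation). -/

set_option autoImplicit false

namespace Cfsg.Agent.Lib.Helper13.OctBS

open Cfsg.Agent.Lib.Helper13.OctEnum

set_option maxRecDepth 1000000 in
set_option maxHeartbeats 0 in
theorem chk_board2 : chkL board2 Yb2 0 = true := by decide +kernel

set_option maxRecDepth 1000000 in
set_option maxHeartbeats 0 in
theorem disj_board2 : Disj board2 := by decide +kernel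

end Cfsg.Agent.Lib.Helper13.OctBS
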