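import Cfsg.Agent.Lib.Helper13.OctCert0
import Cfsg.Agent.Lib.Helper13.OctCert1
import Cfsg.Agent.Lib.Helper13.OctCert2
import Cfsg.Agent.Lib.Helper13.OctCert3

/-!
The four boards represent the four blocks of the list of the 2-elements of the octad stabiliser:
lane `k` of a board is the `k`-th element of its block.
-/

set_option autoImplicit false

namespace Cfsg.Agent.Lib.Helper13.OctBS

open Cfsg Cfsg.Agent.Lib.Helper28 Cfsg.Agent.Lib.Helper13.PackPerm Cfsg.Agent.Lib.Helper13.OctEnum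

theorem lane_of_block {B : Board} {Y : List ℕ} (hd : Disj B) (hc : chkL B Y 0 = true)
    (hm : ∀ r ∈ Y, r ∈ Yall) (k : ℕ) (h : k < Y.length) :
    ∃ σ : Equiv.Perm GolayPt, Rep σ Y[k] ∧ Lane B k σ := by
  obtain ⟨σ, _, hr⟩ := exists_rep_Yall (hm _ (List.getElem_mem h))
  refine ⟨σ, hr, lane_of_chk hd ?_ hr.1⟩
  have := chkL_get B Y 0 hc k h
  rwa [Nat.zero_add] at this

theorem lane_board0 (k : ℕ) (h : k < Yb0.length) :
    ∃ σ : Equiv.Perm GolayPt, Rep σ Yb0[k] ∧ Lane board0 k σ :=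
  lane_of_block disj_board0 chk_board0 (fun _ => mem_Yall_of_Yb0) k h

theorem lane_board1 (k : ℕ) (h : k < Yb1.length) :
    ∃ σ : Equiv.Perm GolayPt, Rep σ Yb1[k] ∧ Lane board1 k σ :=
  lane_of_block disj_board1 chk_board1 (fun _ => mem_Yall_of_Yb1) k h

theorem lane_board2 (k : ℕ) (h : k < Yb2.length) :
    ∃ σ : Equiv.Perm GolayPt, Rep σ Yb2[k] ∧ Lane board2 k σ :=
  lane_of_block disj_board2 chk_board2 (fun _ => mem_Yall_of_Yb2) k h

theorem lane_board3 (k : ℕ) (h : k < Yb3.length) :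
    ∃ σ : Equiv.Perm GolayPt, Rep σ Yb3[k] ∧ Lane board3 k σ :=
  lane_of_block disj_board3 chk_board3 (fun _ => mem_Yall_of_Yb3) k h

end Cfsg.Agent.Lib.Helper13.OctBS
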