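import Cfsg.Agent.Lib.Helper13.OctCnt3Bx0
import Cfsg.Agent.Lib.Helper13.OctBoard0
import Cfsg.Agent.Lib.Helper13.OctBoard1
import Cfsg.Agent.Lib.Helper13.OctBoard2
import Cfsg.Agent.Lib.Helper13.OctBoard3

/-! Kernel computation of the bit-sliced counts for entries 0 to 5 of the table `D11A`. -/

set_option Elab.async false

namespace Cfsg.Agent.Lib.Helper13.OctBS

set_option maxRecDepth 1000000 in
set_option maxHeartbeats 0 in
theorem cD11A_0_0 : bsCount 256 board0 595008769492905547929741123281863728 984818244535754528103549039458486304 = 8181 := by
  decide +kernel

set_option maxRecDepth 1000000 in
set_option maxHeartbeats 0 in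
theorem cD11A_0_1 : bsCount 256 board1 595008769492905547929741123281863728 984818244535754528103549039458486304 = 8060 := by
  decide +kernel

set_option maxRecDepth 1000000 in
set_option maxHeartbeats 0 in
theorem cD11A_0_2 : bsCount 256 board2 595008769492905547929741123281863728 984818244535754528103549039458486304 = 8643 := by
  decide +kernel

set_option maxRecDepth 1000000 in
set_option maxHeartbeats 0 in
theorem cD11A_0_3 : bsCount 256 board3 595008769492905547929741123281863728 984818244535754528103549039458486304 = 8598 := by
  decide +kernel

set_option maxRecDepth 1000000 in
set_option maxHeartbeats 0 in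
theorem cD11A_1_0 : bsCount 256 board0 399362170266517929111061205518622891 984818244535754528103549039458486304 = 8150 := by
  decide +kernel

set_option maxRecDepth 1000000 in
set_option maxHeartbeats 0 in
theorem cD11A_1_1 : bsCount 256 board1 399362170266517929111061205518622891 984818244535754528103549039458486304 = 8024 := by
  decide +kernel

set_option maxRecDepth 1000000 in
set_option maxHeartbeats 0 in
theorem cD11A_1_2 : bsCount 256 board2 399362170266517929111061205518622891 984818244535754528103549039458486304 = 8486 := by
  decide +kernel

set_option maxRecDepth 1000000 in
set_option maxHeartbeats 0 in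
theorem cD11A_1_3 : bsCount 256 board3 399362170266517929111061205518622891 984818244535754528103549039458486304 = 8062 := by
  decide +kernel

set_option maxRecDepth 1000000 in
set_option maxHeartbeats 0 in
theorem cD11A_2_0 : bsCount 256 board0 923470216911798055502701836567329440 984818244535754528103549039458486304 = 7745 := by
  decide +kernel

set_option maxRecDepth 1000000 in
set_option maxHeartbeats 0 in
theorem cD11A_2_1 : bsCount 256 board1 923470216911798055502701836567329440 984818244535754528103549039458486304 = 7726 := by
  decide +kernel

set_option maxRecDepth 1000000 in
set_option maxHeartbeats 0 in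
theorem cD11A_2_2 : bsCount 256 board2 923470216911798055502701836567329440 984818244535754528103549039458486304 = 7608 := by
  decide +kernel

set_option maxRecDepth 1000000 in
set_option maxHeartbeats 0 in
theorem cD11A_2_3 : bsCount 256 board3 923470216911798055502701836567329440 984818244535754528103549039458486304 = 7605 := by
  decide +kernel

set_option maxRecDepth 1000000 in
set_option maxHeartbeats 0 in
theorem cD11A_3_0 : bsCount 256 board0 633506617853296438375774661681798720 984818244535754528103549039458486304 = 8134 := by
  decide +kernel

set_option maxRecDepth 1000000 in
set_option maxHeartbeats 0 in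
theorem cD11A_3_1 : bsCount 256 board1 633506617853296438375774661681798720 984818244535754528103549039458486304 = 9177 := by
  decide +kernel

set_option maxRecDepth 1000000 in
set_option maxHeartbeats 0 in
theorem cD11A_3_2 : bsCount 256 board2 633506617853296438375774661681798720 984818244535754528103549039458486304 = 7652 := by
  decide +kernel

set_option maxRecDepth 1000000 in
set_option maxHeartbeats 0 in
theorem cD11A_3_3 : bsCount 256 board3 633506617853296438375774661681798720 984818244535754528103549039458486304 = 8483 := by
  decide +kernel

set_option maxRecDepth 1000000 in
set_option maxHeartbeats 0 in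
theorem cD11A_4_0 : bsCount 256 board0 874949810666452488495518350331068435 984818244535754528103549039458486304 = 8060 := by
  decide +kernel

set_option maxRecDepth 1000000 in
set_option maxHeartbeats 0 in
theorem cD11A_4_1 : bsCount 256 board1 874949810666452488495518350331068435 984818244535754528103549039458486304 = 9341 := by
  decide +kernel

set_option maxRecDepth 1000000 in
set_option maxHeartbeats 0 in
theorem cD11A_4_2 : bsCount 256 board2 874949810666452488495518350331068435 984818244535754528103549039458486304 = 7826 := by
  decide +kernel

set_option maxRecDepth 1000000 in
set_option maxHeartbeats 0 in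
theorem cD11A_4_3 : bsCount 256 board3 874949810666452488495518350331068435 984818244535754528103549039458486304 = 8153 := by
  decide +kernel

set_option maxRecDepth 1000000 in
set_option maxHeartbeats 0 in
theorem cD11A_5_0 : bsCount 256 board0 296556380011579693884513430560622198 984818244535754528103549039458486304 = 7467 := by
  decide +kernel

set_option maxRecDepth 1000000 in
set_option maxHeartbeats 0 in
theorem cD11A_5_1 : bsCount 256 board1 296556380011579693884513430560622198 984818244535754528103549039458486304 = 7510 := by
  decide +kernel

set_option maxRecDepth 1000000 in
set_option maxHeartbeats 0 in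
theorem cD11A_5_2 : bsCount 256 board2 296556380011579693884513430560622198 984818244535754528103549039458486304 = 7489 := by
  decide +kernel

set_option maxRecDepth 1000000 in
set_option maxHeartbeats 0 in
theorem cD11A_5_3 : bsCount 256 board3 296556380011579693884513430560622198 984818244535754528103549039458486304 = 7516 := by
  decide +kernel

end Cfsg.Agent.Lib.Helper13.OctBS
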