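import Cfsg.Agent.Lib.Helper13.OctCnt5Ax0
import Cfsg.Agent.Lib.Helper13.OctBoard0
import Cfsg.Agent.Lib.Helper13.OctBoard1
import Cfsg.Agent.Lib.Helper13.OctBoard2
import Cfsg.Agent.Lib.Helper13.OctBoard3

/-! Kernel computation of the bit-sliced counts for entries 6 to 11 of the table `D11A`. -/

set_option Elab.async false

namespace Cfsg.Agent.Lib.Helper13.OctBS

set_option maxRecDepth 1000000 in
set_option maxHeartbeats 0 in
theorem cD11A_6_0 : bsCount 256 board0 652001576584378277906498410088170724 984818244535754528103549039458486304 = 7600 := by
  decide +kernel

set_option maxRecDepth 1000000 in
set_option maxHeartbeats 0 in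
theorem cD11A_6_1 : bsCount 256 board1 652001576584378277906498410088170724 984818244535754528103549039458486304 = 7583 := by
  decide +kernel

set_option maxRecDepth 1000000 in
set_option maxHeartbeats 0 in
theorem cD11A_6_2 : bsCount 256 board2 652001576584378277906498410088170724 984818244535754528103549039458486304 = 7625 := by
  decide +kernel

set_option maxRecDepth 1000000 in
set_option maxHeartbeats 0 in
theorem cD11A_6_3 : bsCount 256 board3 652001576584378277906498410088170724 984818244535754528103549039458486304 = 7606 := by
  decide +kernel

set_option maxRecDepth 1000000 in
set_option maxHeartbeats 0 in
theorem cD11A_7_0 : bsCount 256 board0 896223061382441574386839577045383329 984818244535754528103549039458486304 = 8713 := by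
  decide +kernel

set_option maxRecDepth 1000000 in
set_option maxHeartbeats 0 in
theorem cD11A_7_1 : bsCount 256 board1 896223061382441574386839577045383329 984818244535754528103549039458486304 = 8342 := by
  decide +kernel

set_option maxRecDepth 1000000 in
set_option maxHeartbeats 0 in
theorem cD11A_7_2 : bsCount 256 board2 896223061382441574386839577045383329 984818244535754528103549039458486304 = 8283 := by
  decide +kernel

set_option maxRecDepth 1000000 in
set_option maxHeartbeats 0 in
theorem cD11A_7_3 : bsCount 256 board3 896223061382441574386839577045383329 984818244535754528103549039458486304 = 8260 := by
  decide +kernel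

set_option maxRecDepth 1000000 in
set_option maxHeartbeats 0 in
theorem cD11A_8_0 : bsCount 256 board0 719432745312970082916539808228757165 984818244535754528103549039458486304 = 8070 := by
  decide +kernel

set_option maxRecDepth 1000000 in
set_option maxHeartbeats 0 in
theorem cD11A_8_1 : bsCount 256 board1 719432745312970082916539808228757165 984818244535754528103549039458486304 = 8283 := by
  decide +kernel

set_option maxRecDepth 1000000 in
set_option maxHeartbeats 0 in
theorem cD11A_8_2 : bsCount 256 board2 719432745312970082916539808228757165 984818244535754528103549039458486304 = 8573 := by
  decide +kernel

set_option maxRecDepth 1000000 in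
set_option maxHeartbeats 0 in
theorem cD11A_8_3 : bsCount 256 board3 719432745312970082916539808228757165 984818244535754528103549039458486304 = 8454 := by
  decide +kernel

set_option maxRecDepth 1000000 in
set_option maxHeartbeats 0 in
theorem cD11A_9_0 : bsCount 256 board0 508338218375228955776500570705671424 984818244535754528103549039458486304 = 7879 := by
  decide +kernel

set_option maxRecDepth 1000000 in
set_option maxHeartbeats 0 in
theorem cD11A_9_1 : bsCount 256 board1 508338218375228955776500570705671424 984818244535754528103549039458486304 = 7925 := by
  decide +kernel

set_option maxRecDepth 1000000 in
set_option maxHeartbeats 0 in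
theorem cD11A_9_2 : bsCount 256 board2 508338218375228955776500570705671424 984818244535754528103549039458486304 = 7850 := by
  decide +kernel

set_option maxRecDepth 1000000 in
set_option maxHeartbeats 0 in
theorem cD11A_9_3 : bsCount 256 board3 508338218375228955776500570705671424 984818244535754528103549039458486304 = 7582 := by
  decide +kernel

set_option maxRecDepth 1000000 in
set_option maxHeartbeats 0 in
theorem cD11A_10_0 : bsCount 256 board0 334971858175606655208575486442985024 984818244535754528103549039458486304 = 7838 := by
  decide +kernel

set_option maxRecDepth 1000000 in
set_option maxHeartbeats 0 in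
theorem cD11A_10_1 : bsCount 256 board1 334971858175606655208575486442985024 984818244535754528103549039458486304 = 7864 := by
  decide +kernel

set_option maxRecDepth 1000000 in
set_option maxHeartbeats 0 in
theorem cD11A_10_2 : bsCount 256 board2 334971858175606655208575486442985024 984818244535754528103549039458486304 = 7794 := by
  decide +kernel

set_option maxRecDepth 1000000 in
set_option maxHeartbeats 0 in
theorem cD11A_10_3 : bsCount 256 board3 334971858175606655208575486442985024 984818244535754528103549039458486304 = 7562 := by
  decide +kernel

set_option maxRecDepth 1000000 in
set_option maxHeartbeats 0 in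
theorem cD11A_11_0 : bsCount 256 board0 174655853277452813707898871355202887 984818244535754528103549039458486304 = 7701 := by
  decide +kernel

set_option maxRecDepth 1000000 in
set_option maxHeartbeats 0 in
theorem cD11A_11_1 : bsCount 256 board1 174655853277452813707898871355202887 984818244535754528103549039458486304 = 8183 := by
  decide +kernel

set_option maxRecDepth 1000000 in
set_option maxHeartbeats 0 in
theorem cD11A_11_2 : bsCount 256 board2 174655853277452813707898871355202887 984818244535754528103549039458486304 = 6751 := by
  decide +kernel

set_option maxRecDepth 1000000 in
set_option maxHeartbeats 0 in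
theorem cD11A_11_3 : bsCount 256 board3 174655853277452813707898871355202887 984818244535754528103549039458486304 = 7493 := by
  decide +kernel

end Cfsg.Agent.Lib.Helper13.OctBS
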