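import Cfsg.Agent.Lib.Helper13.OctCnt11Ax6
import Cfsg.Agent.Lib.Helper13.OctBoard0
import Cfsg.Agent.Lib.Helper13.OctBoard1
import Cfsg.Agent.Lib.Helper13.OctBoard2
import Cfsg.Agent.Lib.Helper13.OctBoard3

/-! Kernel computation of the bit-sliced counts for entries 60 to 65 of the table `D11A`. -/

set_option Elab.async false

namespace Cfsg.Agent.Lib.Helper13.OctBS

set_option maxRecDepth 1000000 in
set_option maxHeartbeats 0 in
theorem cD11A_60_0 : bsCount 256 board0 980668730378935070469623699575545984 984818244535754528103549039458486304 = 6510 := by
  decide +kernel

set_option maxRecDepth 1000000 in
set_option maxHeartbeats 0 in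
theorem cD11A_60_1 : bsCount 256 board1 980668730378935070469623699575545984 984818244535754528103549039458486304 = 7712 := by
  decide +kernel

set_option maxRecDepth 1000000 in
set_option maxHeartbeats 0 in
theorem cD11A_60_2 : bsCount 256 board2 980668730378935070469623699575545984 984818244535754528103549039458486304 = 7634 := by
  decide +kernel

set_option maxRecDepth 1000000 in
set_option maxHeartbeats 0 in
theorem cD11A_60_3 : bsCount 256 board3 980668730378935070469623699575545984 984818244535754528103549039458486304 = 8956 := by
  decide +kernel

set_option maxRecDepth 1000000 in
set_option maxHeartbeats 0 in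
theorem cD11A_61_0 : bsCount 256 board0 971622617689817584932204901944699462 984818244535754528103549039458486304 = 7595 := by
  decide +kernel

set_option maxRecDepth 1000000 in
set_option maxHeartbeats 0 in
theorem cD11A_61_1 : bsCount 256 board1 971622617689817584932204901944699462 984818244535754528103549039458486304 = 7516 := by
  decide +kernel

set_option maxRecDepth 1000000 in
set_option maxHeartbeats 0 in
theorem cD11A_61_2 : bsCount 256 board2 971622617689817584932204901944699462 984818244535754528103549039458486304 = 7156 := by
  decide +kernel

set_option maxRecDepth 1000000 in
set_option maxHeartbeats 0 in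
theorem cD11A_61_3 : bsCount 256 board3 971622617689817584932204901944699462 984818244535754528103549039458486304 = 8623 := by
  decide +kernel

set_option maxRecDepth 1000000 in
set_option maxHeartbeats 0 in
theorem cD11A_62_0 : bsCount 256 board0 753255783488860271202692028974009856 984818244535754528103549039458486304 = 8397 := by
  decide +kernel

set_option maxRecDepth 1000000 in
set_option maxHeartbeats 0 in
theorem cD11A_62_1 : bsCount 256 board1 753255783488860271202692028974009856 984818244535754528103549039458486304 = 8738 := by
  decide +kernel

set_option maxRecDepth 1000000 in
set_option maxHeartbeats 0 in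
theorem cD11A_62_2 : bsCount 256 board2 753255783488860271202692028974009856 984818244535754528103549039458486304 = 8224 := by
  decide +kernel

set_option maxRecDepth 1000000 in
set_option maxHeartbeats 0 in
theorem cD11A_62_3 : bsCount 256 board3 753255783488860271202692028974009856 984818244535754528103549039458486304 = 8123 := by
  decide +kernel

set_option maxRecDepth 1000000 in
set_option maxHeartbeats 0 in
theorem cD11A_63_0 : bsCount 256 board0 457714503803041961919432413626968812 984818244535754528103549039458486304 = 8765 := by
  decide +kernel

set_option maxRecDepth 1000000 in
set_option maxHeartbeats 0 in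
theorem cD11A_63_1 : bsCount 256 board1 457714503803041961919432413626968812 984818244535754528103549039458486304 = 7462 := by
  decide +kernel

set_option maxRecDepth 1000000 in
set_option maxHeartbeats 0 in
theorem cD11A_63_2 : bsCount 256 board2 457714503803041961919432413626968812 984818244535754528103549039458486304 = 7045 := by
  decide +kernel

set_option maxRecDepth 1000000 in
set_option maxHeartbeats 0 in
theorem cD11A_63_3 : bsCount 256 board3 457714503803041961919432413626968812 984818244535754528103549039458486304 = 7696 := by
  decide +kernel

set_option maxRecDepth 1000000 in
set_option maxHeartbeats 0 in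
theorem cD11A_64_0 : bsCount 256 board0 95532236954668060583270966390966624 984818244535754528103549039458486304 = 8558 := by
  decide +kernel

set_option maxRecDepth 1000000 in
set_option maxHeartbeats 0 in
theorem cD11A_64_1 : bsCount 256 board1 95532236954668060583270966390966624 984818244535754528103549039458486304 = 8536 := by
  decide +kernel

set_option maxRecDepth 1000000 in
set_option maxHeartbeats 0 in
theorem cD11A_64_2 : bsCount 256 board2 95532236954668060583270966390966624 984818244535754528103549039458486304 = 8549 := by
  decide +kernel

set_option maxRecDepth 1000000 in
set_option maxHeartbeats 0 in
theorem cD11A_64_3 : bsCount 256 board3 95532236954668060583270966390966624 984818244535754528103549039458486304 = 8569 := by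
  decide +kernel

set_option maxRecDepth 1000000 in
set_option maxHeartbeats 0 in
theorem cD11A_65_0 : bsCount 256 board0 980639615736333610812691506850571947 984818244535754528103549039458486304 = 7500 := by
  decide +kernel

set_option maxRecDepth 1000000 in
set_option maxHeartbeats 0 in
theorem cD11A_65_1 : bsCount 256 board1 980639615736333610812691506850571947 984818244535754528103549039458486304 = 7456 := by
  decide +kernel

set_option maxRecDepth 1000000 in
set_option maxHeartbeats 0 in
theorem cD11A_65_2 : bsCount 256 board2 980639615736333610812691506850571947 984818244535754528103549039458486304 = 7160 := by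
  decide +kernel

set_option maxRecDepth 1000000 in
set_option maxHeartbeats 0 in
theorem cD11A_65_3 : bsCount 256 board3 980639615736333610812691506850571947 984818244535754528103549039458486304 = 8568 := by
  decide +kernel

end Cfsg.Agent.Lib.Helper13.OctBS
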