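import Cfsg.Agent.Lib.Helper13.OctCnt11Ax7
import Cfsg.Agent.Lib.Helper13.OctBoard0
import Cfsg.Agent.Lib.Helper13.OctBoard1
import Cfsg.Agent.Lib.Helper13.OctBoard2
import Cfsg.Agent.Lib.Helper13.OctBoard3

/-! Kernel computation of the bit-sliced counts for entries 66 to 68 of the table `D11A`. -/

set_option Elab.async false

namespace Cfsg.Agent.Lib.Helper13.OctBS

set_option maxRecDepth 1000000 in
set_option maxHeartbeats 0 in
theorem cD11A_66_0 : bsCount 256 board0 831473036203389123300994849359334820 984818244535754528103549039458486304 = 8513 := by
  decide +kernel

set_option maxRecDepth 1000000 in
set_option maxHeartbeats 0 in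
theorem cD11A_66_1 : bsCount 256 board1 831473036203389123300994849359334820 984818244535754528103549039458486304 = 7992 := by
  decide +kernel

set_option maxRecDepth 1000000 in
set_option maxHeartbeats 0 in
theorem cD11A_66_2 : bsCount 256 board2 831473036203389123300994849359334820 984818244535754528103549039458486304 = 7916 := by
  decide +kernel

set_option maxRecDepth 1000000 in
set_option maxHeartbeats 0 in
theorem cD11A_66_3 : bsCount 256 board3 831473036203389123300994849359334820 984818244535754528103549039458486304 = 9177 := by
  decide +kernel

set_option maxRecDepth 1000000 in
set_option maxHeartbeats 0 in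
theorem cD11A_67_0 : bsCount 256 board0 982989733474406371087338008657147947 984818244535754528103549039458486304 = 7531 := by
  decide +kernel

set_option maxRecDepth 1000000 in
set_option maxHeartbeats 0 in
theorem cD11A_67_1 : bsCount 256 board1 982989733474406371087338008657147947 984818244535754528103549039458486304 = 8202 := by
  decide +kernel

set_option maxRecDepth 1000000 in
set_option maxHeartbeats 0 in
theorem cD11A_67_2 : bsCount 256 board2 982989733474406371087338008657147947 984818244535754528103549039458486304 = 8446 := by
  decide +kernel

set_option maxRecDepth 1000000 in
set_option maxHeartbeats 0 in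
theorem cD11A_67_3 : bsCount 256 board3 982989733474406371087338008657147947 984818244535754528103549039458486304 = 9785 := by
  decide +kernel

set_option maxRecDepth 1000000 in
set_option maxHeartbeats 0 in
theorem cD11A_68_0 : bsCount 256 board0 774189015978839877832815184376632576 984818244535754528103549039458486304 = 7863 := by
  decide +kernel

set_option maxRecDepth 1000000 in
set_option maxHeartbeats 0 in
theorem cD11A_68_1 : bsCount 256 board1 774189015978839877832815184376632576 984818244535754528103549039458486304 = 7854 := by
  decide +kernel

set_option maxRecDepth 1000000 in
set_option maxHeartbeats 0 in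
theorem cD11A_68_2 : bsCount 256 board2 774189015978839877832815184376632576 984818244535754528103549039458486304 = 7731 := by
  decide +kernel

set_option maxRecDepth 1000000 in
set_option maxHeartbeats 0 in
theorem cD11A_68_3 : bsCount 256 board3 774189015978839877832815184376632576 984818244535754528103549039458486304 = 7610 := by
  decide +kernel

end Cfsg.Agent.Lib.Helper13.OctBS
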