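import Cfsg.Agent.Lib.Helper13.OctCnt7Ax0
import Cfsg.Agent.Lib.Helper13.OctBoard0
import Cfsg.Agent.Lib.Helper13.OctBoard1
import Cfsg.Agent.Lib.Helper13.OctBoard2
import Cfsg.Agent.Lib.Helper13.OctBoard3

/-! Kernel computation of the bit-sliced counts for entries 12 to 17 of the table `D11A`. -/

set_option Elab.async false

namespace Cfsg.Agent.Lib.Helper13.OctBS

set_option maxRecDepth 1000000 in
set_option maxHeartbeats 0 in
theorem cD11A_12_0 : bsCount 256 board0 217447179949170629271934753414717485 984818244535754528103549039458486304 = 8372 := by
  decide +kernel

set_option maxRecDepth 1000000 in
set_option maxHeartbeats 0 in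
theorem cD11A_12_1 : bsCount 256 board1 217447179949170629271934753414717485 984818244535754528103549039458486304 = 8223 := by
  decide +kernel

set_option maxRecDepth 1000000 in
set_option maxHeartbeats 0 in
theorem cD11A_12_2 : bsCount 256 board2 217447179949170629271934753414717485 984818244535754528103549039458486304 = 8763 := by
  decide +kernel

set_option maxRecDepth 1000000 in
set_option maxHeartbeats 0 in
theorem cD11A_12_3 : bsCount 256 board3 217447179949170629271934753414717485 984818244535754528103549039458486304 = 8854 := by
  decide +kernel

set_option maxRecDepth 1000000 in
set_option maxHeartbeats 0 in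
theorem cD11A_13_0 : bsCount 256 board0 790087429063775957135977296477848948 984818244535754528103549039458486304 = 7683 := by
  decide +kernel

set_option maxRecDepth 1000000 in
set_option maxHeartbeats 0 in
theorem cD11A_13_1 : bsCount 256 board1 790087429063775957135977296477848948 984818244535754528103549039458486304 = 7611 := by
  decide +kernel

set_option maxRecDepth 1000000 in
set_option maxHeartbeats 0 in
theorem cD11A_13_2 : bsCount 256 board2 790087429063775957135977296477848948 984818244535754528103549039458486304 = 7684 := by
  decide +kernel

set_option maxRecDepth 1000000 in
set_option maxHeartbeats 0 in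
theorem cD11A_13_3 : bsCount 256 board3 790087429063775957135977296477848948 984818244535754528103549039458486304 = 7620 := by
  decide +kernel

set_option maxRecDepth 1000000 in
set_option maxHeartbeats 0 in
theorem cD11A_14_0 : bsCount 256 board0 734726654605137811973238216860505586 984818244535754528103549039458486304 = 7820 := by
  decide +kernel

set_option maxRecDepth 1000000 in
set_option maxHeartbeats 0 in
theorem cD11A_14_1 : bsCount 256 board1 734726654605137811973238216860505586 984818244535754528103549039458486304 = 8050 := by
  decide +kernel

set_option maxRecDepth 1000000 in
set_option maxHeartbeats 0 in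
theorem cD11A_14_2 : bsCount 256 board2 734726654605137811973238216860505586 984818244535754528103549039458486304 = 8352 := by
  decide +kernel

set_option maxRecDepth 1000000 in
set_option maxHeartbeats 0 in
theorem cD11A_14_3 : bsCount 256 board3 734726654605137811973238216860505586 984818244535754528103549039458486304 = 8534 := by
  decide +kernel

set_option maxRecDepth 1000000 in
set_option maxHeartbeats 0 in
theorem cD11A_15_0 : bsCount 256 board0 775415161879634415595066571666101794 984818244535754528103549039458486304 = 8541 := by
  decide +kernel

set_option maxRecDepth 1000000 in
set_option maxHeartbeats 0 in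
theorem cD11A_15_1 : bsCount 256 board1 775415161879634415595066571666101794 984818244535754528103549039458486304 = 8150 := by
  decide +kernel

set_option maxRecDepth 1000000 in
set_option maxHeartbeats 0 in
theorem cD11A_15_2 : bsCount 256 board2 775415161879634415595066571666101794 984818244535754528103549039458486304 = 8285 := by
  decide +kernel

set_option maxRecDepth 1000000 in
set_option maxHeartbeats 0 in
theorem cD11A_15_3 : bsCount 256 board3 775415161879634415595066571666101794 984818244535754528103549039458486304 = 7796 := by
  decide +kernel

set_option maxRecDepth 1000000 in
set_option maxHeartbeats 0 in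
theorem cD11A_16_0 : bsCount 256 board0 832653274079481584152765434520384682 984818244535754528103549039458486304 = 6616 := by
  decide +kernel

set_option maxRecDepth 1000000 in
set_option maxHeartbeats 0 in
theorem cD11A_16_1 : bsCount 256 board1 832653274079481584152765434520384682 984818244535754528103549039458486304 = 8554 := by
  decide +kernel

set_option maxRecDepth 1000000 in
set_option maxHeartbeats 0 in
theorem cD11A_16_2 : bsCount 256 board2 832653274079481584152765434520384682 984818244535754528103549039458486304 = 7574 := by
  decide +kernel

set_option maxRecDepth 1000000 in
set_option maxHeartbeats 0 in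
theorem cD11A_16_3 : bsCount 256 board3 832653274079481584152765434520384682 984818244535754528103549039458486304 = 7582 := by
  decide +kernel

set_option maxRecDepth 1000000 in
set_option maxHeartbeats 0 in
theorem cD11A_17_0 : bsCount 256 board0 46130655355673354233546731018145046 984818244535754528103549039458486304 = 7918 := by
  decide +kernel

set_option maxRecDepth 1000000 in
set_option maxHeartbeats 0 in
theorem cD11A_17_1 : bsCount 256 board1 46130655355673354233546731018145046 984818244535754528103549039458486304 = 7676 := by
  decide +kernel

set_option maxRecDepth 1000000 in
set_option maxHeartbeats 0 in
theorem cD11A_17_2 : bsCount 256 board2 46130655355673354233546731018145046 984818244535754528103549039458486304 = 7675 := by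
  decide +kernel

set_option maxRecDepth 1000000 in
set_option maxHeartbeats 0 in
theorem cD11A_17_3 : bsCount 256 board3 46130655355673354233546731018145046 984818244535754528103549039458486304 = 7699 := by
  decide +kernel

end Cfsg.Agent.Lib.Helper13.OctBS
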