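import Cfsg.Agent.Lib.Helper13.OctCnt7Ax1
import Cfsg.Agent.Lib.Helper13.OctBoard0
import Cfsg.Agent.Lib.Helper13.OctBoard1
import Cfsg.Agent.Lib.Helper13.OctBoard2
import Cfsg.Agent.Lib.Helper13.OctBoard3

/-! Kernel computation of the bit-sliced counts for entries 18 to 23 of the table `D11A`. -/

set_option Elab.async false

namespace Cfsg.Agent.Lib.Helper13.OctBS

set_option maxRecDepth 1000000 in
set_option maxHeartbeats 0 in
theorem cD11A_18_0 : bsCount 256 board0 374801277133196714085373539293758672 984818244535754528103549039458486304 = 7682 := by
  decide +kernel

set_option maxRecDepth 1000000 in
set_option maxHeartbeats 0 in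
theorem cD11A_18_1 : bsCount 256 board1 374801277133196714085373539293758672 984818244535754528103549039458486304 = 7679 := by
  decide +kernel

set_option maxRecDepth 1000000 in
set_option maxHeartbeats 0 in
theorem cD11A_18_2 : bsCount 256 board2 374801277133196714085373539293758672 984818244535754528103549039458486304 = 7663 := by
  decide +kernel

set_option maxRecDepth 1000000 in
set_option maxHeartbeats 0 in
theorem cD11A_18_3 : bsCount 256 board3 374801277133196714085373539293758672 984818244535754528103549039458486304 = 7660 := by
  decide +kernel

set_option maxRecDepth 1000000 in
set_option maxHeartbeats 0 in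
theorem cD11A_19_0 : bsCount 256 board0 28654784132582407108545100489593394 984818244535754528103549039458486304 = 7689 := by
  decide +kernel

set_option maxRecDepth 1000000 in
set_option maxHeartbeats 0 in
theorem cD11A_19_1 : bsCount 256 board1 28654784132582407108545100489593394 984818244535754528103549039458486304 = 7501 := by
  decide +kernel

set_option maxRecDepth 1000000 in
set_option maxHeartbeats 0 in
theorem cD11A_19_2 : bsCount 256 board2 28654784132582407108545100489593394 984818244535754528103549039458486304 = 7349 := by
  decide +kernel

set_option maxRecDepth 1000000 in
set_option maxHeartbeats 0 in
theorem cD11A_19_3 : bsCount 256 board3 28654784132582407108545100489593394 984818244535754528103549039458486304 = 7645 := by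
  decide +kernel

set_option maxRecDepth 1000000 in
set_option maxHeartbeats 0 in
theorem cD11A_20_0 : bsCount 256 board0 974389842356002160002761726263284805 984818244535754528103549039458486304 = 7493 := by
  decide +kernel

set_option maxRecDepth 1000000 in
set_option maxHeartbeats 0 in
theorem cD11A_20_1 : bsCount 256 board1 974389842356002160002761726263284805 984818244535754528103549039458486304 = 8714 := by
  decide +kernel

set_option maxRecDepth 1000000 in
set_option maxHeartbeats 0 in
theorem cD11A_20_2 : bsCount 256 board2 974389842356002160002761726263284805 984818244535754528103549039458486304 = 7991 := by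
  decide +kernel

set_option maxRecDepth 1000000 in
set_option maxHeartbeats 0 in
theorem cD11A_20_3 : bsCount 256 board3 974389842356002160002761726263284805 984818244535754528103549039458486304 = 10014 := by
  decide +kernel

set_option maxRecDepth 1000000 in
set_option maxHeartbeats 0 in
theorem cD11A_21_0 : bsCount 256 board0 374442618569479669063058848824371715 984818244535754528103549039458486304 = 7550 := by
  decide +kernel

set_option maxRecDepth 1000000 in
set_option maxHeartbeats 0 in
theorem cD11A_21_1 : bsCount 256 board1 374442618569479669063058848824371715 984818244535754528103549039458486304 = 7490 := by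
  decide +kernel

set_option maxRecDepth 1000000 in
set_option maxHeartbeats 0 in
theorem cD11A_21_2 : bsCount 256 board2 374442618569479669063058848824371715 984818244535754528103549039458486304 = 7476 := by
  decide +kernel

set_option maxRecDepth 1000000 in
set_option maxHeartbeats 0 in
theorem cD11A_21_3 : bsCount 256 board3 374442618569479669063058848824371715 984818244535754528103549039458486304 = 7534 := by
  decide +kernel

set_option maxRecDepth 1000000 in
set_option maxHeartbeats 0 in
theorem cD11A_22_0 : bsCount 256 board0 675051855700225118344837304914005286 984818244535754528103549039458486304 = 7722 := by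
  decide +kernel

set_option maxRecDepth 1000000 in
set_option maxHeartbeats 0 in
theorem cD11A_22_1 : bsCount 256 board1 675051855700225118344837304914005286 984818244535754528103549039458486304 = 8775 := by
  decide +kernel

set_option maxRecDepth 1000000 in
set_option maxHeartbeats 0 in
theorem cD11A_22_2 : bsCount 256 board2 675051855700225118344837304914005286 984818244535754528103549039458486304 = 6782 := by
  decide +kernel

set_option maxRecDepth 1000000 in
set_option maxHeartbeats 0 in
theorem cD11A_22_3 : bsCount 256 board3 675051855700225118344837304914005286 984818244535754528103549039458486304 = 7689 := by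
  decide +kernel

set_option maxRecDepth 1000000 in
set_option maxHeartbeats 0 in
theorem cD11A_23_0 : bsCount 256 board0 268752521212419222582785885081852142 984818244535754528103549039458486304 = 7849 := by
  decide +kernel

set_option maxRecDepth 1000000 in
set_option maxHeartbeats 0 in
theorem cD11A_23_1 : bsCount 256 board1 268752521212419222582785885081852142 984818244535754528103549039458486304 = 8387 := by
  decide +kernel

set_option maxRecDepth 1000000 in
set_option maxHeartbeats 0 in
theorem cD11A_23_2 : bsCount 256 board2 268752521212419222582785885081852142 984818244535754528103549039458486304 = 7564 := by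
  decide +kernel

set_option maxRecDepth 1000000 in
set_option maxHeartbeats 0 in
theorem cD11A_23_3 : bsCount 256 board3 268752521212419222582785885081852142 984818244535754528103549039458486304 = 8922 := by
  decide +kernel

end Cfsg.Agent.Lib.Helper13.OctBS
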