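import Cfsg.Agent.Lib.Helper13.OctCnt11Ax0
import Cfsg.Agent.Lib.Helper13.OctBoard0
import Cfsg.Agent.Lib.Helper13.OctBoard1
import Cfsg.Agent.Lib.Helper13.OctBoard2
import Cfsg.Agent.Lib.Helper13.OctBoard3

/-! Kernel computation of the bit-sliced counts for entries 24 to 29 of the table `D11A`. -/

set_option Elab.async false

namespace Cfsg.Agent.Lib.Helper13.OctBS

set_option maxRecDepth 1000000 in
set_option maxHeartbeats 0 in
theorem cD11A_24_0 : bsCount 256 board0 112044289909586668842319013885388021 984818244535754528103549039458486304 = 7617 := by
  decide +kernel

set_option maxRecDepth 1000000 in
set_option maxHeartbeats 0 in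
theorem cD11A_24_1 : bsCount 256 board1 112044289909586668842319013885388021 984818244535754528103549039458486304 = 7733 := by
  decide +kernel

set_option maxRecDepth 1000000 in
set_option maxHeartbeats 0 in
theorem cD11A_24_2 : bsCount 256 board2 112044289909586668842319013885388021 984818244535754528103549039458486304 = 7523 := by
  decide +kernel

set_option maxRecDepth 1000000 in
set_option maxHeartbeats 0 in
theorem cD11A_24_3 : bsCount 256 board3 112044289909586668842319013885388021 984818244535754528103549039458486304 = 7541 := by
  decide +kernel

set_option maxRecDepth 1000000 in
set_option maxHeartbeats 0 in
theorem cD11A_25_0 : bsCount 256 board0 846728706080264320850349296801456202 984818244535754528103549039458486304 = 6739 := by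
  decide +kernel

set_option maxRecDepth 1000000 in
set_option maxHeartbeats 0 in
theorem cD11A_25_1 : bsCount 256 board1 846728706080264320850349296801456202 984818244535754528103549039458486304 = 7557 := by
  decide +kernel

set_option maxRecDepth 1000000 in
set_option maxHeartbeats 0 in
theorem cD11A_25_2 : bsCount 256 board2 846728706080264320850349296801456202 984818244535754528103549039458486304 = 7969 := by
  decide +kernel

set_option maxRecDepth 1000000 in
set_option maxHeartbeats 0 in
theorem cD11A_25_3 : bsCount 256 board3 846728706080264320850349296801456202 984818244535754528103549039458486304 = 8211 := by
  decide +kernel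

set_option maxRecDepth 1000000 in
set_option maxHeartbeats 0 in
theorem cD11A_26_0 : bsCount 256 board0 713458403229647650643619580701050197 984818244535754528103549039458486304 = 7347 := by
  decide +kernel

set_option maxRecDepth 1000000 in
set_option maxHeartbeats 0 in
theorem cD11A_26_1 : bsCount 256 board1 713458403229647650643619580701050197 984818244535754528103549039458486304 = 7389 := by
  decide +kernel

set_option maxRecDepth 1000000 in
set_option maxHeartbeats 0 in
theorem cD11A_26_2 : bsCount 256 board2 713458403229647650643619580701050197 984818244535754528103549039458486304 = 7454 := by
  decide +kernel

set_option maxRecDepth 1000000 in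
set_option maxHeartbeats 0 in
theorem cD11A_26_3 : bsCount 256 board3 713458403229647650643619580701050197 984818244535754528103549039458486304 = 7522 := by
  decide +kernel

set_option maxRecDepth 1000000 in
set_option maxHeartbeats 0 in
theorem cD11A_27_0 : bsCount 256 board0 789824290938861815922020108192952036 984818244535754528103549039458486304 = 8433 := by
  decide +kernel

set_option maxRecDepth 1000000 in
set_option maxHeartbeats 0 in
theorem cD11A_27_1 : bsCount 256 board1 789824290938861815922020108192952036 984818244535754528103549039458486304 = 7282 := by
  decide +kernel

set_option maxRecDepth 1000000 in
set_option maxHeartbeats 0 in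
theorem cD11A_27_2 : bsCount 256 board2 789824290938861815922020108192952036 984818244535754528103549039458486304 = 6833 := by
  decide +kernel

set_option maxRecDepth 1000000 in
set_option maxHeartbeats 0 in
theorem cD11A_27_3 : bsCount 256 board3 789824290938861815922020108192952036 984818244535754528103549039458486304 = 7502 := by
  decide +kernel

set_option maxRecDepth 1000000 in
set_option maxHeartbeats 0 in
theorem cD11A_28_0 : bsCount 256 board0 396383253360580243142942300841194945 984818244535754528103549039458486304 = 8415 := by
  decide +kernel

set_option maxRecDepth 1000000 in
set_option maxHeartbeats 0 in
theorem cD11A_28_1 : bsCount 256 board1 396383253360580243142942300841194945 984818244535754528103549039458486304 = 8072 := by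
  decide +kernel

set_option maxRecDepth 1000000 in
set_option maxHeartbeats 0 in
theorem cD11A_28_2 : bsCount 256 board2 396383253360580243142942300841194945 984818244535754528103549039458486304 = 8034 := by
  decide +kernel

set_option maxRecDepth 1000000 in
set_option maxHeartbeats 0 in
theorem cD11A_28_3 : bsCount 256 board3 396383253360580243142942300841194945 984818244535754528103549039458486304 = 8177 := by
  decide +kernel

set_option maxRecDepth 1000000 in
set_option maxHeartbeats 0 in
theorem cD11A_29_0 : bsCount 256 board0 464283498876006859638298292934157777 984818244535754528103549039458486304 = 8485 := by
  decide +kernel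

set_option maxRecDepth 1000000 in
set_option maxHeartbeats 0 in
theorem cD11A_29_1 : bsCount 256 board1 464283498876006859638298292934157777 984818244535754528103549039458486304 = 8044 := by
  decide +kernel

set_option maxRecDepth 1000000 in
set_option maxHeartbeats 0 in
theorem cD11A_29_2 : bsCount 256 board2 464283498876006859638298292934157777 984818244535754528103549039458486304 = 8241 := by
  decide +kernel

set_option maxRecDepth 1000000 in
set_option maxHeartbeats 0 in
theorem cD11A_29_3 : bsCount 256 board3 464283498876006859638298292934157777 984818244535754528103549039458486304 = 8002 := by
  decide +kernel

end Cfsg.Agent.Lib.Helper13.OctBS
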