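import Cfsg.Agent.Lib.Helper13.OctCnt11Ax1
import Cfsg.Agent.Lib.Helper13.OctBoard0
import Cfsg.Agent.Lib.Helper13.OctBoard1
import Cfsg.Agent.Lib.Helper13.OctBoard2
import Cfsg.Agent.Lib.Helper13.OctBoard3

/-! Kernel computation of the bit-sliced counts for entries 30 to 35 of the table `D11A`. -/

set_option Elab.async false

namespace Cfsg.Agent.Lib.Helper13.OctBS

set_option maxRecDepth 1000000 in
set_option maxHeartbeats 0 in
theorem cD11A_30_0 : bsCount 256 board0 461163790939312281986108468112897696 984818244535754528103549039458486304 = 7793 := by
  decide +kernel

set_option maxRecDepth 1000000 in
set_option maxHeartbeats 0 in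
theorem cD11A_30_1 : bsCount 256 board1 461163790939312281986108468112897696 984818244535754528103549039458486304 = 7766 := by
  decide +kernel

set_option maxRecDepth 1000000 in
set_option maxHeartbeats 0 in
theorem cD11A_30_2 : bsCount 256 board2 461163790939312281986108468112897696 984818244535754528103549039458486304 = 7757 := by
  decide +kernel

set_option maxRecDepth 1000000 in
set_option maxHeartbeats 0 in
theorem cD11A_30_3 : bsCount 256 board3 461163790939312281986108468112897696 984818244535754528103549039458486304 = 7574 := by
  decide +kernel

set_option maxRecDepth 1000000 in
set_option maxHeartbeats 0 in
theorem cD11A_31_0 : bsCount 256 board0 178712646362058716985497500233616010 984818244535754528103549039458486304 = 7581 := by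
  decide +kernel

set_option maxRecDepth 1000000 in
set_option maxHeartbeats 0 in
theorem cD11A_31_1 : bsCount 256 board1 178712646362058716985497500233616010 984818244535754528103549039458486304 = 7578 := by
  decide +kernel

set_option maxRecDepth 1000000 in
set_option maxHeartbeats 0 in
theorem cD11A_31_2 : bsCount 256 board2 178712646362058716985497500233616010 984818244535754528103549039458486304 = 7593 := by
  decide +kernel

set_option maxRecDepth 1000000 in
set_option maxHeartbeats 0 in
theorem cD11A_31_3 : bsCount 256 board3 178712646362058716985497500233616010 984818244535754528103549039458486304 = 7564 := by
  decide +kernel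

set_option maxRecDepth 1000000 in
set_option maxHeartbeats 0 in
theorem cD11A_32_0 : bsCount 256 board0 231691933750588951677857692584723816 984818244535754528103549039458486304 = 7944 := by
  decide +kernel

set_option maxRecDepth 1000000 in
set_option maxHeartbeats 0 in
theorem cD11A_32_1 : bsCount 256 board1 231691933750588951677857692584723816 984818244535754528103549039458486304 = 8498 := by
  decide +kernel

set_option maxRecDepth 1000000 in
set_option maxHeartbeats 0 in
theorem cD11A_32_2 : bsCount 256 board2 231691933750588951677857692584723816 984818244535754528103549039458486304 = 8526 := by
  decide +kernel

set_option maxRecDepth 1000000 in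
set_option maxHeartbeats 0 in
theorem cD11A_32_3 : bsCount 256 board3 231691933750588951677857692584723816 984818244535754528103549039458486304 = 8412 := by
  decide +kernel

set_option maxRecDepth 1000000 in
set_option maxHeartbeats 0 in
theorem cD11A_33_0 : bsCount 256 board0 105579116873429475264587433982871851 984818244535754528103549039458486304 = 7514 := by
  decide +kernel

set_option maxRecDepth 1000000 in
set_option maxHeartbeats 0 in
theorem cD11A_33_1 : bsCount 256 board1 105579116873429475264587433982871851 984818244535754528103549039458486304 = 7685 := by
  decide +kernel

set_option maxRecDepth 1000000 in
set_option maxHeartbeats 0 in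
theorem cD11A_33_2 : bsCount 256 board2 105579116873429475264587433982871851 984818244535754528103549039458486304 = 7528 := by
  decide +kernel

set_option maxRecDepth 1000000 in
set_option maxHeartbeats 0 in
theorem cD11A_33_3 : bsCount 256 board3 105579116873429475264587433982871851 984818244535754528103549039458486304 = 7599 := by
  decide +kernel

set_option maxRecDepth 1000000 in
set_option maxHeartbeats 0 in
theorem cD11A_34_0 : bsCount 256 board0 388391202066413452412287781397317028 984818244535754528103549039458486304 = 8494 := by
  decide +kernel

set_option maxRecDepth 1000000 in
set_option maxHeartbeats 0 in
theorem cD11A_34_1 : bsCount 256 board1 388391202066413452412287781397317028 984818244535754528103549039458486304 = 8821 := by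
  decide +kernel

set_option maxRecDepth 1000000 in
set_option maxHeartbeats 0 in
theorem cD11A_34_2 : bsCount 256 board2 388391202066413452412287781397317028 984818244535754528103549039458486304 = 7603 := by
  decide +kernel

set_option maxRecDepth 1000000 in
set_option maxHeartbeats 0 in
theorem cD11A_34_3 : bsCount 256 board3 388391202066413452412287781397317028 984818244535754528103549039458486304 = 8680 := by
  decide +kernel

set_option maxRecDepth 1000000 in
set_option maxHeartbeats 0 in
theorem cD11A_35_0 : bsCount 256 board0 923321976359911649372045883250774293 984818244535754528103549039458486304 = 7602 := by
  decide +kernel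

set_option maxRecDepth 1000000 in
set_option maxHeartbeats 0 in
theorem cD11A_35_1 : bsCount 256 board1 923321976359911649372045883250774293 984818244535754528103549039458486304 = 7547 := by
  decide +kernel

set_option maxRecDepth 1000000 in
set_option maxHeartbeats 0 in
theorem cD11A_35_2 : bsCount 256 board2 923321976359911649372045883250774293 984818244535754528103549039458486304 = 7165 := by
  decide +kernel

set_option maxRecDepth 1000000 in
set_option maxHeartbeats 0 in
theorem cD11A_35_3 : bsCount 256 board3 923321976359911649372045883250774293 984818244535754528103549039458486304 = 8162 := by
  decide +kernel

end Cfsg.Agent.Lib.Helper13.OctBS
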