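import Cfsg.Agent.Lib.Helper13.OctCnt11Ax2
import Cfsg.Agent.Lib.Helper13.OctBoard0
import Cfsg.Agent.Lib.Helper13.OctBoard1
import Cfsg.Agent.Lib.Helper13.OctBoard2
import Cfsg.Agent.Lib.Helper13.OctBoard3

/-! Kernel computation of the bit-sliced counts for entries 36 to 41 of the table `D11A`. -/

set_option Elab.async false

namespace Cfsg.Agent.Lib.Helper13.OctBS

set_option maxRecDepth 1000000 in
set_option maxHeartbeats 0 in
theorem cD11A_36_0 : bsCount 256 board0 29191835075329014572219967686816971 984818244535754528103549039458486304 = 7534 := by
  decide +kernel

set_option maxRecDepth 1000000 in
set_option maxHeartbeats 0 in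
theorem cD11A_36_1 : bsCount 256 board1 29191835075329014572219967686816971 984818244535754528103549039458486304 = 7600 := by
  decide +kernel

set_option maxRecDepth 1000000 in
set_option maxHeartbeats 0 in
theorem cD11A_36_2 : bsCount 256 board2 29191835075329014572219967686816971 984818244535754528103549039458486304 = 7590 := by
  decide +kernel

set_option maxRecDepth 1000000 in
set_option maxHeartbeats 0 in
theorem cD11A_36_3 : bsCount 256 board3 29191835075329014572219967686816971 984818244535754528103549039458486304 = 7596 := by
  decide +kernel

set_option maxRecDepth 1000000 in
set_option maxHeartbeats 0 in
theorem cD11A_37_0 : bsCount 256 board0 854516596382584832845702497280838984 984818244535754528103549039458486304 = 5526 := by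
  decide +kernel

set_option maxRecDepth 1000000 in
set_option maxHeartbeats 0 in
theorem cD11A_37_1 : bsCount 256 board1 854516596382584832845702497280838984 984818244535754528103549039458486304 = 5421 := by
  decide +kernel

set_option maxRecDepth 1000000 in
set_option maxHeartbeats 0 in
theorem cD11A_37_2 : bsCount 256 board2 854516596382584832845702497280838984 984818244535754528103549039458486304 = 5483 := by
  decide +kernel

set_option maxRecDepth 1000000 in
set_option maxHeartbeats 0 in
theorem cD11A_37_3 : bsCount 256 board3 854516596382584832845702497280838984 984818244535754528103549039458486304 = 5562 := by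
  decide +kernel

set_option maxRecDepth 1000000 in
set_option maxHeartbeats 0 in
theorem cD11A_38_0 : bsCount 256 board0 561117601897832467903192711433803825 984818244535754528103549039458486304 = 8593 := by
  decide +kernel

set_option maxRecDepth 1000000 in
set_option maxHeartbeats 0 in
theorem cD11A_38_1 : bsCount 256 board1 561117601897832467903192711433803825 984818244535754528103549039458486304 = 8290 := by
  decide +kernel

set_option maxRecDepth 1000000 in
set_option maxHeartbeats 0 in
theorem cD11A_38_2 : bsCount 256 board2 561117601897832467903192711433803825 984818244535754528103549039458486304 = 8350 := by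
  decide +kernel

set_option maxRecDepth 1000000 in
set_option maxHeartbeats 0 in
theorem cD11A_38_3 : bsCount 256 board3 561117601897832467903192711433803825 984818244535754528103549039458486304 = 8365 := by
  decide +kernel

set_option maxRecDepth 1000000 in
set_option maxHeartbeats 0 in
theorem cD11A_39_0 : bsCount 256 board0 889437577434576741989987565675093655 984818244535754528103549039458486304 = 8773 := by
  decide +kernel

set_option maxRecDepth 1000000 in
set_option maxHeartbeats 0 in
theorem cD11A_39_1 : bsCount 256 board1 889437577434576741989987565675093655 984818244535754528103549039458486304 = 7740 := by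
  decide +kernel

set_option maxRecDepth 1000000 in
set_option maxHeartbeats 0 in
theorem cD11A_39_2 : bsCount 256 board2 889437577434576741989987565675093655 984818244535754528103549039458486304 = 6790 := by
  decide +kernel

set_option maxRecDepth 1000000 in
set_option maxHeartbeats 0 in
theorem cD11A_39_3 : bsCount 256 board3 889437577434576741989987565675093655 984818244535754528103549039458486304 = 7665 := by
  decide +kernel

set_option maxRecDepth 1000000 in
set_option maxHeartbeats 0 in
theorem cD11A_40_0 : bsCount 256 board0 155338284685028422948247448565666344 984818244535754528103549039458486304 = 8338 := by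
  decide +kernel

set_option maxRecDepth 1000000 in
set_option maxHeartbeats 0 in
theorem cD11A_40_1 : bsCount 256 board1 155338284685028422948247448565666344 984818244535754528103549039458486304 = 8133 := by
  decide +kernel

set_option maxRecDepth 1000000 in
set_option maxHeartbeats 0 in
theorem cD11A_40_2 : bsCount 256 board2 155338284685028422948247448565666344 984818244535754528103549039458486304 = 8254 := by
  decide +kernel

set_option maxRecDepth 1000000 in
set_option maxHeartbeats 0 in
theorem cD11A_40_3 : bsCount 256 board3 155338284685028422948247448565666344 984818244535754528103549039458486304 = 8655 := by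
  decide +kernel

set_option maxRecDepth 1000000 in
set_option maxHeartbeats 0 in
theorem cD11A_41_0 : bsCount 256 board0 837395233502137024992076346747471367 984818244535754528103549039458486304 = 7501 := by
  decide +kernel

set_option maxRecDepth 1000000 in
set_option maxHeartbeats 0 in
theorem cD11A_41_1 : bsCount 256 board1 837395233502137024992076346747471367 984818244535754528103549039458486304 = 7585 := by
  decide +kernel

set_option maxRecDepth 1000000 in
set_option maxHeartbeats 0 in
theorem cD11A_41_2 : bsCount 256 board2 837395233502137024992076346747471367 984818244535754528103549039458486304 = 7553 := by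
  decide +kernel

set_option maxRecDepth 1000000 in
set_option maxHeartbeats 0 in
theorem cD11A_41_3 : bsCount 256 board3 837395233502137024992076346747471367 984818244535754528103549039458486304 = 7489 := by
  decide +kernel

end Cfsg.Agent.Lib.Helper13.OctBS
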