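import Cfsg.Agent.Lib.Helper13.OctCnt11Ax3
import Cfsg.Agent.Lib.Helper13.OctBoard0
import Cfsg.Agent.Lib.Helper13.OctBoard1
import Cfsg.Agent.Lib.Helper13.OctBoard2
import Cfsg.Agent.Lib.Helper13.OctBoard3

/-! Kernel computation of the bit-sliced counts for entries 42 to 47 of the table `D11A`. -/

set_option Elab.async false

namespace Cfsg.Agent.Lib.Helper13.OctBS

set_option maxRecDepth 1000000 in
set_option maxHeartbeats 0 in
theorem cD11A_42_0 : bsCount 256 board0 294242506699893838100941861073134092 984818244535754528103549039458486304 = 7685 := by
  decide +kernel

set_option maxRecDepth 1000000 in
set_option maxHeartbeats 0 in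
theorem cD11A_42_1 : bsCount 256 board1 294242506699893838100941861073134092 984818244535754528103549039458486304 = 7712 := by
  decide +kernel

set_option maxRecDepth 1000000 in
set_option maxHeartbeats 0 in
theorem cD11A_42_2 : bsCount 256 board2 294242506699893838100941861073134092 984818244535754528103549039458486304 = 7518 := by
  decide +kernel

set_option maxRecDepth 1000000 in
set_option maxHeartbeats 0 in
theorem cD11A_42_3 : bsCount 256 board3 294242506699893838100941861073134092 984818244535754528103549039458486304 = 7683 := by
  decide +kernel

set_option maxRecDepth 1000000 in
set_option maxHeartbeats 0 in
theorem cD11A_43_0 : bsCount 256 board0 105768973320965083840374505601338826 984818244535754528103549039458486304 = 8507 := by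
  decide +kernel

set_option maxRecDepth 1000000 in
set_option maxHeartbeats 0 in
theorem cD11A_43_1 : bsCount 256 board1 105768973320965083840374505601338826 984818244535754528103549039458486304 = 8335 := by
  decide +kernel

set_option maxRecDepth 1000000 in
set_option maxHeartbeats 0 in
theorem cD11A_43_2 : bsCount 256 board2 105768973320965083840374505601338826 984818244535754528103549039458486304 = 8207 := by
  decide +kernel

set_option maxRecDepth 1000000 in
set_option maxHeartbeats 0 in
theorem cD11A_43_3 : bsCount 256 board3 105768973320965083840374505601338826 984818244535754528103549039458486304 = 8549 := by
  decide +kernel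

set_option maxRecDepth 1000000 in
set_option maxHeartbeats 0 in
theorem cD11A_44_0 : bsCount 256 board0 561628978722790063906999476046337746 984818244535754528103549039458486304 = 7949 := by
  decide +kernel

set_option maxRecDepth 1000000 in
set_option maxHeartbeats 0 in
theorem cD11A_44_1 : bsCount 256 board1 561628978722790063906999476046337746 984818244535754528103549039458486304 = 8504 := by
  decide +kernel

set_option maxRecDepth 1000000 in
set_option maxHeartbeats 0 in
theorem cD11A_44_2 : bsCount 256 board2 561628978722790063906999476046337746 984818244535754528103549039458486304 = 8261 := by
  decide +kernel

set_option maxRecDepth 1000000 in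
set_option maxHeartbeats 0 in
theorem cD11A_44_3 : bsCount 256 board3 561628978722790063906999476046337746 984818244535754528103549039458486304 = 7984 := by
  decide +kernel

set_option maxRecDepth 1000000 in
set_option maxHeartbeats 0 in
theorem cD11A_45_0 : bsCount 256 board0 346001603181961482376179793649154119 984818244535754528103549039458486304 = 7438 := by
  decide +kernel

set_option maxRecDepth 1000000 in
set_option maxHeartbeats 0 in
theorem cD11A_45_1 : bsCount 256 board1 346001603181961482376179793649154119 984818244535754528103549039458486304 = 7528 := by
  decide +kernel

set_option maxRecDepth 1000000 in
set_option maxHeartbeats 0 in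
theorem cD11A_45_2 : bsCount 256 board2 346001603181961482376179793649154119 984818244535754528103549039458486304 = 7509 := by
  decide +kernel

set_option maxRecDepth 1000000 in
set_option maxHeartbeats 0 in
theorem cD11A_45_3 : bsCount 256 board3 346001603181961482376179793649154119 984818244535754528103549039458486304 = 7507 := by
  decide +kernel

set_option maxRecDepth 1000000 in
set_option maxHeartbeats 0 in
theorem cD11A_46_0 : bsCount 256 board0 966458893152608197175344138679393298 984818244535754528103549039458486304 = 8033 := by
  decide +kernel

set_option maxRecDepth 1000000 in
set_option maxHeartbeats 0 in
theorem cD11A_46_1 : bsCount 256 board1 966458893152608197175344138679393298 984818244535754528103549039458486304 = 8139 := by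
  decide +kernel

set_option maxRecDepth 1000000 in
set_option maxHeartbeats 0 in
theorem cD11A_46_2 : bsCount 256 board2 966458893152608197175344138679393298 984818244535754528103549039458486304 = 7579 := by
  decide +kernel

set_option maxRecDepth 1000000 in
set_option maxHeartbeats 0 in
theorem cD11A_46_3 : bsCount 256 board3 966458893152608197175344138679393298 984818244535754528103549039458486304 = 9909 := by
  decide +kernel

set_option maxRecDepth 1000000 in
set_option maxHeartbeats 0 in
theorem cD11A_47_0 : bsCount 256 board0 971594653052567925299794772694743146 984818244535754528103549039458486304 = 7812 := by
  decide +kernel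

set_option maxRecDepth 1000000 in
set_option maxHeartbeats 0 in
theorem cD11A_47_1 : bsCount 256 board1 971594653052567925299794772694743146 984818244535754528103549039458486304 = 7447 := by
  decide +kernel

set_option maxRecDepth 1000000 in
set_option maxHeartbeats 0 in
theorem cD11A_47_2 : bsCount 256 board2 971594653052567925299794772694743146 984818244535754528103549039458486304 = 8425 := by
  decide +kernel

set_option maxRecDepth 1000000 in
set_option maxHeartbeats 0 in
theorem cD11A_47_3 : bsCount 256 board3 971594653052567925299794772694743146 984818244535754528103549039458486304 = 9762 := by
  decide +kernel

end Cfsg.Agent.Lib.Helper13.OctBS
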