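import Cfsg.Agent.Lib.Helper13.OctCnt11Ax4
import Cfsg.Agent.Lib.Helper13.OctBoard0
import Cfsg.Agent.Lib.Helper13.OctBoard1
import Cfsg.Agent.Lib.Helper13.OctBoard2
import Cfsg.Agent.Lib.Helper13.OctBoard3

/-! Kernel computation of the bit-sliced counts for entries 48 to 53 of the table `D11A`. -/

set_option Elab.async false

namespace Cfsg.Agent.Lib.Helper13.OctBS

set_option maxRecDepth 1000000 in
set_option maxHeartbeats 0 in
theorem cD11A_48_0 : bsCount 256 board0 359937522679899926132722048559188480 984818244535754528103549039458486304 = 8339 := by
  decide +kernel

set_option maxRecDepth 1000000 in
set_option maxHeartbeats 0 in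
theorem cD11A_48_1 : bsCount 256 board1 359937522679899926132722048559188480 984818244535754528103549039458486304 = 8027 := by
  decide +kernel

set_option maxRecDepth 1000000 in
set_option maxHeartbeats 0 in
theorem cD11A_48_2 : bsCount 256 board2 359937522679899926132722048559188480 984818244535754528103549039458486304 = 9059 := by
  decide +kernel

set_option maxRecDepth 1000000 in
set_option maxHeartbeats 0 in
theorem cD11A_48_3 : bsCount 256 board3 359937522679899926132722048559188480 984818244535754528103549039458486304 = 8539 := by
  decide +kernel

set_option maxRecDepth 1000000 in
set_option maxHeartbeats 0 in
theorem cD11A_49_0 : bsCount 256 board0 963902086064985697741069880574726693 984818244535754528103549039458486304 = 7441 := by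
  decide +kernel

set_option maxRecDepth 1000000 in
set_option maxHeartbeats 0 in
theorem cD11A_49_1 : bsCount 256 board1 963902086064985697741069880574726693 984818244535754528103549039458486304 = 8443 := by
  decide +kernel

set_option maxRecDepth 1000000 in
set_option maxHeartbeats 0 in
theorem cD11A_49_2 : bsCount 256 board2 963902086064985697741069880574726693 984818244535754528103549039458486304 = 7902 := by
  decide +kernel

set_option maxRecDepth 1000000 in
set_option maxHeartbeats 0 in
theorem cD11A_49_3 : bsCount 256 board3 963902086064985697741069880574726693 984818244535754528103549039458486304 = 9812 := by
  decide +kernel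

set_option maxRecDepth 1000000 in
set_option maxHeartbeats 0 in
theorem cD11A_50_0 : bsCount 256 board0 389000281008627388608129093282605805 984818244535754528103549039458486304 = 9541 := by
  decide +kernel

set_option maxRecDepth 1000000 in
set_option maxHeartbeats 0 in
theorem cD11A_50_1 : bsCount 256 board1 389000281008627388608129093282605805 984818244535754528103549039458486304 = 7685 := by
  decide +kernel

set_option maxRecDepth 1000000 in
set_option maxHeartbeats 0 in
theorem cD11A_50_2 : bsCount 256 board2 389000281008627388608129093282605805 984818244535754528103549039458486304 = 8070 := by
  decide +kernel

set_option maxRecDepth 1000000 in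
set_option maxHeartbeats 0 in
theorem cD11A_50_3 : bsCount 256 board3 389000281008627388608129093282605805 984818244535754528103549039458486304 = 8302 := by
  decide +kernel

set_option maxRecDepth 1000000 in
set_option maxHeartbeats 0 in
theorem cD11A_51_0 : bsCount 256 board0 962057206539031778257213458359632274 984818244535754528103549039458486304 = 7825 := by
  decide +kernel

set_option maxRecDepth 1000000 in
set_option maxHeartbeats 0 in
theorem cD11A_51_1 : bsCount 256 board1 962057206539031778257213458359632274 984818244535754528103549039458486304 = 6414 := by
  decide +kernel

set_option maxRecDepth 1000000 in
set_option maxHeartbeats 0 in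
theorem cD11A_51_2 : bsCount 256 board2 962057206539031778257213458359632274 984818244535754528103549039458486304 = 7812 := by
  decide +kernel

set_option maxRecDepth 1000000 in
set_option maxHeartbeats 0 in
theorem cD11A_51_3 : bsCount 256 board3 962057206539031778257213458359632274 984818244535754528103549039458486304 = 9225 := by
  decide +kernel

set_option maxRecDepth 1000000 in
set_option maxHeartbeats 0 in
theorem cD11A_52_0 : bsCount 256 board0 510416035083776505696808204744918720 984818244535754528103549039458486304 = 8519 := by
  decide +kernel

set_option maxRecDepth 1000000 in
set_option maxHeartbeats 0 in
theorem cD11A_52_1 : bsCount 256 board1 510416035083776505696808204744918720 984818244535754528103549039458486304 = 8539 := by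
  decide +kernel

set_option maxRecDepth 1000000 in
set_option maxHeartbeats 0 in
theorem cD11A_52_2 : bsCount 256 board2 510416035083776505696808204744918720 984818244535754528103549039458486304 = 8526 := by
  decide +kernel

set_option maxRecDepth 1000000 in
set_option maxHeartbeats 0 in
theorem cD11A_52_3 : bsCount 256 board3 510416035083776505696808204744918720 984818244535754528103549039458486304 = 8014 := by
  decide +kernel

set_option maxRecDepth 1000000 in
set_option maxHeartbeats 0 in
theorem cD11A_53_0 : bsCount 256 board0 972349236009891144898893078430056788 984818244535754528103549039458486304 = 8698 := by
  decide +kernel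

set_option maxRecDepth 1000000 in
set_option maxHeartbeats 0 in
theorem cD11A_53_1 : bsCount 256 board1 972349236009891144898893078430056788 984818244535754528103549039458486304 = 6994 := by
  decide +kernel

set_option maxRecDepth 1000000 in
set_option maxHeartbeats 0 in
theorem cD11A_53_2 : bsCount 256 board2 972349236009891144898893078430056788 984818244535754528103549039458486304 = 8275 := by
  decide +kernel

set_option maxRecDepth 1000000 in
set_option maxHeartbeats 0 in
theorem cD11A_53_3 : bsCount 256 board3 972349236009891144898893078430056788 984818244535754528103549039458486304 = 10013 := by
  decide +kernel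

end Cfsg.Agent.Lib.Helper13.OctBS
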