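import Cfsg.Agent.Lib.Helper13.OctCnt11Ax5
import Cfsg.Agent.Lib.Helper13.OctBoard0
import Cfsg.Agent.Lib.Helper13.OctBoard1
import Cfsg.Agent.Lib.Helper13.OctBoard2
import Cfsg.Agent.Lib.Helper13.OctBoard3

/-! Kernel computation of the bit-sliced counts for entries 54 to 59 of the table `D11A`. -/

set_option Elab.async false

namespace Cfsg.Agent.Lib.Helper13.OctBS

set_option maxRecDepth 1000000 in
set_option maxHeartbeats 0 in
theorem cD11A_54_0 : bsCount 256 board0 552339614771181992072216746424514944 984818244535754528103549039458486304 = 7767 := by
  decide +kernel

set_option maxRecDepth 1000000 in
set_option maxHeartbeats 0 in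
theorem cD11A_54_1 : bsCount 256 board1 552339614771181992072216746424514944 984818244535754528103549039458486304 = 7874 := by
  decide +kernel

set_option maxRecDepth 1000000 in
set_option maxHeartbeats 0 in
theorem cD11A_54_2 : bsCount 256 board2 552339614771181992072216746424514944 984818244535754528103549039458486304 = 7689 := by
  decide +kernel

set_option maxRecDepth 1000000 in
set_option maxHeartbeats 0 in
theorem cD11A_54_3 : bsCount 256 board3 552339614771181992072216746424514944 984818244535754528103549039458486304 = 7638 := by
  decide +kernel

set_option maxRecDepth 1000000 in
set_option maxHeartbeats 0 in
theorem cD11A_55_0 : bsCount 256 board0 473208000036319937222150001980988928 984818244535754528103549039458486304 = 8387 := by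
  decide +kernel

set_option maxRecDepth 1000000 in
set_option maxHeartbeats 0 in
theorem cD11A_55_1 : bsCount 256 board1 473208000036319937222150001980988928 984818244535754528103549039458486304 = 9035 := by
  decide +kernel

set_option maxRecDepth 1000000 in
set_option maxHeartbeats 0 in
theorem cD11A_55_2 : bsCount 256 board2 473208000036319937222150001980988928 984818244535754528103549039458486304 = 8125 := by
  decide +kernel

set_option maxRecDepth 1000000 in
set_option maxHeartbeats 0 in
theorem cD11A_55_3 : bsCount 256 board3 473208000036319937222150001980988928 984818244535754528103549039458486304 = 8433 := by
  decide +kernel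

set_option maxRecDepth 1000000 in
set_option maxHeartbeats 0 in
theorem cD11A_56_0 : bsCount 256 board0 929549271210773604492853066831567912 984818244535754528103549039458486304 = 7555 := by
  decide +kernel

set_option maxRecDepth 1000000 in
set_option maxHeartbeats 0 in
theorem cD11A_56_1 : bsCount 256 board1 929549271210773604492853066831567912 984818244535754528103549039458486304 = 7774 := by
  decide +kernel

set_option maxRecDepth 1000000 in
set_option maxHeartbeats 0 in
theorem cD11A_56_2 : bsCount 256 board2 929549271210773604492853066831567912 984818244535754528103549039458486304 = 7628 := by
  decide +kernel

set_option maxRecDepth 1000000 in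
set_option maxHeartbeats 0 in
theorem cD11A_56_3 : bsCount 256 board3 929549271210773604492853066831567912 984818244535754528103549039458486304 = 7727 := by
  decide +kernel

set_option maxRecDepth 1000000 in
set_option maxHeartbeats 0 in
theorem cD11A_57_0 : bsCount 256 board0 277110134907630146993045441616033168 984818244535754528103549039458486304 = 7857 := by
  decide +kernel

set_option maxRecDepth 1000000 in
set_option maxHeartbeats 0 in
theorem cD11A_57_1 : bsCount 256 board1 277110134907630146993045441616033168 984818244535754528103549039458486304 = 7834 := by
  decide +kernel

set_option maxRecDepth 1000000 in
set_option maxHeartbeats 0 in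
theorem cD11A_57_2 : bsCount 256 board2 277110134907630146993045441616033168 984818244535754528103549039458486304 = 7785 := by
  decide +kernel

set_option maxRecDepth 1000000 in
set_option maxHeartbeats 0 in
theorem cD11A_57_3 : bsCount 256 board3 277110134907630146993045441616033168 984818244535754528103549039458486304 = 7760 := by
  decide +kernel

set_option maxRecDepth 1000000 in
set_option maxHeartbeats 0 in
theorem cD11A_58_0 : bsCount 256 board0 362671235721015000634286021387763755 984818244535754528103549039458486304 = 7634 := by
  decide +kernel

set_option maxRecDepth 1000000 in
set_option maxHeartbeats 0 in
theorem cD11A_58_1 : bsCount 256 board1 362671235721015000634286021387763755 984818244535754528103549039458486304 = 7803 := by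
  decide +kernel

set_option maxRecDepth 1000000 in
set_option maxHeartbeats 0 in
theorem cD11A_58_2 : bsCount 256 board2 362671235721015000634286021387763755 984818244535754528103549039458486304 = 7659 := by
  decide +kernel

set_option maxRecDepth 1000000 in
set_option maxHeartbeats 0 in
theorem cD11A_58_3 : bsCount 256 board3 362671235721015000634286021387763755 984818244535754528103549039458486304 = 7872 := by
  decide +kernel

set_option maxRecDepth 1000000 in
set_option maxHeartbeats 0 in
theorem cD11A_59_0 : bsCount 256 board0 346768777377797317504922285833238567 984818244535754528103549039458486304 = 8020 := by
  decide +kernel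

set_option maxRecDepth 1000000 in
set_option maxHeartbeats 0 in
theorem cD11A_59_1 : bsCount 256 board1 346768777377797317504922285833238567 984818244535754528103549039458486304 = 7871 := by
  decide +kernel

set_option maxRecDepth 1000000 in
set_option maxHeartbeats 0 in
theorem cD11A_59_2 : bsCount 256 board2 346768777377797317504922285833238567 984818244535754528103549039458486304 = 9502 := by
  decide +kernel

set_option maxRecDepth 1000000 in
set_option maxHeartbeats 0 in
theorem cD11A_59_3 : bsCount 256 board3 346768777377797317504922285833238567 984818244535754528103549039458486304 = 8819 := by
  decide +kernel

end Cfsg.Agent.Lib.Helper13.OctBS
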