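import Cfsg.Agent.Lib.Helper13.OctCnt11Ax8
import Cfsg.Agent.Lib.Helper13.OctBoard0
import Cfsg.Agent.Lib.Helper13.OctBoard1
import Cfsg.Agent.Lib.Helper13.OctBoard2
import Cfsg.Agent.Lib.Helper13.OctBoard3

/-! Kernel computation of the bit-sliced counts for entries 0 to 5 of the table `D15A`. -/

set_option Elab.async false

namespace Cfsg.Agent.Lib.Helper13.OctBS

set_option maxRecDepth 1000000 in
set_option maxHeartbeats 0 in
theorem cD15A_0_0 : bsCount 256 board0 936156744159052693680946300409357332 984818244535754528103549039458486304 = 7691 := by
  decide +kernel

set_option maxRecDepth 1000000 in
set_option maxHeartbeats 0 in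
theorem cD15A_0_1 : bsCount 256 board1 936156744159052693680946300409357332 984818244535754528103549039458486304 = 7686 := by
  decide +kernel

set_option maxRecDepth 1000000 in
set_option maxHeartbeats 0 in
theorem cD15A_0_2 : bsCount 256 board2 936156744159052693680946300409357332 984818244535754528103549039458486304 = 7716 := by
  decide +kernel

set_option maxRecDepth 1000000 in
set_option maxHeartbeats 0 in
theorem cD15A_0_3 : bsCount 256 board3 936156744159052693680946300409357332 984818244535754528103549039458486304 = 7505 := by
  decide +kernel

set_option maxRecDepth 1000000 in
set_option maxHeartbeats 0 in
theorem cD15A_1_0 : bsCount 256 board0 442666578131023947370370754613918806 984818244535754528103549039458486304 = 8072 := by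
  decide +kernel

set_option maxRecDepth 1000000 in
set_option maxHeartbeats 0 in
theorem cD15A_1_1 : bsCount 256 board1 442666578131023947370370754613918806 984818244535754528103549039458486304 = 8194 := by
  decide +kernel

set_option maxRecDepth 1000000 in
set_option maxHeartbeats 0 in
theorem cD15A_1_2 : bsCount 256 board2 442666578131023947370370754613918806 984818244535754528103549039458486304 = 8394 := by
  decide +kernel

set_option maxRecDepth 1000000 in
set_option maxHeartbeats 0 in
theorem cD15A_1_3 : bsCount 256 board3 442666578131023947370370754613918806 984818244535754528103549039458486304 = 8038 := by
  decide +kernel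

set_option maxRecDepth 1000000 in
set_option maxHeartbeats 0 in
theorem cD15A_2_0 : bsCount 256 board0 666053467923776007010536976022919620 984818244535754528103549039458486304 = 7575 := by
  decide +kernel

set_option maxRecDepth 1000000 in
set_option maxHeartbeats 0 in
theorem cD15A_2_1 : bsCount 256 board1 666053467923776007010536976022919620 984818244535754528103549039458486304 = 7623 := by
  decide +kernel

set_option maxRecDepth 1000000 in
set_option maxHeartbeats 0 in
theorem cD15A_2_2 : bsCount 256 board2 666053467923776007010536976022919620 984818244535754528103549039458486304 = 7514 := by
  decide +kernel

set_option maxRecDepth 1000000 in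
set_option maxHeartbeats 0 in
theorem cD15A_2_3 : bsCount 256 board3 666053467923776007010536976022919620 984818244535754528103549039458486304 = 7604 := by
  decide +kernel

set_option maxRecDepth 1000000 in
set_option maxHeartbeats 0 in
theorem cD15A_3_0 : bsCount 256 board0 756090974691723325746896616929527140 984818244535754528103549039458486304 = 7655 := by
  decide +kernel

set_option maxRecDepth 1000000 in
set_option maxHeartbeats 0 in
theorem cD15A_3_1 : bsCount 256 board1 756090974691723325746896616929527140 984818244535754528103549039458486304 = 7667 := by
  decide +kernel

set_option maxRecDepth 1000000 in
set_option maxHeartbeats 0 in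
theorem cD15A_3_2 : bsCount 256 board2 756090974691723325746896616929527140 984818244535754528103549039458486304 = 7651 := by
  decide +kernel

set_option maxRecDepth 1000000 in
set_option maxHeartbeats 0 in
theorem cD15A_3_3 : bsCount 256 board3 756090974691723325746896616929527140 984818244535754528103549039458486304 = 7637 := by
  decide +kernel

set_option maxRecDepth 1000000 in
set_option maxHeartbeats 0 in
theorem cD15A_4_0 : bsCount 256 board0 251101665008999291327386202265798147 984818244535754528103549039458486304 = 7619 := by
  decide +kernel

set_option maxRecDepth 1000000 in
set_option maxHeartbeats 0 in
theorem cD15A_4_1 : bsCount 256 board1 251101665008999291327386202265798147 984818244535754528103549039458486304 = 7660 := by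
  decide +kernel

set_option maxRecDepth 1000000 in
set_option maxHeartbeats 0 in
theorem cD15A_4_2 : bsCount 256 board2 251101665008999291327386202265798147 984818244535754528103549039458486304 = 7665 := by
  decide +kernel

set_option maxRecDepth 1000000 in
set_option maxHeartbeats 0 in
theorem cD15A_4_3 : bsCount 256 board3 251101665008999291327386202265798147 984818244535754528103549039458486304 = 7654 := by
  decide +kernel

set_option maxRecDepth 1000000 in
set_option maxHeartbeats 0 in
theorem cD15A_5_0 : bsCount 256 board0 610143729537701099898719606567780356 984818244535754528103549039458486304 = 7903 := by
  decide +kernel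

set_option maxRecDepth 1000000 in
set_option maxHeartbeats 0 in
theorem cD15A_5_1 : bsCount 256 board1 610143729537701099898719606567780356 984818244535754528103549039458486304 = 7920 := by
  decide +kernel

set_option maxRecDepth 1000000 in
set_option maxHeartbeats 0 in
theorem cD15A_5_2 : bsCount 256 board2 610143729537701099898719606567780356 984818244535754528103549039458486304 = 9438 := by
  decide +kernel

set_option maxRecDepth 1000000 in
set_option maxHeartbeats 0 in
theorem cD15A_5_3 : bsCount 256 board3 610143729537701099898719606567780356 984818244535754528103549039458486304 = 7461 := by
  decide +kernel

end Cfsg.Agent.Lib.Helper13.OctBS
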