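import Cfsg.Agent.Lib.Helper13.OctCnt11Ax9
import Cfsg.Agent.Lib.Helper13.OctBoard0
import Cfsg.Agent.Lib.Helper13.OctBoard1
import Cfsg.Agent.Lib.Helper13.OctBoard2
import Cfsg.Agent.Lib.Helper13.OctBoard3

/-! Kernel computation of the bit-sliced counts for entries 6 to 11 of the table `D15A`. -/

set_option Elab.async false

namespace Cfsg.Agent.Lib.Helper13.OctBS

set_option maxRecDepth 1000000 in
set_option maxHeartbeats 0 in
theorem cD15A_6_0 : bsCount 256 board0 252289475132134749017801361299384483 984818244535754528103549039458486304 = 8279 := by
  decide +kernel

set_option maxRecDepth 1000000 in
set_option maxHeartbeats 0 in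
theorem cD15A_6_1 : bsCount 256 board1 252289475132134749017801361299384483 984818244535754528103549039458486304 = 8092 := by
  decide +kernel

set_option maxRecDepth 1000000 in
set_option maxHeartbeats 0 in
theorem cD15A_6_2 : bsCount 256 board2 252289475132134749017801361299384483 984818244535754528103549039458486304 = 7933 := by
  decide +kernel

set_option maxRecDepth 1000000 in
set_option maxHeartbeats 0 in
theorem cD15A_6_3 : bsCount 256 board3 252289475132134749017801361299384483 984818244535754528103549039458486304 = 8010 := by
  decide +kernel

set_option maxRecDepth 1000000 in
set_option maxHeartbeats 0 in
theorem cD15A_7_0 : bsCount 256 board0 344013331426212327087470321997401283 984818244535754528103549039458486304 = 8012 := by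
  decide +kernel

set_option maxRecDepth 1000000 in
set_option maxHeartbeats 0 in
theorem cD15A_7_1 : bsCount 256 board1 344013331426212327087470321997401283 984818244535754528103549039458486304 = 8234 := by
  decide +kernel

set_option maxRecDepth 1000000 in
set_option maxHeartbeats 0 in
theorem cD15A_7_2 : bsCount 256 board2 344013331426212327087470321997401283 984818244535754528103549039458486304 = 8937 := by
  decide +kernel

set_option maxRecDepth 1000000 in
set_option maxHeartbeats 0 in
theorem cD15A_7_3 : bsCount 256 board3 344013331426212327087470321997401283 984818244535754528103549039458486304 = 8197 := by
  decide +kernel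

set_option maxRecDepth 1000000 in
set_option maxHeartbeats 0 in
theorem cD15A_8_0 : bsCount 256 board0 22844975358032477285371461852577415 984818244535754528103549039458486304 = 7715 := by
  decide +kernel

set_option maxRecDepth 1000000 in
set_option maxHeartbeats 0 in
theorem cD15A_8_1 : bsCount 256 board1 22844975358032477285371461852577415 984818244535754528103549039458486304 = 7586 := by
  decide +kernel

set_option maxRecDepth 1000000 in
set_option maxHeartbeats 0 in
theorem cD15A_8_2 : bsCount 256 board2 22844975358032477285371461852577415 984818244535754528103549039458486304 = 7523 := by
  decide +kernel

set_option maxRecDepth 1000000 in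
set_option maxHeartbeats 0 in
theorem cD15A_8_3 : bsCount 256 board3 22844975358032477285371461852577415 984818244535754528103549039458486304 = 7590 := by
  decide +kernel

set_option maxRecDepth 1000000 in
set_option maxHeartbeats 0 in
theorem cD15A_9_0 : bsCount 256 board0 380687545346933976121366472224806915 984818244535754528103549039458486304 = 7360 := by
  decide +kernel

set_option maxRecDepth 1000000 in
set_option maxHeartbeats 0 in
theorem cD15A_9_1 : bsCount 256 board1 380687545346933976121366472224806915 984818244535754528103549039458486304 = 7511 := by
  decide +kernel

set_option maxRecDepth 1000000 in
set_option maxHeartbeats 0 in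
theorem cD15A_9_2 : bsCount 256 board2 380687545346933976121366472224806915 984818244535754528103549039458486304 = 7584 := by
  decide +kernel

set_option maxRecDepth 1000000 in
set_option maxHeartbeats 0 in
theorem cD15A_9_3 : bsCount 256 board3 380687545346933976121366472224806915 984818244535754528103549039458486304 = 7527 := by
  decide +kernel

set_option maxRecDepth 1000000 in
set_option maxHeartbeats 0 in
theorem cD15A_10_0 : bsCount 256 board0 360337833344023414711676340400374149 984818244535754528103549039458486304 = 7507 := by
  decide +kernel

set_option maxRecDepth 1000000 in
set_option maxHeartbeats 0 in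
theorem cD15A_10_1 : bsCount 256 board1 360337833344023414711676340400374149 984818244535754528103549039458486304 = 7477 := by
  decide +kernel

set_option maxRecDepth 1000000 in
set_option maxHeartbeats 0 in
theorem cD15A_10_2 : bsCount 256 board2 360337833344023414711676340400374149 984818244535754528103549039458486304 = 7544 := by
  decide +kernel

set_option maxRecDepth 1000000 in
set_option maxHeartbeats 0 in
theorem cD15A_10_3 : bsCount 256 board3 360337833344023414711676340400374149 984818244535754528103549039458486304 = 7510 := by
  decide +kernel

set_option maxRecDepth 1000000 in
set_option maxHeartbeats 0 in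
theorem cD15A_11_0 : bsCount 256 board0 812166240532321282961515023253459120 984818244535754528103549039458486304 = 7583 := by
  decide +kernel

set_option maxRecDepth 1000000 in
set_option maxHeartbeats 0 in
theorem cD15A_11_1 : bsCount 256 board1 812166240532321282961515023253459120 984818244535754528103549039458486304 = 7594 := by
  decide +kernel

set_option maxRecDepth 1000000 in
set_option maxHeartbeats 0 in
theorem cD15A_11_2 : bsCount 256 board2 812166240532321282961515023253459120 984818244535754528103549039458486304 = 7651 := by
  decide +kernel

set_option maxRecDepth 1000000 in
set_option maxHeartbeats 0 in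
theorem cD15A_11_3 : bsCount 256 board3 812166240532321282961515023253459120 984818244535754528103549039458486304 = 7648 := by
  decide +kernel

end Cfsg.Agent.Lib.Helper13.OctBS
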