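import Cfsg.Agent.Lib.Helper13.OctCnt11Ax10
import Cfsg.Agent.Lib.Helper13.OctBoard0
import Cfsg.Agent.Lib.Helper13.OctBoard1
import Cfsg.Agent.Lib.Helper13.OctBoard2
import Cfsg.Agent.Lib.Helper13.OctBoard3

/-! Kernel computation of the bit-sliced counts for entries 12 to 17 of the table `D15A`. -/

set_option Elab.async false

namespace Cfsg.Agent.Lib.Helper13.OctBS

set_option maxRecDepth 1000000 in
set_option maxHeartbeats 0 in
theorem cD15A_12_0 : bsCount 256 board0 587590684077516297714067932806775085 984818244535754528103549039458486304 = 7768 := by
  decide +kernel

set_option maxRecDepth 1000000 in
set_option maxHeartbeats 0 in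
theorem cD15A_12_1 : bsCount 256 board1 587590684077516297714067932806775085 984818244535754528103549039458486304 = 7929 := by
  decide +kernel

set_option maxRecDepth 1000000 in
set_option maxHeartbeats 0 in
theorem cD15A_12_2 : bsCount 256 board2 587590684077516297714067932806775085 984818244535754528103549039458486304 = 8405 := by
  decide +kernel

set_option maxRecDepth 1000000 in
set_option maxHeartbeats 0 in
theorem cD15A_12_3 : bsCount 256 board3 587590684077516297714067932806775085 984818244535754528103549039458486304 = 8184 := by
  decide +kernel

set_option maxRecDepth 1000000 in
set_option maxHeartbeats 0 in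
theorem cD15A_13_0 : bsCount 256 board0 527264990330569339949462296477274578 984818244535754528103549039458486304 = 7539 := by
  decide +kernel

set_option maxRecDepth 1000000 in
set_option maxHeartbeats 0 in
theorem cD15A_13_1 : bsCount 256 board1 527264990330569339949462296477274578 984818244535754528103549039458486304 = 7450 := by
  decide +kernel

set_option maxRecDepth 1000000 in
set_option maxHeartbeats 0 in
theorem cD15A_13_2 : bsCount 256 board2 527264990330569339949462296477274578 984818244535754528103549039458486304 = 7489 := by
  decide +kernel

set_option maxRecDepth 1000000 in
set_option maxHeartbeats 0 in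
theorem cD15A_13_3 : bsCount 256 board3 527264990330569339949462296477274578 984818244535754528103549039458486304 = 7650 := by
  decide +kernel

set_option maxRecDepth 1000000 in
set_option maxHeartbeats 0 in
theorem cD15A_14_0 : bsCount 256 board0 919708519179617629131401234762649218 984818244535754528103549039458486304 = 7689 := by
  decide +kernel

set_option maxRecDepth 1000000 in
set_option maxHeartbeats 0 in
theorem cD15A_14_1 : bsCount 256 board1 919708519179617629131401234762649218 984818244535754528103549039458486304 = 7652 := by
  decide +kernel

set_option maxRecDepth 1000000 in
set_option maxHeartbeats 0 in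
theorem cD15A_14_2 : bsCount 256 board2 919708519179617629131401234762649218 984818244535754528103549039458486304 = 7654 := by
  decide +kernel

set_option maxRecDepth 1000000 in
set_option maxHeartbeats 0 in
theorem cD15A_14_3 : bsCount 256 board3 919708519179617629131401234762649218 984818244535754528103549039458486304 = 7603 := by
  decide +kernel

set_option maxRecDepth 1000000 in
set_option maxHeartbeats 0 in
theorem cD15A_15_0 : bsCount 256 board0 710634285317760857923458354849960978 984818244535754528103549039458486304 = 7531 := by
  decide +kernel

set_option maxRecDepth 1000000 in
set_option maxHeartbeats 0 in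
theorem cD15A_15_1 : bsCount 256 board1 710634285317760857923458354849960978 984818244535754528103549039458486304 = 7692 := by
  decide +kernel

set_option maxRecDepth 1000000 in
set_option maxHeartbeats 0 in
theorem cD15A_15_2 : bsCount 256 board2 710634285317760857923458354849960978 984818244535754528103549039458486304 = 7892 := by
  decide +kernel

set_option maxRecDepth 1000000 in
set_option maxHeartbeats 0 in
theorem cD15A_15_3 : bsCount 256 board3 710634285317760857923458354849960978 984818244535754528103549039458486304 = 7495 := by
  decide +kernel

set_option maxRecDepth 1000000 in
set_option maxHeartbeats 0 in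
theorem cD15A_16_0 : bsCount 256 board0 71523781252462583945622811679630772 984818244535754528103549039458486304 = 7629 := by
  decide +kernel

set_option maxRecDepth 1000000 in
set_option maxHeartbeats 0 in
theorem cD15A_16_1 : bsCount 256 board1 71523781252462583945622811679630772 984818244535754528103549039458486304 = 7546 := by
  decide +kernel

set_option maxRecDepth 1000000 in
set_option maxHeartbeats 0 in
theorem cD15A_16_2 : bsCount 256 board2 71523781252462583945622811679630772 984818244535754528103549039458486304 = 7421 := by
  decide +kernel

set_option maxRecDepth 1000000 in
set_option maxHeartbeats 0 in
theorem cD15A_16_3 : bsCount 256 board3 71523781252462583945622811679630772 984818244535754528103549039458486304 = 7454 := by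
  decide +kernel

set_option maxRecDepth 1000000 in
set_option maxHeartbeats 0 in
theorem cD15A_17_0 : bsCount 256 board0 917255561034894236880410589802070757 984818244535754528103549039458486304 = 8855 := by
  decide +kernel

set_option maxRecDepth 1000000 in
set_option maxHeartbeats 0 in
theorem cD15A_17_1 : bsCount 256 board1 917255561034894236880410589802070757 984818244535754528103549039458486304 = 7950 := by
  decide +kernel

set_option maxRecDepth 1000000 in
set_option maxHeartbeats 0 in
theorem cD15A_17_2 : bsCount 256 board2 917255561034894236880410589802070757 984818244535754528103549039458486304 = 8330 := by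
  decide +kernel

set_option maxRecDepth 1000000 in
set_option maxHeartbeats 0 in
theorem cD15A_17_3 : bsCount 256 board3 917255561034894236880410589802070757 984818244535754528103549039458486304 = 8201 := by
  decide +kernel

end Cfsg.Agent.Lib.Helper13.OctBS
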