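import Cfsg.Agent.Lib.Helper13.OctCnt11Ax11
import Cfsg.Agent.Lib.Helper13.OctBoard0
import Cfsg.Agent.Lib.Helper13.OctBoard1
import Cfsg.Agent.Lib.Helper13.OctBoard2
import Cfsg.Agent.Lib.Helper13.OctBoard3

/-! Kernel computation of the bit-sliced counts for entries 18 to 23 of the table `D15A`. -/

set_option Elab.async false

namespace Cfsg.Agent.Lib.Helper13.OctBS

set_option maxRecDepth 1000000 in
set_option maxHeartbeats 0 in
theorem cD15A_18_0 : bsCount 256 board0 859942849302111390712982062969297458 984818244535754528103549039458486304 = 7593 := by
  decide +kernel

set_option maxRecDepth 1000000 in
set_option maxHeartbeats 0 in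
theorem cD15A_18_1 : bsCount 256 board1 859942849302111390712982062969297458 984818244535754528103549039458486304 = 7453 := by
  decide +kernel

set_option maxRecDepth 1000000 in
set_option maxHeartbeats 0 in
theorem cD15A_18_2 : bsCount 256 board2 859942849302111390712982062969297458 984818244535754528103549039458486304 = 7542 := by
  decide +kernel

set_option maxRecDepth 1000000 in
set_option maxHeartbeats 0 in
theorem cD15A_18_3 : bsCount 256 board3 859942849302111390712982062969297458 984818244535754528103549039458486304 = 7550 := by
  decide +kernel

set_option maxRecDepth 1000000 in
set_option maxHeartbeats 0 in
theorem cD15A_19_0 : bsCount 256 board0 404403662531469532310433618907514949 984818244535754528103549039458486304 = 8459 := by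
  decide +kernel

set_option maxRecDepth 1000000 in
set_option maxHeartbeats 0 in
theorem cD15A_19_1 : bsCount 256 board1 404403662531469532310433618907514949 984818244535754528103549039458486304 = 7886 := by
  decide +kernel

set_option maxRecDepth 1000000 in
set_option maxHeartbeats 0 in
theorem cD15A_19_2 : bsCount 256 board2 404403662531469532310433618907514949 984818244535754528103549039458486304 = 8120 := by
  decide +kernel

set_option maxRecDepth 1000000 in
set_option maxHeartbeats 0 in
theorem cD15A_19_3 : bsCount 256 board3 404403662531469532310433618907514949 984818244535754528103549039458486304 = 8291 := by
  decide +kernel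

set_option maxRecDepth 1000000 in
set_option maxHeartbeats 0 in
theorem cD15A_20_0 : bsCount 256 board0 209531851880820089332516151471227334 984818244535754528103549039458486304 = 8303 := by
  decide +kernel

set_option maxRecDepth 1000000 in
set_option maxHeartbeats 0 in
theorem cD15A_20_1 : bsCount 256 board1 209531851880820089332516151471227334 984818244535754528103549039458486304 = 8043 := by
  decide +kernel

set_option maxRecDepth 1000000 in
set_option maxHeartbeats 0 in
theorem cD15A_20_2 : bsCount 256 board2 209531851880820089332516151471227334 984818244535754528103549039458486304 = 8462 := by
  decide +kernel

set_option maxRecDepth 1000000 in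
set_option maxHeartbeats 0 in
theorem cD15A_20_3 : bsCount 256 board3 209531851880820089332516151471227334 984818244535754528103549039458486304 = 8528 := by
  decide +kernel

set_option maxRecDepth 1000000 in
set_option maxHeartbeats 0 in
theorem cD15A_21_0 : bsCount 256 board0 540895308552183382424602031952570613 984818244535754528103549039458486304 = 5570 := by
  decide +kernel

set_option maxRecDepth 1000000 in
set_option maxHeartbeats 0 in
theorem cD15A_21_1 : bsCount 256 board1 540895308552183382424602031952570613 984818244535754528103549039458486304 = 5631 := by
  decide +kernel

set_option maxRecDepth 1000000 in
set_option maxHeartbeats 0 in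
theorem cD15A_21_2 : bsCount 256 board2 540895308552183382424602031952570613 984818244535754528103549039458486304 = 5558 := by
  decide +kernel

set_option maxRecDepth 1000000 in
set_option maxHeartbeats 0 in
theorem cD15A_21_3 : bsCount 256 board3 540895308552183382424602031952570613 984818244535754528103549039458486304 = 5565 := by
  decide +kernel

set_option maxRecDepth 1000000 in
set_option maxHeartbeats 0 in
theorem cD15A_22_0 : bsCount 256 board0 940521957359973291603948046241633603 984818244535754528103549039458486304 = 7658 := by
  decide +kernel

set_option maxRecDepth 1000000 in
set_option maxHeartbeats 0 in
theorem cD15A_22_1 : bsCount 256 board1 940521957359973291603948046241633603 984818244535754528103549039458486304 = 7721 := by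
  decide +kernel

set_option maxRecDepth 1000000 in
set_option maxHeartbeats 0 in
theorem cD15A_22_2 : bsCount 256 board2 940521957359973291603948046241633603 984818244535754528103549039458486304 = 8173 := by
  decide +kernel

set_option maxRecDepth 1000000 in
set_option maxHeartbeats 0 in
theorem cD15A_22_3 : bsCount 256 board3 940521957359973291603948046241633603 984818244535754528103549039458486304 = 8888 := by
  decide +kernel

set_option maxRecDepth 1000000 in
set_option maxHeartbeats 0 in
theorem cD15A_23_0 : bsCount 256 board0 555723060374014666250334221474672328 984818244535754528103549039458486304 = 7513 := by
  decide +kernel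

set_option maxRecDepth 1000000 in
set_option maxHeartbeats 0 in
theorem cD15A_23_1 : bsCount 256 board1 555723060374014666250334221474672328 984818244535754528103549039458486304 = 7444 := by
  decide +kernel

set_option maxRecDepth 1000000 in
set_option maxHeartbeats 0 in
theorem cD15A_23_2 : bsCount 256 board2 555723060374014666250334221474672328 984818244535754528103549039458486304 = 7527 := by
  decide +kernel

set_option maxRecDepth 1000000 in
set_option maxHeartbeats 0 in
theorem cD15A_23_3 : bsCount 256 board3 555723060374014666250334221474672328 984818244535754528103549039458486304 = 7566 := by
  decide +kernel

end Cfsg.Agent.Lib.Helper13.OctBS
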