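import Cfsg.Agent.Lib.Helper13.OctCnt15Ax0
import Cfsg.Agent.Lib.Helper13.OctBoard0
import Cfsg.Agent.Lib.Helper13.OctBoard1
import Cfsg.Agent.Lib.Helper13.OctBoard2
import Cfsg.Agent.Lib.Helper13.OctBoard3

/-! Kernel computation of the bit-sliced counts for entries 24 to 29 of the table `D15A`. -/

set_option Elab.async false

namespace Cfsg.Agent.Lib.Helper13.OctBS

set_option maxRecDepth 1000000 in
set_option maxHeartbeats 0 in
theorem cD15A_24_0 : bsCount 256 board0 927029796950346511504405819341151692 984818244535754528103549039458486304 = 6679 := by
  decide +kernel

set_option maxRecDepth 1000000 in
set_option maxHeartbeats 0 in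
theorem cD15A_24_1 : bsCount 256 board1 927029796950346511504405819341151692 984818244535754528103549039458486304 = 7802 := by
  decide +kernel

set_option maxRecDepth 1000000 in
set_option maxHeartbeats 0 in
theorem cD15A_24_2 : bsCount 256 board2 927029796950346511504405819341151692 984818244535754528103549039458486304 = 8317 := by
  decide +kernel

set_option maxRecDepth 1000000 in
set_option maxHeartbeats 0 in
theorem cD15A_24_3 : bsCount 256 board3 927029796950346511504405819341151692 984818244535754528103549039458486304 = 7616 := by
  decide +kernel

set_option maxRecDepth 1000000 in
set_option maxHeartbeats 0 in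
theorem cD15A_25_0 : bsCount 256 board0 469480072334064311234003103699830308 984818244535754528103549039458486304 = 7539 := by
  decide +kernel

set_option maxRecDepth 1000000 in
set_option maxHeartbeats 0 in
theorem cD15A_25_1 : bsCount 256 board1 469480072334064311234003103699830308 984818244535754528103549039458486304 = 7498 := by
  decide +kernel

set_option maxRecDepth 1000000 in
set_option maxHeartbeats 0 in
theorem cD15A_25_2 : bsCount 256 board2 469480072334064311234003103699830308 984818244535754528103549039458486304 = 7516 := by
  decide +kernel

set_option maxRecDepth 1000000 in
set_option maxHeartbeats 0 in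
theorem cD15A_25_3 : bsCount 256 board3 469480072334064311234003103699830308 984818244535754528103549039458486304 = 7485 := by
  decide +kernel

set_option maxRecDepth 1000000 in
set_option maxHeartbeats 0 in
theorem cD15A_26_0 : bsCount 256 board0 319834610789425518192043049222352293 984818244535754528103549039458486304 = 7713 := by
  decide +kernel

set_option maxRecDepth 1000000 in
set_option maxHeartbeats 0 in
theorem cD15A_26_1 : bsCount 256 board1 319834610789425518192043049222352293 984818244535754528103549039458486304 = 7703 := by
  decide +kernel

set_option maxRecDepth 1000000 in
set_option maxHeartbeats 0 in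
theorem cD15A_26_2 : bsCount 256 board2 319834610789425518192043049222352293 984818244535754528103549039458486304 = 7562 := by
  decide +kernel

set_option maxRecDepth 1000000 in
set_option maxHeartbeats 0 in
theorem cD15A_26_3 : bsCount 256 board3 319834610789425518192043049222352293 984818244535754528103549039458486304 = 7620 := by
  decide +kernel

set_option maxRecDepth 1000000 in
set_option maxHeartbeats 0 in
theorem cD15A_27_0 : bsCount 256 board0 97870236323977244222895588010335757 984818244535754528103549039458486304 = 7478 := by
  decide +kernel

set_option maxRecDepth 1000000 in
set_option maxHeartbeats 0 in
theorem cD15A_27_1 : bsCount 256 board1 97870236323977244222895588010335757 984818244535754528103549039458486304 = 8498 := by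
  decide +kernel

set_option maxRecDepth 1000000 in
set_option maxHeartbeats 0 in
theorem cD15A_27_2 : bsCount 256 board2 97870236323977244222895588010335757 984818244535754528103549039458486304 = 7418 := by
  decide +kernel

set_option maxRecDepth 1000000 in
set_option maxHeartbeats 0 in
theorem cD15A_27_3 : bsCount 256 board3 97870236323977244222895588010335757 984818244535754528103549039458486304 = 6016 := by
  decide +kernel

set_option maxRecDepth 1000000 in
set_option maxHeartbeats 0 in
theorem cD15A_28_0 : bsCount 256 board0 551769011265357876153067043532983398 984818244535754528103549039458486304 = 6746 := by
  decide +kernel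

set_option maxRecDepth 1000000 in
set_option maxHeartbeats 0 in
theorem cD15A_28_1 : bsCount 256 board1 551769011265357876153067043532983398 984818244535754528103549039458486304 = 7629 := by
  decide +kernel

set_option maxRecDepth 1000000 in
set_option maxHeartbeats 0 in
theorem cD15A_28_2 : bsCount 256 board2 551769011265357876153067043532983398 984818244535754528103549039458486304 = 8025 := by
  decide +kernel

set_option maxRecDepth 1000000 in
set_option maxHeartbeats 0 in
theorem cD15A_28_3 : bsCount 256 board3 551769011265357876153067043532983398 984818244535754528103549039458486304 = 8210 := by
  decide +kernel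

set_option maxRecDepth 1000000 in
set_option maxHeartbeats 0 in
theorem cD15A_29_0 : bsCount 256 board0 125475117008841605496179563252302212 984818244535754528103549039458486304 = 7651 := by
  decide +kernel

set_option maxRecDepth 1000000 in
set_option maxHeartbeats 0 in
theorem cD15A_29_1 : bsCount 256 board1 125475117008841605496179563252302212 984818244535754528103549039458486304 = 7750 := by
  decide +kernel

set_option maxRecDepth 1000000 in
set_option maxHeartbeats 0 in
theorem cD15A_29_2 : bsCount 256 board2 125475117008841605496179563252302212 984818244535754528103549039458486304 = 7589 := by
  decide +kernel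

set_option maxRecDepth 1000000 in
set_option maxHeartbeats 0 in
theorem cD15A_29_3 : bsCount 256 board3 125475117008841605496179563252302212 984818244535754528103549039458486304 = 7620 := by
  decide +kernel

end Cfsg.Agent.Lib.Helper13.OctBS
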