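import Cfsg.Agent.Lib.Helper13.OctCnt15Ax1
import Cfsg.Agent.Lib.Helper13.OctBoard0
import Cfsg.Agent.Lib.Helper13.OctBoard1
import Cfsg.Agent.Lib.Helper13.OctBoard2
import Cfsg.Agent.Lib.Helper13.OctBoard3

/-! Kernel computation of the bit-sliced counts for entries 30 to 35 of the table `D15A`. -/

set_option Elab.async false

namespace Cfsg.Agent.Lib.Helper13.OctBS

set_option maxRecDepth 1000000 in
set_option maxHeartbeats 0 in
theorem cD15A_30_0 : bsCount 256 board0 502989226517156857864450428289853143 984818244535754528103549039458486304 = 8561 := by
  decide +kernel

set_option maxRecDepth 1000000 in
set_option maxHeartbeats 0 in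
theorem cD15A_30_1 : bsCount 256 board1 502989226517156857864450428289853143 984818244535754528103549039458486304 = 7379 := by
  decide +kernel

set_option maxRecDepth 1000000 in
set_option maxHeartbeats 0 in
theorem cD15A_30_2 : bsCount 256 board2 502989226517156857864450428289853143 984818244535754528103549039458486304 = 6797 := by
  decide +kernel

set_option maxRecDepth 1000000 in
set_option maxHeartbeats 0 in
theorem cD15A_30_3 : bsCount 256 board3 502989226517156857864450428289853143 984818244535754528103549039458486304 = 7579 := by
  decide +kernel

set_option maxRecDepth 1000000 in
set_option maxHeartbeats 0 in
theorem cD15A_31_0 : bsCount 256 board0 521396742335937555249119342726851031 984818244535754528103549039458486304 = 8896 := by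
  decide +kernel

set_option maxRecDepth 1000000 in
set_option maxHeartbeats 0 in
theorem cD15A_31_1 : bsCount 256 board1 521396742335937555249119342726851031 984818244535754528103549039458486304 = 8324 := by
  decide +kernel

set_option maxRecDepth 1000000 in
set_option maxHeartbeats 0 in
theorem cD15A_31_2 : bsCount 256 board2 521396742335937555249119342726851031 984818244535754528103549039458486304 = 6945 := by
  decide +kernel

set_option maxRecDepth 1000000 in
set_option maxHeartbeats 0 in
theorem cD15A_31_3 : bsCount 256 board3 521396742335937555249119342726851031 984818244535754528103549039458486304 = 8557 := by
  decide +kernel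

set_option maxRecDepth 1000000 in
set_option maxHeartbeats 0 in
theorem cD15A_32_0 : bsCount 256 board0 486877479878934382283903380678168853 984818244535754528103549039458486304 = 7623 := by
  decide +kernel

set_option maxRecDepth 1000000 in
set_option maxHeartbeats 0 in
theorem cD15A_32_1 : bsCount 256 board1 486877479878934382283903380678168853 984818244535754528103549039458486304 = 7607 := by
  decide +kernel

set_option maxRecDepth 1000000 in
set_option maxHeartbeats 0 in
theorem cD15A_32_2 : bsCount 256 board2 486877479878934382283903380678168853 984818244535754528103549039458486304 = 7554 := by
  decide +kernel

set_option maxRecDepth 1000000 in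
set_option maxHeartbeats 0 in
theorem cD15A_32_3 : bsCount 256 board3 486877479878934382283903380678168853 984818244535754528103549039458486304 = 7536 := by
  decide +kernel

set_option maxRecDepth 1000000 in
set_option maxHeartbeats 0 in
theorem cD15A_33_0 : bsCount 256 board0 627843537039798879249853592374991206 984818244535754528103549039458486304 = 5454 := by
  decide +kernel

set_option maxRecDepth 1000000 in
set_option maxHeartbeats 0 in
theorem cD15A_33_1 : bsCount 256 board1 627843537039798879249853592374991206 984818244535754528103549039458486304 = 5495 := by
  decide +kernel

set_option maxRecDepth 1000000 in
set_option maxHeartbeats 0 in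
theorem cD15A_33_2 : bsCount 256 board2 627843537039798879249853592374991206 984818244535754528103549039458486304 = 5577 := by
  decide +kernel

set_option maxRecDepth 1000000 in
set_option maxHeartbeats 0 in
theorem cD15A_33_3 : bsCount 256 board3 627843537039798879249853592374991206 984818244535754528103549039458486304 = 5346 := by
  decide +kernel

set_option maxRecDepth 1000000 in
set_option maxHeartbeats 0 in
theorem cD15A_34_0 : bsCount 256 board0 551845839577076227322647873978850868 984818244535754528103549039458486304 = 8106 := by
  decide +kernel

set_option maxRecDepth 1000000 in
set_option maxHeartbeats 0 in
theorem cD15A_34_1 : bsCount 256 board1 551845839577076227322647873978850868 984818244535754528103549039458486304 = 8706 := by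
  decide +kernel

set_option maxRecDepth 1000000 in
set_option maxHeartbeats 0 in
theorem cD15A_34_2 : bsCount 256 board2 551845839577076227322647873978850868 984818244535754528103549039458486304 = 8401 := by
  decide +kernel

set_option maxRecDepth 1000000 in
set_option maxHeartbeats 0 in
theorem cD15A_34_3 : bsCount 256 board3 551845839577076227322647873978850868 984818244535754528103549039458486304 = 8167 := by
  decide +kernel

set_option maxRecDepth 1000000 in
set_option maxHeartbeats 0 in
theorem cD15A_35_0 : bsCount 256 board0 610875105090693187494258654112177329 984818244535754528103549039458486304 = 6116 := by
  decide +kernel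

set_option maxRecDepth 1000000 in
set_option maxHeartbeats 0 in
theorem cD15A_35_1 : bsCount 256 board1 610875105090693187494258654112177329 984818244535754528103549039458486304 = 6295 := by
  decide +kernel

set_option maxRecDepth 1000000 in
set_option maxHeartbeats 0 in
theorem cD15A_35_2 : bsCount 256 board2 610875105090693187494258654112177329 984818244535754528103549039458486304 = 5791 := by
  decide +kernel

set_option maxRecDepth 1000000 in
set_option maxHeartbeats 0 in
theorem cD15A_35_3 : bsCount 256 board3 610875105090693187494258654112177329 984818244535754528103549039458486304 = 5914 := by
  decide +kernel

end Cfsg.Agent.Lib.Helper13.OctBS
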