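import Cfsg.Agent.Lib.Helper13.OctCnt15Ax2
import Cfsg.Agent.Lib.Helper13.OctBoard0
import Cfsg.Agent.Lib.Helper13.OctBoard1
import Cfsg.Agent.Lib.Helper13.OctBoard2
import Cfsg.Agent.Lib.Helper13.OctBoard3

/-! Kernel computation of the bit-sliced counts for entries 36 to 41 of the table `D15A`. -/

set_option Elab.async false

namespace Cfsg.Agent.Lib.Helper13.OctBS

set_option maxRecDepth 1000000 in
set_option maxHeartbeats 0 in
theorem cD15A_36_0 : bsCount 256 board0 964816920432101962142100776341363021 984818244535754528103549039458486304 = 7613 := by
  decide +kernel

set_option maxRecDepth 1000000 in
set_option maxHeartbeats 0 in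
theorem cD15A_36_1 : bsCount 256 board1 964816920432101962142100776341363021 984818244535754528103549039458486304 = 7353 := by
  decide +kernel

set_option maxRecDepth 1000000 in
set_option maxHeartbeats 0 in
theorem cD15A_36_2 : bsCount 256 board2 964816920432101962142100776341363021 984818244535754528103549039458486304 = 7083 := by
  decide +kernel

set_option maxRecDepth 1000000 in
set_option maxHeartbeats 0 in
theorem cD15A_36_3 : bsCount 256 board3 964816920432101962142100776341363021 984818244535754528103549039458486304 = 9187 := by
  decide +kernel

set_option maxRecDepth 1000000 in
set_option maxHeartbeats 0 in
theorem cD15A_37_0 : bsCount 256 board0 983435743492087961323740738775767342 984818244535754528103549039458486304 = 7898 := by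
  decide +kernel

set_option maxRecDepth 1000000 in
set_option maxHeartbeats 0 in
theorem cD15A_37_1 : bsCount 256 board1 983435743492087961323740738775767342 984818244535754528103549039458486304 = 7976 := by
  decide +kernel

set_option maxRecDepth 1000000 in
set_option maxHeartbeats 0 in
theorem cD15A_37_2 : bsCount 256 board2 983435743492087961323740738775767342 984818244535754528103549039458486304 = 8228 := by
  decide +kernel

set_option maxRecDepth 1000000 in
set_option maxHeartbeats 0 in
theorem cD15A_37_3 : bsCount 256 board3 983435743492087961323740738775767342 984818244535754528103549039458486304 = 9496 := by
  decide +kernel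

set_option maxRecDepth 1000000 in
set_option maxHeartbeats 0 in
theorem cD15A_38_0 : bsCount 256 board0 362676624951716140293689566438144096 984818244535754528103549039458486304 = 8698 := by
  decide +kernel

set_option maxRecDepth 1000000 in
set_option maxHeartbeats 0 in
theorem cD15A_38_1 : bsCount 256 board1 362676624951716140293689566438144096 984818244535754528103549039458486304 = 8627 := by
  decide +kernel

set_option maxRecDepth 1000000 in
set_option maxHeartbeats 0 in
theorem cD15A_38_2 : bsCount 256 board2 362676624951716140293689566438144096 984818244535754528103549039458486304 = 8117 := by
  decide +kernel

set_option maxRecDepth 1000000 in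
set_option maxHeartbeats 0 in
theorem cD15A_38_3 : bsCount 256 board3 362676624951716140293689566438144096 984818244535754528103549039458486304 = 8156 := by
  decide +kernel

set_option maxRecDepth 1000000 in
set_option maxHeartbeats 0 in
theorem cD15A_39_0 : bsCount 256 board0 971260280680476665890634426176525381 984818244535754528103549039458486304 = 7143 := by
  decide +kernel

set_option maxRecDepth 1000000 in
set_option maxHeartbeats 0 in
theorem cD15A_39_1 : bsCount 256 board1 971260280680476665890634426176525381 984818244535754528103549039458486304 = 7772 := by
  decide +kernel

set_option maxRecDepth 1000000 in
set_option maxHeartbeats 0 in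
theorem cD15A_39_2 : bsCount 256 board2 971260280680476665890634426176525381 984818244535754528103549039458486304 = 8291 := by
  decide +kernel

set_option maxRecDepth 1000000 in
set_option maxHeartbeats 0 in
theorem cD15A_39_3 : bsCount 256 board3 971260280680476665890634426176525381 984818244535754528103549039458486304 = 9948 := by
  decide +kernel

set_option maxRecDepth 1000000 in
set_option maxHeartbeats 0 in
theorem cD15A_40_0 : bsCount 256 board0 304503871532491900377360343923742795 984818244535754528103549039458486304 = 7760 := by
  decide +kernel

set_option maxRecDepth 1000000 in
set_option maxHeartbeats 0 in
theorem cD15A_40_1 : bsCount 256 board1 304503871532491900377360343923742795 984818244535754528103549039458486304 = 7764 := by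
  decide +kernel

set_option maxRecDepth 1000000 in
set_option maxHeartbeats 0 in
theorem cD15A_40_2 : bsCount 256 board2 304503871532491900377360343923742795 984818244535754528103549039458486304 = 7744 := by
  decide +kernel

set_option maxRecDepth 1000000 in
set_option maxHeartbeats 0 in
theorem cD15A_40_3 : bsCount 256 board3 304503871532491900377360343923742795 984818244535754528103549039458486304 = 7700 := by
  decide +kernel

set_option maxRecDepth 1000000 in
set_option maxHeartbeats 0 in
theorem cD15A_41_0 : bsCount 256 board0 608162594140985889165394963609015885 984818244535754528103549039458486304 = 7698 := by
  decide +kernel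

set_option maxRecDepth 1000000 in
set_option maxHeartbeats 0 in
theorem cD15A_41_1 : bsCount 256 board1 608162594140985889165394963609015885 984818244535754528103549039458486304 = 7639 := by
  decide +kernel

set_option maxRecDepth 1000000 in
set_option maxHeartbeats 0 in
theorem cD15A_41_2 : bsCount 256 board2 608162594140985889165394963609015885 984818244535754528103549039458486304 = 7925 := by
  decide +kernel

set_option maxRecDepth 1000000 in
set_option maxHeartbeats 0 in
theorem cD15A_41_3 : bsCount 256 board3 608162594140985889165394963609015885 984818244535754528103549039458486304 = 7706 := by
  decide +kernel

end Cfsg.Agent.Lib.Helper13.OctBS
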