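import Cfsg.Agent.Lib.Helper13.OctCnt15Ax3
import Cfsg.Agent.Lib.Helper13.OctBoard0
import Cfsg.Agent.Lib.Helper13.OctBoard1
import Cfsg.Agent.Lib.Helper13.OctBoard2
import Cfsg.Agent.Lib.Helper13.OctBoard3

/-! Kernel computation of the bit-sliced counts for entries 42 to 47 of the table `D15A`. -/

set_option Elab.async false

namespace Cfsg.Agent.Lib.Helper13.OctBS

set_option maxRecDepth 1000000 in
set_option maxHeartbeats 0 in
theorem cD15A_42_0 : bsCount 256 board0 670056358112480457414334255040517472 984818244535754528103549039458486304 = 7723 := by
  decide +kernel

set_option maxRecDepth 1000000 in
set_option maxHeartbeats 0 in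
theorem cD15A_42_1 : bsCount 256 board1 670056358112480457414334255040517472 984818244535754528103549039458486304 = 7777 := by
  decide +kernel

set_option maxRecDepth 1000000 in
set_option maxHeartbeats 0 in
theorem cD15A_42_2 : bsCount 256 board2 670056358112480457414334255040517472 984818244535754528103549039458486304 = 7700 := by
  decide +kernel

set_option maxRecDepth 1000000 in
set_option maxHeartbeats 0 in
theorem cD15A_42_3 : bsCount 256 board3 670056358112480457414334255040517472 984818244535754528103549039458486304 = 7484 := by
  decide +kernel

set_option maxRecDepth 1000000 in
set_option maxHeartbeats 0 in
theorem cD15A_43_0 : bsCount 256 board0 609491685079722293661711799407063328 984818244535754528103549039458486304 = 7810 := by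
  decide +kernel

set_option maxRecDepth 1000000 in
set_option maxHeartbeats 0 in
theorem cD15A_43_1 : bsCount 256 board1 609491685079722293661711799407063328 984818244535754528103549039458486304 = 9020 := by
  decide +kernel

set_option maxRecDepth 1000000 in
set_option maxHeartbeats 0 in
theorem cD15A_43_2 : bsCount 256 board2 609491685079722293661711799407063328 984818244535754528103549039458486304 = 7448 := by
  decide +kernel

set_option maxRecDepth 1000000 in
set_option maxHeartbeats 0 in
theorem cD15A_43_3 : bsCount 256 board3 609491685079722293661711799407063328 984818244535754528103549039458486304 = 7234 := by
  decide +kernel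

set_option maxRecDepth 1000000 in
set_option maxHeartbeats 0 in
theorem cD15A_44_0 : bsCount 256 board0 397826096158171145966670011227017251 984818244535754528103549039458486304 = 7652 := by
  decide +kernel

set_option maxRecDepth 1000000 in
set_option maxHeartbeats 0 in
theorem cD15A_44_1 : bsCount 256 board1 397826096158171145966670011227017251 984818244535754528103549039458486304 = 7809 := by
  decide +kernel

set_option maxRecDepth 1000000 in
set_option maxHeartbeats 0 in
theorem cD15A_44_2 : bsCount 256 board2 397826096158171145966670011227017251 984818244535754528103549039458486304 = 7786 := by
  decide +kernel

set_option maxRecDepth 1000000 in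
set_option maxHeartbeats 0 in
theorem cD15A_44_3 : bsCount 256 board3 397826096158171145966670011227017251 984818244535754528103549039458486304 = 7721 := by
  decide +kernel

set_option maxRecDepth 1000000 in
set_option maxHeartbeats 0 in
theorem cD15A_45_0 : bsCount 256 board0 335401849328179408634876926349660855 984818244535754528103549039458486304 = 8740 := by
  decide +kernel

set_option maxRecDepth 1000000 in
set_option maxHeartbeats 0 in
theorem cD15A_45_1 : bsCount 256 board1 335401849328179408634876926349660855 984818244535754528103549039458486304 = 7744 := by
  decide +kernel

set_option maxRecDepth 1000000 in
set_option maxHeartbeats 0 in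
theorem cD15A_45_2 : bsCount 256 board2 335401849328179408634876926349660855 984818244535754528103549039458486304 = 6786 := by
  decide +kernel

set_option maxRecDepth 1000000 in
set_option maxHeartbeats 0 in
theorem cD15A_45_3 : bsCount 256 board3 335401849328179408634876926349660855 984818244535754528103549039458486304 = 7698 := by
  decide +kernel

set_option maxRecDepth 1000000 in
set_option maxHeartbeats 0 in
theorem cD15A_46_0 : bsCount 256 board0 355880328832600848611258242495206112 984818244535754528103549039458486304 = 7996 := by
  decide +kernel

set_option maxRecDepth 1000000 in
set_option maxHeartbeats 0 in
theorem cD15A_46_1 : bsCount 256 board1 355880328832600848611258242495206112 984818244535754528103549039458486304 = 7850 := by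
  decide +kernel

set_option maxRecDepth 1000000 in
set_option maxHeartbeats 0 in
theorem cD15A_46_2 : bsCount 256 board2 355880328832600848611258242495206112 984818244535754528103549039458486304 = 7762 := by
  decide +kernel

set_option maxRecDepth 1000000 in
set_option maxHeartbeats 0 in
theorem cD15A_46_3 : bsCount 256 board3 355880328832600848611258242495206112 984818244535754528103549039458486304 = 7628 := by
  decide +kernel

set_option maxRecDepth 1000000 in
set_option maxHeartbeats 0 in
theorem cD15A_47_0 : bsCount 256 board0 974291790074265486388758005096621315 984818244535754528103549039458486304 = 8092 := by
  decide +kernel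

set_option maxRecDepth 1000000 in
set_option maxHeartbeats 0 in
theorem cD15A_47_1 : bsCount 256 board1 974291790074265486388758005096621315 984818244535754528103549039458486304 = 8354 := by
  decide +kernel

set_option maxRecDepth 1000000 in
set_option maxHeartbeats 0 in
theorem cD15A_47_2 : bsCount 256 board2 974291790074265486388758005096621315 984818244535754528103549039458486304 = 7695 := by
  decide +kernel

set_option maxRecDepth 1000000 in
set_option maxHeartbeats 0 in
theorem cD15A_47_3 : bsCount 256 board3 974291790074265486388758005096621315 984818244535754528103549039458486304 = 10071 := by
  decide +kernel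

end Cfsg.Agent.Lib.Helper13.OctBS
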