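import Cfsg.Agent.Lib.Helper13.OctCnt15Ax4
import Cfsg.Agent.Lib.Helper13.OctBoard0
import Cfsg.Agent.Lib.Helper13.OctBoard1
import Cfsg.Agent.Lib.Helper13.OctBoard2
import Cfsg.Agent.Lib.Helper13.OctBoard3

/-! Kernel computation of the bit-sliced counts for entries 48 to 53 of the table `D15A`. -/

set_option Elab.async false

namespace Cfsg.Agent.Lib.Helper13.OctBS

set_option maxRecDepth 1000000 in
set_option maxHeartbeats 0 in
theorem cD15A_48_0 : bsCount 256 board0 388472444553992978278958631530575360 984818244535754528103549039458486304 = 7705 := by
  decide +kernel

set_option maxRecDepth 1000000 in
set_option maxHeartbeats 0 in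
theorem cD15A_48_1 : bsCount 256 board1 388472444553992978278958631530575360 984818244535754528103549039458486304 = 7807 := by
  decide +kernel

set_option maxRecDepth 1000000 in
set_option maxHeartbeats 0 in
theorem cD15A_48_2 : bsCount 256 board2 388472444553992978278958631530575360 984818244535754528103549039458486304 = 7674 := by
  decide +kernel

set_option maxRecDepth 1000000 in
set_option maxHeartbeats 0 in
theorem cD15A_48_3 : bsCount 256 board3 388472444553992978278958631530575360 984818244535754528103549039458486304 = 7498 := by
  decide +kernel

set_option maxRecDepth 1000000 in
set_option maxHeartbeats 0 in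
theorem cD15A_49_0 : bsCount 256 board0 731186360319363424296888977080098976 984818244535754528103549039458486304 = 8558 := by
  decide +kernel

set_option maxRecDepth 1000000 in
set_option maxHeartbeats 0 in
theorem cD15A_49_1 : bsCount 256 board1 731186360319363424296888977080098976 984818244535754528103549039458486304 = 7784 := by
  decide +kernel

set_option maxRecDepth 1000000 in
set_option maxHeartbeats 0 in
theorem cD15A_49_2 : bsCount 256 board2 731186360319363424296888977080098976 984818244535754528103549039458486304 = 8199 := by
  decide +kernel

set_option maxRecDepth 1000000 in
set_option maxHeartbeats 0 in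
theorem cD15A_49_3 : bsCount 256 board3 731186360319363424296888977080098976 984818244535754528103549039458486304 = 8613 := by
  decide +kernel

set_option maxRecDepth 1000000 in
set_option maxHeartbeats 0 in
theorem cD15A_50_0 : bsCount 256 board0 44829406841199374638634584325248224 984818244535754528103549039458486304 = 8767 := by
  decide +kernel

set_option maxRecDepth 1000000 in
set_option maxHeartbeats 0 in
theorem cD15A_50_1 : bsCount 256 board1 44829406841199374638634584325248224 984818244535754528103549039458486304 = 8412 := by
  decide +kernel

set_option maxRecDepth 1000000 in
set_option maxHeartbeats 0 in
theorem cD15A_50_2 : bsCount 256 board2 44829406841199374638634584325248224 984818244535754528103549039458486304 = 8491 := by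
  decide +kernel

set_option maxRecDepth 1000000 in
set_option maxHeartbeats 0 in
theorem cD15A_50_3 : bsCount 256 board3 44829406841199374638634584325248224 984818244535754528103549039458486304 = 8542 := by
  decide +kernel

set_option maxRecDepth 1000000 in
set_option maxHeartbeats 0 in
theorem cD15A_51_0 : bsCount 256 board0 963227480976784951430396954110799271 984818244535754528103549039458486304 = 7594 := by
  decide +kernel

set_option maxRecDepth 1000000 in
set_option maxHeartbeats 0 in
theorem cD15A_51_1 : bsCount 256 board1 963227480976784951430396954110799271 984818244535754528103549039458486304 = 7565 := by
  decide +kernel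

set_option maxRecDepth 1000000 in
set_option maxHeartbeats 0 in
theorem cD15A_51_2 : bsCount 256 board2 963227480976784951430396954110799271 984818244535754528103549039458486304 = 6612 := by
  decide +kernel

set_option maxRecDepth 1000000 in
set_option maxHeartbeats 0 in
theorem cD15A_51_3 : bsCount 256 board3 963227480976784951430396954110799271 984818244535754528103549039458486304 = 9119 := by
  decide +kernel

set_option maxRecDepth 1000000 in
set_option maxHeartbeats 0 in
theorem cD15A_52_0 : bsCount 256 board0 960665570278572172058472957557913190 984818244535754528103549039458486304 = 7615 := by
  decide +kernel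

set_option maxRecDepth 1000000 in
set_option maxHeartbeats 0 in
theorem cD15A_52_1 : bsCount 256 board1 960665570278572172058472957557913190 984818244535754528103549039458486304 = 7351 := by
  decide +kernel

set_option maxRecDepth 1000000 in
set_option maxHeartbeats 0 in
theorem cD15A_52_2 : bsCount 256 board2 960665570278572172058472957557913190 984818244535754528103549039458486304 = 6842 := by
  decide +kernel

set_option maxRecDepth 1000000 in
set_option maxHeartbeats 0 in
theorem cD15A_52_3 : bsCount 256 board3 960665570278572172058472957557913190 984818244535754528103549039458486304 = 9082 := by
  decide +kernel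

set_option maxRecDepth 1000000 in
set_option maxHeartbeats 0 in
theorem cD15A_53_0 : bsCount 256 board0 918233459667455565704974888059807808 984818244535754528103549039458486304 = 8688 := by
  decide +kernel

set_option maxRecDepth 1000000 in
set_option maxHeartbeats 0 in
theorem cD15A_53_1 : bsCount 256 board1 918233459667455565704974888059807808 984818244535754528103549039458486304 = 8247 := by
  decide +kernel

set_option maxRecDepth 1000000 in
set_option maxHeartbeats 0 in
theorem cD15A_53_2 : bsCount 256 board2 918233459667455565704974888059807808 984818244535754528103549039458486304 = 8531 := by
  decide +kernel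

set_option maxRecDepth 1000000 in
set_option maxHeartbeats 0 in
theorem cD15A_53_3 : bsCount 256 board3 918233459667455565704974888059807808 984818244535754528103549039458486304 = 8016 := by
  decide +kernel

end Cfsg.Agent.Lib.Helper13.OctBS
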