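import Cfsg.Agent.Lib.Helper13.OctCnt15Ax5
import Cfsg.Agent.Lib.Helper13.OctBoard0
import Cfsg.Agent.Lib.Helper13.OctBoard1
import Cfsg.Agent.Lib.Helper13.OctBoard2
import Cfsg.Agent.Lib.Helper13.OctBoard3

/-! Kernel computation of the bit-sliced counts for entries 54 to 54 of the table `D15A`. -/

set_option Elab.async false

namespace Cfsg.Agent.Lib.Helper13.OctBS

set_option maxRecDepth 1000000 in
set_option maxHeartbeats 0 in
theorem cD15A_54_0 : bsCount 256 board0 601749113323633362546568672785751648 984818244535754528103549039458486304 = 8227 := by
  decide +kernel

set_option maxRecDepth 1000000 in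
set_option maxHeartbeats 0 in
theorem cD15A_54_1 : bsCount 256 board1 601749113323633362546568672785751648 984818244535754528103549039458486304 = 9332 := by
  decide +kernel

set_option maxRecDepth 1000000 in
set_option maxHeartbeats 0 in
theorem cD15A_54_2 : bsCount 256 board2 601749113323633362546568672785751648 984818244535754528103549039458486304 = 8329 := by
  decide +kernel

set_option maxRecDepth 1000000 in
set_option maxHeartbeats 0 in
theorem cD15A_54_3 : bsCount 256 board3 601749113323633362546568672785751648 984818244535754528103549039458486304 = 7594 := by
  decide +kernel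

end Cfsg.Agent.Lib.Helper13.OctBS
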