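import Cfsg.Agent.Lib.Helper13.OctCnt15Ax6
import Cfsg.Agent.Lib.Helper13.OctBoard0
import Cfsg.Agent.Lib.Helper13.OctBoard1
import Cfsg.Agent.Lib.Helper13.OctBoard2
import Cfsg.Agent.Lib.Helper13.OctBoard3

/-! Kernel computation of the bit-sliced counts for entries 0 to 5 of the table `D21A`. -/

set_option Elab.async false

namespace Cfsg.Agent.Lib.Helper13.OctBS

set_option maxRecDepth 1000000 in
set_option maxHeartbeats 0 in
theorem cD21A_0_0 : bsCount 256 board0 632285949441098350794387914605828276 984818244535754528103549039458486304 = 7611 := by
  decide +kernel

set_option maxRecDepth 1000000 in
set_option maxHeartbeats 0 in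
theorem cD21A_0_1 : bsCount 256 board1 632285949441098350794387914605828276 984818244535754528103549039458486304 = 7575 := by
  decide +kernel

set_option maxRecDepth 1000000 in
set_option maxHeartbeats 0 in
theorem cD21A_0_2 : bsCount 256 board2 632285949441098350794387914605828276 984818244535754528103549039458486304 = 7542 := by
  decide +kernel

set_option maxRecDepth 1000000 in
set_option maxHeartbeats 0 in
theorem cD21A_0_3 : bsCount 256 board3 632285949441098350794387914605828276 984818244535754528103549039458486304 = 7598 := by
  decide +kernel

set_option maxRecDepth 1000000 in
set_option maxHeartbeats 0 in
theorem cD21A_1_0 : bsCount 256 board0 817112493243109081080036954881109462 984818244535754528103549039458486304 = 6609 := by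
  decide +kernel

set_option maxRecDepth 1000000 in
set_option maxHeartbeats 0 in
theorem cD21A_1_1 : bsCount 256 board1 817112493243109081080036954881109462 984818244535754528103549039458486304 = 8542 := by
  decide +kernel

set_option maxRecDepth 1000000 in
set_option maxHeartbeats 0 in
theorem cD21A_1_2 : bsCount 256 board2 817112493243109081080036954881109462 984818244535754528103549039458486304 = 7562 := by
  decide +kernel

set_option maxRecDepth 1000000 in
set_option maxHeartbeats 0 in
theorem cD21A_1_3 : bsCount 256 board3 817112493243109081080036954881109462 984818244535754528103549039458486304 = 7613 := by
  decide +kernel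

set_option maxRecDepth 1000000 in
set_option maxHeartbeats 0 in
theorem cD21A_2_0 : bsCount 256 board0 424084156062784101185529052472100238 984818244535754528103549039458486304 = 8004 := by
  decide +kernel

set_option maxRecDepth 1000000 in
set_option maxHeartbeats 0 in
theorem cD21A_2_1 : bsCount 256 board1 424084156062784101185529052472100238 984818244535754528103549039458486304 = 8375 := by
  decide +kernel

set_option maxRecDepth 1000000 in
set_option maxHeartbeats 0 in
theorem cD21A_2_2 : bsCount 256 board2 424084156062784101185529052472100238 984818244535754528103549039458486304 = 7972 := by
  decide +kernel

set_option maxRecDepth 1000000 in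
set_option maxHeartbeats 0 in
theorem cD21A_2_3 : bsCount 256 board3 424084156062784101185529052472100238 984818244535754528103549039458486304 = 7963 := by
  decide +kernel

set_option maxRecDepth 1000000 in
set_option maxHeartbeats 0 in
theorem cD21A_3_0 : bsCount 256 board0 641909828750172727978881925565307223 984818244535754528103549039458486304 = 8680 := by
  decide +kernel

set_option maxRecDepth 1000000 in
set_option maxHeartbeats 0 in
theorem cD21A_3_1 : bsCount 256 board1 641909828750172727978881925565307223 984818244535754528103549039458486304 = 7644 := by
  decide +kernel

set_option maxRecDepth 1000000 in
set_option maxHeartbeats 0 in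
theorem cD21A_3_2 : bsCount 256 board2 641909828750172727978881925565307223 984818244535754528103549039458486304 = 6727 := by
  decide +kernel

set_option maxRecDepth 1000000 in
set_option maxHeartbeats 0 in
theorem cD21A_3_3 : bsCount 256 board3 641909828750172727978881925565307223 984818244535754528103549039458486304 = 7547 := by
  decide +kernel

set_option maxRecDepth 1000000 in
set_option maxHeartbeats 0 in
theorem cD21A_4_0 : bsCount 256 board0 691883841420025689168066773253872004 984818244535754528103549039458486304 = 7612 := by
  decide +kernel

set_option maxRecDepth 1000000 in
set_option maxHeartbeats 0 in
theorem cD21A_4_1 : bsCount 256 board1 691883841420025689168066773253872004 984818244535754528103549039458486304 = 8695 := by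
  decide +kernel

set_option maxRecDepth 1000000 in
set_option maxHeartbeats 0 in
theorem cD21A_4_2 : bsCount 256 board2 691883841420025689168066773253872004 984818244535754528103549039458486304 = 7239 := by
  decide +kernel

set_option maxRecDepth 1000000 in
set_option maxHeartbeats 0 in
theorem cD21A_4_3 : bsCount 256 board3 691883841420025689168066773253872004 984818244535754528103549039458486304 = 7064 := by
  decide +kernel

set_option maxRecDepth 1000000 in
set_option maxHeartbeats 0 in
theorem cD21A_5_0 : bsCount 256 board0 885347664156563700183412827315324196 984818244535754528103549039458486304 = 7349 := by
  decide +kernel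

set_option maxRecDepth 1000000 in
set_option maxHeartbeats 0 in
theorem cD21A_5_1 : bsCount 256 board1 885347664156563700183412827315324196 984818244535754528103549039458486304 = 7376 := by
  decide +kernel

set_option maxRecDepth 1000000 in
set_option maxHeartbeats 0 in
theorem cD21A_5_2 : bsCount 256 board2 885347664156563700183412827315324196 984818244535754528103549039458486304 = 7327 := by
  decide +kernel

set_option maxRecDepth 1000000 in
set_option maxHeartbeats 0 in
theorem cD21A_5_3 : bsCount 256 board3 885347664156563700183412827315324196 984818244535754528103549039458486304 = 7358 := by
  decide +kernel

end Cfsg.Agent.Lib.Helper13.OctBS
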