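import Cfsg.Agent.Lib.Helper13.OctCnt15Ax7
import Cfsg.Agent.Lib.Helper13.OctBoard0
import Cfsg.Agent.Lib.Helper13.OctBoard1
import Cfsg.Agent.Lib.Helper13.OctBoard2
import Cfsg.Agent.Lib.Helper13.OctBoard3

/-! Kernel computation of the bit-sliced counts for entries 6 to 11 of the table `D21A`. -/

set_option Elab.async false

namespace Cfsg.Agent.Lib.Helper13.OctBS

set_option maxRecDepth 1000000 in
set_option maxHeartbeats 0 in
theorem cD21A_6_0 : bsCount 256 board0 183608241573438696374484922910948515 984818244535754528103549039458486304 = 8397 := by
  decide +kernel

set_option maxRecDepth 1000000 in
set_option maxHeartbeats 0 in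
theorem cD21A_6_1 : bsCount 256 board1 183608241573438696374484922910948515 984818244535754528103549039458486304 = 8018 := by
  decide +kernel

set_option maxRecDepth 1000000 in
set_option maxHeartbeats 0 in
theorem cD21A_6_2 : bsCount 256 board2 183608241573438696374484922910948515 984818244535754528103549039458486304 = 7962 := by
  decide +kernel

set_option maxRecDepth 1000000 in
set_option maxHeartbeats 0 in
theorem cD21A_6_3 : bsCount 256 board3 183608241573438696374484922910948515 984818244535754528103549039458486304 = 7859 := by
  decide +kernel

set_option maxRecDepth 1000000 in
set_option maxHeartbeats 0 in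
theorem cD21A_7_0 : bsCount 256 board0 279698790957203340530416268438754736 984818244535754528103549039458486304 = 7506 := by
  decide +kernel

set_option maxRecDepth 1000000 in
set_option maxHeartbeats 0 in
theorem cD21A_7_1 : bsCount 256 board1 279698790957203340530416268438754736 984818244535754528103549039458486304 = 7513 := by
  decide +kernel

set_option maxRecDepth 1000000 in
set_option maxHeartbeats 0 in
theorem cD21A_7_2 : bsCount 256 board2 279698790957203340530416268438754736 984818244535754528103549039458486304 = 7542 := by
  decide +kernel

set_option maxRecDepth 1000000 in
set_option maxHeartbeats 0 in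
theorem cD21A_7_3 : bsCount 256 board3 279698790957203340530416268438754736 984818244535754528103549039458486304 = 7489 := by
  decide +kernel

set_option maxRecDepth 1000000 in
set_option maxHeartbeats 0 in
theorem cD21A_8_0 : bsCount 256 board0 15070547192757075881346517925343924 984818244535754528103549039458486304 = 7506 := by
  decide +kernel

set_option maxRecDepth 1000000 in
set_option maxHeartbeats 0 in
theorem cD21A_8_1 : bsCount 256 board1 15070547192757075881346517925343924 984818244535754528103549039458486304 = 7327 := by
  decide +kernel

set_option maxRecDepth 1000000 in
set_option maxHeartbeats 0 in
theorem cD21A_8_2 : bsCount 256 board2 15070547192757075881346517925343924 984818244535754528103549039458486304 = 7316 := by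
  decide +kernel

set_option maxRecDepth 1000000 in
set_option maxHeartbeats 0 in
theorem cD21A_8_3 : bsCount 256 board3 15070547192757075881346517925343924 984818244535754528103549039458486304 = 7563 := by
  decide +kernel

set_option maxRecDepth 1000000 in
set_option maxHeartbeats 0 in
theorem cD21A_9_0 : bsCount 256 board0 5829356279782151349260538820593034 984818244535754528103549039458486304 = 8425 := by
  decide +kernel

set_option maxRecDepth 1000000 in
set_option maxHeartbeats 0 in
theorem cD21A_9_1 : bsCount 256 board1 5829356279782151349260538820593034 984818244535754528103549039458486304 = 7519 := by
  decide +kernel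

set_option maxRecDepth 1000000 in
set_option maxHeartbeats 0 in
theorem cD21A_9_2 : bsCount 256 board2 5829356279782151349260538820593034 984818244535754528103549039458486304 = 9081 := by
  decide +kernel

set_option maxRecDepth 1000000 in
set_option maxHeartbeats 0 in
theorem cD21A_9_3 : bsCount 256 board3 5829356279782151349260538820593034 984818244535754528103549039458486304 = 7697 := by
  decide +kernel

set_option maxRecDepth 1000000 in
set_option maxHeartbeats 0 in
theorem cD21A_10_0 : bsCount 256 board0 921289794503477278855048793314038099 984818244535754528103549039458486304 = 5532 := by
  decide +kernel

set_option maxRecDepth 1000000 in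
set_option maxHeartbeats 0 in
theorem cD21A_10_1 : bsCount 256 board1 921289794503477278855048793314038099 984818244535754528103549039458486304 = 5412 := by
  decide +kernel

set_option maxRecDepth 1000000 in
set_option maxHeartbeats 0 in
theorem cD21A_10_2 : bsCount 256 board2 921289794503477278855048793314038099 984818244535754528103549039458486304 = 5522 := by
  decide +kernel

set_option maxRecDepth 1000000 in
set_option maxHeartbeats 0 in
theorem cD21A_10_3 : bsCount 256 board3 921289794503477278855048793314038099 984818244535754528103549039458486304 = 5526 := by
  decide +kernel

set_option maxRecDepth 1000000 in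
set_option maxHeartbeats 0 in
theorem cD21A_11_0 : bsCount 256 board0 608273889664092665684964816415573185 984818244535754528103549039458486304 = 7812 := by
  decide +kernel

set_option maxRecDepth 1000000 in
set_option maxHeartbeats 0 in
theorem cD21A_11_1 : bsCount 256 board1 608273889664092665684964816415573185 984818244535754528103549039458486304 = 8100 := by
  decide +kernel

set_option maxRecDepth 1000000 in
set_option maxHeartbeats 0 in
theorem cD21A_11_2 : bsCount 256 board2 608273889664092665684964816415573185 984818244535754528103549039458486304 = 8046 := by
  decide +kernel

set_option maxRecDepth 1000000 in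
set_option maxHeartbeats 0 in
theorem cD21A_11_3 : bsCount 256 board3 608273889664092665684964816415573185 984818244535754528103549039458486304 = 8328 := by
  decide +kernel

end Cfsg.Agent.Lib.Helper13.OctBS
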