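import Cfsg.Agent.Lib.Helper13.OctCnt15Ax8
import Cfsg.Agent.Lib.Helper13.OctBoard0
import Cfsg.Agent.Lib.Helper13.OctBoard1
import Cfsg.Agent.Lib.Helper13.OctBoard2
import Cfsg.Agent.Lib.Helper13.OctBoard3

/-! Kernel computation of the bit-sliced counts for entries 12 to 17 of the table `D21A`. -/

set_option Elab.async false

namespace Cfsg.Agent.Lib.Helper13.OctBS

set_option maxRecDepth 1000000 in
set_option maxHeartbeats 0 in
theorem cD21A_12_0 : bsCount 256 board0 802268436096462872873839832201899522 984818244535754528103549039458486304 = 7582 := by
  decide +kernel

set_option maxRecDepth 1000000 in
set_option maxHeartbeats 0 in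
theorem cD21A_12_1 : bsCount 256 board1 802268436096462872873839832201899522 984818244535754528103549039458486304 = 7625 := by
  decide +kernel

set_option maxRecDepth 1000000 in
set_option maxHeartbeats 0 in
theorem cD21A_12_2 : bsCount 256 board2 802268436096462872873839832201899522 984818244535754528103549039458486304 = 7658 := by
  decide +kernel

set_option maxRecDepth 1000000 in
set_option maxHeartbeats 0 in
theorem cD21A_12_3 : bsCount 256 board3 802268436096462872873839832201899522 984818244535754528103549039458486304 = 7611 := by
  decide +kernel

set_option maxRecDepth 1000000 in
set_option maxHeartbeats 0 in
theorem cD21A_13_0 : bsCount 256 board0 882779881764835473887962334021957737 984818244535754528103549039458486304 = 7613 := by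
  decide +kernel

set_option maxRecDepth 1000000 in
set_option maxHeartbeats 0 in
theorem cD21A_13_1 : bsCount 256 board1 882779881764835473887962334021957737 984818244535754528103549039458486304 = 7624 := by
  decide +kernel

set_option maxRecDepth 1000000 in
set_option maxHeartbeats 0 in
theorem cD21A_13_2 : bsCount 256 board2 882779881764835473887962334021957737 984818244535754528103549039458486304 = 7735 := by
  decide +kernel

set_option maxRecDepth 1000000 in
set_option maxHeartbeats 0 in
theorem cD21A_13_3 : bsCount 256 board3 882779881764835473887962334021957737 984818244535754528103549039458486304 = 7626 := by
  decide +kernel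

set_option maxRecDepth 1000000 in
set_option maxHeartbeats 0 in
theorem cD21A_14_0 : bsCount 256 board0 878166744281772314969816486052742213 984818244535754528103549039458486304 = 7222 := by
  decide +kernel

set_option maxRecDepth 1000000 in
set_option maxHeartbeats 0 in
theorem cD21A_14_1 : bsCount 256 board1 878166744281772314969816486052742213 984818244535754528103549039458486304 = 7736 := by
  decide +kernel

set_option maxRecDepth 1000000 in
set_option maxHeartbeats 0 in
theorem cD21A_14_2 : bsCount 256 board2 878166744281772314969816486052742213 984818244535754528103549039458486304 = 8804 := by
  decide +kernel

set_option maxRecDepth 1000000 in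
set_option maxHeartbeats 0 in
theorem cD21A_14_3 : bsCount 256 board3 878166744281772314969816486052742213 984818244535754528103549039458486304 = 8960 := by
  decide +kernel

set_option maxRecDepth 1000000 in
set_option maxHeartbeats 0 in
theorem cD21A_15_0 : bsCount 256 board0 641433266127581151175116701889220330 984818244535754528103549039458486304 = 8687 := by
  decide +kernel

set_option maxRecDepth 1000000 in
set_option maxHeartbeats 0 in
theorem cD21A_15_1 : bsCount 256 board1 641433266127581151175116701889220330 984818244535754528103549039458486304 = 7615 := by
  decide +kernel

set_option maxRecDepth 1000000 in
set_option maxHeartbeats 0 in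
theorem cD21A_15_2 : bsCount 256 board2 641433266127581151175116701889220330 984818244535754528103549039458486304 = 7012 := by
  decide +kernel

set_option maxRecDepth 1000000 in
set_option maxHeartbeats 0 in
theorem cD21A_15_3 : bsCount 256 board3 641433266127581151175116701889220330 984818244535754528103549039458486304 = 7296 := by
  decide +kernel

set_option maxRecDepth 1000000 in
set_option maxHeartbeats 0 in
theorem cD21A_16_0 : bsCount 256 board0 810345885400808131990093146168372962 984818244535754528103549039458486304 = 7693 := by
  decide +kernel

set_option maxRecDepth 1000000 in
set_option maxHeartbeats 0 in
theorem cD21A_16_1 : bsCount 256 board1 810345885400808131990093146168372962 984818244535754528103549039458486304 = 7537 := by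
  decide +kernel

set_option maxRecDepth 1000000 in
set_option maxHeartbeats 0 in
theorem cD21A_16_2 : bsCount 256 board2 810345885400808131990093146168372962 984818244535754528103549039458486304 = 7576 := by
  decide +kernel

set_option maxRecDepth 1000000 in
set_option maxHeartbeats 0 in
theorem cD21A_16_3 : bsCount 256 board3 810345885400808131990093146168372962 984818244535754528103549039458486304 = 7608 := by
  decide +kernel

set_option maxRecDepth 1000000 in
set_option maxHeartbeats 0 in
theorem cD21A_17_0 : bsCount 256 board0 918682171267521115292037618233280167 984818244535754528103549039458486304 = 7610 := by
  decide +kernel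

set_option maxRecDepth 1000000 in
set_option maxHeartbeats 0 in
theorem cD21A_17_1 : bsCount 256 board1 918682171267521115292037618233280167 984818244535754528103549039458486304 = 7584 := by
  decide +kernel

set_option maxRecDepth 1000000 in
set_option maxHeartbeats 0 in
theorem cD21A_17_2 : bsCount 256 board2 918682171267521115292037618233280167 984818244535754528103549039458486304 = 7581 := by
  decide +kernel

set_option maxRecDepth 1000000 in
set_option maxHeartbeats 0 in
theorem cD21A_17_3 : bsCount 256 board3 918682171267521115292037618233280167 984818244535754528103549039458486304 = 7639 := by
  decide +kernel

end Cfsg.Agent.Lib.Helper13.OctBS
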