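import Cfsg.Agent.Lib.Helper13.OctCnt15Ax9
import Cfsg.Agent.Lib.Helper13.OctBoard0
import Cfsg.Agent.Lib.Helper13.OctBoard1
import Cfsg.Agent.Lib.Helper13.OctBoard2
import Cfsg.Agent.Lib.Helper13.OctBoard3

/-! Kernel computation of the bit-sliced counts for entries 18 to 23 of the table `D21A`. -/

set_option Elab.async false

namespace Cfsg.Agent.Lib.Helper13.OctBS

set_option maxRecDepth 1000000 in
set_option maxHeartbeats 0 in
theorem cD21A_18_0 : bsCount 256 board0 639450429157312095898123957964013872 984818244535754528103549039458486304 = 8252 := by
  decide +kernel

set_option maxRecDepth 1000000 in
set_option maxHeartbeats 0 in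
theorem cD21A_18_1 : bsCount 256 board1 639450429157312095898123957964013872 984818244535754528103549039458486304 = 8570 := by
  decide +kernel

set_option maxRecDepth 1000000 in
set_option maxHeartbeats 0 in
theorem cD21A_18_2 : bsCount 256 board2 639450429157312095898123957964013872 984818244535754528103549039458486304 = 8457 := by
  decide +kernel

set_option maxRecDepth 1000000 in
set_option maxHeartbeats 0 in
theorem cD21A_18_3 : bsCount 256 board3 639450429157312095898123957964013872 984818244535754528103549039458486304 = 8101 := by
  decide +kernel

set_option maxRecDepth 1000000 in
set_option maxHeartbeats 0 in
theorem cD21A_19_0 : bsCount 256 board0 731322308451080748874253827654213258 984818244535754528103549039458486304 = 7717 := by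
  decide +kernel

set_option maxRecDepth 1000000 in
set_option maxHeartbeats 0 in
theorem cD21A_19_1 : bsCount 256 board1 731322308451080748874253827654213258 984818244535754528103549039458486304 = 8470 := by
  decide +kernel

set_option maxRecDepth 1000000 in
set_option maxHeartbeats 0 in
theorem cD21A_19_2 : bsCount 256 board2 731322308451080748874253827654213258 984818244535754528103549039458486304 = 7673 := by
  decide +kernel

set_option maxRecDepth 1000000 in
set_option maxHeartbeats 0 in
theorem cD21A_19_3 : bsCount 256 board3 731322308451080748874253827654213258 984818244535754528103549039458486304 = 6268 := by
  decide +kernel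

set_option maxRecDepth 1000000 in
set_option maxHeartbeats 0 in
theorem cD21A_20_0 : bsCount 256 board0 812130746229792070138621368305660590 984818244535754528103549039458486304 = 7399 := by
  decide +kernel

set_option maxRecDepth 1000000 in
set_option maxHeartbeats 0 in
theorem cD21A_20_1 : bsCount 256 board1 812130746229792070138621368305660590 984818244535754528103549039458486304 = 7478 := by
  decide +kernel

set_option maxRecDepth 1000000 in
set_option maxHeartbeats 0 in
theorem cD21A_20_2 : bsCount 256 board2 812130746229792070138621368305660590 984818244535754528103549039458486304 = 7430 := by
  decide +kernel

set_option maxRecDepth 1000000 in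
set_option maxHeartbeats 0 in
theorem cD21A_20_3 : bsCount 256 board3 812130746229792070138621368305660590 984818244535754528103549039458486304 = 7675 := by
  decide +kernel

set_option maxRecDepth 1000000 in
set_option maxHeartbeats 0 in
theorem cD21A_21_0 : bsCount 256 board0 713094594915553388228840459694744643 984818244535754528103549039458486304 = 8417 := by
  decide +kernel

set_option maxRecDepth 1000000 in
set_option maxHeartbeats 0 in
theorem cD21A_21_1 : bsCount 256 board1 713094594915553388228840459694744643 984818244535754528103549039458486304 = 8035 := by
  decide +kernel

set_option maxRecDepth 1000000 in
set_option maxHeartbeats 0 in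
theorem cD21A_21_2 : bsCount 256 board2 713094594915553388228840459694744643 984818244535754528103549039458486304 = 8401 := by
  decide +kernel

set_option maxRecDepth 1000000 in
set_option maxHeartbeats 0 in
theorem cD21A_21_3 : bsCount 256 board3 713094594915553388228840459694744643 984818244535754528103549039458486304 = 8527 := by
  decide +kernel

set_option maxRecDepth 1000000 in
set_option maxHeartbeats 0 in
theorem cD21A_22_0 : bsCount 256 board0 143497500297920040842702920590105271 984818244535754528103549039458486304 = 8513 := by
  decide +kernel

set_option maxRecDepth 1000000 in
set_option maxHeartbeats 0 in
theorem cD21A_22_1 : bsCount 256 board1 143497500297920040842702920590105271 984818244535754528103549039458486304 = 7634 := by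
  decide +kernel

set_option maxRecDepth 1000000 in
set_option maxHeartbeats 0 in
theorem cD21A_22_2 : bsCount 256 board2 143497500297920040842702920590105271 984818244535754528103549039458486304 = 7478 := by
  decide +kernel

set_option maxRecDepth 1000000 in
set_option maxHeartbeats 0 in
theorem cD21A_22_3 : bsCount 256 board3 143497500297920040842702920590105271 984818244535754528103549039458486304 = 6109 := by
  decide +kernel

set_option maxRecDepth 1000000 in
set_option maxHeartbeats 0 in
theorem cD21A_23_0 : bsCount 256 board0 624910369881797813113598829752831444 984818244535754528103549039458486304 = 7462 := by
  decide +kernel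

set_option maxRecDepth 1000000 in
set_option maxHeartbeats 0 in
theorem cD21A_23_1 : bsCount 256 board1 624910369881797813113598829752831444 984818244535754528103549039458486304 = 7412 := by
  decide +kernel

set_option maxRecDepth 1000000 in
set_option maxHeartbeats 0 in
theorem cD21A_23_2 : bsCount 256 board2 624910369881797813113598829752831444 984818244535754528103549039458486304 = 7443 := by
  decide +kernel

set_option maxRecDepth 1000000 in
set_option maxHeartbeats 0 in
theorem cD21A_23_3 : bsCount 256 board3 624910369881797813113598829752831444 984818244535754528103549039458486304 = 7417 := by
  decide +kernel

end Cfsg.Agent.Lib.Helper13.OctBS
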