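import Cfsg.Agent.Lib.Helper13.OctCnt21Ax0
import Cfsg.Agent.Lib.Helper13.OctBoard0
import Cfsg.Agent.Lib.Helper13.OctBoard1
import Cfsg.Agent.Lib.Helper13.OctBoard2
import Cfsg.Agent.Lib.Helper13.OctBoard3

/-! Kernel computation of the bit-sliced counts for entries 24 to 29 of the table `D21A`. -/

set_option Elab.async false

namespace Cfsg.Agent.Lib.Helper13.OctBS

set_option maxRecDepth 1000000 in
set_option maxHeartbeats 0 in
theorem cD21A_24_0 : bsCount 256 board0 150830989871847604471899146694209232 984818244535754528103549039458486304 = 7549 := by
  decide +kernel

set_option maxRecDepth 1000000 in
set_option maxHeartbeats 0 in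
theorem cD21A_24_1 : bsCount 256 board1 150830989871847604471899146694209232 984818244535754528103549039458486304 = 7723 := by
  decide +kernel

set_option maxRecDepth 1000000 in
set_option maxHeartbeats 0 in
theorem cD21A_24_2 : bsCount 256 board2 150830989871847604471899146694209232 984818244535754528103549039458486304 = 7491 := by
  decide +kernel

set_option maxRecDepth 1000000 in
set_option maxHeartbeats 0 in
theorem cD21A_24_3 : bsCount 256 board3 150830989871847604471899146694209232 984818244535754528103549039458486304 = 7553 := by
  decide +kernel

set_option maxRecDepth 1000000 in
set_option maxHeartbeats 0 in
theorem cD21A_25_0 : bsCount 256 board0 335391713243774682556566923883362643 984818244535754528103549039458486304 = 7622 := by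
  decide +kernel

set_option maxRecDepth 1000000 in
set_option maxHeartbeats 0 in
theorem cD21A_25_1 : bsCount 256 board1 335391713243774682556566923883362643 984818244535754528103549039458486304 = 7613 := by
  decide +kernel

set_option maxRecDepth 1000000 in
set_option maxHeartbeats 0 in
theorem cD21A_25_2 : bsCount 256 board2 335391713243774682556566923883362643 984818244535754528103549039458486304 = 7546 := by
  decide +kernel

set_option maxRecDepth 1000000 in
set_option maxHeartbeats 0 in
theorem cD21A_25_3 : bsCount 256 board3 335391713243774682556566923883362643 984818244535754528103549039458486304 = 7633 := by
  decide +kernel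

set_option maxRecDepth 1000000 in
set_option maxHeartbeats 0 in
theorem cD21A_26_0 : bsCount 256 board0 551832558773012113001519471235608769 984818244535754528103549039458486304 = 8362 := by
  decide +kernel

set_option maxRecDepth 1000000 in
set_option maxHeartbeats 0 in
theorem cD21A_26_1 : bsCount 256 board1 551832558773012113001519471235608769 984818244535754528103549039458486304 = 8315 := by
  decide +kernel

set_option maxRecDepth 1000000 in
set_option maxHeartbeats 0 in
theorem cD21A_26_2 : bsCount 256 board2 551832558773012113001519471235608769 984818244535754528103549039458486304 = 8516 := by
  decide +kernel

set_option maxRecDepth 1000000 in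
set_option maxHeartbeats 0 in
theorem cD21A_26_3 : bsCount 256 board3 551832558773012113001519471235608769 984818244535754528103549039458486304 = 8187 := by
  decide +kernel

set_option maxRecDepth 1000000 in
set_option maxHeartbeats 0 in
theorem cD21A_27_0 : bsCount 256 board0 582445486039948827207014609302428874 984818244535754528103549039458486304 = 7624 := by
  decide +kernel

set_option maxRecDepth 1000000 in
set_option maxHeartbeats 0 in
theorem cD21A_27_1 : bsCount 256 board1 582445486039948827207014609302428874 984818244535754528103549039458486304 = 7557 := by
  decide +kernel

set_option maxRecDepth 1000000 in
set_option maxHeartbeats 0 in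
theorem cD21A_27_2 : bsCount 256 board2 582445486039948827207014609302428874 984818244535754528103549039458486304 = 8095 := by
  decide +kernel

set_option maxRecDepth 1000000 in
set_option maxHeartbeats 0 in
theorem cD21A_27_3 : bsCount 256 board3 582445486039948827207014609302428874 984818244535754528103549039458486304 = 6862 := by
  decide +kernel

set_option maxRecDepth 1000000 in
set_option maxHeartbeats 0 in
theorem cD21A_28_0 : bsCount 256 board0 403881309543922460438321984145229319 984818244535754528103549039458486304 = 7597 := by
  decide +kernel

set_option maxRecDepth 1000000 in
set_option maxHeartbeats 0 in
theorem cD21A_28_1 : bsCount 256 board1 403881309543922460438321984145229319 984818244535754528103549039458486304 = 7581 := by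
  decide +kernel

set_option maxRecDepth 1000000 in
set_option maxHeartbeats 0 in
theorem cD21A_28_2 : bsCount 256 board2 403881309543922460438321984145229319 984818244535754528103549039458486304 = 7630 := by
  decide +kernel

set_option maxRecDepth 1000000 in
set_option maxHeartbeats 0 in
theorem cD21A_28_3 : bsCount 256 board3 403881309543922460438321984145229319 984818244535754528103549039458486304 = 7606 := by
  decide +kernel

set_option maxRecDepth 1000000 in
set_option maxHeartbeats 0 in
theorem cD21A_29_0 : bsCount 256 board0 373932367867853707100751832152187299 984818244535754528103549039458486304 = 7915 := by
  decide +kernel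

set_option maxRecDepth 1000000 in
set_option maxHeartbeats 0 in
theorem cD21A_29_1 : bsCount 256 board1 373932367867853707100751832152187299 984818244535754528103549039458486304 = 7677 := by
  decide +kernel

set_option maxRecDepth 1000000 in
set_option maxHeartbeats 0 in
theorem cD21A_29_2 : bsCount 256 board2 373932367867853707100751832152187299 984818244535754528103549039458486304 = 8741 := by
  decide +kernel

set_option maxRecDepth 1000000 in
set_option maxHeartbeats 0 in
theorem cD21A_29_3 : bsCount 256 board3 373932367867853707100751832152187299 984818244535754528103549039458486304 = 8365 := by
  decide +kernel

end Cfsg.Agent.Lib.Helper13.OctBS
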