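import Cfsg.Agent.Lib.Helper13.OctCnt21Ax1
import Cfsg.Agent.Lib.Helper13.OctBoard0
import Cfsg.Agent.Lib.Helper13.OctBoard1
import Cfsg.Agent.Lib.Helper13.OctBoard2
import Cfsg.Agent.Lib.Helper13.OctBoard3

/-! Kernel computation of the bit-sliced counts for entries 30 to 35 of the table `D21A`. -/

set_option Elab.async false

namespace Cfsg.Agent.Lib.Helper13.OctBS

set_option maxRecDepth 1000000 in
set_option maxHeartbeats 0 in
theorem cD21A_30_0 : bsCount 256 board0 291282363215047741334543306062500491 984818244535754528103549039458486304 = 7525 := by
  decide +kernel

set_option maxRecDepth 1000000 in
set_option maxHeartbeats 0 in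
theorem cD21A_30_1 : bsCount 256 board1 291282363215047741334543306062500491 984818244535754528103549039458486304 = 7497 := by
  decide +kernel

set_option maxRecDepth 1000000 in
set_option maxHeartbeats 0 in
theorem cD21A_30_2 : bsCount 256 board2 291282363215047741334543306062500491 984818244535754528103549039458486304 = 8175 := by
  decide +kernel

set_option maxRecDepth 1000000 in
set_option maxHeartbeats 0 in
theorem cD21A_30_3 : bsCount 256 board3 291282363215047741334543306062500491 984818244535754528103549039458486304 = 6987 := by
  decide +kernel

set_option maxRecDepth 1000000 in
set_option maxHeartbeats 0 in
theorem cD21A_31_0 : bsCount 256 board0 719914709877641328497702557321561284 984818244535754528103549039458486304 = 8424 := by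
  decide +kernel

set_option maxRecDepth 1000000 in
set_option maxHeartbeats 0 in
theorem cD21A_31_1 : bsCount 256 board1 719914709877641328497702557321561284 984818244535754528103549039458486304 = 8059 := by
  decide +kernel

set_option maxRecDepth 1000000 in
set_option maxHeartbeats 0 in
theorem cD21A_31_2 : bsCount 256 board2 719914709877641328497702557321561284 984818244535754528103549039458486304 = 9133 := by
  decide +kernel

set_option maxRecDepth 1000000 in
set_option maxHeartbeats 0 in
theorem cD21A_31_3 : bsCount 256 board3 719914709877641328497702557321561284 984818244535754528103549039458486304 = 7764 := by
  decide +kernel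

set_option maxRecDepth 1000000 in
set_option maxHeartbeats 0 in
theorem cD21A_32_0 : bsCount 256 board0 501243671838883291593338797329558753 984818244535754528103549039458486304 = 7531 := by
  decide +kernel

set_option maxRecDepth 1000000 in
set_option maxHeartbeats 0 in
theorem cD21A_32_1 : bsCount 256 board1 501243671838883291593338797329558753 984818244535754528103549039458486304 = 7597 := by
  decide +kernel

set_option maxRecDepth 1000000 in
set_option maxHeartbeats 0 in
theorem cD21A_32_2 : bsCount 256 board2 501243671838883291593338797329558753 984818244535754528103549039458486304 = 7585 := by
  decide +kernel

set_option maxRecDepth 1000000 in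
set_option maxHeartbeats 0 in
theorem cD21A_32_3 : bsCount 256 board3 501243671838883291593338797329558753 984818244535754528103549039458486304 = 7603 := by
  decide +kernel

set_option maxRecDepth 1000000 in
set_option maxHeartbeats 0 in
theorem cD21A_33_0 : bsCount 256 board0 498928840117339958141890575741573333 984818244535754528103549039458486304 = 5556 := by
  decide +kernel

set_option maxRecDepth 1000000 in
set_option maxHeartbeats 0 in
theorem cD21A_33_1 : bsCount 256 board1 498928840117339958141890575741573333 984818244535754528103549039458486304 = 5634 := by
  decide +kernel

set_option maxRecDepth 1000000 in
set_option maxHeartbeats 0 in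
theorem cD21A_33_2 : bsCount 256 board2 498928840117339958141890575741573333 984818244535754528103549039458486304 = 5549 := by
  decide +kernel

set_option maxRecDepth 1000000 in
set_option maxHeartbeats 0 in
theorem cD21A_33_3 : bsCount 256 board3 498928840117339958141890575741573333 984818244535754528103549039458486304 = 5585 := by
  decide +kernel

set_option maxRecDepth 1000000 in
set_option maxHeartbeats 0 in
theorem cD21A_34_0 : bsCount 256 board0 558840172299574020491404892739849526 984818244535754528103549039458486304 = 7458 := by
  decide +kernel

set_option maxRecDepth 1000000 in
set_option maxHeartbeats 0 in
theorem cD21A_34_1 : bsCount 256 board1 558840172299574020491404892739849526 984818244535754528103549039458486304 = 7489 := by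
  decide +kernel

set_option maxRecDepth 1000000 in
set_option maxHeartbeats 0 in
theorem cD21A_34_2 : bsCount 256 board2 558840172299574020491404892739849526 984818244535754528103549039458486304 = 7535 := by
  decide +kernel

set_option maxRecDepth 1000000 in
set_option maxHeartbeats 0 in
theorem cD21A_34_3 : bsCount 256 board3 558840172299574020491404892739849526 984818244535754528103549039458486304 = 7568 := by
  decide +kernel

set_option maxRecDepth 1000000 in
set_option maxHeartbeats 0 in
theorem cD21A_35_0 : bsCount 256 board0 631779396274170499607950532775477584 984818244535754528103549039458486304 = 7617 := by
  decide +kernel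

set_option maxRecDepth 1000000 in
set_option maxHeartbeats 0 in
theorem cD21A_35_1 : bsCount 256 board1 631779396274170499607950532775477584 984818244535754528103549039458486304 = 7495 := by
  decide +kernel

set_option maxRecDepth 1000000 in
set_option maxHeartbeats 0 in
theorem cD21A_35_2 : bsCount 256 board2 631779396274170499607950532775477584 984818244535754528103549039458486304 = 7664 := by
  decide +kernel

set_option maxRecDepth 1000000 in
set_option maxHeartbeats 0 in
theorem cD21A_35_3 : bsCount 256 board3 631779396274170499607950532775477584 984818244535754528103549039458486304 = 7544 := by
  decide +kernel

end Cfsg.Agent.Lib.Helper13.OctBS
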