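import Cfsg.Agent.Lib.Helper13.OctCnt21Ax2
import Cfsg.Agent.Lib.Helper13.OctBoard0
import Cfsg.Agent.Lib.Helper13.OctBoard1
import Cfsg.Agent.Lib.Helper13.OctBoard2
import Cfsg.Agent.Lib.Helper13.OctBoard3

/-! Kernel computation of the bit-sliced counts for entries 36 to 36 of the table `D21A`. -/

set_option Elab.async false

namespace Cfsg.Agent.Lib.Helper13.OctBS

set_option maxRecDepth 1000000 in
set_option maxHeartbeats 0 in
theorem cD21A_36_0 : bsCount 256 board0 760315888033103268788043786621430388 984818244535754528103549039458486304 = 5503 := by
  decide +kernel

set_option maxRecDepth 1000000 in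
set_option maxHeartbeats 0 in
theorem cD21A_36_1 : bsCount 256 board1 760315888033103268788043786621430388 984818244535754528103549039458486304 = 5487 := by
  decide +kernel

set_option maxRecDepth 1000000 in
set_option maxHeartbeats 0 in
theorem cD21A_36_2 : bsCount 256 board2 760315888033103268788043786621430388 984818244535754528103549039458486304 = 5452 := by
  decide +kernel

set_option maxRecDepth 1000000 in
set_option maxHeartbeats 0 in
theorem cD21A_36_3 : bsCount 256 board3 760315888033103268788043786621430388 984818244535754528103549039458486304 = 5574 := by
  decide +kernel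

end Cfsg.Agent.Lib.Helper13.OctBS
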