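import Cfsg.Agent.Lib.Helper13.OctCnt21Ax3
import Cfsg.Agent.Lib.Helper13.OctBoard0
import Cfsg.Agent.Lib.Helper13.OctBoard1
import Cfsg.Agent.Lib.Helper13.OctBoard2
import Cfsg.Agent.Lib.Helper13.OctBoard3

/-! Kernel computation of the bit-sliced counts for entries 0 to 5 of the table `D23A`. -/

set_option Elab.async false

namespace Cfsg.Agent.Lib.Helper13.OctBS

set_option maxRecDepth 1000000 in
set_option maxHeartbeats 0 in
theorem cD23A_0_0 : bsCount 256 board0 757715976757143754934186890292888017 984818244535754528103549039458486304 = 8395 := by
  decide +kernel

set_option maxRecDepth 1000000 in
set_option maxHeartbeats 0 in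
theorem cD23A_0_1 : bsCount 256 board1 757715976757143754934186890292888017 984818244535754528103549039458486304 = 8077 := by
  decide +kernel

set_option maxRecDepth 1000000 in
set_option maxHeartbeats 0 in
theorem cD23A_0_2 : bsCount 256 board2 757715976757143754934186890292888017 984818244535754528103549039458486304 = 8328 := by
  decide +kernel

set_option maxRecDepth 1000000 in
set_option maxHeartbeats 0 in
theorem cD23A_0_3 : bsCount 256 board3 757715976757143754934186890292888017 984818244535754528103549039458486304 = 7898 := by
  decide +kernel

set_option maxRecDepth 1000000 in
set_option maxHeartbeats 0 in
theorem cD23A_1_0 : bsCount 256 board0 217569823439835287674239099785490870 984818244535754528103549039458486304 = 8453 := by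
  decide +kernel

set_option maxRecDepth 1000000 in
set_option maxHeartbeats 0 in
theorem cD23A_1_1 : bsCount 256 board1 217569823439835287674239099785490870 984818244535754528103549039458486304 = 8088 := by
  decide +kernel

set_option maxRecDepth 1000000 in
set_option maxHeartbeats 0 in
theorem cD23A_1_2 : bsCount 256 board2 217569823439835287674239099785490870 984818244535754528103549039458486304 = 7946 := by
  decide +kernel

set_option maxRecDepth 1000000 in
set_option maxHeartbeats 0 in
theorem cD23A_1_3 : bsCount 256 board3 217569823439835287674239099785490870 984818244535754528103549039458486304 = 8235 := by
  decide +kernel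

set_option maxRecDepth 1000000 in
set_option maxHeartbeats 0 in
theorem cD23A_2_0 : bsCount 256 board0 941922198763378318225177990268390977 984818244535754528103549039458486304 = 7909 := by
  decide +kernel

set_option maxRecDepth 1000000 in
set_option maxHeartbeats 0 in
theorem cD23A_2_1 : bsCount 256 board1 941922198763378318225177990268390977 984818244535754528103549039458486304 = 7502 := by
  decide +kernel

set_option maxRecDepth 1000000 in
set_option maxHeartbeats 0 in
theorem cD23A_2_2 : bsCount 256 board2 941922198763378318225177990268390977 984818244535754528103549039458486304 = 8896 := by
  decide +kernel

set_option maxRecDepth 1000000 in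
set_option maxHeartbeats 0 in
theorem cD23A_2_3 : bsCount 256 board3 941922198763378318225177990268390977 984818244535754528103549039458486304 = 9073 := by
  decide +kernel

set_option maxRecDepth 1000000 in
set_option maxHeartbeats 0 in
theorem cD23A_3_0 : bsCount 256 board0 225271914380782586729685872319700098 984818244535754528103549039458486304 = 7621 := by
  decide +kernel

set_option maxRecDepth 1000000 in
set_option maxHeartbeats 0 in
theorem cD23A_3_1 : bsCount 256 board1 225271914380782586729685872319700098 984818244535754528103549039458486304 = 7635 := by
  decide +kernel

set_option maxRecDepth 1000000 in
set_option maxHeartbeats 0 in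
theorem cD23A_3_2 : bsCount 256 board2 225271914380782586729685872319700098 984818244535754528103549039458486304 = 7758 := by
  decide +kernel

set_option maxRecDepth 1000000 in
set_option maxHeartbeats 0 in
theorem cD23A_3_3 : bsCount 256 board3 225271914380782586729685872319700098 984818244535754528103549039458486304 = 7596 := by
  decide +kernel

set_option maxRecDepth 1000000 in
set_option maxHeartbeats 0 in
theorem cD23A_4_0 : bsCount 256 board0 444200502810986091978446619580532206 984818244535754528103549039458486304 = 7587 := by
  decide +kernel

set_option maxRecDepth 1000000 in
set_option maxHeartbeats 0 in
theorem cD23A_4_1 : bsCount 256 board1 444200502810986091978446619580532206 984818244535754528103549039458486304 = 8003 := by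
  decide +kernel

set_option maxRecDepth 1000000 in
set_option maxHeartbeats 0 in
theorem cD23A_4_2 : bsCount 256 board2 444200502810986091978446619580532206 984818244535754528103549039458486304 = 9202 := by
  decide +kernel

set_option maxRecDepth 1000000 in
set_option maxHeartbeats 0 in
theorem cD23A_4_3 : bsCount 256 board3 444200502810986091978446619580532206 984818244535754528103549039458486304 = 8544 := by
  decide +kernel

set_option maxRecDepth 1000000 in
set_option maxHeartbeats 0 in
theorem cD23A_5_0 : bsCount 256 board0 336691425625821917220549305554423236 984818244535754528103549039458486304 = 6697 := by
  decide +kernel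

set_option maxRecDepth 1000000 in
set_option maxHeartbeats 0 in
theorem cD23A_5_1 : bsCount 256 board1 336691425625821917220549305554423236 984818244535754528103549039458486304 = 8630 := by
  decide +kernel

set_option maxRecDepth 1000000 in
set_option maxHeartbeats 0 in
theorem cD23A_5_2 : bsCount 256 board2 336691425625821917220549305554423236 984818244535754528103549039458486304 = 7652 := by
  decide +kernel

set_option maxRecDepth 1000000 in
set_option maxHeartbeats 0 in
theorem cD23A_5_3 : bsCount 256 board3 336691425625821917220549305554423236 984818244535754528103549039458486304 = 7619 := by
  decide +kernel

end Cfsg.Agent.Lib.Helper13.OctBS
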