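import Cfsg.Agent.Lib.Helper13.OctCnt21Ax4
import Cfsg.Agent.Lib.Helper13.OctBoard0
import Cfsg.Agent.Lib.Helper13.OctBoard1
import Cfsg.Agent.Lib.Helper13.OctBoard2
import Cfsg.Agent.Lib.Helper13.OctBoard3

/-! Kernel computation of the bit-sliced counts for entries 6 to 11 of the table `D23A`. -/

set_option Elab.async false

namespace Cfsg.Agent.Lib.Helper13.OctBS

set_option maxRecDepth 1000000 in
set_option maxHeartbeats 0 in
theorem cD23A_6_0 : bsCount 256 board0 683000182109794665626618010521032034 984818244535754528103549039458486304 = 8059 := by
  decide +kernel

set_option maxRecDepth 1000000 in
set_option maxHeartbeats 0 in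
theorem cD23A_6_1 : bsCount 256 board1 683000182109794665626618010521032034 984818244535754528103549039458486304 = 9456 := by
  decide +kernel

set_option maxRecDepth 1000000 in
set_option maxHeartbeats 0 in
theorem cD23A_6_2 : bsCount 256 board2 683000182109794665626618010521032034 984818244535754528103549039458486304 = 7272 := by
  decide +kernel

set_option maxRecDepth 1000000 in
set_option maxHeartbeats 0 in
theorem cD23A_6_3 : bsCount 256 board3 683000182109794665626618010521032034 984818244535754528103549039458486304 = 8593 := by
  decide +kernel

set_option maxRecDepth 1000000 in
set_option maxHeartbeats 0 in
theorem cD23A_7_0 : bsCount 256 board0 7409914448306775896250691398253193 984818244535754528103549039458486304 = 8058 := by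
  decide +kernel

set_option maxRecDepth 1000000 in
set_option maxHeartbeats 0 in
theorem cD23A_7_1 : bsCount 256 board1 7409914448306775896250691398253193 984818244535754528103549039458486304 = 8136 := by
  decide +kernel

set_option maxRecDepth 1000000 in
set_option maxHeartbeats 0 in
theorem cD23A_7_2 : bsCount 256 board2 7409914448306775896250691398253193 984818244535754528103549039458486304 = 8292 := by
  decide +kernel

set_option maxRecDepth 1000000 in
set_option maxHeartbeats 0 in
theorem cD23A_7_3 : bsCount 256 board3 7409914448306775896250691398253193 984818244535754528103549039458486304 = 8236 := by
  decide +kernel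

set_option maxRecDepth 1000000 in
set_option maxHeartbeats 0 in
theorem cD23A_8_0 : bsCount 256 board0 777872491286656297297424467015240933 984818244535754528103549039458486304 = 7566 := by
  decide +kernel

set_option maxRecDepth 1000000 in
set_option maxHeartbeats 0 in
theorem cD23A_8_1 : bsCount 256 board1 777872491286656297297424467015240933 984818244535754528103549039458486304 = 7598 := by
  decide +kernel

set_option maxRecDepth 1000000 in
set_option maxHeartbeats 0 in
theorem cD23A_8_2 : bsCount 256 board2 777872491286656297297424467015240933 984818244535754528103549039458486304 = 7607 := by
  decide +kernel

set_option maxRecDepth 1000000 in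
set_option maxHeartbeats 0 in
theorem cD23A_8_3 : bsCount 256 board3 777872491286656297297424467015240933 984818244535754528103549039458486304 = 7545 := by
  decide +kernel

set_option maxRecDepth 1000000 in
set_option maxHeartbeats 0 in
theorem cD23A_9_0 : bsCount 256 board0 898352548256040599555523015735752936 984818244535754528103549039458486304 = 7445 := by
  decide +kernel

set_option maxRecDepth 1000000 in
set_option maxHeartbeats 0 in
theorem cD23A_9_1 : bsCount 256 board1 898352548256040599555523015735752936 984818244535754528103549039458486304 = 7509 := by
  decide +kernel

set_option maxRecDepth 1000000 in
set_option maxHeartbeats 0 in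
theorem cD23A_9_2 : bsCount 256 board2 898352548256040599555523015735752936 984818244535754528103549039458486304 = 7565 := by
  decide +kernel

set_option maxRecDepth 1000000 in
set_option maxHeartbeats 0 in
theorem cD23A_9_3 : bsCount 256 board3 898352548256040599555523015735752936 984818244535754528103549039458486304 = 7463 := by
  decide +kernel

set_option maxRecDepth 1000000 in
set_option maxHeartbeats 0 in
theorem cD23A_10_0 : bsCount 256 board0 194848136317596624821109232981319029 984818244535754528103549039458486304 = 7691 := by
  decide +kernel

set_option maxRecDepth 1000000 in
set_option maxHeartbeats 0 in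
theorem cD23A_10_1 : bsCount 256 board1 194848136317596624821109232981319029 984818244535754528103549039458486304 = 7621 := by
  decide +kernel

set_option maxRecDepth 1000000 in
set_option maxHeartbeats 0 in
theorem cD23A_10_2 : bsCount 256 board2 194848136317596624821109232981319029 984818244535754528103549039458486304 = 7662 := by
  decide +kernel

set_option maxRecDepth 1000000 in
set_option maxHeartbeats 0 in
theorem cD23A_10_3 : bsCount 256 board3 194848136317596624821109232981319029 984818244535754528103549039458486304 = 7624 := by
  decide +kernel

set_option maxRecDepth 1000000 in
set_option maxHeartbeats 0 in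
theorem cD23A_11_0 : bsCount 256 board0 732642637047533571582203296906365270 984818244535754528103549039458486304 = 7488 := by
  decide +kernel

set_option maxRecDepth 1000000 in
set_option maxHeartbeats 0 in
theorem cD23A_11_1 : bsCount 256 board1 732642637047533571582203296906365270 984818244535754528103549039458486304 = 7312 := by
  decide +kernel

set_option maxRecDepth 1000000 in
set_option maxHeartbeats 0 in
theorem cD23A_11_2 : bsCount 256 board2 732642637047533571582203296906365270 984818244535754528103549039458486304 = 7655 := by
  decide +kernel

set_option maxRecDepth 1000000 in
set_option maxHeartbeats 0 in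
theorem cD23A_11_3 : bsCount 256 board3 732642637047533571582203296906365270 984818244535754528103549039458486304 = 7583 := by
  decide +kernel

end Cfsg.Agent.Lib.Helper13.OctBS
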