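import Cfsg.Agent.Lib.Helper13.OctCnt21Ax5
import Cfsg.Agent.Lib.Helper13.OctBoard0
import Cfsg.Agent.Lib.Helper13.OctBoard1
import Cfsg.Agent.Lib.Helper13.OctBoard2
import Cfsg.Agent.Lib.Helper13.OctBoard3

/-! Kernel computation of the bit-sliced counts for entries 12 to 17 of the table `D23A`. -/

set_option Elab.async false

namespace Cfsg.Agent.Lib.Helper13.OctBS

set_option maxRecDepth 1000000 in
set_option maxHeartbeats 0 in
theorem cD23A_12_0 : bsCount 256 board0 805698975668196565573544925982232784 984818244535754528103549039458486304 = 7495 := by
  decide +kernel

set_option maxRecDepth 1000000 in
set_option maxHeartbeats 0 in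
theorem cD23A_12_1 : bsCount 256 board1 805698975668196565573544925982232784 984818244535754528103549039458486304 = 7570 := by
  decide +kernel

set_option maxRecDepth 1000000 in
set_option maxHeartbeats 0 in
theorem cD23A_12_2 : bsCount 256 board2 805698975668196565573544925982232784 984818244535754528103549039458486304 = 7531 := by
  decide +kernel

set_option maxRecDepth 1000000 in
set_option maxHeartbeats 0 in
theorem cD23A_12_3 : bsCount 256 board3 805698975668196565573544925982232784 984818244535754528103549039458486304 = 7542 := by
  decide +kernel

set_option maxRecDepth 1000000 in
set_option maxHeartbeats 0 in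
theorem cD23A_13_0 : bsCount 256 board0 314643223815670005151727926142010677 984818244535754528103549039458486304 = 8016 := by
  decide +kernel

set_option maxRecDepth 1000000 in
set_option maxHeartbeats 0 in
theorem cD23A_13_1 : bsCount 256 board1 314643223815670005151727926142010677 984818244535754528103549039458486304 = 8265 := by
  decide +kernel

set_option maxRecDepth 1000000 in
set_option maxHeartbeats 0 in
theorem cD23A_13_2 : bsCount 256 board2 314643223815670005151727926142010677 984818244535754528103549039458486304 = 8462 := by
  decide +kernel

set_option maxRecDepth 1000000 in
set_option maxHeartbeats 0 in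
theorem cD23A_13_3 : bsCount 256 board3 314643223815670005151727926142010677 984818244535754528103549039458486304 = 8029 := by
  decide +kernel

set_option maxRecDepth 1000000 in
set_option maxHeartbeats 0 in
theorem cD23A_14_0 : bsCount 256 board0 341055872413106313830000754047620430 984818244535754528103549039458486304 = 7525 := by
  decide +kernel

set_option maxRecDepth 1000000 in
set_option maxHeartbeats 0 in
theorem cD23A_14_1 : bsCount 256 board1 341055872413106313830000754047620430 984818244535754528103549039458486304 = 7496 := by
  decide +kernel

set_option maxRecDepth 1000000 in
set_option maxHeartbeats 0 in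
theorem cD23A_14_2 : bsCount 256 board2 341055872413106313830000754047620430 984818244535754528103549039458486304 = 7650 := by
  decide +kernel

set_option maxRecDepth 1000000 in
set_option maxHeartbeats 0 in
theorem cD23A_14_3 : bsCount 256 board3 341055872413106313830000754047620430 984818244535754528103549039458486304 = 7513 := by
  decide +kernel

set_option maxRecDepth 1000000 in
set_option maxHeartbeats 0 in
theorem cD23A_15_0 : bsCount 256 board0 45073006352187591368377187757111911 984818244535754528103549039458486304 = 7694 := by
  decide +kernel

set_option maxRecDepth 1000000 in
set_option maxHeartbeats 0 in
theorem cD23A_15_1 : bsCount 256 board1 45073006352187591368377187757111911 984818244535754528103549039458486304 = 7583 := by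
  decide +kernel

set_option maxRecDepth 1000000 in
set_option maxHeartbeats 0 in
theorem cD23A_15_2 : bsCount 256 board2 45073006352187591368377187757111911 984818244535754528103549039458486304 = 7516 := by
  decide +kernel

set_option maxRecDepth 1000000 in
set_option maxHeartbeats 0 in
theorem cD23A_15_3 : bsCount 256 board3 45073006352187591368377187757111911 984818244535754528103549039458486304 = 7533 := by
  decide +kernel

set_option maxRecDepth 1000000 in
set_option maxHeartbeats 0 in
theorem cD23A_16_0 : bsCount 256 board0 125534886877773230780805148029720872 984818244535754528103549039458486304 = 7489 := by
  decide +kernel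

set_option maxRecDepth 1000000 in
set_option maxHeartbeats 0 in
theorem cD23A_16_1 : bsCount 256 board1 125534886877773230780805148029720872 984818244535754528103549039458486304 = 7678 := by
  decide +kernel

set_option maxRecDepth 1000000 in
set_option maxHeartbeats 0 in
theorem cD23A_16_2 : bsCount 256 board2 125534886877773230780805148029720872 984818244535754528103549039458486304 = 7595 := by
  decide +kernel

set_option maxRecDepth 1000000 in
set_option maxHeartbeats 0 in
theorem cD23A_16_3 : bsCount 256 board3 125534886877773230780805148029720872 984818244535754528103549039458486304 = 7554 := by
  decide +kernel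

set_option maxRecDepth 1000000 in
set_option maxHeartbeats 0 in
theorem cD23A_17_0 : bsCount 256 board0 693258115051023947771888321787757975 984818244535754528103549039458486304 = 8618 := by
  decide +kernel

set_option maxRecDepth 1000000 in
set_option maxHeartbeats 0 in
theorem cD23A_17_1 : bsCount 256 board1 693258115051023947771888321787757975 984818244535754528103549039458486304 = 6830 := by
  decide +kernel

set_option maxRecDepth 1000000 in
set_option maxHeartbeats 0 in
theorem cD23A_17_2 : bsCount 256 board2 693258115051023947771888321787757975 984818244535754528103549039458486304 = 7631 := by
  decide +kernel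

set_option maxRecDepth 1000000 in
set_option maxHeartbeats 0 in
theorem cD23A_17_3 : bsCount 256 board3 693258115051023947771888321787757975 984818244535754528103549039458486304 = 7531 := by
  decide +kernel

end Cfsg.Agent.Lib.Helper13.OctBS
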