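import Cfsg.Agent.Lib.Helper13.OctCnt21Ax6
import Cfsg.Agent.Lib.Helper13.OctBoard0
import Cfsg.Agent.Lib.Helper13.OctBoard1
import Cfsg.Agent.Lib.Helper13.OctBoard2
import Cfsg.Agent.Lib.Helper13.OctBoard3

/-! Kernel computation of the bit-sliced counts for entries 18 to 23 of the table `D23A`. -/

set_option Elab.async false

namespace Cfsg.Agent.Lib.Helper13.OctBS

set_option maxRecDepth 1000000 in
set_option maxHeartbeats 0 in
theorem cD23A_18_0 : bsCount 256 board0 640088344023783823659328261760160841 984818244535754528103549039458486304 = 7413 := by
  decide +kernel

set_option maxRecDepth 1000000 in
set_option maxHeartbeats 0 in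
theorem cD23A_18_1 : bsCount 256 board1 640088344023783823659328261760160841 984818244535754528103549039458486304 = 7467 := by
  decide +kernel

set_option maxRecDepth 1000000 in
set_option maxHeartbeats 0 in
theorem cD23A_18_2 : bsCount 256 board2 640088344023783823659328261760160841 984818244535754528103549039458486304 = 7372 := by
  decide +kernel

set_option maxRecDepth 1000000 in
set_option maxHeartbeats 0 in
theorem cD23A_18_3 : bsCount 256 board3 640088344023783823659328261760160841 984818244535754528103549039458486304 = 7482 := by
  decide +kernel

set_option maxRecDepth 1000000 in
set_option maxHeartbeats 0 in
theorem cD23A_19_0 : bsCount 256 board0 938681660452683207455461171231179075 984818244535754528103549039458486304 = 6514 := by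
  decide +kernel

set_option maxRecDepth 1000000 in
set_option maxHeartbeats 0 in
theorem cD23A_19_1 : bsCount 256 board1 938681660452683207455461171231179075 984818244535754528103549039458486304 = 7391 := by
  decide +kernel

set_option maxRecDepth 1000000 in
set_option maxHeartbeats 0 in
theorem cD23A_19_2 : bsCount 256 board2 938681660452683207455461171231179075 984818244535754528103549039458486304 = 7788 := by
  decide +kernel

set_option maxRecDepth 1000000 in
set_option maxHeartbeats 0 in
theorem cD23A_19_3 : bsCount 256 board3 938681660452683207455461171231179075 984818244535754528103549039458486304 = 8019 := by
  decide +kernel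

set_option maxRecDepth 1000000 in
set_option maxHeartbeats 0 in
theorem cD23A_20_0 : bsCount 256 board0 651801958981074377508636121544339080 984818244535754528103549039458486304 = 5620 := by
  decide +kernel

set_option maxRecDepth 1000000 in
set_option maxHeartbeats 0 in
theorem cD23A_20_1 : bsCount 256 board1 651801958981074377508636121544339080 984818244535754528103549039458486304 = 5621 := by
  decide +kernel

set_option maxRecDepth 1000000 in
set_option maxHeartbeats 0 in
theorem cD23A_20_2 : bsCount 256 board2 651801958981074377508636121544339080 984818244535754528103549039458486304 = 5550 := by
  decide +kernel

set_option maxRecDepth 1000000 in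
set_option maxHeartbeats 0 in
theorem cD23A_20_3 : bsCount 256 board3 651801958981074377508636121544339080 984818244535754528103549039458486304 = 5533 := by
  decide +kernel

set_option maxRecDepth 1000000 in
set_option maxHeartbeats 0 in
theorem cD23A_21_0 : bsCount 256 board0 505013788493891186899956083864198605 984818244535754528103549039458486304 = 6769 := by
  decide +kernel

set_option maxRecDepth 1000000 in
set_option maxHeartbeats 0 in
theorem cD23A_21_1 : bsCount 256 board1 505013788493891186899956083864198605 984818244535754528103549039458486304 = 8454 := by
  decide +kernel

set_option maxRecDepth 1000000 in
set_option maxHeartbeats 0 in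
theorem cD23A_21_2 : bsCount 256 board2 505013788493891186899956083864198605 984818244535754528103549039458486304 = 7549 := by
  decide +kernel

set_option maxRecDepth 1000000 in
set_option maxHeartbeats 0 in
theorem cD23A_21_3 : bsCount 256 board3 505013788493891186899956083864198605 984818244535754528103549039458486304 = 7544 := by
  decide +kernel

set_option maxRecDepth 1000000 in
set_option maxHeartbeats 0 in
theorem cD23A_22_0 : bsCount 256 board0 969663233952020756590922425481875107 984818244535754528103549039458486304 = 7969 := by
  decide +kernel

set_option maxRecDepth 1000000 in
set_option maxHeartbeats 0 in
theorem cD23A_22_1 : bsCount 256 board1 969663233952020756590922425481875107 984818244535754528103549039458486304 = 7769 := by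
  decide +kernel

set_option maxRecDepth 1000000 in
set_option maxHeartbeats 0 in
theorem cD23A_22_2 : bsCount 256 board2 969663233952020756590922425481875107 984818244535754528103549039458486304 = 8015 := by
  decide +kernel

set_option maxRecDepth 1000000 in
set_option maxHeartbeats 0 in
theorem cD23A_22_3 : bsCount 256 board3 969663233952020756590922425481875107 984818244535754528103549039458486304 = 9845 := by
  decide +kernel

set_option maxRecDepth 1000000 in
set_option maxHeartbeats 0 in
theorem cD23A_23_0 : bsCount 256 board0 917984732672562143736098290133435904 984818244535754528103549039458486304 = 7720 := by
  decide +kernel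

set_option maxRecDepth 1000000 in
set_option maxHeartbeats 0 in
theorem cD23A_23_1 : bsCount 256 board1 917984732672562143736098290133435904 984818244535754528103549039458486304 = 7835 := by
  decide +kernel

set_option maxRecDepth 1000000 in
set_option maxHeartbeats 0 in
theorem cD23A_23_2 : bsCount 256 board2 917984732672562143736098290133435904 984818244535754528103549039458486304 = 7693 := by
  decide +kernel

set_option maxRecDepth 1000000 in
set_option maxHeartbeats 0 in
theorem cD23A_23_3 : bsCount 256 board3 917984732672562143736098290133435904 984818244535754528103549039458486304 = 7642 := by
  decide +kernel

end Cfsg.Agent.Lib.Helper13.OctBS
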