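import Cfsg.Agent.Lib.Helper13.OctCnt23Ax0
import Cfsg.Agent.Lib.Helper13.OctBoard0
import Cfsg.Agent.Lib.Helper13.OctBoard1
import Cfsg.Agent.Lib.Helper13.OctBoard2
import Cfsg.Agent.Lib.Helper13.OctBoard3

/-! Kernel computation of the bit-sliced counts for entries 24 to 29 of the table `D23A`. -/

set_option Elab.async false

namespace Cfsg.Agent.Lib.Helper13.OctBS

set_option maxRecDepth 1000000 in
set_option maxHeartbeats 0 in
theorem cD23A_24_0 : bsCount 256 board0 506991361290478085430556363336025410 984818244535754528103549039458486304 = 8410 := by
  decide +kernel

set_option maxRecDepth 1000000 in
set_option maxHeartbeats 0 in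
theorem cD23A_24_1 : bsCount 256 board1 506991361290478085430556363336025410 984818244535754528103549039458486304 = 8676 := by
  decide +kernel

set_option maxRecDepth 1000000 in
set_option maxHeartbeats 0 in
theorem cD23A_24_2 : bsCount 256 board2 506991361290478085430556363336025410 984818244535754528103549039458486304 = 8091 := by
  decide +kernel

set_option maxRecDepth 1000000 in
set_option maxHeartbeats 0 in
theorem cD23A_24_3 : bsCount 256 board3 506991361290478085430556363336025410 984818244535754528103549039458486304 = 8269 := by
  decide +kernel

set_option maxRecDepth 1000000 in
set_option maxHeartbeats 0 in
theorem cD23A_25_0 : bsCount 256 board0 967244166866819278457970713197839880 984818244535754528103549039458486304 = 8561 := by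
  decide +kernel

set_option maxRecDepth 1000000 in
set_option maxHeartbeats 0 in
theorem cD23A_25_1 : bsCount 256 board1 967244166866819278457970713197839880 984818244535754528103549039458486304 = 7575 := by
  decide +kernel

set_option maxRecDepth 1000000 in
set_option maxHeartbeats 0 in
theorem cD23A_25_2 : bsCount 256 board2 967244166866819278457970713197839880 984818244535754528103549039458486304 = 7991 := by
  decide +kernel

set_option maxRecDepth 1000000 in
set_option maxHeartbeats 0 in
theorem cD23A_25_3 : bsCount 256 board3 967244166866819278457970713197839880 984818244535754528103549039458486304 = 10085 := by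
  decide +kernel

set_option maxRecDepth 1000000 in
set_option maxHeartbeats 0 in
theorem cD23A_26_0 : bsCount 256 board0 683033803701281308332176026127293152 984818244535754528103549039458486304 = 7785 := by
  decide +kernel

set_option maxRecDepth 1000000 in
set_option maxHeartbeats 0 in
theorem cD23A_26_1 : bsCount 256 board1 683033803701281308332176026127293152 984818244535754528103549039458486304 = 7715 := by
  decide +kernel

set_option maxRecDepth 1000000 in
set_option maxHeartbeats 0 in
theorem cD23A_26_2 : bsCount 256 board2 683033803701281308332176026127293152 984818244535754528103549039458486304 = 7646 := by
  decide +kernel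

set_option maxRecDepth 1000000 in
set_option maxHeartbeats 0 in
theorem cD23A_26_3 : bsCount 256 board3 683033803701281308332176026127293152 984818244535754528103549039458486304 = 7538 := by
  decide +kernel

set_option maxRecDepth 1000000 in
set_option maxHeartbeats 0 in
theorem cD23A_27_0 : bsCount 256 board0 960012726164048604502602994073020115 984818244535754528103549039458486304 = 7643 := by
  decide +kernel

set_option maxRecDepth 1000000 in
set_option maxHeartbeats 0 in
theorem cD23A_27_1 : bsCount 256 board1 960012726164048604502602994073020115 984818244535754528103549039458486304 = 7630 := by
  decide +kernel

set_option maxRecDepth 1000000 in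
set_option maxHeartbeats 0 in
theorem cD23A_27_2 : bsCount 256 board2 960012726164048604502602994073020115 984818244535754528103549039458486304 = 6686 := by
  decide +kernel

set_option maxRecDepth 1000000 in
set_option maxHeartbeats 0 in
theorem cD23A_27_3 : bsCount 256 board3 960012726164048604502602994073020115 984818244535754528103549039458486304 = 9099 := by
  decide +kernel

set_option maxRecDepth 1000000 in
set_option maxHeartbeats 0 in
theorem cD23A_28_0 : bsCount 256 board0 725716358336581435731216732012055872 984818244535754528103549039458486304 = 8355 := by
  decide +kernel

set_option maxRecDepth 1000000 in
set_option maxHeartbeats 0 in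
theorem cD23A_28_1 : bsCount 256 board1 725716358336581435731216732012055872 984818244535754528103549039458486304 = 8412 := by
  decide +kernel

set_option maxRecDepth 1000000 in
set_option maxHeartbeats 0 in
theorem cD23A_28_2 : bsCount 256 board2 725716358336581435731216732012055872 984818244535754528103549039458486304 = 8062 := by
  decide +kernel

set_option maxRecDepth 1000000 in
set_option maxHeartbeats 0 in
theorem cD23A_28_3 : bsCount 256 board3 725716358336581435731216732012055872 984818244535754528103549039458486304 = 8325 := by
  decide +kernel

set_option maxRecDepth 1000000 in
set_option maxHeartbeats 0 in
theorem cD23A_29_0 : bsCount 256 board0 965772770828692429080099033319656144 984818244535754528103549039458486304 = 7544 := by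
  decide +kernel

set_option maxRecDepth 1000000 in
set_option maxHeartbeats 0 in
theorem cD23A_29_1 : bsCount 256 board1 965772770828692429080099033319656144 984818244535754528103549039458486304 = 6599 := by
  decide +kernel

set_option maxRecDepth 1000000 in
set_option maxHeartbeats 0 in
theorem cD23A_29_2 : bsCount 256 board2 965772770828692429080099033319656144 984818244535754528103549039458486304 = 7480 := by
  decide +kernel

set_option maxRecDepth 1000000 in
set_option maxHeartbeats 0 in
theorem cD23A_29_3 : bsCount 256 board3 965772770828692429080099033319656144 984818244535754528103549039458486304 = 9061 := by
  decide +kernel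

end Cfsg.Agent.Lib.Helper13.OctBS
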