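import Cfsg.Agent.Lib.Helper13.OctCnt23Ax1
import Cfsg.Agent.Lib.Helper13.OctBoard0
import Cfsg.Agent.Lib.Helper13.OctBoard1
import Cfsg.Agent.Lib.Helper13.OctBoard2
import Cfsg.Agent.Lib.Helper13.OctBoard3

/-! Kernel computation of the bit-sliced counts for entries 30 to 32 of the table `D23A`. -/

set_option Elab.async false

namespace Cfsg.Agent.Lib.Helper13.OctBS

set_option maxRecDepth 1000000 in
set_option maxHeartbeats 0 in
theorem cD23A_30_0 : bsCount 256 board0 506702020595497142599686289634249376 984818244535754528103549039458486304 = 6875 := by
  decide +kernel

set_option maxRecDepth 1000000 in
set_option maxHeartbeats 0 in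
theorem cD23A_30_1 : bsCount 256 board1 506702020595497142599686289634249376 984818244535754528103549039458486304 = 7945 := by
  decide +kernel

set_option maxRecDepth 1000000 in
set_option maxHeartbeats 0 in
theorem cD23A_30_2 : bsCount 256 board2 506702020595497142599686289634249376 984818244535754528103549039458486304 = 8595 := by
  decide +kernel

set_option maxRecDepth 1000000 in
set_option maxHeartbeats 0 in
theorem cD23A_30_3 : bsCount 256 board3 506702020595497142599686289634249376 984818244535754528103549039458486304 = 7553 := by
  decide +kernel

set_option maxRecDepth 1000000 in
set_option maxHeartbeats 0 in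
theorem cD23A_31_0 : bsCount 256 board0 147590937228081299859580212334761312 984818244535754528103549039458486304 = 8482 := by
  decide +kernel

set_option maxRecDepth 1000000 in
set_option maxHeartbeats 0 in
theorem cD23A_31_1 : bsCount 256 board1 147590937228081299859580212334761312 984818244535754528103549039458486304 = 8842 := by
  decide +kernel

set_option maxRecDepth 1000000 in
set_option maxHeartbeats 0 in
theorem cD23A_31_2 : bsCount 256 board2 147590937228081299859580212334761312 984818244535754528103549039458486304 = 7862 := by
  decide +kernel

set_option maxRecDepth 1000000 in
set_option maxHeartbeats 0 in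
theorem cD23A_31_3 : bsCount 256 board3 147590937228081299859580212334761312 984818244535754528103549039458486304 = 8412 := by
  decide +kernel

set_option maxRecDepth 1000000 in
set_option maxHeartbeats 0 in
theorem cD23A_32_0 : bsCount 256 board0 963902830957573888393669514945212656 984818244535754528103549039458486304 = 7542 := by
  decide +kernel

set_option maxRecDepth 1000000 in
set_option maxHeartbeats 0 in
theorem cD23A_32_1 : bsCount 256 board1 963902830957573888393669514945212656 984818244535754528103549039458486304 = 7573 := by
  decide +kernel

set_option maxRecDepth 1000000 in
set_option maxHeartbeats 0 in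
theorem cD23A_32_2 : bsCount 256 board2 963902830957573888393669514945212656 984818244535754528103549039458486304 = 7409 := by
  decide +kernel

set_option maxRecDepth 1000000 in
set_option maxHeartbeats 0 in
theorem cD23A_32_3 : bsCount 256 board3 963902830957573888393669514945212656 984818244535754528103549039458486304 = 8444 := by
  decide +kernel

end Cfsg.Agent.Lib.Helper13.OctBS
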