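import Cfsg.Agent.Lib.Helper13.OctBoard0
import Cfsg.Agent.Lib.Helper13.OctBoard1
import Cfsg.Agent.Lib.Helper13.OctBoard2
import Cfsg.Agent.Lib.Helper13.OctBoard3

/-! Kernel computation of the bit-sliced counts for entries 0 to 5 of the table `D3A`. -/

set_option Elab.async false

namespace Cfsg.Agent.Lib.Helper13.OctBS

set_option maxRecDepth 1000000 in
set_option maxHeartbeats 0 in
theorem cD3A_0_0 : bsCount 256 board0 237001987809458089603486575497970123 715734048135252778992534258547066912 = 0 := by
  decide +kernel

set_option maxRecDepth 1000000 in
set_option maxHeartbeats 0 in
theorem cD3A_0_1 : bsCount 256 board1 237001987809458089603486575497970123 715734048135252778992534258547066912 = 25 := by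
  decide +kernel

set_option maxRecDepth 1000000 in
set_option maxHeartbeats 0 in
theorem cD3A_0_2 : bsCount 256 board2 237001987809458089603486575497970123 715734048135252778992534258547066912 = 10 := by
  decide +kernel

set_option maxRecDepth 1000000 in
set_option maxHeartbeats 0 in
theorem cD3A_0_3 : bsCount 256 board3 237001987809458089603486575497970123 715734048135252778992534258547066912 = 17 := by
  decide +kernel

set_option maxRecDepth 1000000 in
set_option maxHeartbeats 0 in
theorem cD3A_1_0 : bsCount 256 board0 276146280211370847511874343437339233 592348547565827762175298702812940320 = 0 := by
  decide +kernel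

set_option maxRecDepth 1000000 in
set_option maxHeartbeats 0 in
theorem cD3A_1_1 : bsCount 256 board1 276146280211370847511874343437339233 592348547565827762175298702812940320 = 14 := by
  decide +kernel

set_option maxRecDepth 1000000 in
set_option maxHeartbeats 0 in
theorem cD3A_1_2 : bsCount 256 board2 276146280211370847511874343437339233 592348547565827762175298702812940320 = 21 := by
  decide +kernel

set_option maxRecDepth 1000000 in
set_option maxHeartbeats 0 in
theorem cD3A_1_3 : bsCount 256 board3 276146280211370847511874343437339233 592348547565827762175298702812940320 = 19 := by
  decide +kernel

set_option maxRecDepth 1000000 in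
set_option maxHeartbeats 0 in
theorem cD3A_2_0 : bsCount 256 board0 568722075581142867868029588836957355 25536438262301059128512658484038711 = 4 := by
  decide +kernel

set_option maxRecDepth 1000000 in
set_option maxHeartbeats 0 in
theorem cD3A_2_1 : bsCount 256 board1 568722075581142867868029588836957355 25536438262301059128512658484038711 = 8 := by
  decide +kernel

set_option maxRecDepth 1000000 in
set_option maxHeartbeats 0 in
theorem cD3A_2_2 : bsCount 256 board2 568722075581142867868029588836957355 25536438262301059128512658484038711 = 0 := by
  decide +kernel

set_option maxRecDepth 1000000 in
set_option maxHeartbeats 0 in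
theorem cD3A_2_3 : bsCount 256 board3 568722075581142867868029588836957355 25536438262301059128512658484038711 = 4 := by
  decide +kernel

set_option maxRecDepth 1000000 in
set_option maxHeartbeats 0 in
theorem cD3A_3_0 : bsCount 256 board0 974999806601863565683833875810623542 984806227379088838201018984694921248 = 21 := by
  decide +kernel

set_option maxRecDepth 1000000 in
set_option maxHeartbeats 0 in
theorem cD3A_3_1 : bsCount 256 board1 974999806601863565683833875810623542 984806227379088838201018984694921248 = 13 := by
  decide +kernel

set_option maxRecDepth 1000000 in
set_option maxHeartbeats 0 in
theorem cD3A_3_2 : bsCount 256 board2 974999806601863565683833875810623542 984806227379088838201018984694921248 = 0 := by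
  decide +kernel

set_option maxRecDepth 1000000 in
set_option maxHeartbeats 0 in
theorem cD3A_3_3 : bsCount 256 board3 974999806601863565683833875810623542 984806227379088838201018984694921248 = 18 := by
  decide +kernel

set_option maxRecDepth 1000000 in
set_option maxHeartbeats 0 in
theorem cD3A_4_0 : bsCount 256 board0 967942764742804360422948055559854120 722567797787078513592020738258308128 = 2 := by
  decide +kernel

set_option maxRecDepth 1000000 in
set_option maxHeartbeats 0 in
theorem cD3A_4_1 : bsCount 256 board1 967942764742804360422948055559854120 722567797787078513592020738258308128 = 26 := by
  decide +kernel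

set_option maxRecDepth 1000000 in
set_option maxHeartbeats 0 in
theorem cD3A_4_2 : bsCount 256 board2 967942764742804360422948055559854120 722567797787078513592020738258308128 = 0 := by
  decide +kernel

set_option maxRecDepth 1000000 in
set_option maxHeartbeats 0 in
theorem cD3A_4_3 : bsCount 256 board3 967942764742804360422948055559854120 722567797787078513592020738258308128 = 34 := by
  decide +kernel

set_option maxRecDepth 1000000 in
set_option maxHeartbeats 0 in
theorem cD3A_5_0 : bsCount 256 board0 727112977453489072382012251054868582 50202157793935246551961082207451877 = 62 := by
  decide +kernel

set_option maxRecDepth 1000000 in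
set_option maxHeartbeats 0 in
theorem cD3A_5_1 : bsCount 256 board1 727112977453489072382012251054868582 50202157793935246551961082207451877 = 54 := by
  decide +kernel

set_option maxRecDepth 1000000 in
set_option maxHeartbeats 0 in
theorem cD3A_5_2 : bsCount 256 board2 727112977453489072382012251054868582 50202157793935246551961082207451877 = 64 := by
  decide +kernel

set_option maxRecDepth 1000000 in
set_option maxHeartbeats 0 in
theorem cD3A_5_3 : bsCount 256 board3 727112977453489072382012251054868582 50202157793935246551961082207451877 = 52 := by
  decide +kernel

end Cfsg.Agent.Lib.Helper13.OctBS
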