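import Cfsg.Agent.Lib.Helper13.OctBoard0
import Cfsg.Agent.Lib.Helper13.OctBoard1
import Cfsg.Agent.Lib.Helper13.OctBoard2
import Cfsg.Agent.Lib.Helper13.OctBoard3

/-! Kernel computation of the bit-sliced counts for entries 6 to 11 of the table `D3A`. -/

set_option Elab.async false

namespace Cfsg.Agent.Lib.Helper13.OctBS

set_option maxRecDepth 1000000 in
set_option maxHeartbeats 0 in
theorem cD3A_6_0 : bsCount 256 board0 296785389738977648160459163387539008 981616150452815826097002658071151680 = 12 := by
  decide +kernel

set_option maxRecDepth 1000000 in
set_option maxHeartbeats 0 in
theorem cD3A_6_1 : bsCount 256 board1 296785389738977648160459163387539008 981616150452815826097002658071151680 = 19 := by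
  decide +kernel

set_option maxRecDepth 1000000 in
set_option maxHeartbeats 0 in
theorem cD3A_6_2 : bsCount 256 board2 296785389738977648160459163387539008 981616150452815826097002658071151680 = 5 := by
  decide +kernel

set_option maxRecDepth 1000000 in
set_option maxHeartbeats 0 in
theorem cD3A_6_3 : bsCount 256 board3 296785389738977648160459163387539008 981616150452815826097002658071151680 = 26 := by
  decide +kernel

set_option maxRecDepth 1000000 in
set_option maxHeartbeats 0 in
theorem cD3A_7_0 : bsCount 256 board0 177844469132787441861253111815982126 984728307533059736561803021309294641 = 13 := by
  decide +kernel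

set_option maxRecDepth 1000000 in
set_option maxHeartbeats 0 in
theorem cD3A_7_1 : bsCount 256 board1 177844469132787441861253111815982126 984728307533059736561803021309294641 = 16 := by
  decide +kernel

set_option maxRecDepth 1000000 in
set_option maxHeartbeats 0 in
theorem cD3A_7_2 : bsCount 256 board2 177844469132787441861253111815982126 984728307533059736561803021309294641 = 9 := by
  decide +kernel

set_option maxRecDepth 1000000 in
set_option maxHeartbeats 0 in
theorem cD3A_7_3 : bsCount 256 board3 177844469132787441861253111815982126 984728307533059736561803021309294641 = 14 := by
  decide +kernel

set_option maxRecDepth 1000000 in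
set_option maxHeartbeats 0 in
theorem cD3A_8_0 : bsCount 256 board0 849814229537008828662826253720885288 972689361118954751962177104254089251 = 12 := by
  decide +kernel

set_option maxRecDepth 1000000 in
set_option maxHeartbeats 0 in
theorem cD3A_8_1 : bsCount 256 board1 849814229537008828662826253720885288 972689361118954751962177104254089251 = 2 := by
  decide +kernel

set_option maxRecDepth 1000000 in
set_option maxHeartbeats 0 in
theorem cD3A_8_2 : bsCount 256 board2 849814229537008828662826253720885288 972689361118954751962177104254089251 = 18 := by
  decide +kernel

set_option maxRecDepth 1000000 in
set_option maxHeartbeats 0 in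
theorem cD3A_8_3 : bsCount 256 board3 849814229537008828662826253720885288 972689361118954751962177104254089251 = 22 := by
  decide +kernel

set_option maxRecDepth 1000000 in
set_option maxHeartbeats 0 in
theorem cD3A_9_0 : bsCount 256 board0 694031869386159305195806507405041056 980396787561598970936339623786416672 = 12 := by
  decide +kernel

set_option maxRecDepth 1000000 in
set_option maxHeartbeats 0 in
theorem cD3A_9_1 : bsCount 256 board1 694031869386159305195806507405041056 980396787561598970936339623786416672 = 28 := by
  decide +kernel

set_option maxRecDepth 1000000 in
set_option maxHeartbeats 0 in
theorem cD3A_9_2 : bsCount 256 board2 694031869386159305195806507405041056 980396787561598970936339623786416672 = 0 := by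
  decide +kernel

set_option maxRecDepth 1000000 in
set_option maxHeartbeats 0 in
theorem cD3A_9_3 : bsCount 256 board3 694031869386159305195806507405041056 980396787561598970936339623786416672 = 14 := by
  decide +kernel

set_option maxRecDepth 1000000 in
set_option maxHeartbeats 0 in
theorem cD3A_10_0 : bsCount 256 board0 237198390599102186873740793945247795 984811896368526027902876845265194432 = 12 := by
  decide +kernel

set_option maxRecDepth 1000000 in
set_option maxHeartbeats 0 in
theorem cD3A_10_1 : bsCount 256 board1 237198390599102186873740793945247795 984811896368526027902876845265194432 = 5 := by
  decide +kernel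

set_option maxRecDepth 1000000 in
set_option maxHeartbeats 0 in
theorem cD3A_10_2 : bsCount 256 board2 237198390599102186873740793945247795 984811896368526027902876845265194432 = 11 := by
  decide +kernel

set_option maxRecDepth 1000000 in
set_option maxHeartbeats 0 in
theorem cD3A_10_3 : bsCount 256 board3 237198390599102186873740793945247795 984811896368526027902876845265194432 = 24 := by
  decide +kernel

set_option maxRecDepth 1000000 in
set_option maxHeartbeats 0 in
theorem cD3A_11_0 : bsCount 256 board0 99522793119504147058632928071352791 70441545152478197518680859118582513 = 24 := by
  decide +kernel

set_option maxRecDepth 1000000 in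
set_option maxHeartbeats 0 in
theorem cD3A_11_1 : bsCount 256 board1 99522793119504147058632928071352791 70441545152478197518680859118582513 = 16 := by
  decide +kernel

set_option maxRecDepth 1000000 in
set_option maxHeartbeats 0 in
theorem cD3A_11_2 : bsCount 256 board2 99522793119504147058632928071352791 70441545152478197518680859118582513 = 16 := by
  decide +kernel

set_option maxRecDepth 1000000 in
set_option maxHeartbeats 0 in
theorem cD3A_11_3 : bsCount 256 board3 99522793119504147058632928071352791 70441545152478197518680859118582513 = 8 := by
  decide +kernel

end Cfsg.Agent.Lib.Helper13.OctBS
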