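import Cfsg.Agent.Lib.Helper13.OctBoard0
import Cfsg.Agent.Lib.Helper13.OctBoard1
import Cfsg.Agent.Lib.Helper13.OctBoard2
import Cfsg.Agent.Lib.Helper13.OctBoard3

/-! Kernel computation of the bit-sliced counts for entries 12 to 17 of the table `D3A`. -/

set_option Elab.async false

namespace Cfsg.Agent.Lib.Helper13.OctBS

set_option maxRecDepth 1000000 in
set_option maxHeartbeats 0 in
theorem cD3A_12_0 : bsCount 256 board0 195223521195788866295845741175842856 102849064340512708513882474386250784 = 1 := by
  decide +kernel

set_option maxRecDepth 1000000 in
set_option maxHeartbeats 0 in
theorem cD3A_12_1 : bsCount 256 board1 195223521195788866295845741175842856 102849064340512708513882474386250784 = 11 := by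
  decide +kernel

set_option maxRecDepth 1000000 in
set_option maxHeartbeats 0 in
theorem cD3A_12_2 : bsCount 256 board2 195223521195788866295845741175842856 102849064340512708513882474386250784 = 28 := by
  decide +kernel

set_option maxRecDepth 1000000 in
set_option maxHeartbeats 0 in
theorem cD3A_12_3 : bsCount 256 board3 195223521195788866295845741175842856 102849064340512708513882474386250784 = 12 := by
  decide +kernel

set_option maxRecDepth 1000000 in
set_option maxHeartbeats 0 in
theorem cD3A_13_0 : bsCount 256 board0 8652651506643610348895427837344275 112511777460704415886908211521052206 = 49 := by
  decide +kernel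

set_option maxRecDepth 1000000 in
set_option maxHeartbeats 0 in
theorem cD3A_13_1 : bsCount 256 board1 8652651506643610348895427837344275 112511777460704415886908211521052206 = 42 := by
  decide +kernel

set_option maxRecDepth 1000000 in
set_option maxHeartbeats 0 in
theorem cD3A_13_2 : bsCount 256 board2 8652651506643610348895427837344275 112511777460704415886908211521052206 = 47 := by
  decide +kernel

set_option maxRecDepth 1000000 in
set_option maxHeartbeats 0 in
theorem cD3A_13_3 : bsCount 256 board3 8652651506643610348895427837344275 112511777460704415886908211521052206 = 38 := by
  decide +kernel

set_option maxRecDepth 1000000 in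
set_option maxHeartbeats 0 in
theorem cD3A_14_0 : bsCount 256 board0 354560698569044959281244026905415712 93025809474654482351746938484874341 = 54 := by
  decide +kernel

set_option maxRecDepth 1000000 in
set_option maxHeartbeats 0 in
theorem cD3A_14_1 : bsCount 256 board1 354560698569044959281244026905415712 93025809474654482351746938484874341 = 40 := by
  decide +kernel

set_option maxRecDepth 1000000 in
set_option maxHeartbeats 0 in
theorem cD3A_14_2 : bsCount 256 board2 354560698569044959281244026905415712 93025809474654482351746938484874341 = 48 := by
  decide +kernel

set_option maxRecDepth 1000000 in
set_option maxHeartbeats 0 in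
theorem cD3A_14_3 : bsCount 256 board3 354560698569044959281244026905415712 93025809474654482351746938484874341 = 34 := by
  decide +kernel

set_option maxRecDepth 1000000 in
set_option maxHeartbeats 0 in
theorem cD3A_15_0 : bsCount 256 board0 969910755176304412474811566361348128 29396286391881037760695838120708663 = 0 := by
  decide +kernel

set_option maxRecDepth 1000000 in
set_option maxHeartbeats 0 in
theorem cD3A_15_1 : bsCount 256 board1 969910755176304412474811566361348128 29396286391881037760695838120708663 = 0 := by
  decide +kernel

set_option maxRecDepth 1000000 in
set_option maxHeartbeats 0 in
theorem cD3A_15_2 : bsCount 256 board2 969910755176304412474811566361348128 29396286391881037760695838120708663 = 0 := by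
  decide +kernel

set_option maxRecDepth 1000000 in
set_option maxHeartbeats 0 in
theorem cD3A_15_3 : bsCount 256 board3 969910755176304412474811566361348128 29396286391881037760695838120708663 = 16 := by
  decide +kernel

set_option maxRecDepth 1000000 in
set_option maxHeartbeats 0 in
theorem cD3A_16_0 : bsCount 256 board0 748000386828010675256698588196099120 965131035967436872075251960245682210 = 13 := by
  decide +kernel

set_option maxRecDepth 1000000 in
set_option maxHeartbeats 0 in
theorem cD3A_16_1 : bsCount 256 board1 748000386828010675256698588196099120 965131035967436872075251960245682210 = 0 := by
  decide +kernel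

set_option maxRecDepth 1000000 in
set_option maxHeartbeats 0 in
theorem cD3A_16_2 : bsCount 256 board2 748000386828010675256698588196099120 965131035967436872075251960245682210 = 25 := by
  decide +kernel

set_option maxRecDepth 1000000 in
set_option maxHeartbeats 0 in
theorem cD3A_16_3 : bsCount 256 board3 748000386828010675256698588196099120 965131035967436872075251960245682210 = 14 := by
  decide +kernel

set_option maxRecDepth 1000000 in
set_option maxHeartbeats 0 in
theorem cD3A_17_0 : bsCount 256 board0 753735840586311980721501517663814697 976489780099076371613567291816446062 = 0 := by
  decide +kernel

set_option maxRecDepth 1000000 in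
set_option maxHeartbeats 0 in
theorem cD3A_17_1 : bsCount 256 board1 753735840586311980721501517663814697 976489780099076371613567291816446062 = 20 := by
  decide +kernel

set_option maxRecDepth 1000000 in
set_option maxHeartbeats 0 in
theorem cD3A_17_2 : bsCount 256 board2 753735840586311980721501517663814697 976489780099076371613567291816446062 = 16 := by
  decide +kernel

set_option maxRecDepth 1000000 in
set_option maxHeartbeats 0 in
theorem cD3A_17_3 : bsCount 256 board3 753735840586311980721501517663814697 976489780099076371613567291816446062 = 26 := by
  decide +kernel

end Cfsg.Agent.Lib.Helper13.OctBS
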