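import Cfsg.Agent.Lib.Helper13.OctBoard0
import Cfsg.Agent.Lib.Helper13.OctBoard1
import Cfsg.Agent.Lib.Helper13.OctBoard2
import Cfsg.Agent.Lib.Helper13.OctBoard3

/-! Kernel computation of the bit-sliced counts for entries 18 to 23 of the table `D3A`. -/

set_option Elab.async false

namespace Cfsg.Agent.Lib.Helper13.OctBS

set_option maxRecDepth 1000000 in
set_option maxHeartbeats 0 in
theorem cD3A_18_0 : bsCount 256 board0 874927871986061037334869680046848279 984818070671820887514443681551124640 = 21 := by
  decide +kernel

set_option maxRecDepth 1000000 in
set_option maxHeartbeats 0 in
theorem cD3A_18_1 : bsCount 256 board1 874927871986061037334869680046848279 984818070671820887514443681551124640 = 5 := by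
  decide +kernel

set_option maxRecDepth 1000000 in
set_option maxHeartbeats 0 in
theorem cD3A_18_2 : bsCount 256 board2 874927871986061037334869680046848279 984818070671820887514443681551124640 = 13 := by
  decide +kernel

set_option maxRecDepth 1000000 in
set_option maxHeartbeats 0 in
theorem cD3A_18_3 : bsCount 256 board3 874927871986061037334869680046848279 984818070671820887514443681551124640 = 13 := by
  decide +kernel

set_option maxRecDepth 1000000 in
set_option maxHeartbeats 0 in
theorem cD3A_19_0 : bsCount 256 board0 818057209353012704072006130108644434 13858692994544414546927238932139575 = 58 := by
  decide +kernel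

set_option maxRecDepth 1000000 in
set_option maxHeartbeats 0 in
theorem cD3A_19_1 : bsCount 256 board1 818057209353012704072006130108644434 13858692994544414546927238932139575 = 56 := by
  decide +kernel

set_option maxRecDepth 1000000 in
set_option maxHeartbeats 0 in
theorem cD3A_19_2 : bsCount 256 board2 818057209353012704072006130108644434 13858692994544414546927238932139575 = 88 := by
  decide +kernel

set_option maxRecDepth 1000000 in
set_option maxHeartbeats 0 in
theorem cD3A_19_3 : bsCount 256 board3 818057209353012704072006130108644434 13858692994544414546927238932139575 = 30 := by
  decide +kernel

set_option maxRecDepth 1000000 in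
set_option maxHeartbeats 0 in
theorem cD3A_20_0 : bsCount 256 board0 918452634047430702988442488072289696 984313243637743903367162865681286181 = 15 := by
  decide +kernel

set_option maxRecDepth 1000000 in
set_option maxHeartbeats 0 in
theorem cD3A_20_1 : bsCount 256 board1 918452634047430702988442488072289696 984313243637743903367162865681286181 = 19 := by
  decide +kernel

set_option maxRecDepth 1000000 in
set_option maxHeartbeats 0 in
theorem cD3A_20_2 : bsCount 256 board2 918452634047430702988442488072289696 984313243637743903367162865681286181 = 12 := by
  decide +kernel

set_option maxRecDepth 1000000 in
set_option maxHeartbeats 0 in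
theorem cD3A_20_3 : bsCount 256 board3 918452634047430702988442488072289696 984313243637743903367162865681286181 = 16 := by
  decide +kernel

set_option maxRecDepth 1000000 in
set_option maxHeartbeats 0 in
theorem cD3A_21_0 : bsCount 256 board0 278490737249792271845377235245321461 11943302717949000103320032424527927 = 12 := by
  decide +kernel

set_option maxRecDepth 1000000 in
set_option maxHeartbeats 0 in
theorem cD3A_21_1 : bsCount 256 board1 278490737249792271845377235245321461 11943302717949000103320032424527927 = 28 := by
  decide +kernel

set_option maxRecDepth 1000000 in
set_option maxHeartbeats 0 in
theorem cD3A_21_2 : bsCount 256 board2 278490737249792271845377235245321461 11943302717949000103320032424527927 = 0 := by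
  decide +kernel

set_option maxRecDepth 1000000 in
set_option maxHeartbeats 0 in
theorem cD3A_21_3 : bsCount 256 board3 278490737249792271845377235245321461 11943302717949000103320032424527927 = 12 := by
  decide +kernel

set_option maxRecDepth 1000000 in
set_option maxHeartbeats 0 in
theorem cD3A_22_0 : bsCount 256 board0 29273424016188041808023710843973092 968632550561690124106994060238046304 = 13 := by
  decide +kernel

set_option maxRecDepth 1000000 in
set_option maxHeartbeats 0 in
theorem cD3A_22_1 : bsCount 256 board1 29273424016188041808023710843973092 968632550561690124106994060238046304 = 4 := by
  decide +kernel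

set_option maxRecDepth 1000000 in
set_option maxHeartbeats 0 in
theorem cD3A_22_2 : bsCount 256 board2 29273424016188041808023710843973092 968632550561690124106994060238046304 = 23 := by
  decide +kernel

set_option maxRecDepth 1000000 in
set_option maxHeartbeats 0 in
theorem cD3A_22_3 : bsCount 256 board3 29273424016188041808023710843973092 968632550561690124106994060238046304 = 14 := by
  decide +kernel

set_option maxRecDepth 1000000 in
set_option maxHeartbeats 0 in
theorem cD3A_23_0 : bsCount 256 board0 139203507745535946649552530339546199 70973755377764488335942145896681201 = 24 := by
  decide +kernel

set_option maxRecDepth 1000000 in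
set_option maxHeartbeats 0 in
theorem cD3A_23_1 : bsCount 256 board1 139203507745535946649552530339546199 70973755377764488335942145896681201 = 16 := by
  decide +kernel

set_option maxRecDepth 1000000 in
set_option maxHeartbeats 0 in
theorem cD3A_23_2 : bsCount 256 board2 139203507745535946649552530339546199 70973755377764488335942145896681201 = 16 := by
  decide +kernel

set_option maxRecDepth 1000000 in
set_option maxHeartbeats 0 in
theorem cD3A_23_3 : bsCount 256 board3 139203507745535946649552530339546199 70973755377764488335942145896681201 = 8 := by
  decide +kernel

end Cfsg.Agent.Lib.Helper13.OctBS
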