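import Cfsg.Agent.Lib.Helper13.OctCnt3Ax0
import Cfsg.Agent.Lib.Helper13.OctBoard0
import Cfsg.Agent.Lib.Helper13.OctBoard1
import Cfsg.Agent.Lib.Helper13.OctBoard2
import Cfsg.Agent.Lib.Helper13.OctBoard3

/-! Kernel computation of the bit-sliced counts for entries 24 to 26 of the table `D3A`. -/

set_option Elab.async false

namespace Cfsg.Agent.Lib.Helper13.OctBS

set_option maxRecDepth 1000000 in
set_option maxHeartbeats 0 in
theorem cD3A_24_0 : bsCount 256 board0 139406164093372633893412097314954742 979605432534570124741533279212110926 = 0 := by
  decide +kernel

set_option maxRecDepth 1000000 in
set_option maxHeartbeats 0 in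
theorem cD3A_24_1 : bsCount 256 board1 139406164093372633893412097314954742 979605432534570124741533279212110926 = 5 := by
  decide +kernel

set_option maxRecDepth 1000000 in
set_option maxHeartbeats 0 in
theorem cD3A_24_2 : bsCount 256 board2 139406164093372633893412097314954742 979605432534570124741533279212110926 = 6 := by
  decide +kernel

set_option maxRecDepth 1000000 in
set_option maxHeartbeats 0 in
theorem cD3A_24_3 : bsCount 256 board3 139406164093372633893412097314954742 979605432534570124741533279212110926 = 5 := by
  decide +kernel

set_option maxRecDepth 1000000 in
set_option maxHeartbeats 0 in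
theorem cD3A_25_0 : bsCount 256 board0 24243033552532260328186959759871713 970499966350631336865513127433832480 = 420 := by
  decide +kernel

set_option maxRecDepth 1000000 in
set_option maxHeartbeats 0 in
theorem cD3A_25_1 : bsCount 256 board1 24243033552532260328186959759871713 970499966350631336865513127433832480 = 348 := by
  decide +kernel

set_option maxRecDepth 1000000 in
set_option maxHeartbeats 0 in
theorem cD3A_25_2 : bsCount 256 board2 24243033552532260328186959759871713 970499966350631336865513127433832480 = 388 := by
  decide +kernel

set_option maxRecDepth 1000000 in
set_option maxHeartbeats 0 in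
theorem cD3A_25_3 : bsCount 256 board3 24243033552532260328186959759871713 970499966350631336865513127433832480 = 300 := by
  decide +kernel

set_option maxRecDepth 1000000 in
set_option maxHeartbeats 0 in
theorem cD3A_26_0 : bsCount 256 board0 235252355705041689285843168876661472 969160290590196632317679099582727214 = 4 := by
  decide +kernel

set_option maxRecDepth 1000000 in
set_option maxHeartbeats 0 in
theorem cD3A_26_1 : bsCount 256 board1 235252355705041689285843168876661472 969160290590196632317679099582727214 = 8 := by
  decide +kernel

set_option maxRecDepth 1000000 in
set_option maxHeartbeats 0 in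
theorem cD3A_26_2 : bsCount 256 board2 235252355705041689285843168876661472 969160290590196632317679099582727214 = 0 := by
  decide +kernel

set_option maxRecDepth 1000000 in
set_option maxHeartbeats 0 in
theorem cD3A_26_3 : bsCount 256 board3 235252355705041689285843168876661472 969160290590196632317679099582727214 = 4 := by
  decide +kernel

end Cfsg.Agent.Lib.Helper13.OctBS
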