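import Cfsg.Agent.Lib.Helper13.OctCnt3Ax1
import Cfsg.Agent.Lib.Helper13.OctBoard0
import Cfsg.Agent.Lib.Helper13.OctBoard1
import Cfsg.Agent.Lib.Helper13.OctBoard2
import Cfsg.Agent.Lib.Helper13.OctBoard3

/-! Kernel computation of the bit-sliced counts for entries 0 to 4 of the table `D3B`. -/

set_option Elab.async false

namespace Cfsg.Agent.Lib.Helper13.OctBS

set_option maxRecDepth 1000000 in
set_option maxHeartbeats 0 in
theorem cD3B_0_0 : bsCount 256 board0 177286403934757018905199502182029845 213670958863309626040359401650458065 = 16 := by
  decide +kernel

set_option maxRecDepth 1000000 in
set_option maxHeartbeats 0 in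
theorem cD3B_0_1 : bsCount 256 board1 177286403934757018905199502182029845 213670958863309626040359401650458065 = 16 := by
  decide +kernel

set_option maxRecDepth 1000000 in
set_option maxHeartbeats 0 in
theorem cD3B_0_2 : bsCount 256 board2 177286403934757018905199502182029845 213670958863309626040359401650458065 = 16 := by
  decide +kernel

set_option maxRecDepth 1000000 in
set_option maxHeartbeats 0 in
theorem cD3B_0_3 : bsCount 256 board3 177286403934757018905199502182029845 213670958863309626040359401650458065 = 16 := by
  decide +kernel

set_option maxRecDepth 1000000 in
set_option maxHeartbeats 0 in
theorem cD3B_1_0 : bsCount 256 board0 296653940946653642895852771298934964 222808969314877183791198688830834115 = 8 := by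
  decide +kernel

set_option maxRecDepth 1000000 in
set_option maxHeartbeats 0 in
theorem cD3B_1_1 : bsCount 256 board1 296653940946653642895852771298934964 222808969314877183791198688830834115 = 8 := by
  decide +kernel

set_option maxRecDepth 1000000 in
set_option maxHeartbeats 0 in
theorem cD3B_1_2 : bsCount 256 board2 296653940946653642895852771298934964 222808969314877183791198688830834115 = 24 := by
  decide +kernel

set_option maxRecDepth 1000000 in
set_option maxHeartbeats 0 in
theorem cD3B_1_3 : bsCount 256 board3 296653940946653642895852771298934964 222808969314877183791198688830834115 = 8 := by
  decide +kernel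

set_option maxRecDepth 1000000 in
set_option maxHeartbeats 0 in
theorem cD3B_2_0 : bsCount 256 board0 890734000704220222301233635155098896 95384706698037412598025135171099749 = 12 := by
  decide +kernel

set_option maxRecDepth 1000000 in
set_option maxHeartbeats 0 in
theorem cD3B_2_1 : bsCount 256 board1 890734000704220222301233635155098896 95384706698037412598025135171099749 = 12 := by
  decide +kernel

set_option maxRecDepth 1000000 in
set_option maxHeartbeats 0 in
theorem cD3B_2_2 : bsCount 256 board2 890734000704220222301233635155098896 95384706698037412598025135171099749 = 12 := by
  decide +kernel

set_option maxRecDepth 1000000 in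
set_option maxHeartbeats 0 in
theorem cD3B_2_3 : bsCount 256 board3 890734000704220222301233635155098896 95384706698037412598025135171099749 = 12 := by
  decide +kernel

set_option maxRecDepth 1000000 in
set_option maxHeartbeats 0 in
theorem cD3B_3_0 : bsCount 256 board0 345342437274831066350362815892173110 66948061217948495928725947170229998 = 16 := by
  decide +kernel

set_option maxRecDepth 1000000 in
set_option maxHeartbeats 0 in
theorem cD3B_3_1 : bsCount 256 board1 345342437274831066350362815892173110 66948061217948495928725947170229998 = 16 := by
  decide +kernel

set_option maxRecDepth 1000000 in
set_option maxHeartbeats 0 in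
theorem cD3B_3_2 : bsCount 256 board2 345342437274831066350362815892173110 66948061217948495928725947170229998 = 16 := by
  decide +kernel

set_option maxRecDepth 1000000 in
set_option maxHeartbeats 0 in
theorem cD3B_3_3 : bsCount 256 board3 345342437274831066350362815892173110 66948061217948495928725947170229998 = 16 := by
  decide +kernel

set_option maxRecDepth 1000000 in
set_option maxHeartbeats 0 in
theorem cD3B_4_0 : bsCount 256 board0 914259606066306724050039340460590551 596366844051235442731031181682347009 = 16 := by
  decide +kernel

set_option maxRecDepth 1000000 in
set_option maxHeartbeats 0 in
theorem cD3B_4_1 : bsCount 256 board1 914259606066306724050039340460590551 596366844051235442731031181682347009 = 2 := by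
  decide +kernel

set_option maxRecDepth 1000000 in
set_option maxHeartbeats 0 in
theorem cD3B_4_2 : bsCount 256 board2 914259606066306724050039340460590551 596366844051235442731031181682347009 = 18 := by
  decide +kernel

set_option maxRecDepth 1000000 in
set_option maxHeartbeats 0 in
theorem cD3B_4_3 : bsCount 256 board3 914259606066306724050039340460590551 596366844051235442731031181682347009 = 12 := by
  decide +kernel

end Cfsg.Agent.Lib.Helper13.OctBS
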