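import Cfsg.Agent.Lib.Helper13.OctCnt3Ax2
import Cfsg.Agent.Lib.Helper13.OctBoard0
import Cfsg.Agent.Lib.Helper13.OctBoard1
import Cfsg.Agent.Lib.Helper13.OctBoard2
import Cfsg.Agent.Lib.Helper13.OctBoard3

/-! Kernel computation of the bit-sliced counts for entries 0 to 2 of the table `D5A`. -/

set_option Elab.async false

namespace Cfsg.Agent.Lib.Helper13.OctBS

set_option maxRecDepth 1000000 in
set_option maxHeartbeats 0 in
theorem cD5A_0_0 : bsCount 256 board0 940522051456678680387412036606526597 47522527602624033406300578063238894 = 8 := by
  decide +kernel

set_option maxRecDepth 1000000 in
set_option maxHeartbeats 0 in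
theorem cD5A_0_1 : bsCount 256 board1 940522051456678680387412036606526597 47522527602624033406300578063238894 = 10 := by
  decide +kernel

set_option maxRecDepth 1000000 in
set_option maxHeartbeats 0 in
theorem cD5A_0_2 : bsCount 256 board2 940522051456678680387412036606526597 47522527602624033406300578063238894 = 10 := by
  decide +kernel

set_option maxRecDepth 1000000 in
set_option maxHeartbeats 0 in
theorem cD5A_0_3 : bsCount 256 board3 940522051456678680387412036606526597 47522527602624033406300578063238894 = 20 := by
  decide +kernel

set_option maxRecDepth 1000000 in
set_option maxHeartbeats 0 in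
theorem cD5A_1_0 : bsCount 256 board0 630421183756431964759754592921065832 726133741019208874699259733853274274 = 12 := by
  decide +kernel

set_option maxRecDepth 1000000 in
set_option maxHeartbeats 0 in
theorem cD5A_1_1 : bsCount 256 board1 630421183756431964759754592921065832 726133741019208874699259733853274274 = 12 := by
  decide +kernel

set_option maxRecDepth 1000000 in
set_option maxHeartbeats 0 in
theorem cD5A_1_2 : bsCount 256 board2 630421183756431964759754592921065832 726133741019208874699259733853274274 = 10 := by
  decide +kernel

set_option maxRecDepth 1000000 in
set_option maxHeartbeats 0 in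
theorem cD5A_1_3 : bsCount 256 board3 630421183756431964759754592921065832 726133741019208874699259733853274274 = 14 := by
  decide +kernel

set_option maxRecDepth 1000000 in
set_option maxHeartbeats 0 in
theorem cD5A_2_0 : bsCount 256 board0 983340740526673150245839080407541088 589998088068084191074240023961277987 = 8 := by
  decide +kernel

set_option maxRecDepth 1000000 in
set_option maxHeartbeats 0 in
theorem cD5A_2_1 : bsCount 256 board1 983340740526673150245839080407541088 589998088068084191074240023961277987 = 10 := by
  decide +kernel

set_option maxRecDepth 1000000 in
set_option maxHeartbeats 0 in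
theorem cD5A_2_2 : bsCount 256 board2 983340740526673150245839080407541088 589998088068084191074240023961277987 = 10 := by
  decide +kernel

set_option maxRecDepth 1000000 in
set_option maxHeartbeats 0 in
theorem cD5A_2_3 : bsCount 256 board3 983340740526673150245839080407541088 589998088068084191074240023961277987 = 20 := by
  decide +kernel

end Cfsg.Agent.Lib.Helper13.OctBS
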