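import Cfsg.Agent.Lib.Helper13.OctCnt3Ax3
import Cfsg.Agent.Lib.Helper13.OctBoard0
import Cfsg.Agent.Lib.Helper13.OctBoard1
import Cfsg.Agent.Lib.Helper13.OctBoard2
import Cfsg.Agent.Lib.Helper13.OctBoard3

/-! Kernel computation of the bit-sliced counts for entries 0 to 5 of the table `D7A`. -/

set_option Elab.async false

namespace Cfsg.Agent.Lib.Helper13.OctBS

set_option maxRecDepth 1000000 in
set_option maxHeartbeats 0 in
theorem cD7A_0_0 : bsCount 256 board0 478276065012726406399972335250672332 971836263857004386005188942625883137 = 0 := by
  decide +kernel

set_option maxRecDepth 1000000 in
set_option maxHeartbeats 0 in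
theorem cD7A_0_1 : bsCount 256 board1 478276065012726406399972335250672332 971836263857004386005188942625883137 = 14 := by
  decide +kernel

set_option maxRecDepth 1000000 in
set_option maxHeartbeats 0 in
theorem cD7A_0_2 : bsCount 256 board2 478276065012726406399972335250672332 971836263857004386005188942625883137 = 32 := by
  decide +kernel

set_option maxRecDepth 1000000 in
set_option maxHeartbeats 0 in
theorem cD7A_0_3 : bsCount 256 board3 478276065012726406399972335250672332 971836263857004386005188942625883137 = 16 := by
  decide +kernel

set_option maxRecDepth 1000000 in
set_option maxHeartbeats 0 in
theorem cD7A_1_0 : bsCount 256 board0 50892732043739761883611455489018005 610283258298688325910985628485600257 = 60 := by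
  decide +kernel

set_option maxRecDepth 1000000 in
set_option maxHeartbeats 0 in
theorem cD7A_1_1 : bsCount 256 board1 50892732043739761883611455489018005 610283258298688325910985628485600257 = 61 := by
  decide +kernel

set_option maxRecDepth 1000000 in
set_option maxHeartbeats 0 in
theorem cD7A_1_2 : bsCount 256 board2 50892732043739761883611455489018005 610283258298688325910985628485600257 = 61 := by
  decide +kernel

set_option maxRecDepth 1000000 in
set_option maxHeartbeats 0 in
theorem cD7A_1_3 : bsCount 256 board3 50892732043739761883611455489018005 610283258298688325910985628485600257 = 50 := by
  decide +kernel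

set_option maxRecDepth 1000000 in
set_option maxHeartbeats 0 in
theorem cD7A_2_0 : bsCount 256 board0 810027593026268823373332976182561225 29395921827946026794865043067537463 = 13 := by
  decide +kernel

set_option maxRecDepth 1000000 in
set_option maxHeartbeats 0 in
theorem cD7A_2_1 : bsCount 256 board1 810027593026268823373332976182561225 29395921827946026794865043067537463 = 14 := by
  decide +kernel

set_option maxRecDepth 1000000 in
set_option maxHeartbeats 0 in
theorem cD7A_2_2 : bsCount 256 board2 810027593026268823373332976182561225 29395921827946026794865043067537463 = 14 := by
  decide +kernel

set_option maxRecDepth 1000000 in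
set_option maxHeartbeats 0 in
theorem cD7A_2_3 : bsCount 256 board3 810027593026268823373332976182561225 29395921827946026794865043067537463 = 13 := by
  decide +kernel

set_option maxRecDepth 1000000 in
set_option maxHeartbeats 0 in
theorem cD7A_3_0 : bsCount 256 board0 169572949074946656690465797936635558 984730849673303422986486049713260997 = 3 := by
  decide +kernel

set_option maxRecDepth 1000000 in
set_option maxHeartbeats 0 in
theorem cD7A_3_1 : bsCount 256 board1 169572949074946656690465797936635558 984730849673303422986486049713260997 = 24 := by
  decide +kernel

set_option maxRecDepth 1000000 in
set_option maxHeartbeats 0 in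
theorem cD7A_3_2 : bsCount 256 board2 169572949074946656690465797936635558 984730849673303422986486049713260997 = 6 := by
  decide +kernel

set_option maxRecDepth 1000000 in
set_option maxHeartbeats 0 in
theorem cD7A_3_3 : bsCount 256 board3 169572949074946656690465797936635558 984730849673303422986486049713260997 = 21 := by
  decide +kernel

set_option maxRecDepth 1000000 in
set_option maxHeartbeats 0 in
theorem cD7A_4_0 : bsCount 256 board0 215576679300219949802357417042025962 982224593024049257157786858763094126 = 1 := by
  decide +kernel

set_option maxRecDepth 1000000 in
set_option maxHeartbeats 0 in
theorem cD7A_4_1 : bsCount 256 board1 215576679300219949802357417042025962 982224593024049257157786858763094126 = 16 := by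
  decide +kernel

set_option maxRecDepth 1000000 in
set_option maxHeartbeats 0 in
theorem cD7A_4_2 : bsCount 256 board2 215576679300219949802357417042025962 982224593024049257157786858763094126 = 18 := by
  decide +kernel

set_option maxRecDepth 1000000 in
set_option maxHeartbeats 0 in
theorem cD7A_4_3 : bsCount 256 board3 215576679300219949802357417042025962 982224593024049257157786858763094126 = 19 := by
  decide +kernel

set_option maxRecDepth 1000000 in
set_option maxHeartbeats 0 in
theorem cD7A_5_0 : bsCount 256 board0 666344554489038058688513994664906018 146261786287366217854178837448604197 = 54 := by
  decide +kernel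

set_option maxRecDepth 1000000 in
set_option maxHeartbeats 0 in
theorem cD7A_5_1 : bsCount 256 board1 666344554489038058688513994664906018 146261786287366217854178837448604197 = 30 := by
  decide +kernel

set_option maxRecDepth 1000000 in
set_option maxHeartbeats 0 in
theorem cD7A_5_2 : bsCount 256 board2 666344554489038058688513994664906018 146261786287366217854178837448604197 = 94 := by
  decide +kernel

set_option maxRecDepth 1000000 in
set_option maxHeartbeats 0 in
theorem cD7A_5_3 : bsCount 256 board3 666344554489038058688513994664906018 146261786287366217854178837448604197 = 54 := by
  decide +kernel

end Cfsg.Agent.Lib.Helper13.OctBS
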