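import Cfsg.Agent.Lib.Helper13.OctCnt3Ax4
import Cfsg.Agent.Lib.Helper13.OctBoard0
import Cfsg.Agent.Lib.Helper13.OctBoard1
import Cfsg.Agent.Lib.Helper13.OctBoard2
import Cfsg.Agent.Lib.Helper13.OctBoard3

/-! Kernel computation of the bit-sliced counts for entries 6 to 10 of the table `D7A`. -/

set_option Elab.async false

namespace Cfsg.Agent.Lib.Helper13.OctBS

set_option maxRecDepth 1000000 in
set_option maxHeartbeats 0 in
theorem cD7A_6_0 : bsCount 256 board0 468936070060048782800421642762227831 112375232065240487014677288284445733 = 40 := by
  decide +kernel

set_option maxRecDepth 1000000 in
set_option maxHeartbeats 0 in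
theorem cD7A_6_1 : bsCount 256 board1 468936070060048782800421642762227831 112375232065240487014677288284445733 = 8 := by
  decide +kernel

set_option maxRecDepth 1000000 in
set_option maxHeartbeats 0 in
theorem cD7A_6_2 : bsCount 256 board2 468936070060048782800421642762227831 112375232065240487014677288284445733 = 0 := by
  decide +kernel

set_option maxRecDepth 1000000 in
set_option maxHeartbeats 0 in
theorem cD7A_6_3 : bsCount 256 board3 468936070060048782800421642762227831 112375232065240487014677288284445733 = 14 := by
  decide +kernel

set_option maxRecDepth 1000000 in
set_option maxHeartbeats 0 in
theorem cD7A_7_0 : bsCount 256 board0 668071089635459601693342303460148544 963559745903778623359417332224538656 = 27 := by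
  decide +kernel

set_option maxRecDepth 1000000 in
set_option maxHeartbeats 0 in
theorem cD7A_7_1 : bsCount 256 board1 668071089635459601693342303460148544 963559745903778623359417332224538656 = 9 := by
  decide +kernel

set_option maxRecDepth 1000000 in
set_option maxHeartbeats 0 in
theorem cD7A_7_2 : bsCount 256 board2 668071089635459601693342303460148544 963559745903778623359417332224538656 = 10 := by
  decide +kernel

set_option maxRecDepth 1000000 in
set_option maxHeartbeats 0 in
theorem cD7A_7_3 : bsCount 256 board3 668071089635459601693342303460148544 963559745903778623359417332224538656 = 16 := by
  decide +kernel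

set_option maxRecDepth 1000000 in
set_option maxHeartbeats 0 in
theorem cD7A_8_0 : bsCount 256 board0 958005890811025711111619706218384713 236513623491057568040441467156662318 = 14 := by
  decide +kernel

set_option maxRecDepth 1000000 in
set_option maxHeartbeats 0 in
theorem cD7A_8_1 : bsCount 256 board1 958005890811025711111619706218384713 236513623491057568040441467156662318 = 0 := by
  decide +kernel

set_option maxRecDepth 1000000 in
set_option maxHeartbeats 0 in
theorem cD7A_8_2 : bsCount 256 board2 958005890811025711111619706218384713 236513623491057568040441467156662318 = 14 := by
  decide +kernel

set_option maxRecDepth 1000000 in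
set_option maxHeartbeats 0 in
theorem cD7A_8_3 : bsCount 256 board3 958005890811025711111619706218384713 236513623491057568040441467156662318 = 34 := by
  decide +kernel

set_option maxRecDepth 1000000 in
set_option maxHeartbeats 0 in
theorem cD7A_9_0 : bsCount 256 board0 546595735002791024377546513486202119 70953386959030286626061737309244131 = 27 := by
  decide +kernel

set_option maxRecDepth 1000000 in
set_option maxHeartbeats 0 in
theorem cD7A_9_1 : bsCount 256 board1 546595735002791024377546513486202119 70953386959030286626061737309244131 = 13 := by
  decide +kernel

set_option maxRecDepth 1000000 in
set_option maxHeartbeats 0 in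
theorem cD7A_9_2 : bsCount 256 board2 546595735002791024377546513486202119 70953386959030286626061737309244131 = 0 := by
  decide +kernel

set_option maxRecDepth 1000000 in
set_option maxHeartbeats 0 in
theorem cD7A_9_3 : bsCount 256 board3 546595735002791024377546513486202119 70953386959030286626061737309244131 = 14 := by
  decide +kernel

set_option maxRecDepth 1000000 in
set_option maxHeartbeats 0 in
theorem cD7A_10_0 : bsCount 256 board0 719432542989151859114493654888101943 961365507626256404119956257276790816 = 488 := by
  decide +kernel

set_option maxRecDepth 1000000 in
set_option maxHeartbeats 0 in
theorem cD7A_10_1 : bsCount 256 board1 719432542989151859114493654888101943 961365507626256404119956257276790816 = 442 := by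
  decide +kernel

set_option maxRecDepth 1000000 in
set_option maxHeartbeats 0 in
theorem cD7A_10_2 : bsCount 256 board2 719432542989151859114493654888101943 961365507626256404119956257276790816 = 434 := by
  decide +kernel

set_option maxRecDepth 1000000 in
set_option maxHeartbeats 0 in
theorem cD7A_10_3 : bsCount 256 board3 719432542989151859114493654888101943 961365507626256404119956257276790816 = 380 := by
  decide +kernel

end Cfsg.Agent.Lib.Helper13.OctBS
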