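import Cfsg.Agent.Lib.Helper13.OctCert
import Cfsg.Agent.Lib.Helper20.OneBlockCount

/-!
Counting in the stabiliser of the base octad in `M24`: the number of 2-elements `y` commuting with `κ`
such that `y⁻¹ * γ` has odd order is computed by the bit-sliced counts of the four boards.
-/

set_option autoImplicit false

namespace Cfsg.Agent.Lib.Helper13.OctBS

open Cfsg Cfsg.Agent.Lib.Helper28 Cfsg.Agent.Lib.Helper13.PackPerm Cfsg.Agent.Lib.Helper13.M22Enum
  Cfsg.Agent.Lib.Helper13.OctEnum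
open Cfsg.Agent.Lib.Helper20.OneBlock (Good)

/-- the number of 2-elements `y` of the octad stabiliser commuting with `κ` with `y⁻¹ * γ` of odd
order -/
noncomputable def octCnt (γ κ : Equiv.Perm GolayPt) : ℕ :=
  Nat.card {y : ↥OStab // Good 2 γ (y : Equiv.Perm GolayPt) ∧
    κ * (y : Equiv.Perm GolayPt) = (y : Equiv.Perm GolayPt) * κ}

/-- the bit-sliced count over the four boards -/
def bsCount4 (g c : ℕ) : ℕ :=
  bsCount 256 board0 g c + bsCount 256 board1 g c + bsCount 256 board2 g c +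
    bsCount 256 board3 g c

theorem octCnt_eq {γ κ : Equiv.Perm GolayPt} {g c : ℕ} (hγ : γ ∈ M24) (hg : Rep γ g)
    (hc : Rep κ c) : octCnt γ κ = bsCount4 g c := by
  have h1 : octCnt γ κ = Nat.card {x : ↥HOct //
      x.1 ^ 1024 = 1 ∧ (x.1 * γ) ^ 239085 = 1 ∧ κ * x.1 = x.1 * κ} := by
    unfold octCnt
    apply Nat.card_congr
    refine Equiv.subtypeEquiv (Equiv.inv ↥OStab) ?_
    intro y
    have hy : y.1 ∈ M24 := (mem_OStab.mp y.2).1
    show ((∃ k : ℕ, orderOf y.1 = 2 ^ k) ∧ ¬ 2 ∣ orderOf ((y.1)⁻¹ * γ)) ∧ κ * y.1 = y.1 * κ ↔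
      (y⁻¹).1 ^ 1024 = 1 ∧ ((y⁻¹).1 * γ) ^ 239085 = 1 ∧ κ * (y⁻¹).1 = (y⁻¹).1 * κ
    rw [Subgroup.coe_inv, inv_pow, inv_eq_one, ← two_pow_iff hy,
      ← odd_iff (M24.mul_mem (M24.inv_mem hy) hγ)]
    have hcomm : κ * y.1 = y.1 * κ ↔ κ * (y.1)⁻¹ = (y.1)⁻¹ * κ :=
      (Commute.inv_right_iff (a := κ) (b := y.1)).symm
    rw [hcomm, and_assoc]
  have h2 := card_Oct_filter
    (fun σ => σ ^ 1024 = 1 ∧ (σ * γ) ^ 239085 = 1 ∧ κ * σ = σ * κ)
    (fun r => is2 r && (oddT g r && comT c r))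
    (fun σ _ r hr => by
      rw [Bool.and_eq_true, Bool.and_eq_true, is2_iff hr, oddT_iff hg hr, comT_iff hc hr,
        eq_comm (a := σ * κ)])
  have hT : ∀ (σ : Equiv.Perm GolayPt) (r : ℕ), Rep σ r →
      ((oddT g r && comT c r) = true ↔ ((σ * γ) ^ 239085 = 1 ∧ κ * σ = σ * κ)) := by
    intro σ r hr
    rw [Bool.and_eq_true, oddT_iff hg hr, comT_iff hc hr, eq_comm (a := σ * κ)]
  rw [h1, h2, countP_two, countP_Yall]
  unfold bsCount4
  rw [bsCount_eq length_Yb0 lane_board0 hg hc (fun r => oddT g r && comT c r) hT,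
    bsCount_eq length_Yb1 lane_board1 hg hc (fun r => oddT g r && comT c r) hT,
    bsCount_eq length_Yb2 lane_board2 hg hc (fun r => oddT g r && comT c r) hT,
    bsCount_eq length_Yb3 lane_board3 hg hc (fun r => oddT g r && comT c r) hT]

/-- the count over the four boards from the four counts (no computation here) -/
theorem bsCount4_of {g c n0 n1 n2 n3 n : ℕ} (h0 : bsCount 256 board0 g c = n0)
    (h1 : bsCount 256 board1 g c = n1) (h2 : bsCount 256 board2 g c = n2)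
    (h3 : bsCount 256 board3 g c = n3) (hn : n0 + n1 + n2 + n3 = n) : bsCount4 g c = n := by
  subst h0 h1 h2 h3
  exact hn

/-- from a computed table of counts to the counts -/
theorem counts_of_all (X : List (ℕ × ℕ × ℕ))
    (h : ∀ d ∈ X, bsCount4 d.1 d.2.1 = d.2.2) :
    ∀ d ∈ X, ∀ γ κ : Equiv.Perm GolayPt, γ ∈ M24 → Rep γ d.1 → Rep κ d.2.1 →
      octCnt γ κ = d.2.2 :=
  fun d hd _ _ hγ hg hc => (octCnt_eq hγ hg hc).trans (h d hd)

theorem forall_cons {P : ℕ × ℕ × ℕ → Prop} {a : ℕ × ℕ × ℕ} {l : List (ℕ × ℕ × ℕ)} (h1 : P a)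
    (h2 : ∀ d ∈ l, P d) : ∀ d ∈ a :: l, P d :=
  List.forall_mem_cons.mpr ⟨h1, h2⟩

theorem forall_nil {P : ℕ × ℕ × ℕ → Prop} : ∀ d ∈ ([] : List (ℕ × ℕ × ℕ)), P d :=
  fun _ h => absurd h List.not_mem_nil

end Cfsg.Agent.Lib.Helper13.OctBS
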