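import Cfsg.Agent.Lib.Helper13.OctCount
import Cfsg.Agent.Lib.Helper24.M24Blk.Data
import Cfsg.Agent.Lib.Helper13.OctCnt3Ax0
import Cfsg.Agent.Lib.Helper13.OctCnt3Ax1
import Cfsg.Agent.Lib.Helper13.OctCnt3Ax2
import Cfsg.Agent.Lib.Helper13.OctCnt3Ax3
import Cfsg.Agent.Lib.Helper13.OctCnt3Ax4
import Cfsg.Agent.Lib.Helper13.OctCnt3Bx0
import Cfsg.Agent.Lib.Helper13.OctCnt5Ax0
import Cfsg.Agent.Lib.Helper13.OctCnt7Ax0
import Cfsg.Agent.Lib.Helper13.OctCnt7Ax1
import Cfsg.Agent.Lib.Helper13.OctCnt11Ax0
import Cfsg.Agent.Lib.Helper13.OctCnt11Ax1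
import Cfsg.Agent.Lib.Helper13.OctCnt11Ax2
import Cfsg.Agent.Lib.Helper13.OctCnt11Ax3
import Cfsg.Agent.Lib.Helper13.OctCnt11Ax4
import Cfsg.Agent.Lib.Helper13.OctCnt11Ax5
import Cfsg.Agent.Lib.Helper13.OctCnt11Ax6
import Cfsg.Agent.Lib.Helper13.OctCnt11Ax7
import Cfsg.Agent.Lib.Helper13.OctCnt11Ax8
import Cfsg.Agent.Lib.Helper13.OctCnt11Ax9
import Cfsg.Agent.Lib.Helper13.OctCnt11Ax10
import Cfsg.Agent.Lib.Helper13.OctCnt11Ax11
import Cfsg.Agent.Lib.Helper13.OctCnt15Ax0
import Cfsg.Agent.Lib.Helper13.OctCnt15Ax1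
import Cfsg.Agent.Lib.Helper13.OctCnt15Ax2
import Cfsg.Agent.Lib.Helper13.OctCnt15Ax3
import Cfsg.Agent.Lib.Helper13.OctCnt15Ax4
import Cfsg.Agent.Lib.Helper13.OctCnt15Ax5
import Cfsg.Agent.Lib.Helper13.OctCnt15Ax6
import Cfsg.Agent.Lib.Helper13.OctCnt15Ax7
import Cfsg.Agent.Lib.Helper13.OctCnt15Ax8
import Cfsg.Agent.Lib.Helper13.OctCnt15Ax9
import Cfsg.Agent.Lib.Helper13.OctCnt21Ax0
import Cfsg.Agent.Lib.Helper13.OctCnt21Ax1
import Cfsg.Agent.Lib.Helper13.OctCnt21Ax2
import Cfsg.Agent.Lib.Helper13.OctCnt21Ax3
import Cfsg.Agent.Lib.Helper13.OctCnt21Ax4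
import Cfsg.Agent.Lib.Helper13.OctCnt21Ax5
import Cfsg.Agent.Lib.Helper13.OctCnt21Ax6
import Cfsg.Agent.Lib.Helper13.OctCnt23Ax0
import Cfsg.Agent.Lib.Helper13.OctCnt23Ax1
import Cfsg.Agent.Lib.Helper13.OctCnt23Ax2
import Cfsg.Agent.Lib.Helper13.OctCnt23Ax3
import Cfsg.Agent.Lib.Helper13.OctCnt23Ax4
import Cfsg.Agent.Lib.Helper13.OctCnt23Ax5

/-!
The counts of helper24's tables for the 2-block of `M24`: for each triple `(γ, κ, n)` of a table, the
number of 2-elements `y` of the octad stabiliser commuting with `κ` with `y⁻¹ * γ` of odd order is `n`.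
-/

set_option autoImplicit false

namespace Cfsg.Agent.Lib.Helper13.OctBS

open Cfsg Cfsg.Agent.Lib.Helper28 Cfsg.Agent.Lib.Helper13.PackPerm Cfsg.Agent.Lib.Helper24.M24Blk

theorem okD3A_0 : bsCount4 237001987809458089603486575497970123 715734048135252778992534258547066912 = 52 :=
  bsCount4_of cD3A_0_0 cD3A_0_1 cD3A_0_2 cD3A_0_3 rfl

theorem okD3A_1 : bsCount4 276146280211370847511874343437339233 592348547565827762175298702812940320 = 54 :=
  bsCount4_of cD3A_1_0 cD3A_1_1 cD3A_1_2 cD3A_1_3 rfl

theorem okD3A_2 : bsCount4 568722075581142867868029588836957355 25536438262301059128512658484038711 = 16 :=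
  bsCount4_of cD3A_2_0 cD3A_2_1 cD3A_2_2 cD3A_2_3 rfl

theorem okD3A_3 : bsCount4 974999806601863565683833875810623542 984806227379088838201018984694921248 = 52 :=
  bsCount4_of cD3A_3_0 cD3A_3_1 cD3A_3_2 cD3A_3_3 rfl

theorem okD3A_4 : bsCount4 967942764742804360422948055559854120 722567797787078513592020738258308128 = 62 :=
  bsCount4_of cD3A_4_0 cD3A_4_1 cD3A_4_2 cD3A_4_3 rfl

theorem okD3A_5 : bsCount4 727112977453489072382012251054868582 50202157793935246551961082207451877 = 232 :=
  bsCount4_of cD3A_5_0 cD3A_5_1 cD3A_5_2 cD3A_5_3 rfl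

theorem okD3A_6 : bsCount4 296785389738977648160459163387539008 981616150452815826097002658071151680 = 62 :=
  bsCount4_of cD3A_6_0 cD3A_6_1 cD3A_6_2 cD3A_6_3 rfl

theorem okD3A_7 : bsCount4 177844469132787441861253111815982126 984728307533059736561803021309294641 = 52 :=
  bsCount4_of cD3A_7_0 cD3A_7_1 cD3A_7_2 cD3A_7_3 rfl

theorem okD3A_8 : bsCount4 849814229537008828662826253720885288 972689361118954751962177104254089251 = 54 :=
  bsCount4_of cD3A_8_0 cD3A_8_1 cD3A_8_2 cD3A_8_3 rfl

theorem okD3A_9 : bsCount4 694031869386159305195806507405041056 980396787561598970936339623786416672 = 54 :=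
  bsCount4_of cD3A_9_0 cD3A_9_1 cD3A_9_2 cD3A_9_3 rfl

theorem okD3A_10 : bsCount4 237198390599102186873740793945247795 984811896368526027902876845265194432 = 52 :=
  bsCount4_of cD3A_10_0 cD3A_10_1 cD3A_10_2 cD3A_10_3 rfl

theorem okD3A_11 : bsCount4 99522793119504147058632928071352791 70441545152478197518680859118582513 = 64 :=
  bsCount4_of cD3A_11_0 cD3A_11_1 cD3A_11_2 cD3A_11_3 rfl

theorem okD3A_12 : bsCount4 195223521195788866295845741175842856 102849064340512708513882474386250784 = 52 :=
  bsCount4_of cD3A_12_0 cD3A_12_1 cD3A_12_2 cD3A_12_3 rfl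

theorem okD3A_13 : bsCount4 8652651506643610348895427837344275 112511777460704415886908211521052206 = 176 :=
  bsCount4_of cD3A_13_0 cD3A_13_1 cD3A_13_2 cD3A_13_3 rfl

theorem okD3A_14 : bsCount4 354560698569044959281244026905415712 93025809474654482351746938484874341 = 176 :=
  bsCount4_of cD3A_14_0 cD3A_14_1 cD3A_14_2 cD3A_14_3 rfl

theorem okD3A_15 : bsCount4 969910755176304412474811566361348128 29396286391881037760695838120708663 = 16 :=
  bsCount4_of cD3A_15_0 cD3A_15_1 cD3A_15_2 cD3A_15_3 rfl

theorem okD3A_16 : bsCount4 748000386828010675256698588196099120 965131035967436872075251960245682210 = 52 :=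
  bsCount4_of cD3A_16_0 cD3A_16_1 cD3A_16_2 cD3A_16_3 rfl

theorem okD3A_17 : bsCount4 753735840586311980721501517663814697 976489780099076371613567291816446062 = 62 :=
  bsCount4_of cD3A_17_0 cD3A_17_1 cD3A_17_2 cD3A_17_3 rfl

theorem okD3A_18 : bsCount4 874927871986061037334869680046848279 984818070671820887514443681551124640 = 52 :=
  bsCount4_of cD3A_18_0 cD3A_18_1 cD3A_18_2 cD3A_18_3 rfl

theorem okD3A_19 : bsCount4 818057209353012704072006130108644434 13858692994544414546927238932139575 = 232 :=
  bsCount4_of cD3A_19_0 cD3A_19_1 cD3A_19_2 cD3A_19_3 rfl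

theorem okD3A_20 : bsCount4 918452634047430702988442488072289696 984313243637743903367162865681286181 = 62 :=
  bsCount4_of cD3A_20_0 cD3A_20_1 cD3A_20_2 cD3A_20_3 rfl

theorem okD3A_21 : bsCount4 278490737249792271845377235245321461 11943302717949000103320032424527927 = 52 :=
  bsCount4_of cD3A_21_0 cD3A_21_1 cD3A_21_2 cD3A_21_3 rfl

theorem okD3A_22 : bsCount4 29273424016188041808023710843973092 968632550561690124106994060238046304 = 54 :=
  bsCount4_of cD3A_22_0 cD3A_22_1 cD3A_22_2 cD3A_22_3 rfl

theorem okD3A_23 : bsCount4 139203507745535946649552530339546199 70973755377764488335942145896681201 = 64 :=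
  bsCount4_of cD3A_23_0 cD3A_23_1 cD3A_23_2 cD3A_23_3 rfl

theorem okD3A_24 : bsCount4 139406164093372633893412097314954742 979605432534570124741533279212110926 = 16 :=
  bsCount4_of cD3A_24_0 cD3A_24_1 cD3A_24_2 cD3A_24_3 rfl

theorem okD3A_25 : bsCount4 24243033552532260328186959759871713 970499966350631336865513127433832480 = 1456 :=
  bsCount4_of cD3A_25_0 cD3A_25_1 cD3A_25_2 cD3A_25_3 rfl

theorem okD3A_26 : bsCount4 235252355705041689285843168876661472 969160290590196632317679099582727214 = 16 :=
  bsCount4_of cD3A_26_0 cD3A_26_1 cD3A_26_2 cD3A_26_3 rfl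

theorem all_D3A : ∀ d ∈ D3A, bsCount4 d.1 d.2.1 = d.2.2 :=
  forall_cons okD3A_0 (forall_cons okD3A_1 (forall_cons okD3A_2 (forall_cons okD3A_3 (forall_cons okD3A_4 (forall_cons okD3A_5 (forall_cons okD3A_6 (forall_cons okD3A_7 (forall_cons okD3A_8 (forall_cons okD3A_9 (forall_cons okD3A_10 (forall_cons okD3A_11 (forall_cons okD3A_12 (forall_cons okD3A_13 (forall_cons okD3A_14 (forall_cons okD3A_15 (forall_cons okD3A_16 (forall_cons okD3A_17 (forall_cons okD3A_18 (forall_cons okD3A_19 (forall_cons okD3A_20 (forall_cons okD3A_21 (forall_cons okD3A_22 (forall_cons okD3A_23 (forall_cons okD3A_24 (forall_cons okD3A_25 (forall_cons okD3A_26 (forall_nil)))))))))))))))))))))))))))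

theorem counts_D3A : ∀ d ∈ D3A, ∀ γ κ : Equiv.Perm GolayPt, γ ∈ M24 → Rep γ d.1 →
    Rep κ d.2.1 → octCnt γ κ = d.2.2 := counts_of_all D3A all_D3A

theorem okD3B_0 : bsCount4 177286403934757018905199502182029845 213670958863309626040359401650458065 = 64 :=
  bsCount4_of cD3B_0_0 cD3B_0_1 cD3B_0_2 cD3B_0_3 rfl

theorem okD3B_1 : bsCount4 296653940946653642895852771298934964 222808969314877183791198688830834115 = 48 :=
  bsCount4_of cD3B_1_0 cD3B_1_1 cD3B_1_2 cD3B_1_3 rfl

theorem okD3B_2 : bsCount4 890734000704220222301233635155098896 95384706698037412598025135171099749 = 48 :=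
  bsCount4_of cD3B_2_0 cD3B_2_1 cD3B_2_2 cD3B_2_3 rfl

theorem okD3B_3 : bsCount4 345342437274831066350362815892173110 66948061217948495928725947170229998 = 64 :=
  bsCount4_of cD3B_3_0 cD3B_3_1 cD3B_3_2 cD3B_3_3 rfl

theorem okD3B_4 : bsCount4 914259606066306724050039340460590551 596366844051235442731031181682347009 = 48 :=
  bsCount4_of cD3B_4_0 cD3B_4_1 cD3B_4_2 cD3B_4_3 rfl

theorem all_D3B : ∀ d ∈ D3B, bsCount4 d.1 d.2.1 = d.2.2 :=
  forall_cons okD3B_0 (forall_cons okD3B_1 (forall_cons okD3B_2 (forall_cons okD3B_3 (forall_cons okD3B_4 (forall_nil)))))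

theorem counts_D3B : ∀ d ∈ D3B, ∀ γ κ : Equiv.Perm GolayPt, γ ∈ M24 → Rep γ d.1 →
    Rep κ d.2.1 → octCnt γ κ = d.2.2 := counts_of_all D3B all_D3B

theorem okD5A_0 : bsCount4 940522051456678680387412036606526597 47522527602624033406300578063238894 = 48 :=
  bsCount4_of cD5A_0_0 cD5A_0_1 cD5A_0_2 cD5A_0_3 rfl

theorem okD5A_1 : bsCount4 630421183756431964759754592921065832 726133741019208874699259733853274274 = 48 :=
  bsCount4_of cD5A_1_0 cD5A_1_1 cD5A_1_2 cD5A_1_3 rfl

theorem okD5A_2 : bsCount4 983340740526673150245839080407541088 589998088068084191074240023961277987 = 48 :=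
  bsCount4_of cD5A_2_0 cD5A_2_1 cD5A_2_2 cD5A_2_3 rfl

theorem all_D5A : ∀ d ∈ D5A, bsCount4 d.1 d.2.1 = d.2.2 :=
  forall_cons okD5A_0 (forall_cons okD5A_1 (forall_cons okD5A_2 (forall_nil)))

theorem counts_D5A : ∀ d ∈ D5A, ∀ γ κ : Equiv.Perm GolayPt, γ ∈ M24 → Rep γ d.1 →
    Rep κ d.2.1 → octCnt γ κ = d.2.2 := counts_of_all D5A all_D5A

theorem okD7A_0 : bsCount4 478276065012726406399972335250672332 971836263857004386005188942625883137 = 62 :=
  bsCount4_of cD7A_0_0 cD7A_0_1 cD7A_0_2 cD7A_0_3 rfl

theorem okD7A_1 : bsCount4 50892732043739761883611455489018005 610283258298688325910985628485600257 = 232 :=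
  bsCount4_of cD7A_1_0 cD7A_1_1 cD7A_1_2 cD7A_1_3 rfl

theorem okD7A_2 : bsCount4 810027593026268823373332976182561225 29395921827946026794865043067537463 = 54 :=
  bsCount4_of cD7A_2_0 cD7A_2_1 cD7A_2_2 cD7A_2_3 rfl

theorem okD7A_3 : bsCount4 169572949074946656690465797936635558 984730849673303422986486049713260997 = 54 :=
  bsCount4_of cD7A_3_0 cD7A_3_1 cD7A_3_2 cD7A_3_3 rfl

theorem okD7A_4 : bsCount4 215576679300219949802357417042025962 982224593024049257157786858763094126 = 54 :=
  bsCount4_of cD7A_4_0 cD7A_4_1 cD7A_4_2 cD7A_4_3 rfl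

theorem okD7A_5 : bsCount4 666344554489038058688513994664906018 146261786287366217854178837448604197 = 232 :=
  bsCount4_of cD7A_5_0 cD7A_5_1 cD7A_5_2 cD7A_5_3 rfl

theorem okD7A_6 : bsCount4 468936070060048782800421642762227831 112375232065240487014677288284445733 = 62 :=
  bsCount4_of cD7A_6_0 cD7A_6_1 cD7A_6_2 cD7A_6_3 rfl

theorem okD7A_7 : bsCount4 668071089635459601693342303460148544 963559745903778623359417332224538656 = 62 :=
  bsCount4_of cD7A_7_0 cD7A_7_1 cD7A_7_2 cD7A_7_3 rfl

theorem okD7A_8 : bsCount4 958005890811025711111619706218384713 236513623491057568040441467156662318 = 62 :=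
  bsCount4_of cD7A_8_0 cD7A_8_1 cD7A_8_2 cD7A_8_3 rfl

theorem okD7A_9 : bsCount4 546595735002791024377546513486202119 70953386959030286626061737309244131 = 54 :=
  bsCount4_of cD7A_9_0 cD7A_9_1 cD7A_9_2 cD7A_9_3 rfl

theorem okD7A_10 : bsCount4 719432542989151859114493654888101943 961365507626256404119956257276790816 = 1744 :=
  bsCount4_of cD7A_10_0 cD7A_10_1 cD7A_10_2 cD7A_10_3 rfl

theorem all_D7A : ∀ d ∈ D7A, bsCount4 d.1 d.2.1 = d.2.2 :=
  forall_cons okD7A_0 (forall_cons okD7A_1 (forall_cons okD7A_2 (forall_cons okD7A_3 (forall_cons okD7A_4 (forall_cons okD7A_5 (forall_cons okD7A_6 (forall_cons okD7A_7 (forall_cons okD7A_8 (forall_cons okD7A_9 (forall_cons okD7A_10 (forall_nil)))))))))))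

theorem counts_D7A : ∀ d ∈ D7A, ∀ γ κ : Equiv.Perm GolayPt, γ ∈ M24 → Rep γ d.1 →
    Rep κ d.2.1 → octCnt γ κ = d.2.2 := counts_of_all D7A all_D7A

theorem okD11A_0 : bsCount4 595008769492905547929741123281863728 984818244535754528103549039458486304 = 33482 :=
  bsCount4_of cD11A_0_0 cD11A_0_1 cD11A_0_2 cD11A_0_3 rfl

theorem okD11A_1 : bsCount4 399362170266517929111061205518622891 984818244535754528103549039458486304 = 32722 :=
  bsCount4_of cD11A_1_0 cD11A_1_1 cD11A_1_2 cD11A_1_3 rfl

theorem okD11A_2 : bsCount4 923470216911798055502701836567329440 984818244535754528103549039458486304 = 30684 :=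
  bsCount4_of cD11A_2_0 cD11A_2_1 cD11A_2_2 cD11A_2_3 rfl

theorem okD11A_3 : bsCount4 633506617853296438375774661681798720 984818244535754528103549039458486304 = 33446 :=
  bsCount4_of cD11A_3_0 cD11A_3_1 cD11A_3_2 cD11A_3_3 rfl

theorem okD11A_4 : bsCount4 874949810666452488495518350331068435 984818244535754528103549039458486304 = 33380 :=
  bsCount4_of cD11A_4_0 cD11A_4_1 cD11A_4_2 cD11A_4_3 rfl

theorem okD11A_5 : bsCount4 296556380011579693884513430560622198 984818244535754528103549039458486304 = 29982 :=
  bsCount4_of cD11A_5_0 cD11A_5_1 cD11A_5_2 cD11A_5_3 rfl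

theorem okD11A_6 : bsCount4 652001576584378277906498410088170724 984818244535754528103549039458486304 = 30414 :=
  bsCount4_of cD11A_6_0 cD11A_6_1 cD11A_6_2 cD11A_6_3 rfl

theorem okD11A_7 : bsCount4 896223061382441574386839577045383329 984818244535754528103549039458486304 = 33598 :=
  bsCount4_of cD11A_7_0 cD11A_7_1 cD11A_7_2 cD11A_7_3 rfl

theorem okD11A_8 : bsCount4 719432745312970082916539808228757165 984818244535754528103549039458486304 = 33380 :=
  bsCount4_of cD11A_8_0 cD11A_8_1 cD11A_8_2 cD11A_8_3 rfl

theorem okD11A_9 : bsCount4 508338218375228955776500570705671424 984818244535754528103549039458486304 = 31236 :=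
  bsCount4_of cD11A_9_0 cD11A_9_1 cD11A_9_2 cD11A_9_3 rfl

theorem okD11A_10 : bsCount4 334971858175606655208575486442985024 984818244535754528103549039458486304 = 31058 :=
  bsCount4_of cD11A_10_0 cD11A_10_1 cD11A_10_2 cD11A_10_3 rfl

theorem okD11A_11 : bsCount4 174655853277452813707898871355202887 984818244535754528103549039458486304 = 30128 :=
  bsCount4_of cD11A_11_0 cD11A_11_1 cD11A_11_2 cD11A_11_3 rfl

theorem okD11A_12 : bsCount4 217447179949170629271934753414717485 984818244535754528103549039458486304 = 34212 :=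
  bsCount4_of cD11A_12_0 cD11A_12_1 cD11A_12_2 cD11A_12_3 rfl

theorem okD11A_13 : bsCount4 790087429063775957135977296477848948 984818244535754528103549039458486304 = 30598 :=
  bsCount4_of cD11A_13_0 cD11A_13_1 cD11A_13_2 cD11A_13_3 rfl

theorem okD11A_14 : bsCount4 734726654605137811973238216860505586 984818244535754528103549039458486304 = 32756 :=
  bsCount4_of cD11A_14_0 cD11A_14_1 cD11A_14_2 cD11A_14_3 rfl

theorem okD11A_15 : bsCount4 775415161879634415595066571666101794 984818244535754528103549039458486304 = 32772 :=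
  bsCount4_of cD11A_15_0 cD11A_15_1 cD11A_15_2 cD11A_15_3 rfl

theorem okD11A_16 : bsCount4 832653274079481584152765434520384682 984818244535754528103549039458486304 = 30326 :=
  bsCount4_of cD11A_16_0 cD11A_16_1 cD11A_16_2 cD11A_16_3 rfl

theorem okD11A_17 : bsCount4 46130655355673354233546731018145046 984818244535754528103549039458486304 = 30968 :=
  bsCount4_of cD11A_17_0 cD11A_17_1 cD11A_17_2 cD11A_17_3 rfl

theorem okD11A_18 : bsCount4 374801277133196714085373539293758672 984818244535754528103549039458486304 = 30684 :=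
  bsCount4_of cD11A_18_0 cD11A_18_1 cD11A_18_2 cD11A_18_3 rfl

theorem okD11A_19 : bsCount4 28654784132582407108545100489593394 984818244535754528103549039458486304 = 30184 :=
  bsCount4_of cD11A_19_0 cD11A_19_1 cD11A_19_2 cD11A_19_3 rfl

theorem okD11A_20 : bsCount4 974389842356002160002761726263284805 984818244535754528103549039458486304 = 34212 :=
  bsCount4_of cD11A_20_0 cD11A_20_1 cD11A_20_2 cD11A_20_3 rfl

theorem okD11A_21 : bsCount4 374442618569479669063058848824371715 984818244535754528103549039458486304 = 30050 :=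
  bsCount4_of cD11A_21_0 cD11A_21_1 cD11A_21_2 cD11A_21_3 rfl

theorem okD11A_22 : bsCount4 675051855700225118344837304914005286 984818244535754528103549039458486304 = 30968 :=
  bsCount4_of cD11A_22_0 cD11A_22_1 cD11A_22_2 cD11A_22_3 rfl

theorem okD11A_23 : bsCount4 268752521212419222582785885081852142 984818244535754528103549039458486304 = 32722 :=
  bsCount4_of cD11A_23_0 cD11A_23_1 cD11A_23_2 cD11A_23_3 rfl

theorem okD11A_24 : bsCount4 112044289909586668842319013885388021 984818244535754528103549039458486304 = 30414 :=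
  bsCount4_of cD11A_24_0 cD11A_24_1 cD11A_24_2 cD11A_24_3 rfl

theorem okD11A_25 : bsCount4 846728706080264320850349296801456202 984818244535754528103549039458486304 = 30476 :=
  bsCount4_of cD11A_25_0 cD11A_25_1 cD11A_25_2 cD11A_25_3 rfl

theorem okD11A_26 : bsCount4 713458403229647650643619580701050197 984818244535754528103549039458486304 = 29712 :=
  bsCount4_of cD11A_26_0 cD11A_26_1 cD11A_26_2 cD11A_26_3 rfl

theorem okD11A_27 : bsCount4 789824290938861815922020108192952036 984818244535754528103549039458486304 = 30050 :=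
  bsCount4_of cD11A_27_0 cD11A_27_1 cD11A_27_2 cD11A_27_3 rfl

theorem okD11A_28 : bsCount4 396383253360580243142942300841194945 984818244535754528103549039458486304 = 32698 :=
  bsCount4_of cD11A_28_0 cD11A_28_1 cD11A_28_2 cD11A_28_3 rfl

theorem okD11A_29 : bsCount4 464283498876006859638298292934157777 984818244535754528103549039458486304 = 32772 :=
  bsCount4_of cD11A_29_0 cD11A_29_1 cD11A_29_2 cD11A_29_3 rfl

theorem okD11A_30 : bsCount4 461163790939312281986108468112897696 984818244535754528103549039458486304 = 30890 :=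
  bsCount4_of cD11A_30_0 cD11A_30_1 cD11A_30_2 cD11A_30_3 rfl

theorem okD11A_31 : bsCount4 178712646362058716985497500233616010 984818244535754528103549039458486304 = 30316 :=
  bsCount4_of cD11A_31_0 cD11A_31_1 cD11A_31_2 cD11A_31_3 rfl

theorem okD11A_32 : bsCount4 231691933750588951677857692584723816 984818244535754528103549039458486304 = 33380 :=
  bsCount4_of cD11A_32_0 cD11A_32_1 cD11A_32_2 cD11A_32_3 rfl

theorem okD11A_33 : bsCount4 105579116873429475264587433982871851 984818244535754528103549039458486304 = 30326 :=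
  bsCount4_of cD11A_33_0 cD11A_33_1 cD11A_33_2 cD11A_33_3 rfl

theorem okD11A_34 : bsCount4 388391202066413452412287781397317028 984818244535754528103549039458486304 = 33598 :=
  bsCount4_of cD11A_34_0 cD11A_34_1 cD11A_34_2 cD11A_34_3 rfl

theorem okD11A_35 : bsCount4 923321976359911649372045883250774293 984818244535754528103549039458486304 = 30476 :=
  bsCount4_of cD11A_35_0 cD11A_35_1 cD11A_35_2 cD11A_35_3 rfl

theorem okD11A_36 : bsCount4 29191835075329014572219967686816971 984818244535754528103549039458486304 = 30320 :=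
  bsCount4_of cD11A_36_0 cD11A_36_1 cD11A_36_2 cD11A_36_3 rfl

theorem okD11A_37 : bsCount4 854516596382584832845702497280838984 984818244535754528103549039458486304 = 21992 :=
  bsCount4_of cD11A_37_0 cD11A_37_1 cD11A_37_2 cD11A_37_3 rfl

theorem okD11A_38 : bsCount4 561117601897832467903192711433803825 984818244535754528103549039458486304 = 33598 :=
  bsCount4_of cD11A_38_0 cD11A_38_1 cD11A_38_2 cD11A_38_3 rfl

theorem okD11A_39 : bsCount4 889437577434576741989987565675093655 984818244535754528103549039458486304 = 30968 :=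
  bsCount4_of cD11A_39_0 cD11A_39_1 cD11A_39_2 cD11A_39_3 rfl

theorem okD11A_40 : bsCount4 155338284685028422948247448565666344 984818244535754528103549039458486304 = 33380 :=
  bsCount4_of cD11A_40_0 cD11A_40_1 cD11A_40_2 cD11A_40_3 rfl

theorem okD11A_41 : bsCount4 837395233502137024992076346747471367 984818244535754528103549039458486304 = 30128 :=
  bsCount4_of cD11A_41_0 cD11A_41_1 cD11A_41_2 cD11A_41_3 rfl

theorem okD11A_42 : bsCount4 294242506699893838100941861073134092 984818244535754528103549039458486304 = 30598 :=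
  bsCount4_of cD11A_42_0 cD11A_42_1 cD11A_42_2 cD11A_42_3 rfl

theorem okD11A_43 : bsCount4 105768973320965083840374505601338826 984818244535754528103549039458486304 = 33598 :=
  bsCount4_of cD11A_43_0 cD11A_43_1 cD11A_43_2 cD11A_43_3 rfl

theorem okD11A_44 : bsCount4 561628978722790063906999476046337746 984818244535754528103549039458486304 = 32698 :=
  bsCount4_of cD11A_44_0 cD11A_44_1 cD11A_44_2 cD11A_44_3 rfl

theorem okD11A_45 : bsCount4 346001603181961482376179793649154119 984818244535754528103549039458486304 = 29982 :=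
  bsCount4_of cD11A_45_0 cD11A_45_1 cD11A_45_2 cD11A_45_3 rfl

theorem okD11A_46 : bsCount4 966458893152608197175344138679393298 984818244535754528103549039458486304 = 33660 :=
  bsCount4_of cD11A_46_0 cD11A_46_1 cD11A_46_2 cD11A_46_3 rfl

theorem okD11A_47 : bsCount4 971594653052567925299794772694743146 984818244535754528103549039458486304 = 33446 :=
  bsCount4_of cD11A_47_0 cD11A_47_1 cD11A_47_2 cD11A_47_3 rfl

theorem okD11A_48 : bsCount4 359937522679899926132722048559188480 984818244535754528103549039458486304 = 33964 :=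
  bsCount4_of cD11A_48_0 cD11A_48_1 cD11A_48_2 cD11A_48_3 rfl

theorem okD11A_49 : bsCount4 963902086064985697741069880574726693 984818244535754528103549039458486304 = 33598 :=
  bsCount4_of cD11A_49_0 cD11A_49_1 cD11A_49_2 cD11A_49_3 rfl

theorem okD11A_50 : bsCount4 389000281008627388608129093282605805 984818244535754528103549039458486304 = 33598 :=
  bsCount4_of cD11A_50_0 cD11A_50_1 cD11A_50_2 cD11A_50_3 rfl

theorem okD11A_51 : bsCount4 962057206539031778257213458359632274 984818244535754528103549039458486304 = 31276 :=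
  bsCount4_of cD11A_51_0 cD11A_51_1 cD11A_51_2 cD11A_51_3 rfl

theorem okD11A_52 : bsCount4 510416035083776505696808204744918720 984818244535754528103549039458486304 = 33598 :=
  bsCount4_of cD11A_52_0 cD11A_52_1 cD11A_52_2 cD11A_52_3 rfl

theorem okD11A_53 : bsCount4 972349236009891144898893078430056788 984818244535754528103549039458486304 = 33980 :=
  bsCount4_of cD11A_53_0 cD11A_53_1 cD11A_53_2 cD11A_53_3 rfl

theorem okD11A_54 : bsCount4 552339614771181992072216746424514944 984818244535754528103549039458486304 = 30968 :=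
  bsCount4_of cD11A_54_0 cD11A_54_1 cD11A_54_2 cD11A_54_3 rfl

theorem okD11A_55 : bsCount4 473208000036319937222150001980988928 984818244535754528103549039458486304 = 33980 :=
  bsCount4_of cD11A_55_0 cD11A_55_1 cD11A_55_2 cD11A_55_3 rfl

theorem okD11A_56 : bsCount4 929549271210773604492853066831567912 984818244535754528103549039458486304 = 30684 :=
  bsCount4_of cD11A_56_0 cD11A_56_1 cD11A_56_2 cD11A_56_3 rfl

theorem okD11A_57 : bsCount4 277110134907630146993045441616033168 984818244535754528103549039458486304 = 31236 :=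
  bsCount4_of cD11A_57_0 cD11A_57_1 cD11A_57_2 cD11A_57_3 rfl

theorem okD11A_58 : bsCount4 362671235721015000634286021387763755 984818244535754528103549039458486304 = 30968 :=
  bsCount4_of cD11A_58_0 cD11A_58_1 cD11A_58_2 cD11A_58_3 rfl

theorem okD11A_59 : bsCount4 346768777377797317504922285833238567 984818244535754528103549039458486304 = 34212 :=
  bsCount4_of cD11A_59_0 cD11A_59_1 cD11A_59_2 cD11A_59_3 rfl

theorem okD11A_60 : bsCount4 980668730378935070469623699575545984 984818244535754528103549039458486304 = 30812 :=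
  bsCount4_of cD11A_60_0 cD11A_60_1 cD11A_60_2 cD11A_60_3 rfl

theorem okD11A_61 : bsCount4 971622617689817584932204901944699462 984818244535754528103549039458486304 = 30890 :=
  bsCount4_of cD11A_61_0 cD11A_61_1 cD11A_61_2 cD11A_61_3 rfl

theorem okD11A_62 : bsCount4 753255783488860271202692028974009856 984818244535754528103549039458486304 = 33482 :=
  bsCount4_of cD11A_62_0 cD11A_62_1 cD11A_62_2 cD11A_62_3 rfl

theorem okD11A_63 : bsCount4 457714503803041961919432413626968812 984818244535754528103549039458486304 = 30968 :=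
  bsCount4_of cD11A_63_0 cD11A_63_1 cD11A_63_2 cD11A_63_3 rfl

theorem okD11A_64 : bsCount4 95532236954668060583270966390966624 984818244535754528103549039458486304 = 34212 :=
  bsCount4_of cD11A_64_0 cD11A_64_1 cD11A_64_2 cD11A_64_3 rfl

theorem okD11A_65 : bsCount4 980639615736333610812691506850571947 984818244535754528103549039458486304 = 30684 :=
  bsCount4_of cD11A_65_0 cD11A_65_1 cD11A_65_2 cD11A_65_3 rfl

theorem okD11A_66 : bsCount4 831473036203389123300994849359334820 984818244535754528103549039458486304 = 33598 :=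
  bsCount4_of cD11A_66_0 cD11A_66_1 cD11A_66_2 cD11A_66_3 rfl

theorem okD11A_67 : bsCount4 982989733474406371087338008657147947 984818244535754528103549039458486304 = 33964 :=
  bsCount4_of cD11A_67_0 cD11A_67_1 cD11A_67_2 cD11A_67_3 rfl

theorem okD11A_68 : bsCount4 774189015978839877832815184376632576 984818244535754528103549039458486304 = 31058 :=
  bsCount4_of cD11A_68_0 cD11A_68_1 cD11A_68_2 cD11A_68_3 rfl

theorem all_D11A : ∀ d ∈ D11A, bsCount4 d.1 d.2.1 = d.2.2 :=
  forall_cons okD11A_0 (forall_cons okD11A_1 (forall_cons okD11A_2 (forall_cons okD11A_3 (forall_cons okD11A_4 (forall_cons okD11A_5 (forall_cons okD11A_6 (forall_cons okD11A_7 (forall_cons okD11A_8 (forall_cons okD11A_9 (forall_cons okD11A_10 (forall_cons okD11A_11 (forall_cons okD11A_12 (forall_cons okD11A_13 (forall_cons okD11A_14 (forall_cons okD11A_15 (forall_cons okD11A_16 (forall_cons okD11A_17 (forall_cons okD11A_18 (forall_cons okD11A_19 (forall_cons okD11A_20 (forall_cons okD11A_21 (forall_cons okD11A_22 (forall_cons okD11A_23 (forall_cons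 okD11A_24 (forall_cons okD11A_25 (forall_cons okD11A_26 (forall_cons okD11A_27 (forall_cons okD11A_28 (forall_cons okD11A_29 (forall_cons okD11A_30 (forall_cons okD11A_31 (forall_cons okD11A_32 (forall_cons okD11A_33 (forall_cons okD11A_34 (forall_cons okD11A_35 (forall_cons okD11A_36 (forall_cons okD11A_37 (forall_cons okD11A_38 (forall_cons okD11A_39 (forall_cons okD11A_40 (forall_cons okD11A_41 (forall_cons okD11A_42 (forall_cons okD11A_43 (forall_cons okD11A_44 (forall_cons okD11A_45 (forall_cons okD11A_46 (forall_cons okD11A_47 (forall_cons okD11A_48 (forall_cons okD11A_49 (forall_cons okD11A_50 (forall_cons okD11A_51 (forall_cons okD11A_52 (forall_cons okD11A_53 (forall_cons okD11A_54 (forall_cons okD11A_55 (forall_cons okD11A_56 (forall_cons okD11A_57 (forall_cons okD11A_58 (forall_cons okD11A_59 (forall_cons okD11A_60 (forall_cons okD11A_61 (forall_cons okD11A_62 (forall_cons okD11A_63 (forall_cons okD11A_64 (forall_cons okD11A_65 (forall_cons okD11A_66 (forall_cons okD11A_67 (forall_cons okD11A_68 (forall_nil)))))))))))))))))))))))))))))))))))))))))))))))))))))))))))))))))))))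

theorem counts_D11A : ∀ d ∈ D11A, ∀ γ κ : Equiv.Perm GolayPt, γ ∈ M24 → Rep γ d.1 →
    Rep κ d.2.1 → octCnt γ κ = d.2.2 := counts_of_all D11A all_D11A

theorem okD15A_0 : bsCount4 936156744159052693680946300409357332 984818244535754528103549039458486304 = 30598 :=
  bsCount4_of cD15A_0_0 cD15A_0_1 cD15A_0_2 cD15A_0_3 rfl

theorem okD15A_1 : bsCount4 442666578131023947370370754613918806 984818244535754528103549039458486304 = 32698 :=
  bsCount4_of cD15A_1_0 cD15A_1_1 cD15A_1_2 cD15A_1_3 rfl

theorem okD15A_2 : bsCount4 666053467923776007010536976022919620 984818244535754528103549039458486304 = 30316 :=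
  bsCount4_of cD15A_2_0 cD15A_2_1 cD15A_2_2 cD15A_2_3 rfl

theorem okD15A_3 : bsCount4 756090974691723325746896616929527140 984818244535754528103549039458486304 = 30610 :=
  bsCount4_of cD15A_3_0 cD15A_3_1 cD15A_3_2 cD15A_3_3 rfl

theorem okD15A_4 : bsCount4 251101665008999291327386202265798147 984818244535754528103549039458486304 = 30598 :=
  bsCount4_of cD15A_4_0 cD15A_4_1 cD15A_4_2 cD15A_4_3 rfl

theorem okD15A_5 : bsCount4 610143729537701099898719606567780356 984818244535754528103549039458486304 = 32722 :=
  bsCount4_of cD15A_5_0 cD15A_5_1 cD15A_5_2 cD15A_5_3 rfl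

theorem okD15A_6 : bsCount4 252289475132134749017801361299384483 984818244535754528103549039458486304 = 32314 :=
  bsCount4_of cD15A_6_0 cD15A_6_1 cD15A_6_2 cD15A_6_3 rfl

theorem okD15A_7 : bsCount4 344013331426212327087470321997401283 984818244535754528103549039458486304 = 33380 :=
  bsCount4_of cD15A_7_0 cD15A_7_1 cD15A_7_2 cD15A_7_3 rfl

theorem okD15A_8 : bsCount4 22844975358032477285371461852577415 984818244535754528103549039458486304 = 30414 :=
  bsCount4_of cD15A_8_0 cD15A_8_1 cD15A_8_2 cD15A_8_3 rfl

theorem okD15A_9 : bsCount4 380687545346933976121366472224806915 984818244535754528103549039458486304 = 29982 :=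
  bsCount4_of cD15A_9_0 cD15A_9_1 cD15A_9_2 cD15A_9_3 rfl

theorem okD15A_10 : bsCount4 360337833344023414711676340400374149 984818244535754528103549039458486304 = 30038 :=
  bsCount4_of cD15A_10_0 cD15A_10_1 cD15A_10_2 cD15A_10_3 rfl

theorem okD15A_11 : bsCount4 812166240532321282961515023253459120 984818244535754528103549039458486304 = 30476 :=
  bsCount4_of cD15A_11_0 cD15A_11_1 cD15A_11_2 cD15A_11_3 rfl

theorem okD15A_12 : bsCount4 587590684077516297714067932806775085 984818244535754528103549039458486304 = 32286 :=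
  bsCount4_of cD15A_12_0 cD15A_12_1 cD15A_12_2 cD15A_12_3 rfl

theorem okD15A_13 : bsCount4 527264990330569339949462296477274578 984818244535754528103549039458486304 = 30128 :=
  bsCount4_of cD15A_13_0 cD15A_13_1 cD15A_13_2 cD15A_13_3 rfl

theorem okD15A_14 : bsCount4 919708519179617629131401234762649218 984818244535754528103549039458486304 = 30598 :=
  bsCount4_of cD15A_14_0 cD15A_14_1 cD15A_14_2 cD15A_14_3 rfl

theorem okD15A_15 : bsCount4 710634285317760857923458354849960978 984818244535754528103549039458486304 = 30610 :=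
  bsCount4_of cD15A_15_0 cD15A_15_1 cD15A_15_2 cD15A_15_3 rfl

theorem okD15A_16 : bsCount4 71523781252462583945622811679630772 984818244535754528103549039458486304 = 30050 :=
  bsCount4_of cD15A_16_0 cD15A_16_1 cD15A_16_2 cD15A_16_3 rfl

theorem okD15A_17 : bsCount4 917255561034894236880410589802070757 984818244535754528103549039458486304 = 33336 :=
  bsCount4_of cD15A_17_0 cD15A_17_1 cD15A_17_2 cD15A_17_3 rfl

theorem okD15A_18 : bsCount4 859942849302111390712982062969297458 984818244535754528103549039458486304 = 30138 :=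
  bsCount4_of cD15A_18_0 cD15A_18_1 cD15A_18_2 cD15A_18_3 rfl

theorem okD15A_19 : bsCount4 404403662531469532310433618907514949 984818244535754528103549039458486304 = 32756 :=
  bsCount4_of cD15A_19_0 cD15A_19_1 cD15A_19_2 cD15A_19_3 rfl

theorem okD15A_20 : bsCount4 209531851880820089332516151471227334 984818244535754528103549039458486304 = 33336 :=
  bsCount4_of cD15A_20_0 cD15A_20_1 cD15A_20_2 cD15A_20_3 rfl

theorem okD15A_21 : bsCount4 540895308552183382424602031952570613 984818244535754528103549039458486304 = 22324 :=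
  bsCount4_of cD15A_21_0 cD15A_21_1 cD15A_21_2 cD15A_21_3 rfl

theorem okD15A_22 : bsCount4 940521957359973291603948046241633603 984818244535754528103549039458486304 = 32440 :=
  bsCount4_of cD15A_22_0 cD15A_22_1 cD15A_22_2 cD15A_22_3 rfl

theorem okD15A_23 : bsCount4 555723060374014666250334221474672328 984818244535754528103549039458486304 = 30050 :=
  bsCount4_of cD15A_23_0 cD15A_23_1 cD15A_23_2 cD15A_23_3 rfl

theorem okD15A_24 : bsCount4 927029796950346511504405819341151692 984818244535754528103549039458486304 = 30414 :=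
  bsCount4_of cD15A_24_0 cD15A_24_1 cD15A_24_2 cD15A_24_3 rfl

theorem okD15A_25 : bsCount4 469480072334064311234003103699830308 984818244535754528103549039458486304 = 30038 :=
  bsCount4_of cD15A_25_0 cD15A_25_1 cD15A_25_2 cD15A_25_3 rfl

theorem okD15A_26 : bsCount4 319834610789425518192043049222352293 984818244535754528103549039458486304 = 30598 :=
  bsCount4_of cD15A_26_0 cD15A_26_1 cD15A_26_2 cD15A_26_3 rfl

theorem okD15A_27 : bsCount4 97870236323977244222895588010335757 984818244535754528103549039458486304 = 29410 :=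
  bsCount4_of cD15A_27_0 cD15A_27_1 cD15A_27_2 cD15A_27_3 rfl

theorem okD15A_28 : bsCount4 551769011265357876153067043532983398 984818244535754528103549039458486304 = 30610 :=
  bsCount4_of cD15A_28_0 cD15A_28_1 cD15A_28_2 cD15A_28_3 rfl

theorem okD15A_29 : bsCount4 125475117008841605496179563252302212 984818244535754528103549039458486304 = 30610 :=
  bsCount4_of cD15A_29_0 cD15A_29_1 cD15A_29_2 cD15A_29_3 rfl

theorem okD15A_30 : bsCount4 502989226517156857864450428289853143 984818244535754528103549039458486304 = 30316 :=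
  bsCount4_of cD15A_30_0 cD15A_30_1 cD15A_30_2 cD15A_30_3 rfl

theorem okD15A_31 : bsCount4 521396742335937555249119342726851031 984818244535754528103549039458486304 = 32722 :=
  bsCount4_of cD15A_31_0 cD15A_31_1 cD15A_31_2 cD15A_31_3 rfl

theorem okD15A_32 : bsCount4 486877479878934382283903380678168853 984818244535754528103549039458486304 = 30320 :=
  bsCount4_of cD15A_32_0 cD15A_32_1 cD15A_32_2 cD15A_32_3 rfl

theorem okD15A_33 : bsCount4 627843537039798879249853592374991206 984818244535754528103549039458486304 = 21872 :=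
  bsCount4_of cD15A_33_0 cD15A_33_1 cD15A_33_2 cD15A_33_3 rfl

theorem okD15A_34 : bsCount4 551845839577076227322647873978850868 984818244535754528103549039458486304 = 33380 :=
  bsCount4_of cD15A_34_0 cD15A_34_1 cD15A_34_2 cD15A_34_3 rfl

theorem okD15A_35 : bsCount4 610875105090693187494258654112177329 984818244535754528103549039458486304 = 24116 :=
  bsCount4_of cD15A_35_0 cD15A_35_1 cD15A_35_2 cD15A_35_3 rfl

theorem okD15A_36 : bsCount4 964816920432101962142100776341363021 984818244535754528103549039458486304 = 31236 :=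
  bsCount4_of cD15A_36_0 cD15A_36_1 cD15A_36_2 cD15A_36_3 rfl

theorem okD15A_37 : bsCount4 983435743492087961323740738775767342 984818244535754528103549039458486304 = 33598 :=
  bsCount4_of cD15A_37_0 cD15A_37_1 cD15A_37_2 cD15A_37_3 rfl

theorem okD15A_38 : bsCount4 362676624951716140293689566438144096 984818244535754528103549039458486304 = 33598 :=
  bsCount4_of cD15A_38_0 cD15A_38_1 cD15A_38_2 cD15A_38_3 rfl

theorem okD15A_39 : bsCount4 971260280680476665890634426176525381 984818244535754528103549039458486304 = 33154 :=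
  bsCount4_of cD15A_39_0 cD15A_39_1 cD15A_39_2 cD15A_39_3 rfl

theorem okD15A_40 : bsCount4 304503871532491900377360343923742795 984818244535754528103549039458486304 = 30968 :=
  bsCount4_of cD15A_40_0 cD15A_40_1 cD15A_40_2 cD15A_40_3 rfl

theorem okD15A_41 : bsCount4 608162594140985889165394963609015885 984818244535754528103549039458486304 = 30968 :=
  bsCount4_of cD15A_41_0 cD15A_41_1 cD15A_41_2 cD15A_41_3 rfl

theorem okD15A_42 : bsCount4 670056358112480457414334255040517472 984818244535754528103549039458486304 = 30684 :=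
  bsCount4_of cD15A_42_0 cD15A_42_1 cD15A_42_2 cD15A_42_3 rfl

theorem okD15A_43 : bsCount4 609491685079722293661711799407063328 984818244535754528103549039458486304 = 31512 :=
  bsCount4_of cD15A_43_0 cD15A_43_1 cD15A_43_2 cD15A_43_3 rfl

theorem okD15A_44 : bsCount4 397826096158171145966670011227017251 984818244535754528103549039458486304 = 30968 :=
  bsCount4_of cD15A_44_0 cD15A_44_1 cD15A_44_2 cD15A_44_3 rfl

theorem okD15A_45 : bsCount4 335401849328179408634876926349660855 984818244535754528103549039458486304 = 30968 :=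
  bsCount4_of cD15A_45_0 cD15A_45_1 cD15A_45_2 cD15A_45_3 rfl

theorem okD15A_46 : bsCount4 355880328832600848611258242495206112 984818244535754528103549039458486304 = 31236 :=
  bsCount4_of cD15A_46_0 cD15A_46_1 cD15A_46_2 cD15A_46_3 rfl

theorem okD15A_47 : bsCount4 974291790074265486388758005096621315 984818244535754528103549039458486304 = 34212 :=
  bsCount4_of cD15A_47_0 cD15A_47_1 cD15A_47_2 cD15A_47_3 rfl

theorem okD15A_48 : bsCount4 388472444553992978278958631530575360 984818244535754528103549039458486304 = 30684 :=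
  bsCount4_of cD15A_48_0 cD15A_48_1 cD15A_48_2 cD15A_48_3 rfl

theorem okD15A_49 : bsCount4 731186360319363424296888977080098976 984818244535754528103549039458486304 = 33154 :=
  bsCount4_of cD15A_49_0 cD15A_49_1 cD15A_49_2 cD15A_49_3 rfl

theorem okD15A_50 : bsCount4 44829406841199374638634584325248224 984818244535754528103549039458486304 = 34212 :=
  bsCount4_of cD15A_50_0 cD15A_50_1 cD15A_50_2 cD15A_50_3 rfl

theorem okD15A_51 : bsCount4 963227480976784951430396954110799271 984818244535754528103549039458486304 = 30890 :=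
  bsCount4_of cD15A_51_0 cD15A_51_1 cD15A_51_2 cD15A_51_3 rfl

theorem okD15A_52 : bsCount4 960665570278572172058472957557913190 984818244535754528103549039458486304 = 30890 :=
  bsCount4_of cD15A_52_0 cD15A_52_1 cD15A_52_2 cD15A_52_3 rfl

theorem okD15A_53 : bsCount4 918233459667455565704974888059807808 984818244535754528103549039458486304 = 33482 :=
  bsCount4_of cD15A_53_0 cD15A_53_1 cD15A_53_2 cD15A_53_3 rfl

theorem okD15A_54 : bsCount4 601749113323633362546568672785751648 984818244535754528103549039458486304 = 33482 :=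
  bsCount4_of cD15A_54_0 cD15A_54_1 cD15A_54_2 cD15A_54_3 rfl

theorem all_D15A : ∀ d ∈ D15A, bsCount4 d.1 d.2.1 = d.2.2 :=
  forall_cons okD15A_0 (forall_cons okD15A_1 (forall_cons okD15A_2 (forall_cons okD15A_3 (forall_cons okD15A_4 (forall_cons okD15A_5 (forall_cons okD15A_6 (forall_cons okD15A_7 (forall_cons okD15A_8 (forall_cons okD15A_9 (forall_cons okD15A_10 (forall_cons okD15A_11 (forall_cons okD15A_12 (forall_cons okD15A_13 (forall_cons okD15A_14 (forall_cons okD15A_15 (forall_cons okD15A_16 (forall_cons okD15A_17 (forall_cons okD15A_18 (forall_cons okD15A_19 (forall_cons okD15A_20 (forall_cons okD15A_21 (forall_cons okD15A_22 (forall_cons okD15A_23 (forall_cons okD15A_24 (forall_cons okD15A_25 (forall_cons okD15A_26 (forall_cons okD15A_27 (forall_cons okD15A_28 (forall_cons okD15A_29 (forall_cons okD15A_30 (forall_cons okD15A_31 (forall_cons okD15A_32 (forall_cons okD15A_33 (forall_cons okD15A_34 (forall_cons okD15A_35 (forall_cons okD15A_36 (forall_cons okD15A_37 (forall_cons okD15A_38 (forall_cons okD15A_39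 (forall_cons okD15A_40 (forall_cons okD15A_41 (forall_cons okD15A_42 (forall_cons okD15A_43 (forall_cons okD15A_44 (forall_cons okD15A_45 (forall_cons okD15A_46 (forall_cons okD15A_47 (forall_cons okD15A_48 (forall_cons okD15A_49 (forall_cons okD15A_50 (forall_cons okD15A_51 (forall_cons okD15A_52 (forall_cons okD15A_53 (forall_cons okD15A_54 (forall_nil)))))))))))))))))))))))))))))))))))))))))))))))))))))))

theorem counts_D15A : ∀ d ∈ D15A, ∀ γ κ : Equiv.Perm GolayPt, γ ∈ M24 → Rep γ d.1 →
    Rep κ d.2.1 → octCnt γ κ = d.2.2 := counts_of_all D15A all_D15A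

theorem okD21A_0 : bsCount4 632285949441098350794387914605828276 984818244535754528103549039458486304 = 30326 :=
  bsCount4_of cD21A_0_0 cD21A_0_1 cD21A_0_2 cD21A_0_3 rfl

theorem okD21A_1 : bsCount4 817112493243109081080036954881109462 984818244535754528103549039458486304 = 30326 :=
  bsCount4_of cD21A_1_0 cD21A_1_1 cD21A_1_2 cD21A_1_3 rfl

theorem okD21A_2 : bsCount4 424084156062784101185529052472100238 984818244535754528103549039458486304 = 32314 :=
  bsCount4_of cD21A_2_0 cD21A_2_1 cD21A_2_2 cD21A_2_3 rfl

theorem okD21A_3 : bsCount4 641909828750172727978881925565307223 984818244535754528103549039458486304 = 30598 :=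
  bsCount4_of cD21A_3_0 cD21A_3_1 cD21A_3_2 cD21A_3_3 rfl

theorem okD21A_4 : bsCount4 691883841420025689168066773253872004 984818244535754528103549039458486304 = 30610 :=
  bsCount4_of cD21A_4_0 cD21A_4_1 cD21A_4_2 cD21A_4_3 rfl

theorem okD21A_5 : bsCount4 885347664156563700183412827315324196 984818244535754528103549039458486304 = 29410 :=
  bsCount4_of cD21A_5_0 cD21A_5_1 cD21A_5_2 cD21A_5_3 rfl

theorem okD21A_6 : bsCount4 183608241573438696374484922910948515 984818244535754528103549039458486304 = 32236 :=
  bsCount4_of cD21A_6_0 cD21A_6_1 cD21A_6_2 cD21A_6_3 rfl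

theorem okD21A_7 : bsCount4 279698790957203340530416268438754736 984818244535754528103549039458486304 = 30050 :=
  bsCount4_of cD21A_7_0 cD21A_7_1 cD21A_7_2 cD21A_7_3 rfl

theorem okD21A_8 : bsCount4 15070547192757075881346517925343924 984818244535754528103549039458486304 = 29712 :=
  bsCount4_of cD21A_8_0 cD21A_8_1 cD21A_8_2 cD21A_8_3 rfl

theorem okD21A_9 : bsCount4 5829356279782151349260538820593034 984818244535754528103549039458486304 = 32722 :=
  bsCount4_of cD21A_9_0 cD21A_9_1 cD21A_9_2 cD21A_9_3 rfl

theorem okD21A_10 : bsCount4 921289794503477278855048793314038099 984818244535754528103549039458486304 = 21992 :=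
  bsCount4_of cD21A_10_0 cD21A_10_1 cD21A_10_2 cD21A_10_3 rfl

theorem okD21A_11 : bsCount4 608273889664092665684964816415573185 984818244535754528103549039458486304 = 32286 :=
  bsCount4_of cD21A_11_0 cD21A_11_1 cD21A_11_2 cD21A_11_3 rfl

theorem okD21A_12 : bsCount4 802268436096462872873839832201899522 984818244535754528103549039458486304 = 30476 :=
  bsCount4_of cD21A_12_0 cD21A_12_1 cD21A_12_2 cD21A_12_3 rfl

theorem okD21A_13 : bsCount4 882779881764835473887962334021957737 984818244535754528103549039458486304 = 30598 :=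
  bsCount4_of cD21A_13_0 cD21A_13_1 cD21A_13_2 cD21A_13_3 rfl

theorem okD21A_14 : bsCount4 878166744281772314969816486052742213 984818244535754528103549039458486304 = 32722 :=
  bsCount4_of cD21A_14_0 cD21A_14_1 cD21A_14_2 cD21A_14_3 rfl

theorem okD21A_15 : bsCount4 641433266127581151175116701889220330 984818244535754528103549039458486304 = 30610 :=
  bsCount4_of cD21A_15_0 cD21A_15_1 cD21A_15_2 cD21A_15_3 rfl

theorem okD21A_16 : bsCount4 810345885400808131990093146168372962 984818244535754528103549039458486304 = 30414 :=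
  bsCount4_of cD21A_16_0 cD21A_16_1 cD21A_16_2 cD21A_16_3 rfl

theorem okD21A_17 : bsCount4 918682171267521115292037618233280167 984818244535754528103549039458486304 = 30414 :=
  bsCount4_of cD21A_17_0 cD21A_17_1 cD21A_17_2 cD21A_17_3 rfl

theorem okD21A_18 : bsCount4 639450429157312095898123957964013872 984818244535754528103549039458486304 = 33380 :=
  bsCount4_of cD21A_18_0 cD21A_18_1 cD21A_18_2 cD21A_18_3 rfl

theorem okD21A_19 : bsCount4 731322308451080748874253827654213258 984818244535754528103549039458486304 = 30128 :=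
  bsCount4_of cD21A_19_0 cD21A_19_1 cD21A_19_2 cD21A_19_3 rfl

theorem okD21A_20 : bsCount4 812130746229792070138621368305660590 984818244535754528103549039458486304 = 29982 :=
  bsCount4_of cD21A_20_0 cD21A_20_1 cD21A_20_2 cD21A_20_3 rfl

theorem okD21A_21 : bsCount4 713094594915553388228840459694744643 984818244535754528103549039458486304 = 33380 :=
  bsCount4_of cD21A_21_0 cD21A_21_1 cD21A_21_2 cD21A_21_3 rfl

theorem okD21A_22 : bsCount4 143497500297920040842702920590105271 984818244535754528103549039458486304 = 29734 :=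
  bsCount4_of cD21A_22_0 cD21A_22_1 cD21A_22_2 cD21A_22_3 rfl

theorem okD21A_23 : bsCount4 624910369881797813113598829752831444 984818244535754528103549039458486304 = 29734 :=
  bsCount4_of cD21A_23_0 cD21A_23_1 cD21A_23_2 cD21A_23_3 rfl

theorem okD21A_24 : bsCount4 150830989871847604471899146694209232 984818244535754528103549039458486304 = 30316 :=
  bsCount4_of cD21A_24_0 cD21A_24_1 cD21A_24_2 cD21A_24_3 rfl

theorem okD21A_25 : bsCount4 335391713243774682556566923883362643 984818244535754528103549039458486304 = 30414 :=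
  bsCount4_of cD21A_25_0 cD21A_25_1 cD21A_25_2 cD21A_25_3 rfl

theorem okD21A_26 : bsCount4 551832558773012113001519471235608769 984818244535754528103549039458486304 = 33380 :=
  bsCount4_of cD21A_26_0 cD21A_26_1 cD21A_26_2 cD21A_26_3 rfl

theorem okD21A_27 : bsCount4 582445486039948827207014609302428874 984818244535754528103549039458486304 = 30138 :=
  bsCount4_of cD21A_27_0 cD21A_27_1 cD21A_27_2 cD21A_27_3 rfl

theorem okD21A_28 : bsCount4 403881309543922460438321984145229319 984818244535754528103549039458486304 = 30414 :=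
  bsCount4_of cD21A_28_0 cD21A_28_1 cD21A_28_2 cD21A_28_3 rfl

theorem okD21A_29 : bsCount4 373932367867853707100751832152187299 984818244535754528103549039458486304 = 32698 :=
  bsCount4_of cD21A_29_0 cD21A_29_1 cD21A_29_2 cD21A_29_3 rfl

theorem okD21A_30 : bsCount4 291282363215047741334543306062500491 984818244535754528103549039458486304 = 30184 :=
  bsCount4_of cD21A_30_0 cD21A_30_1 cD21A_30_2 cD21A_30_3 rfl

theorem okD21A_31 : bsCount4 719914709877641328497702557321561284 984818244535754528103549039458486304 = 33380 :=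
  bsCount4_of cD21A_31_0 cD21A_31_1 cD21A_31_2 cD21A_31_3 rfl

theorem okD21A_32 : bsCount4 501243671838883291593338797329558753 984818244535754528103549039458486304 = 30316 :=
  bsCount4_of cD21A_32_0 cD21A_32_1 cD21A_32_2 cD21A_32_3 rfl

theorem okD21A_33 : bsCount4 498928840117339958141890575741573333 984818244535754528103549039458486304 = 22324 :=
  bsCount4_of cD21A_33_0 cD21A_33_1 cD21A_33_2 cD21A_33_3 rfl

theorem okD21A_34 : bsCount4 558840172299574020491404892739849526 984818244535754528103549039458486304 = 30050 :=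
  bsCount4_of cD21A_34_0 cD21A_34_1 cD21A_34_2 cD21A_34_3 rfl

theorem okD21A_35 : bsCount4 631779396274170499607950532775477584 984818244535754528103549039458486304 = 30320 :=
  bsCount4_of cD21A_35_0 cD21A_35_1 cD21A_35_2 cD21A_35_3 rfl

theorem okD21A_36 : bsCount4 760315888033103268788043786621430388 984818244535754528103549039458486304 = 22016 :=
  bsCount4_of cD21A_36_0 cD21A_36_1 cD21A_36_2 cD21A_36_3 rfl

theorem all_D21A : ∀ d ∈ D21A, bsCount4 d.1 d.2.1 = d.2.2 :=
  forall_cons okD21A_0 (forall_cons okD21A_1 (forall_cons okD21A_2 (forall_cons okD21A_3 (forall_cons okD21A_4 (forall_cons okD21A_5 (forall_cons okD21A_6 (forall_cons okD21A_7 (forall_cons okD21A_8 (forall_cons okD21A_9 (forall_cons okD21A_10 (forall_cons okD21A_11 (forall_cons okD21A_12 (forall_cons okD21A_13 (forall_cons okD21A_14 (forall_cons okD21A_15 (forall_cons okD21A_16 (forall_cons okD21A_17 (forall_cons okD21A_18 (forall_cons okD21A_19 (forall_cons okD21A_20 (forall_cons okD21A_21 (forall_cons okD21A_22 (forall_cons okD21A_23 (forall_cons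 okD21A_24 (forall_cons okD21A_25 (forall_cons okD21A_26 (forall_cons okD21A_27 (forall_cons okD21A_28 (forall_cons okD21A_29 (forall_cons okD21A_30 (forall_cons okD21A_31 (forall_cons okD21A_32 (forall_cons okD21A_33 (forall_cons okD21A_34 (forall_cons okD21A_35 (forall_cons okD21A_36 (forall_nil)))))))))))))))))))))))))))))))))))))

theorem counts_D21A : ∀ d ∈ D21A, ∀ γ κ : Equiv.Perm GolayPt, γ ∈ M24 → Rep γ d.1 →
    Rep κ d.2.1 → octCnt γ κ = d.2.2 := counts_of_all D21A all_D21A

theorem okD23A_0 : bsCount4 757715976757143754934186890292888017 984818244535754528103549039458486304 = 32698 :=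
  bsCount4_of cD23A_0_0 cD23A_0_1 cD23A_0_2 cD23A_0_3 rfl

theorem okD23A_1 : bsCount4 217569823439835287674239099785490870 984818244535754528103549039458486304 = 32722 :=
  bsCount4_of cD23A_1_0 cD23A_1_1 cD23A_1_2 cD23A_1_3 rfl

theorem okD23A_2 : bsCount4 941922198763378318225177990268390977 984818244535754528103549039458486304 = 33380 :=
  bsCount4_of cD23A_2_0 cD23A_2_1 cD23A_2_2 cD23A_2_3 rfl

theorem okD23A_3 : bsCount4 225271914380782586729685872319700098 984818244535754528103549039458486304 = 30610 :=
  bsCount4_of cD23A_3_0 cD23A_3_1 cD23A_3_2 cD23A_3_3 rfl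

theorem okD23A_4 : bsCount4 444200502810986091978446619580532206 984818244535754528103549039458486304 = 33336 :=
  bsCount4_of cD23A_4_0 cD23A_4_1 cD23A_4_2 cD23A_4_3 rfl

theorem okD23A_5 : bsCount4 336691425625821917220549305554423236 984818244535754528103549039458486304 = 30598 :=
  bsCount4_of cD23A_5_0 cD23A_5_1 cD23A_5_2 cD23A_5_3 rfl

theorem okD23A_6 : bsCount4 683000182109794665626618010521032034 984818244535754528103549039458486304 = 33380 :=
  bsCount4_of cD23A_6_0 cD23A_6_1 cD23A_6_2 cD23A_6_3 rfl

theorem okD23A_7 : bsCount4 7409914448306775896250691398253193 984818244535754528103549039458486304 = 32722 :=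
  bsCount4_of cD23A_7_0 cD23A_7_1 cD23A_7_2 cD23A_7_3 rfl

theorem okD23A_8 : bsCount4 777872491286656297297424467015240933 984818244535754528103549039458486304 = 30316 :=
  bsCount4_of cD23A_8_0 cD23A_8_1 cD23A_8_2 cD23A_8_3 rfl

theorem okD23A_9 : bsCount4 898352548256040599555523015735752936 984818244535754528103549039458486304 = 29982 :=
  bsCount4_of cD23A_9_0 cD23A_9_1 cD23A_9_2 cD23A_9_3 rfl

theorem okD23A_10 : bsCount4 194848136317596624821109232981319029 984818244535754528103549039458486304 = 30598 :=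
  bsCount4_of cD23A_10_0 cD23A_10_1 cD23A_10_2 cD23A_10_3 rfl

theorem okD23A_11 : bsCount4 732642637047533571582203296906365270 984818244535754528103549039458486304 = 30038 :=
  bsCount4_of cD23A_11_0 cD23A_11_1 cD23A_11_2 cD23A_11_3 rfl

theorem okD23A_12 : bsCount4 805698975668196565573544925982232784 984818244535754528103549039458486304 = 30138 :=
  bsCount4_of cD23A_12_0 cD23A_12_1 cD23A_12_2 cD23A_12_3 rfl

theorem okD23A_13 : bsCount4 314643223815670005151727926142010677 984818244535754528103549039458486304 = 32772 :=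
  bsCount4_of cD23A_13_0 cD23A_13_1 cD23A_13_2 cD23A_13_3 rfl

theorem okD23A_14 : bsCount4 341055872413106313830000754047620430 984818244535754528103549039458486304 = 30184 :=
  bsCount4_of cD23A_14_0 cD23A_14_1 cD23A_14_2 cD23A_14_3 rfl

theorem okD23A_15 : bsCount4 45073006352187591368377187757111911 984818244535754528103549039458486304 = 30326 :=
  bsCount4_of cD23A_15_0 cD23A_15_1 cD23A_15_2 cD23A_15_3 rfl

theorem okD23A_16 : bsCount4 125534886877773230780805148029720872 984818244535754528103549039458486304 = 30316 :=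
  bsCount4_of cD23A_16_0 cD23A_16_1 cD23A_16_2 cD23A_16_3 rfl

theorem okD23A_17 : bsCount4 693258115051023947771888321787757975 984818244535754528103549039458486304 = 30610 :=
  bsCount4_of cD23A_17_0 cD23A_17_1 cD23A_17_2 cD23A_17_3 rfl

theorem okD23A_18 : bsCount4 640088344023783823659328261760160841 984818244535754528103549039458486304 = 29734 :=
  bsCount4_of cD23A_18_0 cD23A_18_1 cD23A_18_2 cD23A_18_3 rfl

theorem okD23A_19 : bsCount4 938681660452683207455461171231179075 984818244535754528103549039458486304 = 29712 :=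
  bsCount4_of cD23A_19_0 cD23A_19_1 cD23A_19_2 cD23A_19_3 rfl

theorem okD23A_20 : bsCount4 651801958981074377508636121544339080 984818244535754528103549039458486304 = 22324 :=
  bsCount4_of cD23A_20_0 cD23A_20_1 cD23A_20_2 cD23A_20_3 rfl

theorem okD23A_21 : bsCount4 505013788493891186899956083864198605 984818244535754528103549039458486304 = 30316 :=
  bsCount4_of cD23A_21_0 cD23A_21_1 cD23A_21_2 cD23A_21_3 rfl

theorem okD23A_22 : bsCount4 969663233952020756590922425481875107 984818244535754528103549039458486304 = 33598 :=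
  bsCount4_of cD23A_22_0 cD23A_22_1 cD23A_22_2 cD23A_22_3 rfl

theorem okD23A_23 : bsCount4 917984732672562143736098290133435904 984818244535754528103549039458486304 = 30890 :=
  bsCount4_of cD23A_23_0 cD23A_23_1 cD23A_23_2 cD23A_23_3 rfl

theorem okD23A_24 : bsCount4 506991361290478085430556363336025410 984818244535754528103549039458486304 = 33446 :=
  bsCount4_of cD23A_24_0 cD23A_24_1 cD23A_24_2 cD23A_24_3 rfl

theorem okD23A_25 : bsCount4 967244166866819278457970713197839880 984818244535754528103549039458486304 = 34212 :=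
  bsCount4_of cD23A_25_0 cD23A_25_1 cD23A_25_2 cD23A_25_3 rfl

theorem okD23A_26 : bsCount4 683033803701281308332176026127293152 984818244535754528103549039458486304 = 30684 :=
  bsCount4_of cD23A_26_0 cD23A_26_1 cD23A_26_2 cD23A_26_3 rfl

theorem okD23A_27 : bsCount4 960012726164048604502602994073020115 984818244535754528103549039458486304 = 31058 :=
  bsCount4_of cD23A_27_0 cD23A_27_1 cD23A_27_2 cD23A_27_3 rfl

theorem okD23A_28 : bsCount4 725716358336581435731216732012055872 984818244535754528103549039458486304 = 33154 :=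
  bsCount4_of cD23A_28_0 cD23A_28_1 cD23A_28_2 cD23A_28_3 rfl

theorem okD23A_29 : bsCount4 965772770828692429080099033319656144 984818244535754528103549039458486304 = 30684 :=
  bsCount4_of cD23A_29_0 cD23A_29_1 cD23A_29_2 cD23A_29_3 rfl

theorem okD23A_30 : bsCount4 506702020595497142599686289634249376 984818244535754528103549039458486304 = 30968 :=
  bsCount4_of cD23A_30_0 cD23A_30_1 cD23A_30_2 cD23A_30_3 rfl

theorem okD23A_31 : bsCount4 147590937228081299859580212334761312 984818244535754528103549039458486304 = 33598 :=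
  bsCount4_of cD23A_31_0 cD23A_31_1 cD23A_31_2 cD23A_31_3 rfl

theorem okD23A_32 : bsCount4 963902830957573888393669514945212656 984818244535754528103549039458486304 = 30968 :=
  bsCount4_of cD23A_32_0 cD23A_32_1 cD23A_32_2 cD23A_32_3 rfl

theorem all_D23A : ∀ d ∈ D23A, bsCount4 d.1 d.2.1 = d.2.2 :=
  forall_cons okD23A_0 (forall_cons okD23A_1 (forall_cons okD23A_2 (forall_cons okD23A_3 (forall_cons okD23A_4 (forall_cons okD23A_5 (forall_cons okD23A_6 (forall_cons okD23A_7 (forall_cons okD23A_8 (forall_cons okD23A_9 (forall_cons okD23A_10 (forall_cons okD23A_11 (forall_cons okD23A_12 (forall_cons okD23A_13 (forall_cons okD23A_14 (forall_cons okD23A_15 (forall_cons okD23A_16 (forall_cons okD23A_17 (forall_cons okD23A_18 (forall_cons okD23A_19 (forall_cons okD23A_20 (forall_cons okD23A_21 (forall_cons okD23A_22 (forall_cons okD23A_23 (forall_cons okD23A_24 (forall_cons okD23A_25 (forall_cons okD23A_26 (forall_cons okD23A_27 (forall_cons okD23A_28 (forall_cons okD23A_29 (forall_cons okD23A_30 (forall_cons okD23A_31 (forall_cons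 okD23A_32 (forall_nil)))))))))))))))))))))))))))))))))

theorem counts_D23A : ∀ d ∈ D23A, ∀ γ κ : Equiv.Perm GolayPt, γ ∈ M24 → Rep γ d.1 →
    Rep κ d.2.1 → octCnt γ κ = d.2.2 := counts_of_all D23A all_D23A

end Cfsg.Agent.Lib.Helper13.OctBS
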