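import Cfsg.Agent.Lib.Helper13.OctData
import Cfsg.Agent.Lib.Helper28.OctadAlt

/-!
Enumeration of the stabiliser of the base octad in `Cfsg.M24` by packed tables: every element is a
product `m * s * l` of the tables of `OctData`; exact counting of subsets through a test on packed
tables.
-/

set_option autoImplicit false

namespace Cfsg.Agent.Lib.Helper13.OctEnum

open Cfsg MulAction Cfsg.Agent.Lib.Helper28 Cfsg.Agent.Lib.Helper13.PackPerm
  Cfsg.Agent.Lib.Helper13.M22Enum
open scoped Pointwise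

/-- the stabiliser of the base octad in `M24`, as a group of permutations -/
def HOct : Subgroup (Equiv.Perm GolayPt) := M24 ⊓ stabilizer (Equiv.Perm GolayPt) baseOctad

theorem card_HOct : Nat.card ↥HOct = 322560 := card_M24_inf_stabilizer_octad baseOctad_mem

theorem mem_HOct {σ : Equiv.Perm GolayPt} : σ ∈ HOct ↔ σ ∈ M24 ∧ σ • baseOctad = baseOctad := by
  unfold HOct
  rw [Subgroup.mem_inf]
  exact and_congr Iff.rfl mem_stabilizer_iff

theorem ptN_mem_baseOctad {a : ℕ} (ha : a < 24) : ptN a ∈ baseOctad ↔ inO a = true := by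
  unfold baseOctad inO
  rw [mem_maskSet, ptInv_ptN ha]

/-- a table mapping the octad into itself belongs to an element of the stabiliser -/
theorem smul_of_presO {σ : Equiv.Perm GolayPt} {t : ℕ} (h : ActsBy σ t) (hp : PresO t) :
    σ • baseOctad = baseOctad := by
  apply Finset.eq_of_subset_of_card_le
  · intro x hx
    rw [Finset.mem_smul_finset] at hx
    obtain ⟨y, hy, rfl⟩ := hx
    obtain ⟨a, ha, rfl⟩ := exists_ptN y
    rw [ptN_mem_baseOctad ha] at hy
    rw [Equiv.Perm.smul_def, (h a ha).2, ptN_mem_baseOctad (h a ha).1]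
    exact hp ⟨a, ha⟩ hy
  · rw [Finset.card_smul_finset]

theorem inO_of_stab {σ : Equiv.Perm GolayPt} (hσ : σ • baseOctad = baseOctad) {a c : ℕ}
    (ha : a < 24) (hin : inO a = true) (hc : c < 24) (h : σ (ptN a) = ptN c) : inO c = true := by
  rw [← ptN_mem_baseOctad hc, ← h, ← hσ]
  exact Finset.mem_smul_finset.mpr ⟨ptN a, (ptN_mem_baseOctad ha).mpr hin, rfl⟩

theorem cover_Oct : ∀ σ ∈ HOct, ∃ r ∈ allProds msO ssO K4O, Rep σ r := by
  intro σ hσ
  obtain ⟨hM, hst⟩ := mem_HOct.mp hσ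
  obtain ⟨a, ha, ea⟩ := exists_ptN (σ (ptN 23))
  obtain ⟨b, hb, eb⟩ := exists_ptN (σ (ptN 0))
  obtain ⟨c, hc, ec⟩ := exists_ptN (σ (ptN 1))
  obtain ⟨d, hd, ed⟩ := exists_ptN (σ (ptN 2))
  have hOa : inO a = true := inO_of_stab hst (by norm_num : 23 < 24) (by decide) ha ea
  have hOb : inO b = true := inO_of_stab hst (by norm_num : 0 < 24) (by decide) hb eb
  have hOc : inO c = true := inO_of_stab hst (by norm_num : 1 < 24) (by decide) hc ec
  have hOd : inO d = true := inO_of_stab hst (by norm_num : 2 < 24) (by decide) hd ed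
  have hne : ∀ i j x y : ℕ, i < 24 → j < 24 → i ≠ j → σ (ptN i) = ptN x →
      σ (ptN j) = ptN y → x ≠ y := by
    intro i j x y hi hj hij h1 h2 hxy
    rw [hxy] at h1
    exact hij (ptN_inj hi hj (σ.injective (h1.trans h2.symm)))
  have hab : a ≠ b := hne 23 0 a b (by norm_num) (by norm_num) (by norm_num) ea eb
  have hca : c ≠ a := hne 1 23 c a (by norm_num) (by norm_num) (by norm_num) ec ea
  have hcb : c ≠ b := hne 1 0 c b (by norm_num) (by norm_num) (by norm_num) ec eb
  have hda : d ≠ a := hne 2 23 d a (by norm_num) (by norm_num) (by norm_num) ed ea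
  have hdb : d ≠ b := hne 2 0 d b (by norm_num) (by norm_num) (by norm_num) ed eb
  have hcd : c ≠ d := hne 1 2 c d (by norm_num) (by norm_num) (by norm_num) ec ed
  obtain ⟨m, hm, hm23, hm0⟩ := coverO1 ⟨a, ha⟩ ⟨b, hb⟩ hOa hOb
    (fun h => hab (congrArg Fin.val h))
  simp only at hm23 hm0
  obtain ⟨s, hs, hs1, hs2⟩ := coverO2 m hm ⟨c, hc⟩ ⟨d, hd⟩ hOc hOd
    (fun h => hcd (congrArg Fin.val h)) (by rw [hm23]; exact hca) (by rw [hm0]; exact hcb)
    (by rw [hm23]; exact hda) (by rw [hm0]; exact hdb)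
  simp only at hs1 hs2
  obtain ⟨hmT, hmP⟩ := msO_ok m hm
  obtain ⟨hsT, hs0, hs23, hsP⟩ := ssO_ok s hs
  obtain ⟨τm, hτm, hτmA⟩ := hmT.exists
  obtain ⟨τs, hτs, hτsA⟩ := hsT.exists
  have hτA := actsBy_comp hτmA hτsA
  have hmem : (τm * τs)⁻¹ * σ ∈ baseStab M24 4 := by
    apply inv_mul_mem_baseStab (M24.mul_mem hτm hτs) hM
    apply base_pt_cases (fun x => σ x = (τm * τs) x)
    · rw [ea, (hτA 23 (by norm_num)).2, look_comp _ _ 23 (by norm_num), hs23, hm23]
    · rw [eb, (hτA 0 (by norm_num)).2, look_comp _ _ 0 (by norm_num), hs0, hm0]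
    · rw [ec, (hτA 1 (by norm_num)).2, look_comp _ _ 1 (by norm_num), hs1]
    · rw [ed, (hτA 2 (by norm_num)).2, look_comp _ _ 2 (by norm_num), hs2]
  obtain ⟨l, hl, hgood, he⟩ := k4_enum _ hmem
  have hτst : (τm * τs) • baseOctad = baseOctad := by
    rw [mul_smul, smul_of_presO hτsA hsP, smul_of_presO hτmA hmP]
  have hρst : permOfList l • baseOctad = baseOctad := by
    rw [← he, mul_smul, hst, inv_smul_eq_iff, hτst]
  have hρA := actsBy_k4 hl hgood
  have hl3 : inO (look (packL l) 3) = true :=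
    inO_of_stab hρst (by norm_num : 3 < 24) (by decide) (hρA 3 (by norm_num)).1
      (hρA 3 (by norm_num)).2
  have hσeq : σ = (τm * τs) * permOfList l := by rw [← he, mul_inv_cancel_left]
  refine ⟨compRaw (compRaw m s) (packL l), ?_, ?_⟩
  · unfold allProds prods
    rw [List.mem_flatMap]
    refine ⟨m, hm, ?_⟩
    rw [List.mem_flatMap]
    refine ⟨s, hs, ?_⟩
    rw [List.mem_map]
    refine ⟨packL l, ?_, rfl⟩
    unfold K4O
    rw [List.mem_filter]
    exact ⟨by rw [← k4_pack]; exact List.mem_map_of_mem hl, hl3⟩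
  · rw [hσeq]
    exact ⟨actsBy_comp hτA hρA, canon_comp _ _⟩

theorem length_allO : (allProds msO ssO K4O).length = Nat.card ↥HOct := by
  rw [length_allProds, card_HOct, length_K4O, length_msO, length_ssO]

/-- exact counting in the octad stabiliser through a test on packed tables -/
theorem card_Oct_filter (P : Equiv.Perm GolayPt → Prop) (T : ℕ → Bool)
    (hT : ∀ σ ∈ HOct, ∀ r, Rep σ r → (T r = true ↔ P σ)) :
    Nat.card {x : ↥HOct // P x.1} = (allProds msO ssO K4O).countP T :=
  card_filter_of_cover _ length_allO cover_Oct P T hT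

end Cfsg.Agent.Lib.Helper13.OctEnum
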