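import Cfsg.Agent.Lib.Helper13.OctEnum

/-!
Tests on packed tables and counting over the octad stabiliser of `Cfsg.M24`: the 2-elements of a
chunk, and among them those `y` for which `y * g` has odd order (possibly also commuting with a
given element).
-/

set_option autoImplicit false

namespace Cfsg.Agent.Lib.Helper13.OctEnum

open Cfsg MulAction Cfsg.Agent.Lib.Helper28 Cfsg.Agent.Lib.Helper13.PackPerm
  Cfsg.Agent.Lib.Helper13.M22Enum

/-! ### powers -/

/-- the 23rd power -/
def pow23 (y : ℕ) : ℕ := frc y fun y' => compP y' (sqP (pow11 y'))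

theorem rep_pow23 {σ : Equiv.Perm GolayPt} {p : ℕ} (hp : Rep σ p) : Rep (σ ^ 23) (pow23 p) := by
  unfold pow23
  rw [frc_eq]
  have := hp.comp hp.pow11.sq
  rwa [← pow_mul, ← pow_succ'] at this

/-- the power `239085 = 3 ^ 3 * 5 * 7 * 11 * 23`, the odd part of the order of `M24` -/
def powOdd (y : ℕ) : ℕ := pow23 (pow11 (pow7 (pow5 (pow3 (pow3 (pow3 y))))))

theorem rep_powOdd {σ : Equiv.Perm GolayPt} {p : ℕ} (hp : Rep σ p) :
    Rep (σ ^ 239085) (powOdd p) := by
  have := rep_pow23 hp.pow3.pow3.pow3.pow5.pow7.pow11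
  rwa [← pow_mul, ← pow_mul, ← pow_mul, ← pow_mul, ← pow_mul, ← pow_mul] at this

/-- the power `1024` -/
def pow1024 (y : ℕ) : ℕ := sqP (sqP (sqP (sqP (sqP (sqP (sqP (sqP (sqP (sqP y)))))))))

theorem rep_pow1024 {σ : Equiv.Perm GolayPt} {p : ℕ} (hp : Rep σ p) :
    Rep (σ ^ 1024) (pow1024 p) := by
  have := hp.sq.sq.sq.sq.sq.sq.sq.sq.sq.sq
  rwa [← pow_mul, ← pow_mul, ← pow_mul, ← pow_mul, ← pow_mul, ← pow_mul, ← pow_mul, ← pow_mul,
    ← pow_mul] at this

/-! ### tests -/

/-- `x ^ 1024 = 1` -/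
def is2 (r : ℕ) : Bool := frc r fun x => isOneP (pow1024 x)

/-- `(x * g) ^ 239085 = 1` -/
def oddT (g r : ℕ) : Bool := frc r fun x => isOneP (powOdd (compP x g))

/-- `x * c = c * x` -/
def comT (c r : ℕ) : Bool := frc r fun x => Nat.beq (compP x c) (compP c x)

theorem is2_iff {σ : Equiv.Perm GolayPt} {r : ℕ} (hr : Rep σ r) : is2 r = true ↔ σ ^ 1024 = 1 := by
  unfold is2
  rw [frc_eq]
  exact (rep_pow1024 hr).isOne_iff

theorem oddT_iff {γ σ : Equiv.Perm GolayPt} {g r : ℕ} (hg : Rep γ g) (hr : Rep σ r) :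
    oddT g r = true ↔ (σ * γ) ^ 239085 = 1 := by
  unfold oddT
  rw [frc_eq]
  exact (rep_powOdd (hr.comp hg)).isOne_iff

theorem comT_iff {κ σ : Equiv.Perm GolayPt} {c r : ℕ} (hc : Rep κ c) (hr : Rep σ r) :
    comT c r = true ↔ σ * κ = κ * σ := by
  unfold comT
  rw [frc_eq]
  exact (hr.comp hc).beq_iff (hc.comp hr)

/-! ### orders in `M24` through powers -/

theorem orderOf_dvd_card_M24 {σ : Equiv.Perm GolayPt} (hσ : σ ∈ M24) :
    orderOf σ ∣ 2 ^ 10 * 239085 := by
  have h := orderOf_dvd_natCard (⟨σ, hσ⟩ : ↥M24)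
  rw [card_M24, Subgroup.orderOf_mk] at h
  exact h

theorem two_pow_iff {σ : Equiv.Perm GolayPt} (hσ : σ ∈ M24) :
    (∃ k : ℕ, orderOf σ = 2 ^ k) ↔ σ ^ 1024 = 1 := by
  constructor
  · rintro ⟨k, hk⟩
    have hdvd := orderOf_dvd_card_M24 hσ
    rw [hk] at hdvd
    have hcop : Nat.Coprime (2 ^ k) 239085 := Nat.Coprime.pow_left k (by norm_num)
    have h10 : 2 ^ k ∣ 2 ^ 10 := hcop.dvd_of_dvd_mul_right hdvd
    rw [← hk] at h10
    exact orderOf_dvd_iff_pow_eq_one.mp h10
  · intro h
    have h10 : orderOf σ ∣ 2 ^ 10 := orderOf_dvd_iff_pow_eq_one.mpr h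
    obtain ⟨k, _, hk⟩ := (Nat.dvd_prime_pow Nat.prime_two).mp h10
    exact ⟨k, hk⟩

theorem odd_iff {σ : Equiv.Perm GolayPt} (hσ : σ ∈ M24) :
    ¬ 2 ∣ orderOf σ ↔ σ ^ 239085 = 1 := by
  constructor
  · intro h2
    have hdvd := orderOf_dvd_card_M24 hσ
    have hcop : Nat.Coprime (orderOf σ) (2 ^ 10) :=
      Nat.Coprime.pow_right 10
        (Nat.Coprime.symm ((Nat.Prime.coprime_iff_not_dvd Nat.prime_two).mpr h2))
    exact orderOf_dvd_iff_pow_eq_one.mp (hcop.dvd_of_dvd_mul_left hdvd)
  · intro h h2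
    have h3 : orderOf σ ∣ 239085 := orderOf_dvd_iff_pow_eq_one.mpr h
    exact absurd (dvd_trans h2 h3) (by norm_num)

/-! ### the 2-elements of a chunk -/

/-- push the 2-elements among `c * l`, `l` in `ks`, on `acc` -/
def twoT (c : ℕ) (ks acc : List ℕ) : List ℕ :=
  ks.foldl (fun acc l => frc (compP c l) fun r => cond (is2 r) (r :: acc) acc) acc

theorem twoT_eq (c : ℕ) (ks acc : List ℕ) :
    twoT c ks acc = ((ks.map (compRaw c)).filter is2).reverse ++ acc := by
  unfold twoT
  induction ks generalizing acc with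
  | nil => simp
  | cons l ks ih =>
    rw [List.foldl_cons, ih, frc_eq, compP_eq, List.map_cons, List.filter_cons]
    cases is2 (compRaw c l) <;> simp

/-- the 2-elements among the products `m * s * l`, in reverse order -/
def twoChunk (m : ℕ) (ss ks : List ℕ) : List ℕ :=
  ss.foldl (fun acc s => frc (compP m s) fun c => twoT c ks acc) []

theorem twoChunk_eq (m : ℕ) (ss ks : List ℕ) :
    twoChunk m ss ks = ((prods m ss ks).filter is2).reverse := by
  unfold twoChunk prods
  suffices h : ∀ acc, ss.foldl (fun acc s => frc (compP m s) fun c => twoT c ks acc) acc =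
      ((ss.flatMap fun s => ks.map (compRaw (compRaw m s))).filter is2).reverse ++ acc by
    simpa using h []
  induction ss with
  | nil => intro acc; simp
  | cons s ss ih =>
    intro acc
    rw [List.foldl_cons, ih, frc_eq, compP_eq, twoT_eq, List.flatMap_cons, List.filter_append,
      List.reverse_append, List.append_assoc]

/-! ### counting among the 2-elements -/

/-- the number of `y` in `Y` with `y * g` of odd order -/
def cntOdd (g : ℕ) (Y : List ℕ) : ℕ :=
  Y.foldl (fun acc y => frc acc fun a => cond (oddT g y) (Nat.succ a) a) 0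

theorem cntOdd_eq (g : ℕ) (Y : List ℕ) : cntOdd g Y = Y.countP (oddT g) := by
  unfold cntOdd
  suffices h : ∀ acc, Y.foldl (fun acc y => frc acc fun a => cond (oddT g y) (Nat.succ a) a) acc =
      acc + Y.countP (oddT g) by simpa using h 0
  induction Y with
  | nil => intro acc; simp
  | cons y Y ih =>
    intro acc
    rw [List.foldl_cons, ih, frc_eq, List.countP_cons]
    cases oddT g y <;> simp <;> omega

/-- the number of `y` in `Y` commuting with `c` with `y * g` of odd order -/
def cntOddC (g c : ℕ) (Y : List ℕ) : ℕ :=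
  Y.foldl (fun acc y => frc acc fun a =>
    cond (comT c y) (cond (oddT g y) (Nat.succ a) a) a) 0

theorem cntOddC_eq (g c : ℕ) (Y : List ℕ) :
    cntOddC g c Y = Y.countP (fun y => comT c y && oddT g y) := by
  unfold cntOddC
  suffices h : ∀ acc, Y.foldl (fun acc y => frc acc fun a =>
      cond (comT c y) (cond (oddT g y) (Nat.succ a) a) a) acc =
      acc + Y.countP (fun y => comT c y && oddT g y) by simpa using h 0
  induction Y with
  | nil => intro acc; simp
  | cons y Y ih =>
    intro acc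
    rw [List.foldl_cons, ih, frc_eq, List.countP_cons]
    cases comT c y <;> cases oddT g y <;> simp <;> omega

theorem countP_all_two (ms ss ks : List ℕ) (Q : ℕ → Bool) :
    (allProds ms ss ks).countP (fun r => is2 r && Q r) =
      (ms.map fun m => (twoChunk m ss ks).countP Q).sum := by
  unfold allProds
  rw [List.countP_flatMap]
  congr 1
  apply List.map_congr_left
  intro m _
  rw [twoChunk_eq, List.countP_reverse, List.countP_filter]
  apply List.countP_congr
  intro r _
  rw [Bool.and_comm]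

end Cfsg.Agent.Lib.Helper13.OctEnum
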