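import Cfsg.Agent.Lib.Helper13.OctY00
import Cfsg.Agent.Lib.Helper13.OctY01
import Cfsg.Agent.Lib.Helper13.OctY02
import Cfsg.Agent.Lib.Helper13.OctY03
import Cfsg.Agent.Lib.Helper13.OctY04
import Cfsg.Agent.Lib.Helper13.OctY05
import Cfsg.Agent.Lib.Helper13.OctY06
import Cfsg.Agent.Lib.Helper13.OctY07
import Cfsg.Agent.Lib.Helper13.OctY08
import Cfsg.Agent.Lib.Helper13.OctY09
import Cfsg.Agent.Lib.Helper13.OctY10
import Cfsg.Agent.Lib.Helper13.OctY11
import Cfsg.Agent.Lib.Helper13.OctY12
import Cfsg.Agent.Lib.Helper13.OctY13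
import Cfsg.Agent.Lib.Helper13.OctEnum

/-! The list of all 65536 two-elements of the octad stabiliser, and counting through it. -/

set_option autoImplicit false

namespace Cfsg.Agent.Lib.Helper13.OctEnum

open Cfsg Cfsg.Agent.Lib.Helper28 Cfsg.Agent.Lib.Helper13.PackPerm Cfsg.Agent.Lib.Helper13.M22Enum

def Ychunks : List (List ℕ) := [Yc0, Yc1, Yc2, Yc3, Yc4, Yc5, Yc6, Yc7, Yc8, Yc9, Yc10, Yc11, Yc12, Yc13, Yc14, Yc15, Yc16, Yc17, Yc18, Yc19, Yc20, Yc21, Yc22, Yc23, Yc24, Yc25, Yc26, Yc27, Yc28, Yc29, Yc30, Yc31, Yc32, Yc33, Yc34, Yc35, Yc36, Yc37, Yc38, Yc39, Yc40, Yc41, Yc42, Yc43, Yc44, Yc45, Yc46, Yc47, Yc48, Yc49, Yc50, Yc51, Yc52, Yc53, Yc54, Yc55]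

/-- all 2-elements of the octad stabiliser -/
def Yall : List ℕ := Ychunks.flatten

theorem chunks_eq : msO.map (fun m => twoChunk m ssO K4O) = Ychunks := by
  unfold msO Ychunks
  simp only [List.map_cons, List.map_nil, two_0, two_1, two_2, two_3, two_4, two_5, two_6, two_7, two_8, two_9, two_10, two_11, two_12, two_13, two_14, two_15, two_16, two_17, two_18, two_19, two_20, two_21, two_22, two_23, two_24, two_25, two_26, two_27, two_28, two_29, two_30, two_31, two_32, two_33, two_34, two_35, two_36, two_37, two_38, two_39, two_40, two_41, two_42, two_43, two_44, two_45, two_46, two_47, two_48, two_49, two_50, two_51, two_52, two_53, two_54, two_55]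

set_option maxRecDepth 1000000 in
theorem length_Yall : Yall.length = 65536 := by decide +kernel

theorem countP_two (Q : ℕ → Bool) :
    (allProds msO ssO K4O).countP (fun r => is2 r && Q r) = Yall.countP Q := by
  rw [countP_all_two]
  unfold Yall
  rw [List.countP_flatten, ← chunks_eq, List.map_map]
  rfl

theorem mem_allProds_of_mem_Yall {r : ℕ} (h : r ∈ Yall) : r ∈ allProds msO ssO K4O := by
  unfold Yall at h
  rw [List.mem_flatten] at h
  obtain ⟨ch, hch, hr⟩ := h
  rw [← chunks_eq, List.mem_map] at hch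
  obtain ⟨m, hm, rfl⟩ := hch
  rw [twoChunk_eq, List.mem_reverse, List.mem_filter] at hr
  unfold allProds
  rw [List.mem_flatMap]
  exact ⟨m, hm, hr.1⟩

/-- every table of an exhaustive list of the right length belongs to an element -/
theorem exists_rep_of_cover {H : Subgroup (Equiv.Perm GolayPt)} (L : List ℕ)
    (hlen : L.length = Nat.card H) (hcov : ∀ σ ∈ H, ∃ r ∈ L, Rep σ r) :
    ∀ r ∈ L, ∃ σ ∈ H, Rep σ r := by
  classical
  have : Fintype ↥H := Fintype.ofFinite _
  choose f hfL hfR using fun x : ↥H => hcov x.1 x.2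
  have hinj : Function.Injective f := by
    intro x y hxy
    apply Subtype.ext
    have h2 := hfR y
    rw [← hxy] at h2
    exact actsBy_unique (hfR x).1 h2.1
  have himg : Finset.univ.image f ⊆ L.toFinset := by
    intro r hr
    rw [Finset.mem_image] at hr
    obtain ⟨x, _, rfl⟩ := hr
    exact List.mem_toFinset.mpr (hfL x)
  have hcard : (Finset.univ.image f).card = L.length := by
    rw [Finset.card_image_of_injective _ hinj, Finset.card_univ, hlen, Nat.card_eq_fintype_card]
  have hle : L.toFinset.card ≤ L.length := List.toFinset_card_le L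
  have heq : Finset.univ.image f = L.toFinset :=
    Finset.eq_of_subset_of_card_le himg (by rw [hcard]; exact hle)
  intro r hr
  have : r ∈ Finset.univ.image f := by rw [heq]; exact List.mem_toFinset.mpr hr
  rw [Finset.mem_image] at this
  obtain ⟨x, _, hx⟩ := this
  exact ⟨x.1, x.2, hx ▸ hfR x⟩

theorem exists_rep_Yall {r : ℕ} (h : r ∈ Yall) : ∃ σ ∈ HOct, Rep σ r :=
  exists_rep_of_cover _ length_allO cover_Oct r (mem_allProds_of_mem_Yall h)

end Cfsg.Agent.Lib.Helper13.OctEnum
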