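import Mathlib

set_option maxHeartbeats 400000
set_option linter.unusedVariables false
set_option linter.unusedSectionVars false
set_option linter.style.longLine false
set_option linter.style.haveILetI false
set_option linter.unusedSimpArgs false

namespace Cfsg.Agent.Lib.Helper13.OrbitBound

open Module

universe u

lemma card_le_mul_of_fiber_le {α β : Type*} [Finite α] [Finite β] (φ : α → β) (m : ℕ)
    (h : ∀ b : β, Nat.card {a // φ a = b} ≤ m) : Nat.card α ≤ Nat.card β * m := by
  classical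
  haveI := Fintype.ofFinite α
  haveI := Fintype.ofFinite β
  rw [Nat.card_eq_fintype_card, Nat.card_eq_fintype_card]
  calc Fintype.card α = Fintype.card (Σ b : β, {a // φ a = b}) :=
        Fintype.card_congr (Equiv.sigmaFiberEquiv φ).symm
    _ = ∑ b : β, Fintype.card {a // φ a = b} := Fintype.card_sigma
    _ ≤ ∑ _b : β, m := Finset.sum_le_sum (fun b _ => by
        rw [← Nat.card_eq_fintype_card]; exact h b)
    _ = Fintype.card β * m := by simp

section quad

variable {K : Type*} [Field K] [CharP K 2]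

lemma sq_inj_two {s t : K} (h : s ^ 2 = t ^ 2) : s = t := by
  have h1 : (s + t) ^ 2 = 0 := by rw [CharTwo.add_sq, h, CharTwo.add_self_eq_zero]
  have h2 : s + t = 0 := by simpa using h1
  calc s = -t := eq_neg_of_add_eq_zero_left h2
    _ = t := CharTwo.neg_eq t

lemma eq_of_add_eq_zero_two {s t : K} (h : s + t = 0) : s = t := by
  calc s = -t := eq_neg_of_add_eq_zero_left h
    _ = t := CharTwo.neg_eq t

lemma vadd_self (K : Type*) [Field K] [CharP K 2] {V : Type*} [AddCommGroup V] [Module K V]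
    (v : V) : v + v = 0 := by
  have : (2 : K) • v = 0 := by rw [CharTwo.two_eq_zero, zero_smul]
  rwa [two_smul] at this

lemma vneg_eq (K : Type*) [Field K] [CharP K 2] {V : Type*} [AddCommGroup V] [Module K V]
    (v : V) : -v = v := by
  rw [neg_eq_iff_add_eq_zero]; exact vadd_self K v

/-- abstract quadratic form with polar form `B` -/
structure IsQuad {V : Type*} [AddCommGroup V] [Module K V] (f : V → K)
    (B : V →ₗ[K] V →ₗ[K] K) : Prop where
  add : ∀ u v, f (u + v) = f u + f v + B u v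
  smul : ∀ (c : K) v, f (c • v) = c ^ 2 * f v

variable {V : Type*} [AddCommGroup V] [Module K V] {f : V → K} {B : V →ₗ[K] V →ₗ[K] K}

namespace IsQuad

lemma zero (h : IsQuad f B) : f 0 = 0 := by
  have := h.smul 0 0
  simpa using this

lemma self (h : IsQuad f B) (u : V) : B u u = 0 := by
  have h1 := h.add u u
  rw [vadd_self K u, h.zero, CharTwo.add_self_eq_zero, zero_add] at h1
  exact h1.symm

lemma symm (h : IsQuad f B) (u v : V) : B u v = B v u := by
  have h1 := h.add u v
  have h2 := h.add v u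
  rw [add_comm v u, h1] at h2
  have : f u + f v + B u v = f u + f v + B v u := by rw [h2]; ring
  exact add_left_cancel this

lemma B_eq (h : IsQuad f B) (u v : V) : B u v = f (u + v) + f u + f v := by
  rw [h.add]
  have e1 := CharTwo.add_self_eq_zero (f u)
  have e2 := CharTwo.add_self_eq_zero (f v)
  calc B u v = B u v + (f u + f u) + (f v + f v) := by rw [e1, e2]; ring
    _ = f u + f v + B u v + f u + f v := by ring

lemma B_map (h : IsQuad f B) (g : V → V) (hadd : ∀ u v, g (u + v) = g u + g v)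
    (hg : ∀ v, f (g v) = f v) (u v : V) : B (g u) (g v) = B u v := by
  rw [h.B_eq, h.B_eq, ← hadd, hg, hg, hg]

lemma f_comb (h : IsQuad f B) (x y w : V) (t s : K) (hxy : B x y = 1) (hxw : B x w = 0)
    (hyw : B y w = 0) :
    f (t • x + s • y + w) = t ^ 2 * f x + t * s + s ^ 2 * f y + f w := by
  rw [h.add, h.add, h.smul, h.smul]
  simp only [map_add, map_smul, LinearMap.add_apply, LinearMap.smul_apply, smul_eq_mul, hxy, hxw,
    hyw]
  ring

lemma restrict (h : IsQuad f B) (W : Submodule K V) :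
    IsQuad (fun w : W => f (w : V)) (B.domRestrict₁₂ W W) where
  add u v := by
    show f ((u : V) + (v : V)) = f u + f v + B u v
    exact h.add u v
  smul c v := by
    show f (c • (v : V)) = c ^ 2 * f v
    exact h.smul c v

end IsQuad

variable (B) in
/-- the orthogonal complement of the pair `x, y` -/
def Wsub (x y : V) : Submodule K V := LinearMap.ker ((B x).prod (B y))

lemma mem_W {x y w : V} : w ∈ Wsub B x y ↔ B x w = 0 ∧ B y w = 0 := by
  simp [Wsub, LinearMap.mem_ker, LinearMap.prod_apply, Prod.ext_iff]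

lemma finrank_W [FiniteDimensional K V] (h : IsQuad f B) {x y : V} (hxy : B x y = 1) :
    finrank K (Wsub B x y) + 2 = finrank K V := by
  have hsurj : Function.Surjective ((B x).prod (B y)) := by
    rintro ⟨c, d⟩
    refine ⟨c • y + d • x, ?_⟩
    simp [LinearMap.prod_apply, hxy, h.self, h.symm y x]
  have h1 := LinearMap.finrank_range_add_finrank_ker ((B x).prod (B y))
  rw [LinearMap.range_eq_top.mpr hsurj, finrank_top, Module.finrank_prod, Module.finrank_self]
    at h1
  unfold Wsub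
  omega

lemma decomp_mem (h : IsQuad f B) {x y : V} (hxy : B x y = 1) (v : V) :
    v - (B y v) • x - (B x v) • y ∈ Wsub B x y := by
  rw [mem_W]
  constructor
  · simp [map_sub, h.self, hxy]
  · simp [map_sub, h.self, h.symm y x, hxy]

lemma rad_of_W (h : IsQuad f B) {x y : V} (hxy : B x y = 1)
    (hA : ∀ u1 ∈ Wsub B x y, ∀ u2 ∈ Wsub B x y, B u1 u2 = 0) {w1 : V}
    (hw1 : w1 ∈ Wsub B x y) : ∀ v, B v w1 = 0 := by
  intro v
  have hw := mem_W.mp hw1
  have hd := decomp_mem h hxy v
  have e : v = (B y v) • x + (B x v) • y + (v - (B y v) • x - (B x v) • y) := by abel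
  calc B v w1 = B ((B y v) • x + (B x v) • y + (v - (B y v) • x - (B x v) • y)) w1 := by
        rw [← e]
    _ = 0 := by
      rw [map_add, map_add, LinearMap.add_apply, LinearMap.add_apply, map_smul, map_smul,
        LinearMap.smul_apply, LinearMap.smul_apply, hw.1, hw.2, hA _ hd _ hw1]
      simp

lemma rechoose (h : IsQuad f B) {x0 y0 w u1 u2 : V} (h00 : B x0 y0 = 1)
    (hw : w ∈ Wsub B x0 y0) (hu1 : u1 ∈ Wsub B x0 y0) (hu2 : u2 ∈ Wsub B x0 y0) :
    B (x0 + w) y0 = 1 ∧ (u1 + B w u1 • y0) ∈ Wsub B (x0 + w) y0 ∧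
      (u2 + B w u2 • y0) ∈ Wsub B (x0 + w) y0 ∧
      B (u1 + B w u1 • y0) (u2 + B w u2 • y0) = B u1 u2 := by
  have hw' := mem_W.mp hw
  have hu1' := mem_W.mp hu1
  have hu2' := mem_W.mp hu2
  have e1 : B w y0 = 0 := by rw [h.symm]; exact hw'.2
  have e2 : B u1 y0 = 0 := by rw [h.symm]; exact hu1'.2
  refine ⟨?_, ?_, ?_, ?_⟩
  · rw [map_add, LinearMap.add_apply, h00, e1, add_zero]
  · rw [mem_W]
    constructor
    · simp only [map_add, map_smul, LinearMap.add_apply, smul_eq_mul, hu1'.1, h00, e1, mul_one,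
        mul_zero, zero_add, add_zero]
      exact CharTwo.add_self_eq_zero _
    · simp only [map_add, map_smul, smul_eq_mul, hu1'.2, h.self, mul_zero, add_zero]
  · rw [mem_W]
    constructor
    · simp only [map_add, map_smul, LinearMap.add_apply, smul_eq_mul, hu2'.1, h00, e1, mul_one,
        mul_zero, zero_add, add_zero]
      exact CharTwo.add_self_eq_zero _
    · simp only [map_add, map_smul, smul_eq_mul, hu2'.2, h.self, mul_zero, add_zero]
  · simp only [map_add, map_smul, LinearMap.add_apply, LinearMap.smul_apply, smul_eq_mul, e2,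
      hu2'.2, h.self, mul_zero, add_zero]

section counting

variable [Fintype K]

/-- admissible partners of `x'` -/
abbrev Yset (f : V → K) (B : V →ₗ[K] V →ₗ[K] K) (x' : V) (b : K) : Type _ :=
  {y' : V // B x' y' = 1 ∧ f y' = b}

lemma Y_key (h : IsQuad f B) {x' y0 : V} (h0 : B x' y0 = 1) {b : K}
    (y1 y2 : Yset f B x' b) (t1 t2 s1 s2 : K)
    (he : y1.1 + t1 • x' + s1 • y0 = y2.1 + t2 • x' + s2 • y0) :
    s1 = s2 ∧ (t1 + t2) * ((t1 + t2) * f x' + 1) = 0 ∧ y2.1 = y1.1 + (t1 + t2) • x' := by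
  have hs : s1 = s2 := by
    have := congrArg (B x') he
    simp only [map_add, map_smul, smul_eq_mul, h.self, h0, y1.2.1, y2.2.1, mul_zero, add_zero,
      mul_one] at this
    exact add_left_cancel this
  subst hs
  have he' : y1.1 + t1 • x' = y2.1 + t2 • x' := add_right_cancel he
  have hy2 : y2.1 = y1.1 + (t1 + t2) • x' := by
    have e0 : y2.1 = y1.1 + t1 • x' - t2 • x' := by rw [he']; abel
    rw [e0, add_smul, sub_eq_add_neg, vneg_eq K (t2 • x'), add_assoc]
  refine ⟨rfl, ?_, hy2⟩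
  have hf := y2.2.2
  rw [hy2, h.add, h.smul] at hf
  simp only [map_smul, smul_eq_mul] at hf
  rw [h.symm y1.1 x', y1.2.1, y1.2.2] at hf
  have h3 : (t1 + t2) ^ 2 * f x' + (t1 + t2) * 1 = 0 := by
    apply add_left_cancel (a := b)
    rw [add_zero, ← add_assoc]; exact hf
  calc (t1 + t2) * ((t1 + t2) * f x' + 1) = (t1 + t2) ^ 2 * f x' + (t1 + t2) * 1 := by ring
    _ = 0 := h3

lemma Y_le_of_zero [Finite V] (h : IsQuad f B) (j : ℕ) (hfin : finrank K V = j + 2)
    {x' y0 : V} (h0 : B x' y0 = 1) (ha : f x' = 0) (b : K) :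
    Nat.card (Yset f B x' b) ≤ Fintype.card K ^ j := by
  have hq : 0 < Fintype.card K := Fintype.card_pos
  have hinj : Function.Injective
      (fun p : Yset f B x' b × K × K => p.1.1 + p.2.1 • x' + p.2.2 • y0) := by
    rintro ⟨y1, t1, s1⟩ ⟨y2, t2, s2⟩ he
    obtain ⟨hs, ht, hy⟩ := Y_key h h0 y1 y2 t1 t2 s1 s2 he
    rw [ha, mul_zero, zero_add, mul_one] at ht
    have ht' : t1 = t2 := eq_of_add_eq_zero_two ht
    rw [ht, zero_smul, add_zero] at hy
    have : y1 = y2 := Subtype.ext hy.symm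
    rw [this, ht', hs]
  have hc := Nat.card_le_card_of_injective _ hinj
  rw [Nat.card_prod, Nat.card_prod, Nat.card_eq_fintype_card (α := K),
    Module.natCard_eq_pow_finrank (K := K) (V := V), hfin, Nat.card_eq_fintype_card (α := K)]
    at hc
  have e : Fintype.card K ^ (j + 2) = Fintype.card K ^ j * (Fintype.card K * Fintype.card K) := by
    ring
  rw [e] at hc
  exact Nat.le_of_mul_le_mul_right hc (Nat.mul_pos hq hq)

lemma Y_le [Finite V] (h : IsQuad f B) (j : ℕ) (hfin : finrank K V = j + 2)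
    {x' y0 : V} (h0 : B x' y0 = 1) (b : K) :
    Nat.card (Yset f B x' b) ≤ 2 * Fintype.card K ^ j := by
  have hq : 0 < Fintype.card K := Fintype.card_pos
  have hc := card_le_mul_of_fiber_le
    (fun p : Yset f B x' b × K × K => p.1.1 + p.2.1 • x' + p.2.2 • y0) 2 ?_
  · rw [Nat.card_prod, Nat.card_prod, Nat.card_eq_fintype_card (α := K),
      Module.natCard_eq_pow_finrank (K := K) (V := V), hfin, Nat.card_eq_fintype_card (α := K)]
      at hc
    have e : Fintype.card K ^ (j + 2) * 2 =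
        (2 * Fintype.card K ^ j) * (Fintype.card K * Fintype.card K) := by ring
    rw [e] at hc
    exact Nat.le_of_mul_le_mul_right hc (Nat.mul_pos hq hq)
  · intro v
    by_cases hne : Nonempty {a : Yset f B x' b × K × K // a.1.1 + a.2.1 • x' + a.2.2 • y0 = v}
    · obtain ⟨⟨⟨y0', t0, s0⟩, hp0⟩⟩ := hne
      classical
      have hinj : Function.Injective
          (fun p : {a : Yset f B x' b × K × K // a.1.1 + a.2.1 • x' + a.2.2 • y0 = v} =>
            decide (p.1.2.1 = t0)) := by
        rintro ⟨⟨y1, t1, s1⟩, hp1⟩ ⟨⟨y2, t2, s2⟩, hp2⟩ hd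
        obtain ⟨hs, ht, hy⟩ := Y_key h h0 y1 y2 t1 t2 s1 s2 (hp1.trans hp2.symm)
        obtain ⟨-, ht1, -⟩ := Y_key h h0 y1 y0' t1 t0 s1 s0 (hp1.trans hp0.symm)
        obtain ⟨-, ht2, -⟩ := Y_key h h0 y2 y0' t2 t0 s2 s0 (hp2.trans hp0.symm)
        have hd' : decide (t1 = t0) = decide (t2 = t0) := hd
        have htt : t1 = t2 := by
          by_cases e1 : t1 = t0
          · have e2 : t2 = t0 := by simpa [e1] using hd'.symm
            rw [e1, e2]
          · have e2 : t2 ≠ t0 := by
              intro e2; apply e1; simpa [e2] using hd'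
            have n1 : t1 + t0 ≠ 0 := fun hh => e1 (eq_of_add_eq_zero_two hh)
            have n2 : t2 + t0 ≠ 0 := fun hh => e2 (eq_of_add_eq_zero_two hh)
            have a1 := (mul_eq_zero.mp ht1).resolve_left n1
            have a2 := (mul_eq_zero.mp ht2).resolve_left n2
            have ha0 : f x' ≠ 0 := by
              intro hz; rw [hz, mul_zero, zero_add] at a1; exact one_ne_zero a1
            have e3 : (t1 + t0) * f x' = (t2 + t0) * f x' := add_right_cancel (a1.trans a2.symm)
            have e4 := mul_right_cancel₀ ha0 e3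
            exact add_right_cancel e4
        subst htt
        have hyy : y1 = y2 := by
          apply Subtype.ext
          rw [hy, CharTwo.add_self_eq_zero, zero_smul, add_zero]
        subst hyy
        subst hs
        rfl
      calc Nat.card _ ≤ Nat.card Bool := Nat.card_le_card_of_injective _ hinj
        _ = 2 := by simp
    · rw [not_nonempty_iff] at hne
      haveI := hne
      rw [Nat.card_of_isEmpty]; exact Nat.zero_le _

lemma X_le_IIb [Finite V] (h : IsQuad f B) (j : ℕ) (hfin : finrank K V = j + 2) (w1 : V)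
    (hrad : ∀ v, B v w1 = 0) (hw1 : f w1 = 1) (a : K) :
    Nat.card {v : V // f v = a} ≤ Fintype.card K ^ (j + 1) := by
  have hq : 0 < Fintype.card K := Fintype.card_pos
  have hinj : Function.Injective (fun p : {v : V // f v = a} × K => p.1.1 + p.2 • w1) := by
    rintro ⟨v1, t1⟩ ⟨v2, t2⟩ he
    have e0 : v1.1 + t1 • w1 = v2.1 + t2 • w1 := he
    have he' : v2.1 = v1.1 + (t1 + t2) • w1 := by
      have e1 : v2.1 = v1.1 + t1 • w1 - t2 • w1 := by rw [e0]; abel
      rw [e1, add_smul, sub_eq_add_neg, vneg_eq K (t2 • w1), add_assoc]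
    have hf := v2.2
    rw [he', h.add, h.smul, hw1, v1.2] at hf
    simp only [map_smul, smul_eq_mul, hrad, mul_zero, add_zero, mul_one] at hf
    have h2 : (t1 + t2) ^ 2 = 0 := by
      apply add_left_cancel (a := a)
      rw [add_zero]; exact hf
    have h3 : t1 + t2 = 0 := by simpa using h2
    have ht : t1 = t2 := eq_of_add_eq_zero_two h3
    rw [h3, zero_smul, add_zero] at he'
    have : v1 = v2 := Subtype.ext he'.symm
    rw [this, ht]
  have hc := Nat.card_le_card_of_injective _ hinj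
  rw [Nat.card_prod, Nat.card_eq_fintype_card (α := K),
    Module.natCard_eq_pow_finrank (K := K) (V := V), hfin, Nat.card_eq_fintype_card (α := K)]
    at hc
  have e : Fintype.card K ^ (j + 2) = Fintype.card K ^ (j + 1) * Fintype.card K := by ring
  rw [e] at hc
  exact Nat.le_of_mul_le_mul_right hc hq

lemma ts_le (a b : K) (ha : a ≠ 0) :
    Nat.card {ts : K × K // ts.1 ^ 2 * a + ts.1 * ts.2 + ts.2 ^ 2 * b = a} ≤
      Fintype.card K + 1 := by
  classical
  have hinj : Function.Injective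
      (fun ts : {ts : K × K // ts.1 ^ 2 * a + ts.1 * ts.2 + ts.2 ^ 2 * b = a} =>
        if ts.1.2 = 0 then (none : Option K) else some (ts.1.1 / ts.1.2)) := by
    rintro ⟨⟨t, s⟩, h1⟩ ⟨⟨t', s'⟩, h2⟩ he
    have h1' : t ^ 2 * a + t * s + s ^ 2 * b = a := h1
    have h2' : t' ^ 2 * a + t' * s' + s' ^ 2 * b = a := h2
    have he' : (if s = 0 then (none : Option K) else some (t / s)) =
        (if s' = 0 then (none : Option K) else some (t' / s')) := he
    by_cases hs : s = 0
    · by_cases hs' : s' = 0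
      · subst hs; subst hs'
        have e1 : t ^ 2 * a = a := by linear_combination h1'
        have e2 : t' ^ 2 * a = a := by linear_combination h2'
        have e3 : t ^ 2 = t' ^ 2 := mul_right_cancel₀ ha (e1.trans e2.symm)
        have e4 := sq_inj_two e3
        subst e4; rfl
      · rw [if_pos hs, if_neg hs'] at he'
        exact absurd he' (by simp)
    · by_cases hs' : s' = 0
      · rw [if_neg hs, if_pos hs'] at he'
        exact absurd he' (by simp)
      · rw [if_neg hs, if_neg hs'] at he'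
        have hu : t / s = t' / s' := Option.some.inj he'
        obtain ⟨u, hu0⟩ : ∃ u, u = t / s := ⟨_, rfl⟩
        have ht : t = u * s := by rw [hu0]; field_simp
        have ht' : t' = u * s' := by rw [hu0, hu]; field_simp
        have c1 : s ^ 2 * (u ^ 2 * a + u + b) = a := by
          calc s ^ 2 * (u ^ 2 * a + u + b) = (u * s) ^ 2 * a + (u * s) * s + s ^ 2 * b := by ring
            _ = a := by rw [← ht]; exact h1'
        have c2 : s' ^ 2 * (u ^ 2 * a + u + b) = a := by
          calc s' ^ 2 * (u ^ 2 * a + u + b) = (u * s') ^ 2 * a + (u * s') * s' + s' ^ 2 * b := by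
                ring
            _ = a := by rw [← ht']; exact h2'
        have hc : u ^ 2 * a + u + b ≠ 0 := by
          intro hz; rw [hz, mul_zero] at c1; exact ha c1.symm
        have e3 : s ^ 2 = s' ^ 2 := mul_right_cancel₀ hc (c1.trans c2.symm)
        have hss := sq_inj_two e3
        subst hss
        have e5 : t = t' := by rw [ht, ht']
        subst e5; rfl
  calc Nat.card _ ≤ Nat.card (Option K) := Nat.card_le_card_of_injective _ hinj
    _ = Fintype.card K + 1 := by rw [Nat.card_eq_fintype_card, Fintype.card_option]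

lemma X_le_IIa [Finite V] (h : IsQuad f B) (j : ℕ) (hfin : finrank K V = j + 2) {x y : V}
    (hxy : B x y = 1) (hW0 : ∀ w ∈ Wsub B x y, f w = 0) (ha : f x ≠ 0) :
    Nat.card {v : V // f v = f x} ≤ (Fintype.card K + 1) * Fintype.card K ^ j := by
  have hdec : ∀ v : V, v = (B y v) • x + (B x v) • y + (v - (B y v) • x - (B x v) • y) :=
    fun v => by abel
  have hfv : ∀ v : V, f v = (B y v) ^ 2 * f x + (B y v) * (B x v) + (B x v) ^ 2 * f y := by
    intro v
    have hw := decomp_mem h hxy v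
    have hw' := mem_W.mp hw
    have e := h.f_comb x y _ (B y v) (B x v) hxy hw'.1 hw'.2
    rw [← hdec v, hW0 _ hw, add_zero] at e
    exact e
  let θ : {v : V // f v = f x} →
      {ts : K × K // ts.1 ^ 2 * f x + ts.1 * ts.2 + ts.2 ^ 2 * f y = f x} × Wsub B x y :=
    fun v => (⟨(B y v.1, B x v.1), (by rw [← hfv v.1]; exact v.2)⟩,
      ⟨v.1 - (B y v.1) • x - (B x v.1) • y, decomp_mem h hxy v.1⟩)
  have hinj : Function.Injective θ := by
    intro v v' he
    have e1 : B y v.1 = B y v'.1 := congrArg (fun r => r.1.1.1) he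
    have e2 : B x v.1 = B x v'.1 := congrArg (fun r => r.1.1.2) he
    have e3 : v.1 - (B y v.1) • x - (B x v.1) • y = v'.1 - (B y v'.1) • x - (B x v'.1) • y :=
      congrArg (fun r => (r.2 : V)) he
    apply Subtype.ext
    have h1 := hdec v.1
    have h2 := hdec v'.1
    rw [e3, e1, e2] at h1
    exact h1.trans h2.symm
  have hc := Nat.card_le_card_of_injective θ hinj
  rw [Nat.card_prod] at hc
  have hW : Nat.card (Wsub B x y) = Fintype.card K ^ j := by
    rw [Module.natCard_eq_pow_finrank (K := K), Nat.card_eq_fintype_card]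
    congr 1
    have := finrank_W h hxy
    omega
  calc _ ≤ _ := hc
    _ ≤ (Fintype.card K + 1) * Fintype.card K ^ j := by
        rw [hW]; exact Nat.mul_le_mul_right _ (ts_le _ _ ha)

lemma card_ne_zero [Finite V] (j : ℕ) (hfin : finrank K V = j + 2) :
    Nat.card {v : V // ¬ (v = 0)} = Fintype.card K ^ (j + 2) - 1 := by
  classical
  haveI := Fintype.ofFinite V
  rw [Nat.card_eq_fintype_card, Fintype.card_subtype_compl, Fintype.card_subtype_eq,
    ← Nat.card_eq_fintype_card (α := V), Module.natCard_eq_pow_finrank (K := K), hfin,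
    Nat.card_eq_fintype_card]

instance instFiniteLinearEquiv [Finite V] : Finite (V ≃ₗ[K] V) :=
  Finite.of_injective (fun g : V ≃ₗ[K] V => (g : V → V)) DFunLike.coe_injective

/-- restriction of an automorphism to an invariant subspace -/
def restr (W : Submodule K V) (g : V ≃ₗ[K] V) (h1 : ∀ w ∈ W, g w ∈ W)
    (h2 : ∀ w ∈ W, g.symm w ∈ W) : W ≃ₗ[K] W :=
  LinearEquiv.ofLinearMap ((g : V →ₗ[K] V).restrict h1) ((g.symm : V →ₗ[K] V).restrict h2)
    (LinearMap.ext fun w => Subtype.ext (by simp))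
    (LinearMap.ext fun w => Subtype.ext (by simp))

structure IsStab (f : V → K) (x y : V) (g : V ≃ₗ[K] V) : Prop where
  pres : ∀ v, f (g v) = f v
  fx : g x = x
  fy : g y = y

lemma IsStab.symm {x y : V} {g : V ≃ₗ[K] V} (hg : IsStab f x y g) : IsStab f x y g.symm where
  pres v := by rw [← hg.pres (g.symm v), LinearEquiv.apply_symm_apply]
  fx := by
    calc g.symm x = g.symm (g x) := by rw [hg.fx]
      _ = x := g.symm_apply_apply x
  fy := by
    calc g.symm y = g.symm (g y) := by rw [hg.fy]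
      _ = y := g.symm_apply_apply y

lemma IsStab.mapsW (h : IsQuad f B) {x y : V} {g : V ≃ₗ[K] V} (hg : IsStab f x y g) :
    ∀ w ∈ Wsub B x y, g w ∈ Wsub B x y := by
  intro w hw
  rw [mem_W] at hw ⊢
  have hB := h.B_map g (map_add g) hg.pres
  constructor
  · have e := hB x w
    rw [hg.fx] at e
    rw [e]; exact hw.1
  · have e := hB y w
    rw [hg.fy] at e
    rw [e]; exact hw.2

/-- isometries -/
abbrev Iso (f : V → K) : Type _ := {g : V ≃ₗ[K] V // ∀ v, f (g v) = f v}

/-- pairs of the same type as `(x, y)` -/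
abbrev PP (f : V → K) (B : V →ₗ[K] V →ₗ[K] K) (a b : K) : Type _ :=
  {p : V × V // f p.1 = a ∧ f p.2 = b ∧ B p.1 p.2 = 1}

def restrIso (h : IsQuad f B) {x y : V} (g : V ≃ₗ[K] V) (hg : IsStab f x y g) :
    Iso (fun w : Wsub B x y => f (w : V)) :=
  ⟨restr (Wsub B x y) g (hg.mapsW h) (hg.symm.mapsW h), fun w => hg.pres w⟩

lemma L1 [Finite V] (h : IsQuad f B) {x y : V} (hxy : B x y = 1) :
    Nat.card (Iso f) ≤
      Nat.card (PP f B (f x) (f y)) * Nat.card (Iso (fun w : Wsub B x y => f (w : V))) := by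
  let φ : Iso f → PP f B (f x) (f y) := fun g =>
    ⟨(g.1 x, g.1 y), g.2 x, g.2 y, (by
      show B (g.1 x) (g.1 y) = 1
      rw [h.B_map g.1 (map_add g.1) g.2]; exact hxy)⟩
  apply card_le_mul_of_fiber_le φ
  intro b
  by_cases hne : Nonempty {g : Iso f // φ g = b}
  · obtain ⟨⟨g0, hg0⟩⟩ := hne
    have key : ∀ g : {g : Iso f // φ g = b}, IsStab f x y (g.1.1.trans g0.1.symm) := by
      intro g
      have e : φ g.1 = φ g0 := g.2.trans hg0.symm
      have ex : g.1.1 x = g0.1 x := congrArg (fun p => p.1.1) e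
      have ey : g.1.1 y = g0.1 y := congrArg (fun p => p.1.2) e
      refine ⟨fun v => ?_, ?_, ?_⟩
      · show f (g0.1.symm (g.1.1 v)) = f v
        rw [← g0.2 (g0.1.symm (g.1.1 v)), LinearEquiv.apply_symm_apply, g.1.2]
      · show g0.1.symm (g.1.1 x) = x
        rw [ex, LinearEquiv.symm_apply_apply]
      · show g0.1.symm (g.1.1 y) = y
        rw [ey, LinearEquiv.symm_apply_apply]
    let ψ : {g : Iso f // φ g = b} → Iso (fun w : Wsub B x y => f (w : V)) :=
      fun g => restrIso h _ (key g)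
    have hinj : Function.Injective ψ := by
      intro g g' he
      have e : φ g.1 = φ g'.1 := g.2.trans g'.2.symm
      have ex : g.1.1 x = g'.1.1 x := congrArg (fun p => p.1.1) e
      have ey : g.1.1 y = g'.1.1 y := congrArg (fun p => p.1.2) e
      have ew : ∀ w ∈ Wsub B x y, g.1.1 w = g'.1.1 w := by
        intro w hw
        have e1 := congrArg (fun r : Iso (fun w : Wsub B x y => f (w : V)) =>
          ((r.1 ⟨w, hw⟩ : Wsub B x y) : V)) he
        have e2 : g0.1.symm (g.1.1 w) = g0.1.symm (g'.1.1 w) := e1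
        exact g0.1.symm.injective e2
      apply Subtype.ext; apply Subtype.ext
      apply LinearEquiv.ext
      intro v
      have hv : v = (B y v) • x + (B x v) • y + (v - (B y v) • x - (B x v) • y) := by abel
      rw [hv]
      simp only [map_add, map_smul]
      rw [ex, ey, ew _ (decomp_mem h hxy v)]
    exact Nat.card_le_card_of_injective ψ hinj
  · rw [not_nonempty_iff] at hne
    haveI := hne
    rw [Nat.card_of_isEmpty]; exact Nat.zero_le _

lemma P_le [Finite V] (a b : K) (S : V → Prop) (m : ℕ)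
    (hS : ∀ p : PP f B a b, S p.1.1)
    (hm : ∀ x' y0 : V, f x' = a → B x' y0 = 1 → Nat.card (Yset f B x' b) ≤ m) :
    Nat.card (PP f B a b) ≤ Nat.card {v : V // S v} * m := by
  apply card_le_mul_of_fiber_le (fun p : PP f B a b => (⟨p.1.1, hS p⟩ : {v : V // S v}))
  rintro ⟨x', hx'⟩
  by_cases hne : Nonempty {p : PP f B a b // (⟨p.1.1, hS p⟩ : {v : V // S v}) = ⟨x', hx'⟩}
  · obtain ⟨⟨p0, hp0⟩⟩ := hne
    have e0 : p0.1.1 = x' := congrArg Subtype.val hp0
    have hfx : f x' = a := by rw [← e0]; exact p0.2.1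
    have hB0 : B x' p0.1.2 = 1 := by rw [← e0]; exact p0.2.2.2
    refine le_trans ?_ (hm x' p0.1.2 hfx hB0)
    let ι : {p : PP f B a b // (⟨p.1.1, hS p⟩ : {v : V // S v}) = ⟨x', hx'⟩} → Yset f B x' b :=
      fun p => ⟨p.1.1.2, (by
        have e : p.1.1.1 = x' := congrArg Subtype.val p.2
        have e9 := p.1.2.2.2
        rw [e] at e9
        exact e9), p.1.2.2.1⟩
    apply Nat.card_le_card_of_injective ι
    intro p p' he
    have e : p.1.1.1 = x' := congrArg Subtype.val p.2
    have e' : p'.1.1.1 = x' := congrArg Subtype.val p'.2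
    have e2 : p.1.1.2 = p'.1.1.2 := congrArg Subtype.val he
    apply Subtype.ext; apply Subtype.ext
    exact Prod.ext (e.trans e'.symm) e2
  · rw [not_nonempty_iff] at hne
    haveI := hne
    rw [Nat.card_of_isEmpty]; exact Nat.zero_le _

/-- order of `GL_j(q)` -/
def Gn (q j : ℕ) : ℕ := ∏ i ∈ Finset.range j, (q ^ j - q ^ i)

lemma card_GLW (W : Type*) [AddCommGroup W] [Module K W] [Finite W] (j : ℕ)
    (hj : finrank K W = j) : Nat.card (W ≃ₗ[K] W) = Gn (Fintype.card K) j := by
  subst hj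
  classical
  let b := Module.finBasis K W
  rw [← Nat.card_congr ((Matrix.GeneralLinearGroup.toLin' b).trans
      (LinearMap.GeneralLinearGroup.generalLinearEquiv K W)).toEquiv,
    Matrix.card_GL_field, Gn,
    Fin.prod_univ_eq_prod_range (fun i => Fintype.card K ^ finrank K W - Fintype.card K ^ i)]

lemma Gn_succ_succ (q j : ℕ) :
    Gn q (j + 2) = (q ^ (j + 2) - 1) * (q ^ (j + 2) - q) * (q ^ (2 * j) * Gn q j) := by
  unfold Gn
  rw [Finset.prod_range_succ', Finset.prod_range_succ']
  have e : ∀ k ∈ Finset.range j, q ^ (j + 2) - q ^ (k + 1 + 1) = q ^ 2 * (q ^ j - q ^ k) := by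
    intro k _
    rw [Nat.mul_sub]
    congr 1 <;> ring
  rw [Finset.prod_congr rfl e, Finset.prod_mul_distrib, Finset.prod_const, Finset.card_range]
  simp only [pow_zero, zero_add, pow_one]
  ring

lemma arith_I (q j' : ℕ) (hq : 2 ≤ q) :
    (q ^ (j' + 2 + 2) - 1) * q ^ (j' + 2) * (2 * (q + 1) * q ^ (2 * j') * Gn q j') ≤
      2 * (q + 1) * q ^ (2 * (j' + 2)) * Gn q (j' + 2) := by
  rw [Gn_succ_succ]
  obtain ⟨A, hA⟩ : ∃ A, A = q ^ (j' + 2) := ⟨_, rfl⟩
  have h1 : 2 * q ≤ A := by
    rw [hA]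
    calc 2 * q ≤ q * q := Nat.mul_le_mul_right q hq
      _ = q ^ 2 := (sq q).symm
      _ ≤ q ^ (j' + 2) := Nat.pow_le_pow_right (by omega) (by omega)
  have h2 : q ≤ A - 1 := by omega
  have h3 : q ≤ A - q := by omega
  have h4 : q ^ (j' + 2 + 2) = A * q * q := by rw [hA]; ring
  have h5 : q ^ (2 * (j' + 2)) = A * A := by rw [hA]; ring
  rw [h4, h5, ← hA]
  have h6 : A * q * q - 1 ≤ A * ((A - 1) * (A - q)) := by
    calc A * q * q - 1 ≤ A * q * q := Nat.sub_le _ _
      _ = A * (q * q) := by ring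
      _ ≤ A * ((A - 1) * (A - q)) := Nat.mul_le_mul_left _ (Nat.mul_le_mul h2 h3)
  calc (A * q * q - 1) * A * (2 * (q + 1) * q ^ (2 * j') * Gn q j')
      ≤ (A * ((A - 1) * (A - q))) * A * (2 * (q + 1) * q ^ (2 * j') * Gn q j') :=
        Nat.mul_le_mul_right _ (Nat.mul_le_mul_right _ h6)
    _ = 2 * (q + 1) * (A * A) * ((A - 1) * (A - q) * (q ^ (2 * j') * Gn q j')) := by ring

theorem claim : ∀ (j : ℕ) (V : Type u) [AddCommGroup V] [Module K V] [Finite V] (f : V → K)
    (B : V →ₗ[K] V →ₗ[K] K), IsQuad f B → finrank K V = j + 2 → (∃ u v, B u v ≠ 0) →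
    Nat.card (Iso f) ≤
      2 * (Fintype.card K + 1) * Fintype.card K ^ (2 * j) * Gn (Fintype.card K) j := by
  intro j
  induction j using Nat.strong_induction_on with
  | _ j ih =>
  intro V _ _ _ f B h hfin hB
  obtain ⟨u, v, huv⟩ := hB
  have hq2 : 2 ≤ Fintype.card K := Fintype.one_lt_card
  obtain ⟨q, hq⟩ : ∃ q, q = Fintype.card K := ⟨_, rfl⟩
  obtain ⟨y0, hy0⟩ : ∃ y0, y0 = (B u v)⁻¹ • v := ⟨_, rfl⟩
  have h00 : B u y0 = 1 := by
    rw [hy0, map_smul, smul_eq_mul, inv_mul_cancel₀ huv]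
  -- a general bound for frames whose complement carries no polar form
  have caseII : ∀ (x y : V) (mX : ℕ), B x y = 1 →
      Nat.card {v : V // f v = f x} ≤ mX →
      Nat.card (Iso f) ≤ mX * (2 * Fintype.card K ^ j) * Gn (Fintype.card K) j := by
    intro x y mX hxy hX
    have hL := L1 h hxy
    have hP : Nat.card (PP f B (f x) (f y)) ≤ Nat.card {v : V // f v = f x} *
        (2 * Fintype.card K ^ j) :=
      P_le (f x) (f y) (fun v => f v = f x) _ (fun p => p.2.1)
        (fun x' y1 _ hB1 => Y_le h j hfin hB1 (f y))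
    have hG : Nat.card (Iso (fun w : Wsub B x y => f (w : V))) ≤ Gn (Fintype.card K) j := by
      rw [← card_GLW (Wsub B x y) j (by have := finrank_W h hxy; omega)]
      exact Nat.card_le_card_of_injective Subtype.val Subtype.val_injective
    calc Nat.card (Iso f) ≤ _ := hL
      _ ≤ (Nat.card {v : V // f v = f x} * (2 * Fintype.card K ^ j)) *
          Gn (Fintype.card K) j := Nat.mul_le_mul hP hG
      _ ≤ mX * (2 * Fintype.card K ^ j) * Gn (Fintype.card K) j :=
        Nat.mul_le_mul_right _ (Nat.mul_le_mul_right _ hX)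
  by_cases hA : ∃ u1 ∈ Wsub B u y0, ∃ u2 ∈ Wsub B u y0, B u1 u2 ≠ 0
  · -- Case I
    obtain ⟨u1, hu1, u2, hu2, h12⟩ := hA
    obtain ⟨w0, hw0, hfw0⟩ : ∃ w0 ∈ Wsub B u y0, f w0 ≠ 0 := by
      by_contra hcon
      push Not at hcon
      apply h12
      rw [h.B_eq, hcon _ (Submodule.add_mem _ hu1 hu2), hcon _ hu1, hcon _ hu2]
      simp
    obtain ⟨r, hr⟩ := FiniteField.isSquare_of_char_two (ringChar.eq K 2) (f u / f w0)
    obtain ⟨w, hw⟩ : ∃ w, w = r • w0 := ⟨_, rfl⟩
    have hwW : w ∈ Wsub B u y0 := by rw [hw]; exact Submodule.smul_mem _ _ hw0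
    have hfw : f w = f u := by
      rw [hw, h.smul, sq, ← hr]; field_simp
    have hw' := mem_W.mp hwW
    obtain ⟨hxy, hv1, hv2, hv12⟩ := rechoose h h00 hwW hu1 hu2
    obtain ⟨x, hx⟩ : ∃ x, x = u + w := ⟨_, rfl⟩
    rw [← hx] at hxy hv1 hv2
    have hfx : f x = 0 := by
      rw [hx, h.add, hfw, hw'.1, add_zero, CharTwo.add_self_eq_zero]
    -- the restricted form
    have hQW := h.restrict (Wsub B x y0)
    have hfinW : finrank K (Wsub B x y0) = j := by have := finrank_W h hxy; omega
    obtain ⟨U1, hU1⟩ : ∃ U1 : Wsub B x y0, (U1 : V) = u1 + B w u1 • y0 := ⟨⟨_, hv1⟩, rfl⟩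
    obtain ⟨U2, hU2⟩ : ∃ U2 : Wsub B x y0, (U2 : V) = u2 + B w u2 • y0 := ⟨⟨_, hv2⟩, rfl⟩
    have hne : (B.domRestrict₁₂ (Wsub B x y0) (Wsub B x y0)) U1 U2 ≠ 0 := by
      show B (U1 : V) (U2 : V) ≠ 0
      rw [hU1, hU2, hv12]; exact h12
    obtain ⟨Y2, hY2⟩ : ∃ Y2 : Wsub B x y0,
        Y2 = ((B.domRestrict₁₂ (Wsub B x y0) (Wsub B x y0)) U1 U2)⁻¹ • U2 := ⟨_, rfl⟩
    have h11 : (B.domRestrict₁₂ (Wsub B x y0) (Wsub B x y0)) U1 Y2 = 1 := by
      rw [hY2, map_smul, smul_eq_mul, inv_mul_cancel₀ hne]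
    have hfr2 := finrank_W hQW h11
    obtain ⟨j', hj'⟩ : ∃ j', j = j' + 2 := ⟨_, (hfr2.trans hfinW).symm⟩
    subst hj'
    have hIH := ih j' (by omega) (Wsub B x y0) (fun w : Wsub B x y0 => f (w : V))
      (B.domRestrict₁₂ (Wsub B x y0) (Wsub B x y0)) hQW hfinW ⟨U1, U2, hne⟩
    have hL := L1 h hxy
    have hP : Nat.card (PP f B (f x) (f y0)) ≤ Nat.card {v : V // ¬ (v = 0)} *
        Fintype.card K ^ (j' + 2) := by
      refine P_le (f x) (f y0) (fun v => ¬ (v = 0)) _ (fun p hp => ?_)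
        (fun x' y1 hfx' hB1 => Y_le_of_zero h (j' + 2) hfin hB1 (hfx'.trans hfx) (f y0))
      have e9 := p.2.2.2
      rw [hp] at e9
      simp at e9
    rw [card_ne_zero (j' + 2) hfin] at hP
    calc Nat.card (Iso f) ≤ _ := hL
      _ ≤ ((Fintype.card K ^ (j' + 2 + 2) - 1) * Fintype.card K ^ (j' + 2)) *
          (2 * (Fintype.card K + 1) * Fintype.card K ^ (2 * j') * Gn (Fintype.card K) j') :=
        Nat.mul_le_mul hP hIH
      _ ≤ _ := arith_I (Fintype.card K) j' hq2
  · -- Case II
    push Not at hA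
    by_cases hF : ∃ w0 ∈ Wsub B u y0, f w0 ≠ 0
    · -- IIb
      obtain ⟨w0, hw0, hfw0⟩ := hF
      obtain ⟨r, hr⟩ := FiniteField.isSquare_of_char_two (ringChar.eq K 2) (f w0)⁻¹
      obtain ⟨w1, hw1⟩ : ∃ w1, w1 = r • w0 := ⟨_, rfl⟩
      have hw1W : w1 ∈ Wsub B u y0 := by rw [hw1]; exact Submodule.smul_mem _ _ hw0
      have hfw1 : f w1 = 1 := by
        rw [hw1, h.smul, sq, ← hr]; field_simp
      have hrad := rad_of_W h h00 hA hw1W
      have hX := X_le_IIb h j hfin w1 hrad hfw1 (f u)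
      have hfinal := caseII u y0 _ h00 hX
      calc Nat.card (Iso f) ≤ _ := hfinal
        _ = 2 * Fintype.card K * Fintype.card K ^ (2 * j) * Gn (Fintype.card K) j := by ring
        _ ≤ _ := by
          apply Nat.mul_le_mul_right
          apply Nat.mul_le_mul_right
          omega
    · -- IIa
      push Not at hF
      obtain ⟨x, y, hxy, hfx, hsub⟩ : ∃ x y, B x y = 1 ∧ f x ≠ 0 ∧
          ∀ w ∈ Wsub B x y, w ∈ Wsub B u y0 := by
        by_cases h1 : f u ≠ 0
        · exact ⟨u, y0, h00, h1, fun w hw => hw⟩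
        · by_cases h2 : f y0 ≠ 0
          · refine ⟨y0, u, by rw [h.symm]; exact h00, h2, fun w hw => ?_⟩
            rw [mem_W] at hw ⊢
            exact ⟨hw.2, hw.1⟩
          · push Not at h1 h2
            refine ⟨u + y0, y0, ?_, ?_, fun w hw => ?_⟩
            · rw [map_add, LinearMap.add_apply, h00, h.self, add_zero]
            · rw [h.add, h1, h2, h00]; simp
            · rw [mem_W] at hw ⊢
              refine ⟨?_, hw.2⟩
              have e9 := hw.1
              rw [map_add, LinearMap.add_apply, hw.2, add_zero] at e9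
              exact e9
      have hW0 : ∀ w ∈ Wsub B x y, f w = 0 := fun w hw => hF w (hsub w hw)
      have hX := X_le_IIa h j hfin hxy hW0 hfx
      have hfinal := caseII x y _ hxy hX
      calc Nat.card (Iso f) ≤ _ := hfinal
        _ = _ := by ring

end counting

end quad

section final

open Matrix
open scoped MatrixGroups

variable {K : Type*} [Field K] [Fintype K] [CharP K 2]

/-- the linear automorphism attached to an invertible matrix -/
def glEquiv {n : ℕ} (A : GL (Fin n) K) : (Fin n → K) ≃ₗ[K] (Fin n → K) :=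
  LinearEquiv.ofLinearMap (Matrix.mulVecLin (A : Matrix (Fin n) (Fin n) K))
    (Matrix.mulVecLin ((A⁻¹ : GL (Fin n) K) : Matrix (Fin n) (Fin n) K))
    (LinearMap.ext fun v => by
      show (A : Matrix (Fin n) (Fin n) K) *ᵥ
        (((A⁻¹ : GL (Fin n) K) : Matrix (Fin n) (Fin n) K) *ᵥ v) = v
      rw [Matrix.mulVec_mulVec, ← Units.val_mul, mul_inv_cancel, Units.val_one,
        Matrix.one_mulVec])
    (LinearMap.ext fun v => by
      show ((A⁻¹ : GL (Fin n) K) : Matrix (Fin n) (Fin n) K) *ᵥ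
        ((A : Matrix (Fin n) (Fin n) K) *ᵥ v) = v
      rw [Matrix.mulVec_mulVec, ← Units.val_mul, inv_mul_cancel, Units.val_one,
        Matrix.one_mulVec])

lemma glEquiv_apply {n : ℕ} (A : GL (Fin n) K) (v : Fin n → K) :
    glEquiv A v = (A : Matrix (Fin n) (Fin n) K) *ᵥ v := rfl

lemma isQuad_matrix {n : ℕ} (C : Matrix (Fin n) (Fin n) K) :
    IsQuad (fun v : Fin n → K => v ⬝ᵥ C *ᵥ v) (Matrix.toLinearMap₂' K (C + Cᵀ)) where
  add u v := by
    have e : u ⬝ᵥ Cᵀ *ᵥ v = v ⬝ᵥ C *ᵥ u := by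
      rw [Matrix.dotProduct_mulVec, Matrix.vecMul_transpose, dotProduct_comm]
    simp only [Matrix.toLinearMap₂'_apply', Matrix.add_mulVec, Matrix.mulVec_add, add_dotProduct,
      dotProduct_add, e]
    ring
  smul c v := by
    show (c • v) ⬝ᵥ C *ᵥ (c • v) = c ^ 2 * (v ⬝ᵥ C *ᵥ v)
    rw [Matrix.mulVec_smul, smul_dotProduct, dotProduct_smul, smul_eq_mul, smul_eq_mul]
    ring

theorem orbit_bound {K : Type*} [Field K] [Fintype K] [CharP K 2] {n : ℕ}
    (C : Matrix (Fin n) (Fin n) K) (hC : C + Cᵀ ≠ 0) :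
    Nat.card {A : GL (Fin n) K // ∀ x : Fin n → K,
        ((A : Matrix (Fin n) (Fin n) K) *ᵥ x) ⬝ᵥ C *ᵥ ((A : Matrix (Fin n) (Fin n) K) *ᵥ x) =
          x ⬝ᵥ C *ᵥ x}
      * ((Fintype.card K ^ n - 1) * (Fintype.card K ^ n - Fintype.card K)) ≤
    2 * (Fintype.card K + 1) * Nat.card (GL (Fin n) K) := by
  classical
  have hn : 2 ≤ n := by
    by_contra hlt
    have hsub : Subsingleton (Fin n) := Fin.subsingleton_iff_le_one.mpr (by omega)
    apply hC
    ext i j
    have e : i = j := Subsingleton.elim i j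
    subst e
    simp [Matrix.add_apply, Matrix.transpose_apply, CharTwo.add_self_eq_zero]
  obtain ⟨j, rfl⟩ : ∃ j, n = j + 2 := ⟨n - 2, by omega⟩
  have hQ := isQuad_matrix C
  have hB : ∃ u v, (Matrix.toLinearMap₂' K (C + Cᵀ) :
      (Fin (j + 2) → K) →ₗ[K] (Fin (j + 2) → K) →ₗ[K] K) u v ≠ 0 := by
    by_contra hcon
    push Not at hcon
    apply hC
    ext a b
    have e := hcon (Pi.single a 1) (Pi.single b 1)
    rw [Matrix.toLinearMap₂'_apply', Matrix.mulVec_single_one, single_one_dotProduct] at e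
    exact e
  have hcl := claim j (Fin (j + 2) → K) _ _ hQ (by simp) hB
  have hle : Nat.card {A : GL (Fin (j + 2)) K // ∀ x : Fin (j + 2) → K,
        ((A : Matrix (Fin (j + 2)) (Fin (j + 2)) K) *ᵥ x) ⬝ᵥ
          C *ᵥ ((A : Matrix (Fin (j + 2)) (Fin (j + 2)) K) *ᵥ x) = x ⬝ᵥ C *ᵥ x} ≤
      Nat.card (Iso (fun v : Fin (j + 2) → K => v ⬝ᵥ C *ᵥ v)) := by
    apply Nat.card_le_card_of_injective
      (fun A => (⟨glEquiv A.1, fun v => A.2 v⟩ : Iso (fun v : Fin (j + 2) → K => v ⬝ᵥ C *ᵥ v)))
    intro A A' he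
    have e1 : glEquiv A.1 = glEquiv A'.1 := congrArg Subtype.val he
    apply Subtype.ext
    apply Units.ext
    apply Matrix.mulVec_injective
    funext v
    have e2 := congrArg (fun g : (Fin (j + 2) → K) ≃ₗ[K] (Fin (j + 2) → K) => g v) e1
    exact e2
  rw [Matrix.card_GL_field,
    Fin.prod_univ_eq_prod_range (fun i => Fintype.card K ^ (j + 2) - Fintype.card K ^ i)]
  have hG := Gn_succ_succ (Fintype.card K) j
  unfold Gn at hG
  rw [hG]
  calc _ ≤ (2 * (Fintype.card K + 1) * Fintype.card K ^ (2 * j) * Gn (Fintype.card K) j) *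
        ((Fintype.card K ^ (j + 2) - 1) * (Fintype.card K ^ (j + 2) - Fintype.card K)) :=
      Nat.mul_le_mul_right _ (hle.trans hcl)
    _ = _ := by unfold Gn; ring

end final

end Cfsg.Agent.Lib.Helper13.OrbitBound

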