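import Mathlib
import Cfsg.Agent.Lib.Helper13.OrthNondeg
import Cfsg.Agent.Lib.Helper13.OrthTrans

/-!
# Orthogonal decompositions into isometric non-degenerate blocks: basic tools

`V = D_1 ⊥ ... ⊥ D_t` with non-degenerate blocks of dimension `k ≥ 3`; `M` contains the
stabiliser `H` of the decomposition in `Ω`.  Siegel transformations and products of two reflections
attached to block vectors lie in `H`.
-/

set_option autoImplicit false
set_option linter.unusedSectionVars false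
set_option linter.unusedVariables false

namespace Cfsg.Agent.Lib.Helper13.ODC

open Matrix Module QuadraticMap Cfsg.Agent.Lib.Helper6 Cfsg.Agent.Lib.Helper13
  Cfsg.Agent.Lib.Helper13.OND

section basics
universe u
variable {F : Type u} [Field F] [Fintype F] {ι : Type} [Fintype ι] [DecidableEq ι]
variable (Q : QuadraticForm F (ι → F))
variable {t : ℕ} (D : Fin t → Submodule F (ι → F))

/-- the geometric data of an orthogonal decomposition into non-degenerate blocks -/
structure Blk (k : ℕ) : Prop where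
  hk : 3 ≤ k
  fr : ∀ i, finrank F (D i) = k
  nd : ∀ i, NdOn Q (D i)
  orth : ∀ i j, i ≠ j → ∀ u ∈ D i, ∀ w ∈ D j, polar (⇑Q) u w = 0
  glob : ∀ x : ι → F, (∀ i, ∀ y ∈ D i, polar (⇑Q) x y = 0) → x = 0
  comp : ∀ x : ι → F, ∃ f : Fin t → (ι → F), (∀ i, f i ∈ D i) ∧ x = ∑ i, f i
  two : (2 : F) ≠ 0
  hQ : (polarBilin Q).Nondegenerate
  h5 : 5 ≤ Fintype.card ι

theorem mem_decompStab_of_forall' (g : GL ι F)
    (h1 : ∀ l, ∀ y ∈ D l, (g : Matrix ι ι F) *ᵥ y ∈ D l)
    (h2 : ∀ l, ∀ y ∈ D l, ((g⁻¹ : GL ι F) : Matrix ι ι F) *ᵥ y ∈ D l) :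
    g ∈ Cfsg.Geo.decompositionStabilizer D := by
  refine ⟨1, fun l => ?_⟩
  rw [Equiv.Perm.one_apply]
  apply le_antisymm
  · rintro _ ⟨y, hy, rfl⟩
    rw [Matrix.toLin'_apply]
    exact h1 l y hy
  · intro c hc
    refine ⟨((g⁻¹ : GL ι F) : Matrix ι ι F) *ᵥ c, h2 l c hc, ?_⟩
    rw [Matrix.toLin'_apply, mulVec_mulVec, ← Units.val_mul, mul_inv_cancel, Units.val_one,
      one_mulVec]

theorem iso_mem_decompStab (γ : ↥(Cfsg.isometryGroup F ⇑Q))
    (h1 : ∀ l, ∀ y ∈ D l, gact Q γ y ∈ D l) (h2 : ∀ l, ∀ y ∈ D l, gact Q γ⁻¹ y ∈ D l) :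
    (γ : GL ι F) ∈ Cfsg.Geo.decompositionStabilizer D :=
  mem_decompStab_of_forall' D _ h1 (fun l y hy => h2 l y hy)

variable {Q D} {k : ℕ} {M : Subgroup (GL ι F)}

theorem Blk.inter (hB : Blk Q D k) {i j : Fin t} (hij : i ≠ j) {x : ι → F} (hi : x ∈ D i)
    (hj : x ∈ D j) : x = 0 := by
  by_contra hx0
  obtain ⟨y, hy, hxy⟩ := hB.nd i x hi hx0
  exact hxy (by rw [polar_comm]; exact hB.orth i j hij y hy x hj)

theorem Blk.finrank_eq (hB : Blk Q D k) (i : Fin t) : 3 ≤ finrank F (D i) := by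
  rw [hB.fr i]
  exact hB.hk

theorem polar_sum_right (x : ι → F) {α : Type*} (s : Finset α) (f : α → ι → F) :
    polar (⇑Q) x (∑ i ∈ s, f i) = ∑ i ∈ s, polar (⇑Q) x (f i) := by
  have := map_sum (polarBilin Q x) f s
  simpa only [polarBilin_apply_apply] using this

/-- the decomposition of a vector into its component in a block and a vector perpendicular to the
block -/
theorem Blk.dec (hB : Blk Q D k) (i : Fin t) (x : ι → F) :
    ∃ u ∈ D i, ∃ w, (∀ y ∈ D i, polar (⇑Q) y w = 0) ∧ x = u + w := by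
  classical
  obtain ⟨f, hf, hx⟩ := hB.comp x
  refine ⟨f i, hf i, ∑ l ∈ Finset.univ.erase i, f l, ?_, ?_⟩
  · intro y hy
    rw [polar_sum_right]
    apply Finset.sum_eq_zero
    intro l hl
    exact hB.orth i l (Finset.ne_of_mem_erase hl).symm y hy (f l) (hf l)
  · rw [hx, Finset.add_sum_erase _ _ (Finset.mem_univ i)]

/-- Siegel transformations of a block lie in `M` -/
theorem block_sieg (hB : Blk Q D k)
    (hHM : Cfsg.Geo.decompositionStabilizer D ⊓ Cfsg.Geo.omegaGL ⇑Q ≤ M)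
    {j : Fin t} {s w : ι → F} (hs : s ∈ D j) (hw : w ∈ D j)
    (hQs : Q s = 0) (hsw : polar (⇑Q) s w = 0) : SIn Q M s w := by
  have key : ∀ w' ∈ D j, ∀ (h : polar (⇑Q) s w' = 0), ∀ l, ∀ y ∈ D l,
      gact Q (siegIso Q s w' hQs h) y ∈ D l := by
    intro w' hw' h l y hy
    rw [gact_siegIso]
    by_cases hlj : l = j
    · rw [hlj] at hy ⊢
      exact (D j).add_mem ((D j).add_mem hy ((D j).smul_mem _ hs)) ((D j).smul_mem _ hw')
    · rw [polar_comm (⇑Q) w' y, hB.orth l j hlj y hy w' hw', polar_comm (⇑Q) s y,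
        hB.orth l j hlj y hy s hs]
      simp only [mul_zero, sub_zero, zero_smul, neg_zero, add_zero]
      exact hy
  refine ⟨hQs, hsw, fun c hx hxv => hHM ⟨?_, (mem_omegaGL_iff Q _).mpr
    ⟨_, siegIso_mem_Omega Q hB.hQ hB.h5 s (c • w) hx hxv, rfl⟩⟩⟩
  apply iso_mem_decompStab Q D _ (key _ ((D j).smul_mem c hw) hxv)
  rw [siegIso_inv]
  exact key _ ((D j).neg_mem ((D j).smul_mem c hw)) _

theorem refl_block (hB : Blk Q D k) (i' : Fin t) (c : ι → F) (hc : c ∈ D i') (l : Fin t)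
    (y : ι → F) (hy : y ∈ D l) : (reflA Q c).1 y ∈ D l := by
  rw [reflA_apply]
  by_cases hli : l = i'
  · rw [hli] at hy ⊢
    exact (D i').sub_mem hy ((D i').smul_mem _ hc)
  · rw [polar_comm, hB.orth l i' hli y hy c hc, mul_zero, zero_smul, sub_zero]
    exact hy

theorem rr_inv (a b : ι → F) : (rr Q a b)⁻¹ = rr Q b a := by
  unfold rr
  rw [← map_inv, _root_.mul_inv_rev, reflA_inv, reflA_inv]

/-- products of two reflections in block vectors of equal norm lie in `M` -/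
theorem block_rr (hB : Blk Q D k)
    (hHM : Cfsg.Geo.decompositionStabilizer D ⊓ Cfsg.Geo.omegaGL ⇑Q ≤ M)
    {i j : Fin t} {a b : ι → F} (ha : a ∈ D i) (hb : b ∈ D j) (hQa : Q a ≠ 0)
    (hab : Q a = Q b) : ((rr Q a b : ↥(Cfsg.isometryGroup F ⇑Q)) : GL ι F) ∈ M := by
  apply hHM
  refine ⟨?_, (mem_omegaGL_iff Q _).mpr ⟨_, rr_mem_Omega Q hB.hQ a b hQa hab, rfl⟩⟩
  apply iso_mem_decompStab Q D
  · intro l y hy
    rw [gact_rr]
    exact refl_block hB i a ha l _ (refl_block hB j b hb l y hy)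
  · intro l y hy
    rw [rr_inv, gact_rr]
    exact refl_block hB j b hb l _ (refl_block hB i a ha l y hy)

theorem SIn_self {x : ι → F} (hx : Q x = 0) (c : F) : SIn Q M x (c • x) := by
  refine ⟨hx, by rw [polar_smul_right, polar_self, hx, smul_zero, smul_zero],
    fun t hx' hxv => ?_⟩
  have : siegIso Q x (t • c • x) hx' hxv = 1 := by
    apply iso_ext_gact
    intro y
    rw [gact_siegIso, gact_one, Q_smul, Q_smul, hx, polar_smul_left, polar_smul_left]
    simp only [smul_eq_mul, mul_zero, zero_mul, sub_zero]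
    module
  rw [this]
  exact M.one_mem

theorem SIn_zero {x : ι → F} (hx : Q x = 0) : SIn Q M x 0 := by
  have := SIn_self (M := M) hx 0
  rwa [zero_smul] at this

theorem SIn.symm {x v : ι → F} (h : SIn Q M x v) (hv : Q v = 0) : SIn Q M v x := by
  refine ⟨hv, by rw [polar_comm]; exact h.2.1, fun t hv' hvx => ?_⟩
  have h1 : polar (⇑Q) x ((-t) • v) = 0 := by rw [polar_smul_right, h.2.1, smul_zero]
  have e : siegIso Q v (t • x) hv' hvx = siegIso Q x ((-t) • v) h.1 h1 := by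
    apply iso_ext_gact
    intro y
    rw [gact_siegIso, gact_siegIso, Q_smul, Q_smul, h.1, hv, polar_smul_left, polar_smul_left]
    simp only [smul_eq_mul, mul_zero, zero_mul, sub_zero]
    module
  rw [e]
  exact h.2.2 (-t) h.1 h1

theorem SIn.sum {x : ι → F} (hx : Q x = 0) {α : Type*} (s : Finset α) (f : α → ι → F)
    (h : ∀ i ∈ s, SIn Q M x (f i)) : SIn Q M x (∑ i ∈ s, f i) := by
  classical
  induction s using Finset.induction_on with
  | empty =>
    rw [Finset.sum_empty]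
    exact SIn_zero hx
  | insert a s ha ih =>
    rw [Finset.sum_insert ha]
    exact (h a (Finset.mem_insert_self a s)).add
      (ih (fun i hi => h i (Finset.mem_insert_of_mem hi)))

theorem SIn.of_smul {x v : ι → F} {c : F} (hc : c ≠ 0) (h : SIn Q M x (c • v)) :
    SIn Q M x v := by
  have := h.smul c⁻¹
  rwa [smul_smul, inv_mul_cancel₀ hc, one_smul] at this

/-- scaling the centre -/
theorem SIn.smul_left {x v : ι → F} (h : SIn Q M x v) (c : F) : SIn Q M (c • x) v := by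
  refine ⟨by rw [Q_smul, h.1, mul_zero], by rw [polar_smul_left, h.2.1, smul_zero],
    fun t hx' hxv => ?_⟩
  have h1 : polar (⇑Q) x (t • v) = 0 := by rw [polar_smul_right, h.2.1, smul_zero]
  have e := siegIso_smul_left Q c x (t • v) h.1 h1
  have h2 : polar (⇑Q) x (c • t • v) = 0 := by
    rw [polar_smul_right, polar_smul_right, h.2.1, smul_zero, smul_zero]
  have h3 := (h.smul c).2.2 t h.1 (by
    rw [polar_smul_right, polar_smul_right, h.2.1, smul_zero, smul_zero])
  have h4 : ((siegIso Q x (c • t • v) h.1 h2 : ↥(Cfsg.isometryGroup F ⇑Q)) : GL ι F) ∈ M :=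
    sieg_mem_congr rfl (by rw [smul_comm]) h3
  exact sieg_mem_congr rfl rfl (e ▸ h4)

theorem Q_sum_orth {α : Type*} (s : Finset α) (f : α → ι → F)
    (h : ∀ i ∈ s, ∀ j ∈ s, i ≠ j → polar (⇑Q) (f i) (f j) = 0) :
    Q (∑ i ∈ s, f i) = ∑ i ∈ s, Q (f i) := by
  classical
  induction s using Finset.induction_on with
  | empty => simp
  | insert a s ha ih =>
    rw [Finset.sum_insert ha, Finset.sum_insert ha, Q_add, polar_sum_right,
      ih (fun i hi j hj hij => h i (Finset.mem_insert_of_mem hi) j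
        (Finset.mem_insert_of_mem hj) hij)]
    have : ∑ i ∈ s, polar (⇑Q) (f a) (f i) = 0 := by
      apply Finset.sum_eq_zero
      intro i hi
      exact h a (Finset.mem_insert_self a s) i (Finset.mem_insert_of_mem hi)
        (fun h' => ha (h' ▸ hi))
    rw [this, add_zero]

/-- a nonsingular vector perpendicular to a singular one, inside a non-degenerate space of
dimension at least three -/
theorem exists_nonsing_perp (X : Submodule F (ι → F)) (hX : NdOn Q X) (h3 : 3 ≤ finrank F X)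
    {e : ι → F} (heX : e ∈ X) (he0 : e ≠ 0) (he : Q e = 0) :
    ∃ w ∈ X, polar (⇑Q) e w = 0 ∧ Q w ≠ 0 := by
  obtain ⟨x, hxX, hx, hex⟩ := exists_partner Q X hX heX he0 he
  obtain ⟨z, hzX, hz0, hz1, hz2⟩ := exists_ne_zero_cut2 Q X x e h3
  by_cases hQz : Q z = 0
  · obtain ⟨y, hyX, hy⟩ := hX z hzX hz0
    have hxe : polar (⇑Q) x e = 1 := by rw [polar_comm]; exact hex
    obtain ⟨hy'x, hy'e⟩ := hyp_proj Q x e y hx he hxe
    obtain ⟨y', hy'⟩ : ∃ y', y' = y - polar (⇑Q) y e • x - polar (⇑Q) y x • e := ⟨_, rfl⟩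
    rw [← hy'] at hy'x hy'e
    have hy'X : y' ∈ X := by
      rw [hy']
      exact X.sub_mem (X.sub_mem hyX (X.smul_mem _ hxX)) (X.smul_mem _ heX)
    have hzy' : polar (⇑Q) z y' ≠ 0 := by
      rw [hy', polar_sub_right, polar_sub_right, polar_smul_right, polar_smul_right,
        polar_comm (⇑Q) z x, hz1, polar_comm (⇑Q) z e, hz2, smul_zero, smul_zero, sub_zero,
        sub_zero]
      exact hy
    by_cases hQy' : Q y' = 0
    · refine ⟨z + y', X.add_mem hzX hy'X, ?_, ?_⟩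
      · rw [polar_add_right, hz2, polar_comm (⇑Q) e y', hy'e, add_zero]
      · rw [Q_add, hQz, hQy', zero_add, zero_add]
        exact hzy'
    · exact ⟨y', hy'X, by rw [polar_comm]; exact hy'e, hQy'⟩
  · exact ⟨z, hzX, hz2, hQz⟩

/-- the Siegel transformation centred at `u` mapping one singular vector to another -/
theorem sieg_map_eq {u v' z : ι → F} {c : F} (hu : Q u = 0) (hv' : Q v' = 0) (hz : Q z = 0)
    (hc0 : c ≠ 0) (huv' : polar (⇑Q) u v' = c) (huz : polar (⇑Q) u z = c)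
    (huw : polar (⇑Q) u (c⁻¹ • (v' - z)) = 0) :
    gact Q (siegIso Q u (c⁻¹ • (v' - z)) hu huw) v' = z := by
  obtain ⟨w₀, hw₀⟩ : ∃ w₀, w₀ = c⁻¹ • (v' - z) := ⟨_, rfl⟩
  have hgoal : gact Q (siegIso Q u w₀ hu (by rw [hw₀]; exact huw)) v' = z := by
    rw [gact_siegIso, huv']
    have p1 : polar (⇑Q) w₀ v' = c⁻¹ * (polar (⇑Q) v' v' - polar (⇑Q) z v') := by
      rw [hw₀, polar_smul_left, polar_sub_left, smul_eq_mul]
    have p2 : polar (⇑Q) v' v' = 0 := by rw [polar_self, hv', smul_zero]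
    have p3 : Q w₀ = c⁻¹ * c⁻¹ * (0 + 0 - polar (⇑Q) v' z) := by
      rw [hw₀, Q_smul, Q_sub, hv', hz]
    have h1 : polar (⇑Q) w₀ v' - Q w₀ * c = 0 := by
      rw [p1, p2, p3, polar_comm (⇑Q) z v']
      field_simp
      ring
    rw [h1, zero_smul, add_zero, hw₀, smul_smul, neg_mul, mul_inv_cancel₀ hc0, neg_smul, one_smul]
    abel
  subst hw₀
  exact hgoal

end basics

end Cfsg.Agent.Lib.Helper13.ODC
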