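import Mathlib
import Cfsg.Agent.Lib.Helper13.OrthDecompA

/-!
# Orthogonal decompositions: absorbing parts of blocks into the Siegel subgroups

`L(z) = {v : ρ_{z,tv} ∈ M for all t}` for a singular vector `z`.  If some `v ∈ L(z)` is not
perpendicular to a non-degenerate subspace `X ⊆ z^⊥` of a block, then `X ⊆ L(z)`.
-/

set_option autoImplicit false
set_option linter.unusedSectionVars false
set_option linter.unusedVariables false

namespace Cfsg.Agent.Lib.Helper13.ODC

open Matrix Module QuadraticMap Cfsg.Agent.Lib.Helper6 Cfsg.Agent.Lib.Helper13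
  Cfsg.Agent.Lib.Helper13.OND

section absorb
universe u
variable {F : Type u} [Field F] [Fintype F] {ι : Type} [Fintype ι] [DecidableEq ι]
variable {Q : QuadraticForm F (ι → F)}
variable {t : ℕ} {D : Fin t → Submodule F (ι → F)} {k : ℕ} {M : Subgroup (GL ι F)}

theorem polar_self_ne (h2 : (2 : F) ≠ 0) {p : ι → F} (hQp : Q p ≠ 0) : polar (⇑Q) p p ≠ 0 := by
  rw [polar_self, nsmul_eq_mul]
  push_cast
  exact mul_ne_zero h2 hQp

/-- the perpendicular space of a nonsingular vector inside a non-degenerate space -/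
theorem perp_nd (X : Submodule F (ι → F)) (hX : NdOn Q X) (h2 : (2 : F) ≠ 0) {p : ι → F}
    (hp : p ∈ X) (hQp : Q p ≠ 0) :
    NdOn Q (X ⊓ LinearMap.ker (polarBilin Q p)) ∧
      finrank F ↥(X ⊓ LinearMap.ker (polarBilin Q p)) + 1 = finrank F X := by
  have hpp := polar_self_ne h2 hQp
  refine ⟨?_, Cfsg.Agent.Lib.Helper6.finrank_inf_ker_add_one X (polarBilin Q p) p hp (by
    rw [polarBilin_apply_apply]; exact hpp)⟩
  intro x hx hx0
  obtain ⟨y, hyX, hxy⟩ := hX x hx.1 hx0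
  have hpx : polar (⇑Q) p x = 0 := by
    have := LinearMap.mem_ker.mp hx.2
    rwa [polarBilin_apply_apply] at this
  refine ⟨y - (polar (⇑Q) p y / polar (⇑Q) p p) • p,
    ⟨X.sub_mem hyX (X.smul_mem _ hp), ?_⟩, ?_⟩
  · rw [SetLike.mem_coe, LinearMap.mem_ker, polarBilin_apply_apply, polar_sub_right,
      polar_smul_right, smul_eq_mul, div_mul_cancel₀ _ hpp, sub_self]
  · rw [polar_sub_right, polar_smul_right, polar_comm (⇑Q) x p, hpx, smul_zero, sub_zero]
    exact hxy

/-- absorbing a non-degenerate subspace of dimension at least three of a block -/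
theorem absorb_big (hB : Blk Q D k)
    (hHM : Cfsg.Geo.decompositionStabilizer D ⊓ Cfsg.Geo.omegaGL ⇑Q ≤ M)
    {j : Fin t} (X : Submodule F (ι → F)) (hXD : X ≤ D j) (hX : NdOn Q X)
    (h3 : 3 ≤ finrank F X) {z v : ι → F} (hzX : ∀ a ∈ X, polar (⇑Q) z a = 0)
    (hv : SIn Q M z v) {a₀ : ι → F} (ha₀ : a₀ ∈ X) (ha₀v : polar (⇑Q) a₀ v ≠ 0) :
    ∀ a ∈ X, SIn Q M z a := by
  have hconj : ∀ s ∈ X, ∀ w ∈ X, ∀ (hs : Q s = 0) (hsw : polar (⇑Q) s w = 0), ∀ y,
      SIn Q M z y → SIn Q M z (gact Q (siegIso Q s w hs hsw) y) := by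
    intro s hsX w hwX hs hsw y hy
    have hg := (block_sieg hB hHM (hXD hsX) (hXD hwX) hs hsw).mem hs hsw
    have h4 := hy.conj (siegIso Q s w hs hsw) hg
    have hfix : gact Q (siegIso Q s w hs hsw) z = z := by
      rw [gact_siegIso, polar_comm (⇑Q) w z, hzX w hwX, polar_comm (⇑Q) s z, hzX s hsX]
      simp
    rwa [hfix] at h4
  obtain ⟨s, hsX, hs, hsD⟩ := exists_singular_not_mem Q X (LinearMap.ker (polarBilin Q v)) hX h3
    (by
      intro hle
      have := hle ha₀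
      rw [LinearMap.mem_ker, polarBilin_apply_apply, polar_comm] at this
      exact ha₀v this)
  have hsv : polar (⇑Q) s v ≠ 0 := by
    intro h
    apply hsD
    rw [LinearMap.mem_ker, polarBilin_apply_apply, polar_comm]
    exact h
  have hs0 : s ≠ 0 := by
    rintro rfl
    exact hsv (polar_zero_left _ _)
  obtain ⟨w, hwX, hsw, hQw⟩ := exists_nonsing_perp X hX h3 hsX hs0 hs
  have h1 := (hconj s hsX w hwX hs hsw v hv).sub hv
  rw [gact_siegIso] at h1
  have e : v + (polar (⇑Q) w v - Q w * polar (⇑Q) s v) • s + (-(polar (⇑Q) s v)) • w - v =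
      (polar (⇑Q) w v - Q w * polar (⇑Q) s v) • s + (-(polar (⇑Q) s v)) • w := by abel
  rw [e] at h1
  apply irred_big Q X hX h3 (SIn Q M z) (fun a b ha hb => ha.add hb) (fun c a ha => ha.smul c)
    (fun s hsX w hwX hs hsw y _ hPy => hconj s hsX w hwX hs hsw y hPy) _
    (X.add_mem (X.smul_mem _ hsX) (X.smul_mem _ hwX)) ?_ h1
  intro h0
  have h2 : (polar (⇑Q) s v) • w = (polar (⇑Q) w v - Q w * polar (⇑Q) s v) • s := by
    have := h0
    rw [neg_smul, ← sub_eq_add_neg, sub_eq_zero] at this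
    exact this.symm
  have hw : w = ((polar (⇑Q) s v)⁻¹ * (polar (⇑Q) w v - Q w * polar (⇑Q) s v)) • s := by
    rw [← smul_smul, ← h2, smul_smul, inv_mul_cancel₀ hsv, one_smul]
  apply hQw
  rw [hw, Q_smul, hs, mul_zero]

theorem exists_omega (hq : 4 ≤ Fintype.card F) : ∃ ω : F, ω ≠ 0 ∧ ω * ω ≠ 1 := by
  classical
  have hcard : 0 < (Finset.univ \ ({0, 1, -1} : Finset F)).card := by
    have h1 : ({0, 1, -1} : Finset F).card ≤ 3 := Finset.card_le_three
    have h2 := Finset.card_sdiff_add_card_eq_card (Finset.subset_univ ({0, 1, -1} : Finset F))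
    rw [Finset.card_univ] at h2
    omega
  obtain ⟨ω, hω⟩ := Finset.card_pos.mp hcard
  simp only [Finset.mem_sdiff, Finset.mem_univ, true_and, Finset.mem_insert,
    Finset.mem_singleton, not_or] at hω
  refine ⟨ω, hω.1, fun h => ?_⟩
  have : (ω - 1) * (ω + 1) = 0 := by linear_combination h
  rcases mul_eq_zero.mp this with h' | h'
  · exact hω.2.1 (sub_eq_zero.mp h')
  · exact hω.2.2 (eq_neg_of_add_eq_zero_left h')

/-- absorbing a non-degenerate plane of a block (fields with more than three elements) -/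
theorem absorb_plane (hB : Blk Q D k)
    (hHM : Cfsg.Geo.decompositionStabilizer D ⊓ Cfsg.Geo.omegaGL ⇑Q ≤ M)
    (hq : 4 ≤ Fintype.card F) {j : Fin t} (X : Submodule F (ι → F)) (hXD : X ≤ D j)
    (hX : NdOn Q X) (h2 : finrank F X = 2) {z v : ι → F} (hzX : ∀ a ∈ X, polar (⇑Q) z a = 0)
    (hpart : ∀ c : F, c ≠ 0 → ∃ l, l ≠ j ∧ ∃ b ∈ D l, polar (⇑Q) z b = 0 ∧ Q b = c)
    (hv : SIn Q M z v) {a₀ : ι → F} (ha₀ : a₀ ∈ X) (ha₀v : polar (⇑Q) a₀ v ≠ 0) :
    ∀ a ∈ X, SIn Q M z a := by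
  have h2F := hB.two
  have ha₀0 : a₀ ≠ 0 := by
    rintro rfl
    exact ha₀v (polar_zero_left _ _)
  obtain ⟨y₀, hy₀X, hy₀⟩ := hX a₀ ha₀ ha₀0
  obtain ⟨a', ha'X, hQa'⟩ := exists_nonsingular_of_polar Q X a₀ y₀ ha₀ hy₀X hy₀
  obtain ⟨hndP, hfrP⟩ := perp_nd X hX h2F ha'X hQa'
  have hpos : 0 < finrank F ↥(X ⊓ LinearMap.ker (polarBilin Q a')) := by omega
  obtain ⟨⟨a'', ha''⟩, ha''0⟩ := Module.finrank_pos_iff_exists_ne_zero.mp hpos
  have ha''0' : a'' ≠ 0 := fun h => ha''0 (Subtype.ext h)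
  have ha''X : a'' ∈ X := ha''.1
  have hpa : polar (⇑Q) a' a'' = 0 := by
    have := LinearMap.mem_ker.mp ha''.2
    rwa [polarBilin_apply_apply] at this
  have hpa2 : polar (⇑Q) a'' a' = 0 := by rw [polar_comm]; exact hpa
  have hP' := polar_self_ne h2F hQa'
  have ha'0 : a' ≠ 0 := by
    rintro rfl
    exact hQa' (map_zero Q)
  have hind : ∀ c : F, a'' ≠ c • a' := by
    intro c h
    have h1 : polar (⇑Q) a' a'' = c * polar (⇑Q) a' a' := by
      rw [h, polar_smul_right, smul_eq_mul]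
    rw [hpa] at h1
    have hc : c = 0 := by
      rcases mul_eq_zero.mp h1.symm with h' | h'
      · exact h'
      · exact absurd h' hP'
    rw [hc, zero_smul] at h
    exact ha''0' h
  have hspan := plane_span X h2 a' a'' ha'X ha''X ha'0 hind
  have hQa'' : Q a'' ≠ 0 := by
    intro h0
    obtain ⟨y, hyX, hy⟩ := hX a'' ha''X ha''0'
    obtain ⟨α, β, rfl⟩ := hspan y hyX
    apply hy
    rw [polar_add_right, polar_smul_right, polar_smul_right, hpa2, polar_self, h0]
    simp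
  have hP'' := polar_self_ne h2F hQa''
  obtain ⟨ω, hω0, hω1⟩ := exists_omega hq
  obtain ⟨s, hs0, hQb⟩ : ∃ s : F, s ≠ 0 ∧ Q a' + s * s * Q a'' ≠ 0 := by
    by_cases h : Q a' + Q a'' = 0
    · refine ⟨ω, hω0, ?_⟩
      intro h'
      have : (ω * ω - 1) * Q a'' = 0 := by linear_combination h' - h
      rcases mul_eq_zero.mp this with h'' | h''
      · exact hω1 (sub_eq_zero.mp h'')
      · exact hQa'' h''
    · exact ⟨1, one_ne_zero, by simpa using h⟩
  obtain ⟨b, hb⟩ : ∃ b, b = a' + s • a'' := ⟨_, rfl⟩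
  have hbX : b ∈ X := by
    rw [hb]
    exact X.add_mem ha'X (X.smul_mem _ ha''X)
  have hQb' : Q b ≠ 0 := by
    rw [hb, Q_add, Q_smul, polar_smul_right, hpa, smul_zero, add_zero]
    exact hQb
  have hba' : polar (⇑Q) b a' = polar (⇑Q) a' a' := by
    rw [hb, polar_add_left, polar_smul_left, hpa2, smul_zero, add_zero]
  obtain ⟨κ, hκ⟩ : ∃ κ, κ = (Q b)⁻¹ * polar (⇑Q) b a' := ⟨_, rfl⟩
  have hκ0 : κ ≠ 0 := by
    rw [hκ, hba']
    exact mul_ne_zero (inv_ne_zero hQb') hP'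
  obtain ⟨a, ha⟩ : ∃ a, a = a' - κ • b := ⟨_, rfl⟩
  have haX : a ∈ X := by
    rw [ha]
    exact X.sub_mem ha'X (X.smul_mem _ hbX)
  have hQa : Q a = Q a' := by
    have := reflALin_map Q b a'
    rw [reflALin_apply] at this
    rw [ha, hκ]
    exact this
  have hQa0 : Q a ≠ 0 := by rw [hQa]; exact hQa'
  have hpa''a : polar (⇑Q) a'' a = -(κ * s * polar (⇑Q) a'' a'') := by
    rw [ha, hb, polar_sub_right, polar_smul_right, polar_add_right, polar_smul_right, hpa2]
    simp only [smul_eq_mul]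
    ring
  have hpav : polar (⇑Q) a v = (1 - κ) * polar (⇑Q) a' v - κ * s * polar (⇑Q) a'' v := by
    rw [ha, hb, polar_sub_left, polar_smul_left, polar_add_left, polar_smul_left]
    simp only [smul_eq_mul]
    ring
  -- the rotation
  have hM := block_rr hB hHM (hXD haX) (hXD ha'X) hQa0 hQa
  have hfix : gact Q (rr Q a a') z = z := by
    rw [gact_rr, reflA_apply, reflA_apply, polar_comm (⇑Q) a' z, hzX a' ha'X, mul_zero, zero_smul,
      sub_zero, polar_comm (⇑Q) a z, hzX a haX, mul_zero, zero_smul, sub_zero]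
  have h5 := hv.conj (rr Q a a') hM
  rw [hfix] at h5
  have h6 := hv.sub h5
  obtain ⟨lam, hlam⟩ : ∃ lam, lam = (Q a')⁻¹ * polar (⇑Q) a' v := ⟨_, rfl⟩
  obtain ⟨mu, hmu⟩ : ∃ mu, mu = (Q a)⁻¹ * polar (⇑Q) a (v - lam • a') := ⟨_, rfl⟩
  have hy : v - gact Q (rr Q a a') v = lam • a' + mu • a := by
    rw [gact_rr, reflA_apply, reflA_apply, ← hlam, ← hmu]
    abel
  rw [hy] at h6
  have hy0 : lam • a' + mu • a ≠ 0 := by
    intro h0
    have e1 : polar (⇑Q) a'' (lam • a' + mu • a) = 0 := by rw [h0, polar_zero_right]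
    rw [polar_add_right, polar_smul_right, polar_smul_right, hpa2, hpa''a, smul_zero, zero_add,
      smul_eq_mul] at e1
    have hmu0 : mu = 0 := by
      rcases mul_eq_zero.mp e1 with h' | h'
      · exact h'
      · exfalso
        exact (mul_ne_zero (mul_ne_zero hκ0 hs0) hP'') (neg_eq_zero.mp h')
    rw [hmu0, zero_smul, add_zero] at h0
    have hlam0 : lam = 0 := by
      rcases smul_eq_zero.mp h0 with h' | h'
      · exact h'
      · exact absurd h' ha'0
    have hp' : polar (⇑Q) a' v = 0 := by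
      rw [hlam0] at hlam
      rcases mul_eq_zero.mp hlam.symm with h' | h'
      · exact absurd h' (inv_ne_zero hQa')
      · exact h'
    have hpav0 : polar (⇑Q) a v = 0 := by
      rw [hmu0, hlam0, zero_smul, sub_zero] at hmu
      rcases mul_eq_zero.mp hmu.symm with h' | h'
      · exact absurd h' (inv_ne_zero hQa0)
      · exact h'
    have hp'' : polar (⇑Q) a'' v = 0 := by
      rw [hpav, hp', mul_zero, zero_sub] at hpav0
      rcases mul_eq_zero.mp (neg_eq_zero.mp hpav0) with h' | h'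
      · exact absurd h' (mul_ne_zero hκ0 hs0)
      · exact h'
    obtain ⟨α, β, hαβ⟩ := hspan a₀ ha₀
    apply ha₀v
    rw [hαβ, polar_add_left, polar_smul_left, polar_smul_left, hp', hp'', smul_zero, smul_zero,
      add_zero]
  have hyX : lam • a' + mu • a ∈ X := X.add_mem (X.smul_mem _ ha'X) (X.smul_mem _ haX)
  apply plane_irred Q X hX h2 (fun h => by omega) (SIn Q M z) (fun a b ha hb => ha.add hb)
    (fun c a ha => ha.smul c) ?_ _ hyX hy0 h6
  intro c hcX hQc y hyX' hPy hcy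
  obtain ⟨l, hlj, b', hb'D, hzb', hQb''⟩ := hpart (Q c) hQc
  have hM' := block_rr hB hHM (hXD hcX) hb'D hQc hQb''.symm
  have hfix' : gact Q (rr Q c b') z = z := by
    rw [gact_rr, reflA_apply, reflA_apply, polar_comm (⇑Q) b' z, hzb', mul_zero, zero_smul,
      sub_zero, polar_comm (⇑Q) c z, hzX c hcX, mul_zero, zero_smul, sub_zero]
  have hy' : gact Q (rr Q c b') y = y - ((Q c)⁻¹ * polar (⇑Q) c y) • c := by
    rw [gact_rr, reflA_apply, reflA_apply, polar_comm (⇑Q) b' y,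
      hB.orth j l (Ne.symm hlj) y (hXD hyX') b' hb'D, mul_zero, zero_smul, sub_zero]
  have h7 := hPy.conj (rr Q c b') hM'
  rw [hfix', hy'] at h7
  have h8 := hPy.sub h7
  rw [sub_sub_cancel] at h8
  exact SIn.of_smul (mul_ne_zero (inv_ne_zero hQc) hcy) h8

end absorb

end Cfsg.Agent.Lib.Helper13.ODC
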