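import Mathlib
import Cfsg.Agent.Lib.Helper13.OrthDecompB

/-!
# Orthogonal decompositions: from a mixed Siegel transformation to one centred in a block

If `v ∈ L(z)` for a singular vector `z` outside a block `D_j`, and `v` is not perpendicular to
`D_j ∩ z^⊥`, then `M` contains the Siegel transformations `ρ_{x,tp}` for a singular `x ∈ D_j` and
a nonzero `p` perpendicular to `D_j`.
-/

set_option autoImplicit false
set_option linter.unusedSectionVars false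
set_option linter.unusedVariables false

namespace Cfsg.Agent.Lib.Helper13.ODC

open Matrix Module QuadraticMap Cfsg.Agent.Lib.Helper6 Cfsg.Agent.Lib.Helper13
  Cfsg.Agent.Lib.Helper13.OND

section seed
universe u
variable {F : Type u} [Field F] [Fintype F] {ι : Type} [Fintype ι] [DecidableEq ι]

/-- a Siegel transformation in `M` centred at a singular vector of a block and not stabilising
the block -/
def Seed (Q : QuadraticForm F (ι → F)) {t : ℕ} (D : Fin t → Submodule F (ι → F))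
    (M : Subgroup (GL ι F)) : Prop :=
  ∃ j : Fin t, ∃ x ∈ D j, x ≠ 0 ∧ Q x = 0 ∧ ∃ p, p ≠ 0 ∧ (∀ y ∈ D j, polar (⇑Q) y p = 0) ∧
    SIn Q M x p

variable {Q : QuadraticForm F (ι → F)}
variable {t : ℕ} {D : Fin t → Submodule F (ι → F)} {k : ℕ} {M : Subgroup (GL ι F)}

theorem seed_of_absorb (hB : Blk Q D k)
    (hHM : Cfsg.Geo.decompositionStabilizer D ⊓ Cfsg.Geo.omegaGL ⇑Q ≤ M)
    {j : Fin t} {z zj z' : ι → F} (hz : Q z = 0) (hzj : zj ∈ D j)
    (hz' : ∀ y ∈ D j, polar (⇑Q) y z' = 0) (hzdec : z = zj + z') (hQzj : Q zj ≠ 0)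
    (hall : ∀ a ∈ D j, polar (⇑Q) zj a = 0 → SIn Q M z a) :
    ∃ x ∈ D j, x ≠ 0 ∧ Q x = 0 ∧ SIn Q M x z' := by
  have hpz : ∀ d ∈ D j, polar (⇑Q) z d = polar (⇑Q) zj d := by
    intro d hd
    rw [hzdec, polar_add_left, polar_comm (⇑Q) z' d, hz' d hd, add_zero]
  have hU : ∀ e ∈ D j, ∀ c : F, polar (⇑Q) z (e + c • z') = 0 → SIn Q M z (e + c • z') := by
    intro e he c hperp
    have e1 : e + c • z' = (e - c • zj) + c • z := by rw [hzdec]; module
    have hd : e - c • zj ∈ D j := (D j).sub_mem he ((D j).smul_mem _ hzj)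
    have h1 : polar (⇑Q) zj (e - c • zj) = 0 := by
      rw [← hpz _ hd]
      have : polar (⇑Q) z (e - c • zj) = polar (⇑Q) z (e + c • z') - c * polar (⇑Q) z z := by
        rw [e1, polar_add_right, polar_smul_right, smul_eq_mul]
        ring
      rw [this, hperp, polar_self, hz]
      simp
    rw [e1]
    exact (hall _ hd h1).add (SIn_self hz c)
  obtain ⟨U, hUdef⟩ : ∃ U : Submodule F (ι → F), U = D j ⊔ Submodule.span F {z'} := ⟨_, rfl⟩
  have hUmem : ∀ y ∈ U, ∃ e ∈ D j, ∃ c : F, y = e + c • z' := by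
    intro y hy
    rw [hUdef] at hy
    obtain ⟨e, he, w, hw, rfl⟩ := Submodule.mem_sup.mp hy
    obtain ⟨c, rfl⟩ := Submodule.mem_span_singleton.mp hw
    exact ⟨e, he, c, rfl⟩
  have hDU : D j ≤ U := by rw [hUdef]; exact le_sup_left
  have hz'U : z' ∈ U := by
    rw [hUdef]
    exact Submodule.mem_sup_right (Submodule.mem_span_singleton_self z')
  have hzU : z ∈ U := by rw [hzdec]; exact U.add_mem (hDU hzj) hz'U
  have hUS : ∀ y ∈ U, polar (⇑Q) z y = 0 → SIn Q M z y := by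
    intro y hy hperp
    obtain ⟨e, he, c, rfl⟩ := hUmem y hy
    exact hU e he c hperp
  have hsiegU : ∀ a ∈ U, ∀ b ∈ U, ∀ (ha : Q a = 0) (hab : polar (⇑Q) a b = 0), ∀ y ∈ U,
      gact Q (siegIso Q a b ha hab) y ∈ U := by
    intro a haU b hbU ha hab y hy
    rw [gact_siegIso]
    exact U.add_mem (U.add_mem hy (U.smul_mem _ haU)) (U.smul_mem _ hbU)
  obtain ⟨s, hsD, hs, hsK⟩ := exists_singular_not_mem Q (D j)
    (LinearMap.ker (polarBilin Q zj)) (hB.nd j) (hB.finrank_eq j) (by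
      intro hle
      have := hle hzj
      rw [LinearMap.mem_ker, polarBilin_apply_apply] at this
      exact polar_self_ne hB.two hQzj this)
  have hβ : polar (⇑Q) zj s ≠ 0 := by
    intro h
    apply hsK
    rw [LinearMap.mem_ker, polarBilin_apply_apply]
    exact h
  have hs0 : s ≠ 0 := by
    rintro rfl
    exact hβ (polar_zero_right _ _)
  obtain ⟨w, hwD, hsw, hQw⟩ := exists_nonsing_perp (D j) (hB.nd j) (hB.finrank_eq j) hsD hs0 hs
  have hσM := (block_sieg hB hHM hsD hwD hs hsw).mem hs hsw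
  obtain ⟨σ, hσ⟩ : ∃ σ, σ = siegIso Q s w hs hsw := ⟨_, rfl⟩
  rw [← hσ] at hσM
  obtain ⟨p, hp⟩ : ∃ p, p = gact Q σ z := ⟨_, rfl⟩
  have hQp : Q p = 0 := by rw [hp, Q_gact, hz]
  obtain ⟨β, hβdef⟩ : ∃ β, β = polar (⇑Q) z s := ⟨_, rfl⟩
  have hβ0 : β ≠ 0 := by rw [hβdef, hpz s hsD]; exact hβ
  obtain ⟨γ₀, hγ₀⟩ : ∃ γ₀, γ₀ = polar (⇑Q) z p := ⟨_, rfl⟩
  have hγ₀0 : γ₀ ≠ 0 := by
    rw [hγ₀, hp, hσ, polar_gact_siegIso_self s w z hs hsw hz, polar_comm (⇑Q) s z, ← hβdef]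
    exact neg_ne_zero.mpr (mul_ne_zero hQw (mul_ne_zero hβ0 hβ0))
  obtain ⟨x', hx'⟩ : ∃ x', x' = (γ₀ / β) • s := ⟨_, rfl⟩
  have hQx' : Q x' = 0 := by rw [hx', Q_smul, hs, mul_zero]
  have hzx' : polar (⇑Q) z x' = γ₀ := by
    rw [hx', polar_smul_right, ← hβdef, smul_eq_mul, div_mul_cancel₀ _ hβ0]
  have hpU : p ∈ U := by
    rw [hp, hσ]
    exact hsiegU s (hDU hsD) w (hDU hwD) hs hsw z hzU
  have hx'U : x' ∈ U := by rw [hx']; exact U.smul_mem _ (hDU hsD)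
  have huw : polar (⇑Q) z (γ₀⁻¹ • (p - x')) = 0 := by
    rw [polar_smul_right, polar_sub_right, ← hγ₀, hzx', sub_self, smul_zero]
  have hw₀U : γ₀⁻¹ • (p - x') ∈ U := U.smul_mem _ (U.sub_mem hpU hx'U)
  have hmap := sieg_map_eq hz hQp hQx' hγ₀0 hγ₀.symm hzx' huw
  have hτM := (hUS _ hw₀U huw).mem hz huw
  obtain ⟨τ, hτ⟩ : ∃ τ, τ = siegIso Q z (γ₀⁻¹ • (p - x')) hz huw := ⟨_, rfl⟩
  rw [← hτ] at hτM hmap
  have hnM : ((τ * σ : ↥(Cfsg.isometryGroup F ⇑Q)) : GL ι F) ∈ M := M.mul_mem hτM hσM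
  have hnz : gact Q (τ * σ) z = x' := by rw [gact_mul, ← hp, hmap]
  have hyU : gact Q (τ * σ)⁻¹ z' ∈ U := by
    rw [_root_.mul_inv_rev, gact_mul, hσ, hτ, siegIso_inv, siegIso_inv]
    apply hsiegU s (hDU hsD) (-w) (U.neg_mem (hDU hwD))
    exact hsiegU z hzU _ (U.neg_mem hw₀U) _ _ z' hz'U
  have hyperp : polar (⇑Q) z (gact Q (τ * σ)⁻¹ z') = 0 := by
    rw [← polar_gact Q (τ * σ), gact_gact_inv, hnz, hx', polar_smul_left, hz' s hsD, smul_zero]
  have h9 := (hUS _ hyU hyperp).conj (τ * σ) hnM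
  rw [gact_gact_inv, hnz, hx'] at h9
  have h10 := SIn.smul_left h9 (γ₀ / β)⁻¹
  rw [smul_smul, inv_mul_cancel₀ (div_ne_zero hγ₀0 hβ0), one_smul] at h10
  exact ⟨s, hsD, hs0, hs, h10⟩

theorem seed_sing (hB : Blk Q D k)
    (hHM : Cfsg.Geo.decompositionStabilizer D ⊓ Cfsg.Geo.omegaGL ⇑Q ≤ M)
    {j : Fin t} {z zj z' v a₀ : ι → F} (hz : Q z = 0) (hzj : zj ∈ D j)
    (hz' : ∀ y ∈ D j, polar (⇑Q) y z' = 0) (hzdec : z = zj + z') (hzj0 : zj ≠ 0)
    (hQzj : Q zj = 0) (hv : SIn Q M z v) (ha₀ : a₀ ∈ D j) (ha₀z : polar (⇑Q) a₀ z = 0)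
    (ha₀v : polar (⇑Q) a₀ v ≠ 0) : SIn Q M zj z' := by
  have hpz : ∀ d ∈ D j, polar (⇑Q) d z = polar (⇑Q) d zj := by
    intro d hd
    rw [hzdec, polar_add_right, hz' d hd, add_zero]
  have hzjz : polar (⇑Q) zj z = 0 := by rw [hpz zj hzj, polar_self, hQzj, smul_zero]
  have hdiff : ∀ y ∈ D j, ∀ (hy : polar (⇑Q) zj y = 0),
      SIn Q M z ((polar (⇑Q) y v - Q y * polar (⇑Q) zj v) • zj +
        (-(polar (⇑Q) zj v)) • y) := by
    intro y hyD hy
    have hg := (block_sieg hB hHM hzj hyD hQzj hy).mem hQzj hy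
    have h4 := hv.conj (siegIso Q zj y hQzj hy) hg
    have hfix : gact Q (siegIso Q zj y hQzj hy) z = z := by
      rw [gact_siegIso, hpz y hyD, polar_comm (⇑Q) y zj, hy, hzjz]
      simp
    rw [hfix] at h4
    have h5 := h4.sub hv
    rw [gact_siegIso] at h5
    have e : v + (polar (⇑Q) y v - Q y * polar (⇑Q) zj v) • zj + (-(polar (⇑Q) zj v)) • y - v =
        (polar (⇑Q) y v - Q y * polar (⇑Q) zj v) • zj + (-(polar (⇑Q) zj v)) • y := by abel
    rwa [e] at h5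
  have hzzj : SIn Q M z zj := by
    by_cases hβ : polar (⇑Q) zj v = 0
    · have ha₀zj : polar (⇑Q) zj a₀ = 0 := by
        rw [polar_comm, ← hpz a₀ ha₀]
        exact ha₀z
      have h6 := hdiff a₀ ha₀ ha₀zj
      rw [hβ, mul_zero, sub_zero, neg_zero, zero_smul, add_zero] at h6
      exact SIn.of_smul ha₀v h6
    · obtain ⟨y₁, hy₁D, hy₁, hQy₁⟩ :=
        exists_nonsing_perp (D j) (hB.nd j) (hB.finrank_eq j) hzj hzj0 hQzj
      have h6 := hdiff y₁ hy₁D hy₁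
      have h7 := hdiff (-y₁) ((D j).neg_mem hy₁D) (by rw [polar_neg_right, hy₁, neg_zero])
      have h8 := h6.add h7
      have e : (polar (⇑Q) y₁ v - Q y₁ * polar (⇑Q) zj v) • zj + (-(polar (⇑Q) zj v)) • y₁ +
          ((polar (⇑Q) (-y₁) v - Q (-y₁) * polar (⇑Q) zj v) • zj +
            (-(polar (⇑Q) zj v)) • (-y₁)) = (-(2 * Q y₁ * polar (⇑Q) zj v)) • zj := by
        rw [polar_neg_left, QuadraticMap.map_neg]
        module
      rw [e] at h8
      exact SIn.of_smul (neg_ne_zero.mpr (mul_ne_zero (mul_ne_zero hB.two hQy₁) hβ)) h8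
  have h9 := SIn.symm hzzj hQzj
  have h10 := h9.sub (SIn_self (M := M) hQzj 1)
  rw [one_smul] at h10
  have e2 : z - zj = z' := by rw [hzdec]; abel
  rwa [e2] at h10

/-- a block vector of prescribed norm perpendicular to `z`, in a block different from `j` -/
theorem exists_partner_block (hB : Blk Q D k) {f : Fin t → (ι → F)} (hf : ∀ i, f i ∈ D i)
    {z : ι → F} (hzf : z = ∑ i, f i) (hz : Q z = 0) {j : Fin t} (hQj : Q (f j) ≠ 0) (c : F)
    (hc : c ≠ 0) : ∃ l, l ≠ j ∧ ∃ b ∈ D l, polar (⇑Q) z b = 0 ∧ Q b = c := by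
  classical
  have hsum : ∑ i, Q (f i) = 0 := by
    rw [← Q_sum_orth Finset.univ f (fun i _ i' _ hii' =>
      hB.orth i i' hii' (f i) (hf i) (f i') (hf i')), ← hzf, hz]
  obtain ⟨l, hlj, hQl⟩ : ∃ l, l ≠ j ∧ Q (f l) ≠ 0 := by
    by_contra hcon
    push Not at hcon
    rw [Finset.sum_eq_single j (fun l _ hlj => hcon l hlj)
      (fun h => absurd (Finset.mem_univ j) h)] at hsum
    exact hQj hsum
  obtain ⟨hnd, hfr⟩ := perp_nd (D l) (hB.nd l) hB.two (hf l) hQl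
  have hdim : 2 ≤ finrank F ↥(D l ⊓ LinearMap.ker (polarBilin Q (f l))) := by
    have := hB.finrank_eq l
    omega
  obtain ⟨b₀, hb₀, t', ht', hQb₀⟩ := exists_mem_norm_sq Q _ (fun x hx hall => by
      by_contra hx0
      obtain ⟨y, hy, hxy⟩ := hnd x hx hx0
      exact hxy (hall y hy)) hdim c hc
  have hb₀l : polar (⇑Q) (f l) b₀ = 0 := by
    have := LinearMap.mem_ker.mp hb₀.2
    rwa [polarBilin_apply_apply] at this
  refine ⟨l, hlj, t'⁻¹ • b₀, (D l).smul_mem _ hb₀.1, ?_, ?_⟩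
  · rw [polar_smul_right, hzf, polar_comm, polar_sum_right,
      Finset.sum_eq_single l (fun i _ hil => hB.orth l i (Ne.symm hil) b₀ hb₀.1 (f i) (hf i))
        (fun h => absurd (Finset.mem_univ l) h), polar_comm, hb₀l, smul_zero]
  · rw [Q_smul, hQb₀]
    field_simp

/-- **The main criterion.** -/
theorem seed_of_mixed (hB : Blk Q D k)
    (hHM : Cfsg.Geo.decompositionStabilizer D ⊓ Cfsg.Geo.omegaGL ⇑Q ≤ M)
    (hex : k = 3 → 4 ≤ Fintype.card F) {j : Fin t} {z v a₀ : ι → F} (hz : Q z = 0)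
    (hzj : z ∉ D j) (hv : SIn Q M z v) (ha₀ : a₀ ∈ D j) (ha₀z : polar (⇑Q) a₀ z = 0)
    (ha₀v : polar (⇑Q) a₀ v ≠ 0) : Seed Q D M := by
  classical
  obtain ⟨f, hf, hzf⟩ := hB.comp z
  obtain ⟨z', hz'def⟩ : ∃ z', z' = ∑ l ∈ Finset.univ.erase j, f l := ⟨_, rfl⟩
  have hz' : ∀ y ∈ D j, polar (⇑Q) y z' = 0 := by
    intro y hy
    rw [hz'def, polar_sum_right]
    apply Finset.sum_eq_zero
    intro l hl
    exact hB.orth j l (Finset.ne_of_mem_erase hl).symm y hy (f l) (hf l)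
  have hzdec : z = f j + z' := by
    rw [hz'def, Finset.add_sum_erase _ _ (Finset.mem_univ j)]
    exact hzf
  have hz'0 : z' ≠ 0 := by
    intro h0
    apply hzj
    rw [hzdec, h0, add_zero]
    exact hf j
  by_cases hfj0 : f j = 0
  · have hzz' : z = z' := by rw [hzdec, hfj0, zero_add]
    have hzX : ∀ a ∈ D j, polar (⇑Q) z a = 0 := by
      intro a ha
      rw [hzz', polar_comm]
      exact hz' a ha
    have hall := absorb_big hB hHM (D j) le_rfl (hB.nd j) (hB.finrank_eq j) hzX hv ha₀ ha₀v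
    obtain ⟨x, hxD, hx0, hQx⟩ := exists_singular_sub Q (D j) (hB.finrank_eq j)
    refine ⟨j, x, hxD, hx0, hQx, z, ?_, ?_, SIn.symm (hall x hxD) hQx⟩
    · rw [hzz']
      exact hz'0
    · intro y hy
      rw [polar_comm]
      exact hzX y hy
  by_cases hQfj : Q (f j) = 0
  · exact ⟨j, f j, hf j, hfj0, hQfj, z', hz'0, hz',
      seed_sing hB hHM hz (hf j) hz' hzdec hfj0 hQfj hv ha₀ ha₀z ha₀v⟩
  obtain ⟨hnd, hfr⟩ := perp_nd (D j) (hB.nd j) hB.two (hf j) hQfj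
  have hkfr := hB.fr j
  have hzX : ∀ a ∈ D j ⊓ LinearMap.ker (polarBilin Q (f j)), polar (⇑Q) z a = 0 := by
    intro a ha
    have h1 : polar (⇑Q) (f j) a = 0 := by
      have := LinearMap.mem_ker.mp ha.2
      rwa [polarBilin_apply_apply] at this
    rw [hzdec, polar_add_left, h1, polar_comm (⇑Q) z' a, hz' a ha.1, add_zero]
  have ha₀X : a₀ ∈ D j ⊓ LinearMap.ker (polarBilin Q (f j)) := by
    refine ⟨ha₀, ?_⟩
    rw [SetLike.mem_coe, LinearMap.mem_ker, polarBilin_apply_apply, polar_comm]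
    have := ha₀z
    rw [hzdec, polar_add_right, hz' a₀ ha₀, add_zero] at this
    exact this
  have hall : ∀ a ∈ D j ⊓ LinearMap.ker (polarBilin Q (f j)), SIn Q M z a := by
    by_cases hk3 : k = 3
    · exact absorb_plane hB hHM (hex hk3) _ inf_le_left hnd (by omega) hzX
        (fun c hc => exists_partner_block hB hf hzf hz hQfj c hc) hv ha₀X ha₀v
    · exact absorb_big hB hHM _ inf_le_left hnd (by have := hB.hk; omega) hzX hv ha₀X ha₀v
  obtain ⟨x, hxD, hx0, hQx, hS⟩ := seed_of_absorb hB hHM hz (hf j) hz' hzdec hQfj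
    (fun a ha hperp => hall a ⟨ha, by
      rw [SetLike.mem_coe, LinearMap.mem_ker, polarBilin_apply_apply]
      exact hperp⟩)
  exact ⟨j, x, hxD, hx0, hQx, z', hz'0, hz', hS⟩

end seed

end Cfsg.Agent.Lib.Helper13.ODC
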