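import Mathlib
import Cfsg.Agent.Lib.Helper13.OrthDecompC

/-!
# Orthogonal decompositions: an element outside the stabiliser produces a mixed Siegel
transformation centred in a block
-/

set_option autoImplicit false
set_option linter.unusedSectionVars false
set_option linter.unusedVariables false

namespace Cfsg.Agent.Lib.Helper13.ODC

open Matrix Module QuadraticMap Cfsg.Agent.Lib.Helper6 Cfsg.Agent.Lib.Helper13
  Cfsg.Agent.Lib.Helper13.OND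

section dich
universe u
variable {F : Type u} [Field F] [Fintype F] {ι : Type} [Fintype ι] [DecidableEq ι]
variable {Q : QuadraticForm F (ι → F)}
variable {t : ℕ} {D : Fin t → Submodule F (ι → F)} {k : ℕ} {M : Subgroup (GL ι F)}

/-- the image of a block under an element of `M` carries its Siegel transformations -/
theorem good_SIn (hB : Blk Q D k)
    (hHM : Cfsg.Geo.decompositionStabilizer D ⊓ Cfsg.Geo.omegaGL ⇑Q ≤ M)
    (γ : ↥(Cfsg.isometryGroup F ⇑Q)) (hγM : (γ : GL ι F) ∈ M) {a : Fin t} {u y : ι → F}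
    (hu : u ∈ D a) (hy : y ∈ D a) (hQu : Q u = 0) (huy : polar (⇑Q) u y = 0) :
    SIn Q M (gact Q γ u) (gact Q γ y) :=
  (block_sieg hB hHM hu hy hQu huy).conj γ hγM

/-- consequence of the main criterion when there is no seed -/
theorem star (hB : Blk Q D k)
    (hHM : Cfsg.Geo.decompositionStabilizer D ⊓ Cfsg.Geo.omegaGL ⇑Q ≤ M)
    (hex : k = 3 → 4 ≤ Fintype.card F) (hNS : ¬ Seed Q D M)
    (γ : ↥(Cfsg.isometryGroup F ⇑Q)) (hγM : (γ : GL ι F) ∈ M) {a : Fin t} {u y : ι → F}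
    (hu : u ∈ D a) (hy : y ∈ D a) (hQu : Q u = 0) (huy : polar (⇑Q) u y = 0) {j : Fin t}
    (hj : gact Q γ u ∉ D j) {a₀ : ι → F} (ha₀ : a₀ ∈ D j)
    (ha₀z : polar (⇑Q) a₀ (gact Q γ u) = 0) : polar (⇑Q) a₀ (gact Q γ y) = 0 := by
  by_contra hne
  exact hNS (seed_of_mixed hB hHM hex (by rw [Q_gact, hQu]) hj
    (good_SIn hB hHM γ hγM hu hy hQu huy) ha₀ ha₀z hne)

/-- the pairing between the image of the block `a` and any block has rank at most one -/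
def R1 (Q : QuadraticForm F (ι → F)) {t : ℕ} (D : Fin t → Submodule F (ι → F))
    (γ : ↥(Cfsg.isometryGroup F ⇑Q)) (a : Fin t) : Prop :=
  ∀ j, ∀ a₁ ∈ D j, ∀ b₁ ∈ D j, ∀ w ∈ D a, ∀ w' ∈ D a,
    polar (⇑Q) (gact Q γ w) a₁ * polar (⇑Q) (gact Q γ w') b₁ =
      polar (⇑Q) (gact Q γ w) b₁ * polar (⇑Q) (gact Q γ w') a₁

theorem caseA (hB : Blk Q D k)
    (hHM : Cfsg.Geo.decompositionStabilizer D ⊓ Cfsg.Geo.omegaGL ⇑Q ≤ M)
    (hex : k = 3 → 4 ≤ Fintype.card F) (hNS : ¬ Seed Q D M)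
    (γ : ↥(Cfsg.isometryGroup F ⇑Q)) (hγM : (γ : GL ι F) ∈ M) {a : Fin t}
    (hnb : ∀ l, ∃ y ∈ D a, gact Q γ y ∉ D l) {u₀ : ι → F} (hu₀ : u₀ ∈ D a) (hu₀0 : u₀ ≠ 0)
    (hQu₀ : Q u₀ = 0) {i : Fin t} (hi : gact Q γ u₀ ∈ D i) : False := by
  have hz₀0 : gact Q γ u₀ ≠ 0 := fun h => hu₀0 ((gact_eq_zero_iff Q γ u₀).mp h)
  have hQz₀ : Q (gact Q γ u₀) = 0 := by rw [Q_gact, hQu₀]
  -- the tangent hyperplane is mapped into the block
  have step1 : ∀ y ∈ D a, polar (⇑Q) u₀ y = 0 → gact Q γ y ∈ D i := by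
    intro y hy hperp
    by_contra hnot
    obtain ⟨d, hd, p, hp, hdec⟩ := hB.dec i (gact Q γ y)
    have hp0 : p ≠ 0 := by
      intro h0
      apply hnot
      rw [hdec, h0, add_zero]
      exact hd
    have hS := good_SIn hB hHM γ hγM hu₀ hy hQu₀ hperp
    have hzd : polar (⇑Q) (gact Q γ u₀) d = 0 := by
      have h1 := hS.2.1
      rw [hdec, polar_add_right, hp _ hi, add_zero] at h1
      exact h1
    have hSd := block_sieg hB hHM hi hd hQz₀ hzd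
    have hSp := hS.sub hSd
    have e : gact Q γ y - d = p := by rw [hdec]; abel
    rw [e] at hSp
    exact hNS ⟨i, _, hi, hz₀0, hQz₀, p, hp0, hp, hSp⟩
  obtain ⟨e, heD, hQe, hu₀e⟩ := exists_partner Q (D a) (hB.nd a) hu₀ hu₀0 hQu₀
  have hz₀e : polar (⇑Q) (gact Q γ u₀) (gact Q γ e) = 1 := by rw [polar_gact, hu₀e]
  have hei : gact Q γ e ∉ D i := by
    intro hmem
    obtain ⟨y, hy, hyi⟩ := hnb i
    apply hyi
    have e1 : y = (y - polar (⇑Q) u₀ y • e) + polar (⇑Q) u₀ y • e := by abel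
    rw [e1, gact_add, gact_smul]
    refine (D i).add_mem (step1 _ ((D a).sub_mem hy ((D a).smul_mem _ heD)) ?_)
      ((D i).smul_mem _ hmem)
    rw [polar_sub_right, polar_smul_right, hu₀e, smul_eq_mul, mul_one, sub_self]
  obtain ⟨r, hrD, hr0, hu₀r, her⟩ := exists_ne_zero_cut2 Q (D a) u₀ e (hB.finrank_eq a)
  have hγr : gact Q γ r ∈ D i := step1 r hrD hu₀r
  have hγr0 : gact Q γ r ≠ 0 := fun h => hr0 ((gact_eq_zero_iff Q γ r).mp h)
  obtain ⟨y₀, hy₀, hry₀⟩ := hB.nd i _ hγr hγr0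
  obtain ⟨a₀, ha₀def⟩ : ∃ a₀, a₀ = y₀ - polar (⇑Q) y₀ (gact Q γ e) • gact Q γ u₀ := ⟨_, rfl⟩
  have ha₀ : a₀ ∈ D i := by
    rw [ha₀def]
    exact (D i).sub_mem hy₀ ((D i).smul_mem _ hi)
  have ha₀e : polar (⇑Q) a₀ (gact Q γ e) = 0 := by
    rw [ha₀def, polar_sub_left, polar_smul_left, hz₀e, smul_eq_mul, mul_one, sub_self]
  have ha₀r : polar (⇑Q) a₀ (gact Q γ r) ≠ 0 := by
    rw [ha₀def, polar_sub_left, polar_smul_left, polar_gact, hu₀r, smul_zero, sub_zero,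
      polar_comm]
    exact hry₀
  exact ha₀r (star hB hHM hex hNS γ hγM heD hrD hQe her hei ha₀ ha₀e)

theorem minor (hB : Blk Q D k)
    (hHM : Cfsg.Geo.decompositionStabilizer D ⊓ Cfsg.Geo.omegaGL ⇑Q ≤ M)
    (hex : k = 3 → 4 ≤ Fintype.card F) (hNS : ¬ Seed Q D M)
    (γ : ↥(Cfsg.isometryGroup F ⇑Q)) (hγM : (γ : GL ι F) ∈ M) {a : Fin t}
    (hns : ∀ u ∈ D a, u ≠ 0 → Q u = 0 → ∀ l, gact Q γ u ∉ D l) : R1 Q D γ a := by
  intro j a₁ ha₁ b₁ hb₁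
  obtain ⟨A, hA⟩ : ∃ A : (ι → F) → F, ∀ w, A w = polar (⇑Q) (gact Q γ w) a₁ := ⟨_, fun _ => rfl⟩
  obtain ⟨B, hB'⟩ : ∃ B : (ι → F) → F, ∀ w, B w = polar (⇑Q) (gact Q γ w) b₁ :=
    ⟨_, fun _ => rfl⟩
  have hAadd : ∀ x y, A (x + y) = A x + A y := by
    intro x y
    rw [hA, hA, hA, gact_add, polar_add_left]
  have hAsub : ∀ x y, A (x - y) = A x - A y := by
    intro x y
    rw [hA, hA, hA, gact_sub, polar_sub_left]
  have hAsmul : ∀ (c : F) x, A (c • x) = c * A x := by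
    intro c x
    rw [hA, hA, gact_smul, polar_smul_left, smul_eq_mul]
  have hBadd : ∀ x y, B (x + y) = B x + B y := by
    intro x y
    rw [hB', hB', hB', gact_add, polar_add_left]
  have hBsub : ∀ x y, B (x - y) = B x - B y := by
    intro x y
    rw [hB', hB', hB', gact_sub, polar_sub_left]
  have hBsmul : ∀ (c : F) x, B (c • x) = c * B x := by
    intro c x
    rw [hB', hB', gact_smul, polar_smul_left, smul_eq_mul]
  have key : ∀ s ∈ D a, ∀ y ∈ D a, Q s = 0 → polar (⇑Q) s y = 0 → A y * B s = B y * A s := by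
    intro s hs y hy hQs hsy
    by_cases hs0 : s = 0
    · rw [hA s, hB' s, hs0, gact_zero, polar_zero_left, polar_zero_left, mul_zero, mul_zero]
    have ha₀ : B s • a₁ - A s • b₁ ∈ D j :=
      (D j).sub_mem ((D j).smul_mem _ ha₁) ((D j).smul_mem _ hb₁)
    have h1 : polar (⇑Q) (B s • a₁ - A s • b₁) (gact Q γ s) = 0 := by
      rw [polar_sub_left, polar_smul_left, polar_smul_left, polar_comm (⇑Q) a₁, ← hA,
        polar_comm (⇑Q) b₁, ← hB']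
      simp only [smul_eq_mul]
      ring
    have h2 := star hB hHM hex hNS γ hγM hs hy hQs hsy (hns s hs hs0 hQs j) ha₀ h1
    rw [polar_sub_left, polar_smul_left, polar_smul_left, polar_comm (⇑Q) a₁, ← hA,
      polar_comm (⇑Q) b₁, ← hB'] at h2
    simp only [smul_eq_mul] at h2
    linear_combination h2
  obtain ⟨z, hzD, e, heD, hQz, hQe, hze⟩ := exists_hyp_pair Q (D a) (hB.nd a) (hB.finrank_eq a)
  have hez : polar (⇑Q) e z = 1 := by rw [polar_comm]; exact hze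
  have hzz : polar (⇑Q) z z = 0 := by rw [polar_self, hQz, smul_zero]
  have hee : polar (⇑Q) e e = 0 := by rw [polar_self, hQe, smul_zero]
  -- perpendicular part
  have f1z : ∀ x ∈ D a, polar (⇑Q) x z = 0 → A x * B z = B x * A z := by
    intro x hx hxz
    exact key z hzD x hx hQz (by rw [polar_comm]; exact hxz)
  have f1e : ∀ x ∈ D a, polar (⇑Q) x e = 0 → A x * B e = B x * A e := by
    intro x hx hxe
    exact key e heD x hx hQe (by rw [polar_comm]; exact hxe)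
  have hsing : ∀ x ∈ D a, polar (⇑Q) x z = 0 → polar (⇑Q) x e = 0 →
      x - Q x • z + e ∈ D a ∧ Q (x - Q x • z + e) = 0 := by
    intro x hx hxz hxe
    exact ⟨(D a).add_mem ((D a).sub_mem hx ((D a).smul_mem _ hzD)) heD,
      hyp_sing Q z e x hQz hQe hze hxz hxe⟩
  have f3 : ∀ x ∈ D a, ∀ x' ∈ D a, polar (⇑Q) x z = 0 → polar (⇑Q) x e = 0 →
      polar (⇑Q) x' z = 0 → polar (⇑Q) x' e = 0 →
      A x' * B x - B x' * A x = polar (⇑Q) x x' * (A z * B e - B z * A e) := by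
    intro x hx x' hx' hxz hxe hx'z hx'e
    obtain ⟨hsD, hQs⟩ := hsing x hx hxz hxe
    have hy : x' - polar (⇑Q) x x' • z ∈ D a := (D a).sub_mem hx' ((D a).smul_mem _ hzD)
    have hperp : polar (⇑Q) (x - Q x • z + e) (x' - polar (⇑Q) x x' • z) = 0 := by
      rw [polar_add_left, polar_sub_left, polar_sub_right, polar_sub_right, polar_sub_right,
        polar_smul_left, polar_smul_right, polar_smul_right, polar_smul_right, polar_smul_left,
        hxz, hzz, hez, polar_comm (⇑Q) z x', hx'z, polar_comm (⇑Q) e x', hx'e]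
      simp only [smul_eq_mul]
      ring
    have h1 := key _ hsD _ hy hQs hperp
    rw [hAadd, hAsub, hAsub, hAsmul, hAsmul, hBadd, hBsub, hBsub, hBsmul, hBsmul] at h1
    have h2 := f1z x hx hxz
    have h3 := f1e x hx hxe
    have h4 := f1z x' hx' hx'z
    have h5 := f1e x' hx' hx'e
    linear_combination h1 + Q x * h4 - h5 - polar (⇑Q) x x' * h2
  -- a nonsingular vector perpendicular to the hyperbolic pair
  obtain ⟨x₀, hx₀D, hx₀z, hx₀e, hQx₀⟩ : ∃ x₀ ∈ D a, polar (⇑Q) x₀ z = 0 ∧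
      polar (⇑Q) x₀ e = 0 ∧ Q x₀ ≠ 0 := by
    obtain ⟨r, hrD, hr0, hzr, her⟩ := exists_ne_zero_cut2 Q (D a) z e (hB.finrank_eq a)
    by_cases hQr : Q r = 0
    · obtain ⟨y, hyD, hry⟩ := hB.nd a r hrD hr0
      obtain ⟨h1, h2⟩ := hyp_proj Q z e y hQz hQe hze
      obtain ⟨y', hy'⟩ : ∃ y', y' = y - polar (⇑Q) y e • z - polar (⇑Q) y z • e := ⟨_, rfl⟩
      rw [← hy'] at h1 h2
      have hy'D : y' ∈ D a := by
        rw [hy']
        exact (D a).sub_mem ((D a).sub_mem hyD ((D a).smul_mem _ hzD)) ((D a).smul_mem _ heD)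
      have hry' : polar (⇑Q) r y' ≠ 0 := by
        rw [hy', polar_sub_right, polar_sub_right, polar_smul_right, polar_smul_right,
          polar_comm (⇑Q) r z, hzr, polar_comm (⇑Q) r e, her, smul_zero, smul_zero, sub_zero,
          sub_zero]
        exact hry
      by_cases hQy' : Q y' = 0
      · refine ⟨r + y', (D a).add_mem hrD hy'D, ?_, ?_, ?_⟩
        · rw [polar_add_left, polar_comm (⇑Q) r z, hzr, h1, add_zero]
        · rw [polar_add_left, polar_comm (⇑Q) r e, her, h2, add_zero]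
        · rw [Q_add, hQr, hQy', zero_add, zero_add]
          exact hry'
      · exact ⟨y', hy'D, h1, h2, hQy'⟩
    · exact ⟨r, hrD, by rw [polar_comm]; exact hzr, by rw [polar_comm]; exact her, hQr⟩
  have f2 : A z * B e = B z * A e := by
    have h1 := f3 x₀ hx₀D x₀ hx₀D hx₀z hx₀e hx₀z hx₀e
    have h2 : polar (⇑Q) x₀ x₀ ≠ 0 := polar_self_ne hB.two hQx₀
    have h3 : polar (⇑Q) x₀ x₀ * (A z * B e - B z * A e) = 0 := by linear_combination -h1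
    rcases mul_eq_zero.mp h3 with h4 | h4
    · exact absurd h4 h2
    · exact sub_eq_zero.mp h4
  intro w hw w' hw'
  obtain ⟨hx1, hx2⟩ := hyp_proj Q z e w hQz hQe hze
  obtain ⟨hx1', hx2'⟩ := hyp_proj Q z e w' hQz hQe hze
  obtain ⟨x, hx⟩ : ∃ x, x = w - polar (⇑Q) w e • z - polar (⇑Q) w z • e := ⟨_, rfl⟩
  obtain ⟨x', hx'⟩ : ∃ x', x' = w' - polar (⇑Q) w' e • z - polar (⇑Q) w' z • e := ⟨_, rfl⟩
  rw [← hx] at hx1 hx2
  rw [← hx'] at hx1' hx2'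
  have hxD : x ∈ D a := by
    rw [hx]
    exact (D a).sub_mem ((D a).sub_mem hw ((D a).smul_mem _ hzD)) ((D a).smul_mem _ heD)
  have hx'D : x' ∈ D a := by
    rw [hx']
    exact (D a).sub_mem ((D a).sub_mem hw' ((D a).smul_mem _ hzD)) ((D a).smul_mem _ heD)
  have hw_eq : w = x + polar (⇑Q) w e • z + polar (⇑Q) w z • e := by rw [hx]; abel
  have hw'_eq : w' = x' + polar (⇑Q) w' e • z + polar (⇑Q) w' z • e := by rw [hx']; abel
  have g1 := f1z x hxD hx1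
  have g2 := f1e x hxD hx2
  have g3 := f1z x' hx'D hx1'
  have g4 := f1e x' hx'D hx2'
  have g5 := f3 x hxD x' hx'D hx1 hx2 hx1' hx2'
  rw [f2, sub_self, mul_zero] at g5
  rw [← hA, ← hB', ← hA, ← hB']
  obtain ⟨α, hα⟩ : ∃ α, α = polar (⇑Q) w e := ⟨_, rfl⟩
  obtain ⟨β, hβ⟩ : ∃ β, β = polar (⇑Q) w z := ⟨_, rfl⟩
  obtain ⟨α', hα'⟩ : ∃ α', α' = polar (⇑Q) w' e := ⟨_, rfl⟩
  obtain ⟨β', hβ'⟩ : ∃ β', β' = polar (⇑Q) w' z := ⟨_, rfl⟩
  rw [← hα, ← hβ] at hw_eq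
  rw [← hα', ← hβ'] at hw'_eq
  have eA : A w = A x + α * A z + β * A e := by
    rw [hw_eq, hAadd, hAadd, hAsmul, hAsmul]
  have eB : B w = B x + α * B z + β * B e := by
    rw [hw_eq, hBadd, hBadd, hBsmul, hBsmul]
  have eA' : A w' = A x' + α' * A z + β' * A e := by
    rw [hw'_eq, hAadd, hAadd, hAsmul, hAsmul]
  have eB' : B w' = B x' + α' * B z + β' * B e := by
    rw [hw'_eq, hBadd, hBadd, hBsmul, hBsmul]
  rw [eA, eB, eA', eB']
  linear_combination -g5 + α' * g1 + β' * g2 - α * g3 - β * g4 + (α * β' - β * α') * f2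

theorem exists_bad (hB : Blk Q D k)
    (hHM : Cfsg.Geo.decompositionStabilizer D ⊓ Cfsg.Geo.omegaGL ⇑Q ≤ M)
    (γ : ↥(Cfsg.isometryGroup F ⇑Q)) (hγM : (γ : GL ι F) ∈ M) {a : Fin t}
    (hns : ∀ u ∈ D a, u ≠ 0 → Q u = 0 → ∀ l, gact Q γ u ∉ D l) (hR : R1 Q D γ a) :
    ∃ (γ₂ : ↥(Cfsg.isometryGroup F ⇑Q)) (a₂ : Fin t), (γ₂ : GL ι F) ∈ M ∧
      (∀ l, ∃ y ∈ D a₂, gact Q γ₂ y ∉ D l) ∧ ¬ R1 Q D γ₂ a₂ := by
  obtain ⟨u, huD, hu0, hQu⟩ := exists_singular_sub Q (D a) (hB.finrank_eq a)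
  obtain ⟨y₁, hy₁D, huy₁, hQy₁⟩ :=
    exists_nonsing_perp (D a) (hB.nd a) (hB.finrank_eq a) huD hu0 hQu
  obtain ⟨z, hzdef⟩ : ∃ z, z = gact Q γ u := ⟨_, rfl⟩
  obtain ⟨v, hvdef⟩ : ∃ v, v = gact Q γ y₁ := ⟨_, rfl⟩
  have hQz : Q z = 0 := by rw [hzdef, Q_gact, hQu]
  have hzv : polar (⇑Q) z v = 0 := by rw [hzdef, hvdef, polar_gact, huy₁]
  have hvz : polar (⇑Q) v z = 0 := by rw [polar_comm]; exact hzv
  have hQv : Q v ≠ 0 := by rw [hvdef, Q_gact]; exact hQy₁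
  have hz0 : z ≠ 0 := by
    rw [hzdef]
    exact fun h => hu0 ((gact_eq_zero_iff Q γ u).mp h)
  have hS : SIn Q M z v := by
    rw [hzdef, hvdef]
    exact good_SIn hB hHM γ hγM huD hy₁D hQu huy₁
  have hσM := hS.mem hQz hzv
  obtain ⟨σ, hσ⟩ : ∃ σ, σ = siegIso Q z v hQz hzv := ⟨_, rfl⟩
  rw [← hσ] at hσM
  have hσy : ∀ y, gact Q σ y = y + (polar (⇑Q) v y - Q v * polar (⇑Q) z y) • z +
      (-(polar (⇑Q) z y)) • v := by
    intro y
    rw [hσ, gact_siegIso]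
  have hvv : polar (⇑Q) v v ≠ 0 := polar_self_ne hB.two hQv
  have hzz : polar (⇑Q) z z = 0 := by rw [polar_self, hQz, smul_zero]
  have hpol : ∀ α β α' β' : F, polar (⇑Q) (α • z + β • v) (α' • z + β' • v) =
      β * β' * polar (⇑Q) v v := by
    intro α β α' β'
    simp only [polar_add_left, polar_add_right, polar_smul_left, polar_smul_right, hzz, hzv, hvz,
      smul_eq_mul]
    ring
  obtain ⟨l, y₀, hy₀, hzy₀⟩ : ∃ l, ∃ y₀ ∈ D l, polar (⇑Q) z y₀ ≠ 0 := by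
    by_contra hcon
    push Not at hcon
    exact hz0 (hB.glob z hcon)
  have hzl : z ∉ D l := by
    rw [hzdef]
    exact hns u huD hu0 hQu l
  obtain ⟨zl, hzlD, z', hz', hzdec⟩ := hB.dec l z
  have hz'0 : z' ≠ 0 := by
    intro h0
    apply hzl
    rw [hzdec, h0, add_zero]
    exact hzlD
  obtain ⟨l', y₀', hy₀', hz'y₀'⟩ : ∃ l', ∃ y₀' ∈ D l', polar (⇑Q) z' y₀' ≠ 0 := by
    by_contra hcon
    push Not at hcon
    exact hz'0 (hB.glob z' hcon)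
  have hll' : l' ≠ l := by
    rintro rfl
    apply hz'y₀'
    rw [polar_comm]
    exact hz' y₀' hy₀'
  have hzy₀' : polar (⇑Q) z y₀' ≠ 0 := by
    rw [hzdec, polar_add_left, hB.orth l l' (Ne.symm hll') zl hzlD y₀' hy₀', zero_add]
    exact hz'y₀'
  obtain ⟨l₂, y₂, hy₂, hσy₂⟩ : ∃ l₂, ∃ y₂ ∈ D l₂, gact Q σ y₂ ∉ D l₂ := by
    by_contra hcon
    push Not at hcon
    have hn : ∀ l₃, ∀ y ∈ D l₃, (polar (⇑Q) v y - Q v * polar (⇑Q) z y) • z +
        (-(polar (⇑Q) z y)) • v ∈ D l₃ := by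
      intro l₃ y hy
      have := (D l₃).sub_mem (hcon l₃ y hy) hy
      rw [hσy] at this
      have e : y + (polar (⇑Q) v y - Q v * polar (⇑Q) z y) • z + (-(polar (⇑Q) z y)) • v - y =
          (polar (⇑Q) v y - Q v * polar (⇑Q) z y) • z + (-(polar (⇑Q) z y)) • v := by abel
      rwa [e] at this
    have h1 := hB.orth l l' (Ne.symm hll') _ (hn l y₀ hy₀) _ (hn l' y₀' hy₀')
    rw [hpol] at h1
    exact (mul_ne_zero (mul_ne_zero (neg_ne_zero.mpr hzy₀) (neg_ne_zero.mpr hzy₀')) hvv) h1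
  obtain ⟨c, hc⟩ : ∃ c : ι → F, ∀ y ∈ D l₂, polar (⇑Q) c y = 0 → gact Q σ y = y := by
    by_cases hex' : ∃ y₃ ∈ D l₂, polar (⇑Q) z y₃ ≠ 0
    · obtain ⟨y₃, hy₃, hzy₃⟩ := hex'
      refine ⟨z, fun y hy hzy => ?_⟩
      have hR' := hR l₂ y₃ hy₃ y hy u huD y₁ hy₁D
      rw [← hzdef, ← hvdef, hzy, zero_mul] at hR'
      have hvy : polar (⇑Q) v y = 0 := by
        rcases mul_eq_zero.mp hR' with h | h
        · exact absurd h hzy₃
        · exact h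
      rw [hσy, hvy, hzy]
      simp
    · push Not at hex'
      refine ⟨v, fun y hy hvy => ?_⟩
      rw [hσy, hvy, hex' y hy]
      simp
  obtain ⟨y₁', hy₁'D, hy₁'0, hcy₁', -⟩ := exists_ne_zero_cut2 Q (D l₂) c c (hB.finrank_eq l₂)
  obtain ⟨a₁, ha₁D, hy₁'a₁⟩ := hB.nd l₂ y₁' hy₁'D hy₁'0
  obtain ⟨y₂', hy₂'D, hy₂'0, hcy₂', ha₁y₂'⟩ :=
    exists_ne_zero_cut2 Q (D l₂) c a₁ (hB.finrank_eq l₂)
  obtain ⟨b₁, hb₁D, hy₂'b₁⟩ := hB.nd l₂ y₂' hy₂'D hy₂'0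
  refine ⟨σ, l₂, hσM, ?_, ?_⟩
  · intro l₃
    by_cases h : l₃ = l₂
    · rw [h]
      exact ⟨y₂, hy₂, hσy₂⟩
    · refine ⟨y₁', hy₁'D, ?_⟩
      rw [hc y₁' hy₁'D hcy₁']
      intro hmem
      exact hy₁'0 (hB.inter h hmem hy₁'D)
  · intro hR2
    have := hR2 l₂ a₁ ha₁D b₁ hb₁D y₁' hy₁'D y₂' hy₂'D
    rw [hc y₁' hy₁'D hcy₁', hc y₂' hy₂'D hcy₂', polar_comm (⇑Q) y₂' a₁, ha₁y₂', mul_zero] at this
    exact (mul_ne_zero hy₁'a₁ hy₂'b₁) this

/-- **An element of `M` moving a block to a subspace which is not a block produces a seed.** -/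
theorem seed_of_nonblock (hB : Blk Q D k)
    (hHM : Cfsg.Geo.decompositionStabilizer D ⊓ Cfsg.Geo.omegaGL ⇑Q ≤ M)
    (hex : k = 3 → 4 ≤ Fintype.card F)
    (γ : ↥(Cfsg.isometryGroup F ⇑Q)) (hγM : (γ : GL ι F) ∈ M) {a : Fin t}
    (hnb : ∀ l, ∃ y ∈ D a, gact Q γ y ∉ D l) : Seed Q D M := by
  by_contra hNS
  have hns : ∀ (γ' : ↥(Cfsg.isometryGroup F ⇑Q)), (γ' : GL ι F) ∈ M → ∀ a',
      (∀ l, ∃ y ∈ D a', gact Q γ' y ∉ D l) →
      ∀ u ∈ D a', u ≠ 0 → Q u = 0 → ∀ l, gact Q γ' u ∉ D l := by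
    intro γ' hγ'M a' hnb' u hu hu0 hQu l hmem
    exact caseA hB hHM hex hNS γ' hγ'M hnb' hu hu0 hQu hmem
  have hR := minor hB hHM hex hNS γ hγM (hns γ hγM a hnb)
  obtain ⟨γ₂, a₂, hγ₂M, hnb₂, hnR⟩ := exists_bad hB hHM γ hγM (hns γ hγM a hnb) hR
  exact hnR (minor hB hHM hex hNS γ₂ hγ₂M (hns γ₂ hγ₂M a₂ hnb₂))

end dich

end Cfsg.Agent.Lib.Helper13.ODC
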