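import Mathlib
import Cfsg.Agent.Lib.Helper13.OrthDecompD

/-!
# Orthogonal decompositions: block permutations in `Ω` and the maximality theorem
-/

set_option autoImplicit false
set_option linter.unusedSectionVars false
set_option linter.unusedVariables false

namespace Cfsg.Agent.Lib.Helper13.ODC

open Matrix Module QuadraticMap Cfsg.Agent.Lib.Helper6 Cfsg.Agent.Lib.Helper13
  Cfsg.Agent.Lib.Helper13.OND
open scoped commutatorElement

section swap
universe u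
variable {F : Type u} [Field F] [Fintype F] {ι : Type} [Fintype ι] [DecidableEq ι]
variable {Q : QuadraticForm F (ι → F)}
variable {t : ℕ} {D : Fin t → Submodule F (ι → F)} {k : ℕ} {M : Subgroup (GL ι F)}

/-- the isometry interchanging two blocks along a given isometry between them -/
theorem exists_block_swap (hB : Blk Q D k) (i j : Fin t) (hij : i ≠ j) (ψ : D i ≃ₗ[F] D j)
    (hψ : ∀ x : D i, Q ((ψ x : D j) : ι → F) = Q (x : ι → F)) :
    ∃ τ : ↥(Cfsg.isometryGroup F ⇑Q), (∀ y ∈ D i, gact Q τ y ∈ D j) ∧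
      (∀ y ∈ D j, gact Q τ y ∈ D i) ∧ (∀ l, l ≠ i → l ≠ j → ∀ y ∈ D l, gact Q τ y = y) ∧
      τ * τ = 1 := by
  classical
  obtain ⟨U, hU⟩ : ∃ U : Fin t → Submodule F (ι → F),
      ∀ l y, y ∈ U l ↔ ∀ w ∈ D l, polar (⇑Q) w y = 0 :=
    ⟨fun l => LinearMap.BilinForm.orthogonal (polarBilin Q) (D l), fun l y => by
      rw [LinearMap.BilinForm.mem_orthogonal_iff]
      rfl⟩
  have hc : ∀ l, IsCompl (D l) (U l) := by
    intro l
    refine ⟨?_, ?_⟩
    · rw [Submodule.disjoint_def]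
      intro x hxD hxU
      by_contra hx0
      obtain ⟨y, hy, hxy⟩ := hB.nd l x hxD hx0
      exact hxy (by rw [polar_comm]; exact (hU l x).mp hxU y hy)
    · rw [codisjoint_iff, Submodule.eq_top_iff']
      intro x
      obtain ⟨u, hu, w, hw, rfl⟩ := hB.dec l x
      exact Submodule.add_mem_sup hu ((hU l w).mpr hw)
  have hDU : ∀ l l', l ≠ l' → D l' ≤ U l := by
    intro l l' hll' y hy
    exact (hU l y).mpr (fun w hw => hB.orth l l' hll' w hw y hy)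
  have hψ' : ∀ x : D j, Q ((ψ.symm x : D i) : ι → F) = Q (x : ι → F) := by
    intro x
    have := hψ (ψ.symm x)
    rw [LinearEquiv.apply_symm_apply] at this
    exact this.symm
  obtain ⟨πi, hπiD, hπiU, hπiS⟩ : ∃ πi : (ι → F) →ₗ[F] D i,
      (∀ y (hy : y ∈ D i), πi y = ⟨y, hy⟩) ∧ (∀ y, y ∈ U i → πi y = 0) ∧
      (∀ x, x - ((πi x : D i) : ι → F) ∈ U i) :=
    ⟨(D i).projectionOnto (U i) (hc i),
      fun y hy => Submodule.projectionOnto_apply_of_mem_left (hc i) hy,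
      fun y hy => Submodule.projectionOnto_apply_of_mem_right (hc i) hy,
      fun x => (Submodule.projectionOnto_apply_eq_zero_iff (hc i)).mp (by
        rw [map_sub, Submodule.projectionOnto_apply_left, sub_self])⟩
  obtain ⟨πj, hπjD, hπjU, hπjS⟩ : ∃ πj : (ι → F) →ₗ[F] D j,
      (∀ y (hy : y ∈ D j), πj y = ⟨y, hy⟩) ∧ (∀ y, y ∈ U j → πj y = 0) ∧
      (∀ x, x - ((πj x : D j) : ι → F) ∈ U j) :=
    ⟨(D j).projectionOnto (U j) (hc j),
      fun y hy => Submodule.projectionOnto_apply_of_mem_left (hc j) hy,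
      fun y hy => Submodule.projectionOnto_apply_of_mem_right (hc j) hy,
      fun x => (Submodule.projectionOnto_apply_eq_zero_iff (hc j)).mp (by
        rw [map_sub, Submodule.projectionOnto_apply_left, sub_self])⟩
  obtain ⟨h, hdef⟩ : ∃ h : (ι → F) →ₗ[F] (ι → F), ∀ x, h x =
      x + (((ψ (πi x) : D j) : ι → F) - ((πi x : D i) : ι → F)) +
        (((ψ.symm (πj x) : D i) : ι → F) - ((πj x : D j) : ι → F)) :=
    ⟨LinearMap.id + ((D j).subtype ∘ₗ ψ.toLinearMap - (D i).subtype) ∘ₗ πi +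
      ((D i).subtype ∘ₗ ψ.symm.toLinearMap - (D j).subtype) ∘ₗ πj, fun x => rfl⟩
  have hDi : ∀ y (hy : y ∈ D i), h y = ((ψ ⟨y, hy⟩ : D j) : ι → F) := by
    intro y hy
    rw [hdef, hπiD y hy, hπjU y (hDU j i (Ne.symm hij) hy), map_zero]
    simp
  have hDj : ∀ y (hy : y ∈ D j), h y = ((ψ.symm ⟨y, hy⟩ : D i) : ι → F) := by
    intro y hy
    rw [hdef, hπjD y hy, hπiU y (hDU i j hij hy), map_zero]
    simp
  have hfix : ∀ y, y ∈ U i → y ∈ U j → h y = y := by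
    intro y hyi hyj
    rw [hdef, hπiU y hyi, hπjU y hyj, map_zero, map_zero]
    simp
  have hdec3 : ∀ x : ι → F, ∃ a, ∃ _ : a ∈ D i, ∃ b, ∃ _ : b ∈ D j, ∃ r,
      r ∈ U i ∧ r ∈ U j ∧ x = a + b + r := by
    intro x
    refine ⟨((πi x : D i) : ι → F), (πi x).2, ((πj x : D j) : ι → F),
      (πj x).2, x - ((πi x : D i) : ι → F) - ((πj x : D j) : ι → F),
      ?_, ?_, by abel⟩
    · exact (U i).sub_mem (hπiS x) (hDU i j hij (πj x).2)
    · have : x - ((πi x : D i) : ι → F) - ((πj x : D j) : ι → F) =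
          (x - ((πj x : D j) : ι → F)) - ((πi x : D i) : ι → F) := by
        abel
      rw [this]
      exact (U j).sub_mem (hπjS x) (hDU j i (Ne.symm hij) (πi x).2)
  have hval : ∀ a (ha : a ∈ D i) b (hb : b ∈ D j) r, r ∈ U i → r ∈ U j →
      h (a + b + r) = ((ψ ⟨a, ha⟩ : D j) : ι → F) +
        ((ψ.symm ⟨b, hb⟩ : D i) : ι → F) + r := by
    intro a ha b hb r hr1 hr2
    rw [map_add, map_add, hDi a ha, hDj b hb, hfix r hr1 hr2]
  have hinv : ∀ x, h (h x) = x := by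
    intro x
    obtain ⟨a, ha, b, hb, r, hr1, hr2, rfl⟩ := hdec3 x
    rw [hval a ha b hb r hr1 hr2]
    have e : ((ψ ⟨a, ha⟩ : D j) : ι → F) + ((ψ.symm ⟨b, hb⟩ : D i) : ι → F) + r =
        ((ψ.symm ⟨b, hb⟩ : D i) : ι → F) + ((ψ ⟨a, ha⟩ : D j) : ι → F) + r := by abel
    rw [e, hval _ (ψ.symm ⟨b, hb⟩).2 _ (ψ ⟨a, ha⟩).2 r hr1 hr2]
    simp only [Subtype.coe_eta, LinearEquiv.apply_symm_apply, LinearEquiv.symm_apply_apply]
    abel
  have hQ3 : ∀ a b r, a ∈ D i → b ∈ D j → r ∈ U i → r ∈ U j →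
      Q (a + b + r) = Q a + Q b + Q r := by
    intro a b r ha hb hr1 hr2
    rw [Q_add, Q_add, polar_add_left, hB.orth i j hij a ha b hb, (hU i r).mp hr1 a ha,
      (hU j r).mp hr2 b hb]
    ring
  have hpres : ∀ x, Q (h x) = Q x := by
    intro x
    obtain ⟨a, ha, b, hb, r, hr1, hr2, rfl⟩ := hdec3 x
    rw [hval a ha b hb r hr1 hr2,
      add_comm ((ψ ⟨a, ha⟩ : D j) : ι → F),
      hQ3 _ _ r (ψ.symm ⟨b, hb⟩).2 (ψ ⟨a, ha⟩).2 hr1 hr2, hQ3 a b r ha hb hr1 hr2, hψ, hψ']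
    ring
  obtain ⟨τ, hτ⟩ : ∃ τ : ↥(Cfsg.isometryGroup F ⇑Q), ∀ x, gact Q τ x = h x :=
    ⟨(isoEquiv (⇑Q) Q (fun _ => rfl)).symm ⟨LinearEquiv.ofInvolutive h hinv, hpres⟩, fun x => by
      rw [gact_def]
      exact isoEquiv_symm_mulVec (⇑Q) Q (fun _ => rfl) _ x⟩
  refine ⟨τ, ?_, ?_, ?_, ?_⟩
  · intro y hy
    rw [hτ, hDi y hy]
    exact (ψ ⟨y, hy⟩).2
  · intro y hy
    rw [hτ, hDj y hy]
    exact (ψ.symm ⟨y, hy⟩).2
  · intro l hli hlj y hy
    rw [hτ, hfix y (hDU i l (Ne.symm hli) hy) (hDU j l (Ne.symm hlj) hy)]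
  · apply iso_ext_gact
    intro x
    rw [gact_mul, hτ, hτ, hinv, gact_one]

theorem swap_mem_stab (i j : Fin t) (hij : i ≠ j) (τ : ↥(Cfsg.isometryGroup F ⇑Q))
    (h1 : ∀ y ∈ D i, gact Q τ y ∈ D j) (h2 : ∀ y ∈ D j, gact Q τ y ∈ D i)
    (h3 : ∀ l, l ≠ i → l ≠ j → ∀ y ∈ D l, gact Q τ y = y) (h4 : τ * τ = 1) :
    (τ : GL ι F) ∈ Cfsg.Geo.decompositionStabilizer D := by
  have hinv : ∀ x, gact Q τ (gact Q τ x) = x := by
    intro x
    rw [← gact_mul, h4, gact_one]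
  refine ⟨Equiv.swap i j, fun l => ?_⟩
  by_cases hli : l = i
  · rw [hli, Equiv.swap_apply_left]
    apply le_antisymm
    · rintro _ ⟨y, hy, rfl⟩
      rw [Matrix.toLin'_apply]
      exact h1 y hy
    · intro c hc
      refine ⟨gact Q τ c, h2 c hc, ?_⟩
      rw [Matrix.toLin'_apply]
      exact hinv c
  · by_cases hlj : l = j
    · rw [hlj, Equiv.swap_apply_right]
      apply le_antisymm
      · rintro _ ⟨y, hy, rfl⟩
        rw [Matrix.toLin'_apply]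
        exact h2 y hy
      · intro c hc
        refine ⟨gact Q τ c, h1 c hc, ?_⟩
        rw [Matrix.toLin'_apply]
        exact hinv c
    · rw [Equiv.swap_apply_of_ne_of_ne hli hlj]
      apply le_antisymm
      · rintro _ ⟨y, hy, rfl⟩
        rw [Matrix.toLin'_apply]
        have := h3 l hli hlj y hy
        rw [gact_def] at this
        rw [this]
        exact hy
      · intro c hc
        refine ⟨c, hc, ?_⟩
        rw [Matrix.toLin'_apply]
        exact h3 l hli hlj c hc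

/-- a three-cycle of blocks in the stabiliser of the decomposition in `Ω` -/
theorem exists_three_cycle (hB : Blk Q D k)
    (hiso : ∀ i j, ∃ ψ : D i ≃ₗ[F] D j, ∀ x : D i, Q ((ψ x : D j) : ι → F) = Q (x : ι → F))
    {a j c : Fin t} (haj : a ≠ j) (hjc : j ≠ c) (hac : a ≠ c) :
    ∃ g : ↥(Cfsg.isometryGroup F ⇑Q),
      (g : GL ι F) ∈ Cfsg.Geo.decompositionStabilizer D ⊓ Cfsg.Geo.omegaGL ⇑Q ∧
      (∀ y ∈ D a, gact Q g y ∈ D c) ∧ (∀ y ∈ D a, gact Q g⁻¹ y ∈ D j) := by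
  obtain ⟨ψ₁, hψ₁⟩ := hiso a j
  obtain ⟨ψ₂, hψ₂⟩ := hiso j c
  obtain ⟨τ₁, p1, p2, p3, p4⟩ := exists_block_swap hB a j haj ψ₁ hψ₁
  obtain ⟨τ₂, q1, q2, q3, q4⟩ := exists_block_swap hB j c hjc ψ₂ hψ₂
  have hτ₁inv : τ₁⁻¹ = τ₁ := inv_eq_of_mul_eq_one_right p4
  have hτ₂inv : τ₂⁻¹ = τ₂ := inv_eq_of_mul_eq_one_right q4
  have hs1 := swap_mem_stab a j haj τ₁ p1 p2 p3 p4
  have hs2 := swap_mem_stab j c hjc τ₂ q1 q2 q3 q4
  refine ⟨⁅τ₁, τ₂⁆, ⟨?_, ?_⟩, ?_, ?_⟩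
  · rw [commutatorElement_def]
    exact Subgroup.mul_mem _ (Subgroup.mul_mem _ (Subgroup.mul_mem _ hs1 hs2)
      (Subgroup.inv_mem _ hs1)) (Subgroup.inv_mem _ hs2)
  · refine (mem_omegaGL_iff Q _).mpr ⟨_, ?_, rfl⟩
    show _ ∈ commutator _
    rw [commutator_def]
    exact Subgroup.commutator_mem_commutator (Subgroup.mem_top τ₁) (Subgroup.mem_top τ₂)
  · intro y hy
    rw [commutatorElement_def, hτ₁inv, hτ₂inv, gact_mul, gact_mul, gact_mul,
      q3 a haj hac y hy]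
    have h1 := p1 y hy
    have h2 := q1 _ h1
    rw [p3 c (Ne.symm hac) (Ne.symm hjc) _ h2]
    exact h2
  · intro y hy
    rw [commutatorElement_inv, commutatorElement_def, hτ₁inv, hτ₂inv, gact_mul, gact_mul,
      gact_mul]
    have h1 := p1 y hy
    have h2 := q1 _ h1
    rw [p3 c (Ne.symm hac) (Ne.symm hjc) _ h2]
    exact q2 _ h2

end swap

section main
universe u
variable {F : Type u} [Field F] [Fintype F] {ι : Type} [Fintype ι] [DecidableEq ι]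
variable {Q : QuadraticForm F (ι → F)}
variable {t : ℕ} {D : Fin t → Submodule F (ι → F)} {k : ℕ} {M : Subgroup (GL ι F)}

/-- from a seed to all Siegel transformations centred at a singular vector of a block -/
theorem orX_of_seed (hB : Blk Q D k)
    (hHM : Cfsg.Geo.decompositionStabilizer D ⊓ Cfsg.Geo.omegaGL ⇑Q ≤ M)
    (hiso : ∀ i j, ∃ ψ : D i ≃ₗ[F] D j, ∀ x : D i, Q ((ψ x : D j) : ι → F) = Q (x : ι → F))
    (hS : Seed Q D M) : ∃ x, x ≠ 0 ∧ ∃ a, x ∈ D a ∧ OrX Q M x := by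
  classical
  obtain ⟨a, x, hxD, hx0, hQx, p, hp0, hp, hSp⟩ := hS
  obtain ⟨j, y₀, hy₀, hpy₀⟩ : ∃ j, ∃ y₀ ∈ D j, polar (⇑Q) p y₀ ≠ 0 := by
    by_contra hcon
    push Not at hcon
    exact hp0 (hB.glob p hcon)
  have hja : j ≠ a := by
    rintro rfl
    apply hpy₀
    rw [polar_comm]
    exact hp y₀ hy₀
  have hallj : ∀ y ∈ D j, SIn Q M x y :=
    absorb_big hB hHM (D j) le_rfl (hB.nd j) (hB.finrank_eq j)
      (fun b hb => hB.orth a j (Ne.symm hja) x hxD b hb) hSp hy₀ (by rw [polar_comm]; exact hpy₀)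
  have hall : ∀ c, c ≠ a → ∀ y ∈ D c, SIn Q M x y := by
    intro c hca
    by_cases hcj : c = j
    · rw [hcj]
      exact hallj
    obtain ⟨g, hgH, hg1, hg2⟩ := exists_three_cycle hB hiso (a := a) (j := j) (c := c)
      (Ne.symm hja) (Ne.symm hcj) (Ne.symm hca)
    have hgM := hHM hgH
    have h1 := (hallj _ (hg2 x hxD)).conj g hgM
    rw [gact_gact_inv] at h1
    have hQx₁ : Q (gact Q g x) = 0 := by rw [Q_gact, hQx]
    have hx₁0 : gact Q g x ≠ 0 := fun h => hx0 ((gact_eq_zero_iff Q g x).mp h)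
    have h2 := SIn.symm h1 hQx
    obtain ⟨a₀, ha₀, hx₁a₀⟩ := hB.nd c _ (hg1 x hxD) hx₁0
    exact absorb_big hB hHM (D c) le_rfl (hB.nd c) (hB.finrank_eq c)
      (fun b hb => hB.orth a c (Ne.symm hca) x hxD b hb) h2 ha₀ (by rw [polar_comm]; exact hx₁a₀)
  refine ⟨x, hx0, a, hxD, OrX_of_SIn hQx (fun v hxv => ?_)⟩
  obtain ⟨f, hf, hvf⟩ := hB.comp v
  have hxfa : polar (⇑Q) x (f a) = 0 := by
    have h3 := hxv
    rw [hvf, polar_sum_right, Finset.sum_eq_single a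
      (fun i _ hia => hB.orth a i (Ne.symm hia) x hxD (f i) (hf i))
      (fun h => absurd (Finset.mem_univ a) h)] at h3
    exact h3
  rw [hvf]
  apply SIn.sum hQx
  intro i _
  by_cases hia : i = a
  · rw [hia]
    exact block_sieg hB hHM hxD (hf a) hQx hxfa
  · exact hall i hia (f i) (hf i)

theorem omega_le_of_orX (hB : Blk Q D k)
    (hHM : Cfsg.Geo.decompositionStabilizer D ⊓ Cfsg.Geo.omegaGL ⇑Q ≤ M)
    {a : Fin t} {x : ι → F} (hxD : x ∈ D a) (hx0 : x ≠ 0) (hQx : Q x = 0) (hX : OrX Q M x) :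
    Cfsg.Geo.omegaGL ⇑Q ≤ M := by
  obtain ⟨e, heD, he, hxe⟩ := exists_partner Q (D a) (hB.nd a) hxD hx0 hQx
  have he0 : e ≠ 0 := by
    rintro rfl
    rw [polar_zero_right] at hxe
    exact zero_ne_one hxe
  obtain ⟨w, hwD, hew, hQw⟩ := exists_nonsing_perp (D a) (hB.nd a) (hB.finrank_eq a) heD he0 he
  have hρM := (block_sieg hB hHM heD hwD he hew).mem he hew
  have hX2 := hX.map (siegIso Q e w he hew) hρM
  have hne : polar (⇑Q) x (gact Q (siegIso Q e w he hew) x) ≠ 0 := by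
    have hex1 : polar (⇑Q) e x = 1 := by rw [polar_comm]; exact hxe
    rw [polar_gact_siegIso_self e w x he hew hQx, hex1]
    simpa using hQw
  apply omegaGL_le_of_forall hB.hQ hB.h5
  intro z hz
  exact OrX.all hB.hQ hX hX2 hne z hz

theorem stab_lt (hB : Blk Q D k) (ht : 2 ≤ t) :
    Cfsg.Geo.decompositionStabilizer D ⊓ Cfsg.Geo.omegaGL ⇑Q < Cfsg.Geo.omegaGL ⇑Q := by
  rw [SetLike.lt_iff_le_and_exists]
  refine ⟨inf_le_right, ?_⟩
  obtain ⟨a, j, haj⟩ : ∃ a j : Fin t, a ≠ j :=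
    ⟨⟨0, by omega⟩, ⟨1, by omega⟩, by simp [Fin.ext_iff]⟩
  obtain ⟨x, hxD, hx0, hQx⟩ := exists_singular_sub Q (D a) (hB.finrank_eq a)
  obtain ⟨w₀, hw₀D, hw₀0, -⟩ := exists_singular_sub Q (D j) (hB.finrank_eq j)
  have hxw : polar (⇑Q) x w₀ = 0 := hB.orth a j haj x hxD w₀ hw₀D
  refine ⟨_, (mem_omegaGL_iff Q _).mpr
    ⟨_, siegIso_mem_Omega Q hB.hQ hB.h5 x w₀ hQx hxw, rfl⟩, ?_⟩
  rintro ⟨⟨σ, hσ⟩, -⟩
  obtain ⟨y, hyD, hxy⟩ := hB.nd a x hxD hx0
  have hmem : gact Q (siegIso Q x w₀ hQx hxw) y ∈ D (σ a) := by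
    rw [← hσ a]
    exact ⟨y, hyD, Matrix.toLin'_apply _ _⟩
  rw [gact_siegIso] at hmem
  by_cases hσa : σ a = a
  · rw [hσa] at hmem
    have h2 : (-(polar (⇑Q) x y)) • w₀ ∈ D a := by
      have := (D a).sub_mem hmem ((D a).add_mem hyD
        ((D a).smul_mem (polar (⇑Q) w₀ y - Q w₀ * polar (⇑Q) x y) hxD))
      rwa [add_sub_cancel_left] at this
    have h3 : w₀ ∈ D a := by
      have := (D a).smul_mem (-(polar (⇑Q) x y))⁻¹ h2
      rwa [smul_smul, inv_mul_cancel₀ (neg_ne_zero.mpr hxy), one_smul] at this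
    exact hw₀0 (hB.inter haj h3 hw₀D)
  · have h1 := hB.orth a (σ a) (Ne.symm hσa) x hxD _ hmem
    rw [polar_add_right, polar_add_right, polar_smul_right, polar_smul_right, polar_self, hQx,
      hxw] at h1
    simp only [smul_zero, add_zero] at h1
    exact hxy h1

/-- **The stabiliser in `Ω` of an orthogonal decomposition into at least three isometric
non-degenerate blocks of dimension at least three is maximal**, blocks of dimension three over the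
field with three elements excepted. -/
theorem decomp_stabilizer_maximal (hB : Blk Q D k)
    (hiso : ∀ i j, ∃ ψ : D i ≃ₗ[F] D j, ∀ x : D i, Q ((ψ x : D j) : ι → F) = Q (x : ι → F))
    (ht : 2 ≤ t) (hex : k = 3 → 4 ≤ Fintype.card F) :
    Cfsg.Geo.IsMaximalIn (Cfsg.Geo.omegaGL ⇑Q)
      (Cfsg.Geo.decompositionStabilizer D ⊓ Cfsg.Geo.omegaGL ⇑Q) := by
  refine ⟨stab_lt hB ht, ?_⟩
  intro M hHM hMΩ
  by_cases hMH : M ≤ Cfsg.Geo.decompositionStabilizer D ⊓ Cfsg.Geo.omegaGL ⇑Q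
  · left
    exact le_antisymm hMH hHM
  right
  apply le_antisymm hMΩ
  obtain ⟨g, hgM, hgH⟩ := SetLike.not_le_iff_exists.mp hMH
  obtain ⟨γ, hγΩ, rfl⟩ := (mem_omegaGL_iff Q g).mp (hMΩ hgM)
  have hγD : (γ : GL ι F) ∉ Cfsg.Geo.decompositionStabilizer D := fun h => hgH ⟨h, hMΩ hgM⟩
  have hne0 : ∀ i, ∃ x ∈ D i, x ≠ 0 := by
    intro i
    obtain ⟨x, hx, hx0, -⟩ := exists_singular_sub Q (D i) (hB.finrank_eq i)
    exact ⟨x, hx, hx0⟩
  have hdisj : ∀ i j x, x ∈ D i → x ∈ D j → x ≠ 0 → i = j := by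
    intro i j x hi hj hx0
    by_contra hne
    exact hx0 (hB.inter hne hi hj)
  have hnb : (∃ a, ∀ l, ∃ y ∈ D a, gact Q γ y ∉ D l) ∨
      (∃ a, ∀ l, ∃ y ∈ D a, gact Q γ⁻¹ y ∉ D l) := by
    by_contra hcon
    push Not at hcon
    obtain ⟨h1, h2⟩ := hcon
    choose τ hτ using h1
    choose τ' hτ' using h2
    have hl : ∀ i, τ' (τ i) = i := by
      intro i
      obtain ⟨x₀, hx₀, hx₀0⟩ := hne0 i
      have h3 := hτ' (τ i) _ (hτ i x₀ hx₀)
      rw [gact_inv_gact] at h3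
      exact hdisj _ _ x₀ h3 hx₀ hx₀0
    have hr : ∀ j, τ (τ' j) = j := by
      intro j
      obtain ⟨x₀, hx₀, hx₀0⟩ := hne0 j
      have h3 := hτ (τ' j) _ (hτ' j x₀ hx₀)
      rw [gact_gact_inv] at h3
      exact hdisj _ _ x₀ h3 hx₀ hx₀0
    apply hγD
    refine ⟨⟨τ, τ', hl, hr⟩, fun i => ?_⟩
    change (D i).map (Matrix.toLin' ((γ : GL ι F) : Matrix ι ι F)) = D (τ i)
    apply le_antisymm
    · rintro _ ⟨y, hy, rfl⟩
      rw [Matrix.toLin'_apply]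
      exact hτ i y hy
    · intro c hc
      refine ⟨gact Q γ⁻¹ c, ?_, ?_⟩
      · have := hτ' (τ i) c hc
        rwa [hl i] at this
      · rw [Matrix.toLin'_apply]
        exact gact_gact_inv Q γ c
  have hSeed : Seed Q D M := by
    rcases hnb with ⟨a, ha⟩ | ⟨a, ha⟩
    · exact seed_of_nonblock hB hHM hex γ hgM ha
    · exact seed_of_nonblock hB hHM hex γ⁻¹ (M.inv_mem hgM) ha
  obtain ⟨x, hx0, a, hxD, hX⟩ := orX_of_seed hB hHM hiso hSeed
  exact omega_le_of_orX hB hHM hxD hx0 hX.1 hX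

end main

end Cfsg.Agent.Lib.Helper13.ODC
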