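import Mathlib
import Cfsg.Agent.Lib.Helper13.OrthNondeg
import Cfsg.Agent.Lib.Helper6.Lagrangian

/-!
# Two isometric orthogonal halves give a form of plus type

If `V = U ⊥ W` with `dim U = dim W` even and some isometry maps `U` into `W`, then `V` contains
a totally singular subspace of dimension `dim U`.
-/

set_option autoImplicit false
set_option linter.unusedSectionVars false
set_option linter.unusedVariables false

namespace Cfsg.Agent.Lib.Helper13.OND

open Matrix Module QuadraticMap Cfsg.Agent.Lib.Helper6 Cfsg.Agent.Lib.Helper13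

universe u
variable {F : Type u} [Field F] [Fintype F] {ι : Type} [Fintype ι] [DecidableEq ι]
variable (Q : QuadraticForm F (ι → F))

theorem isometric_halves_char_two (h2 : (2 : F) = 0) {U W : Submodule F (ι → F)}
    (hP : OrthPair Q U W)
    (γ : ↥(Cfsg.isometryGroup F ⇑Q)) (hγ : ∀ x ∈ U, gact Q γ x ∈ W) :
    ∃ T : Submodule F (ι → F), (∀ t ∈ T, Q t = 0) ∧ finrank F T = finrank F U := by
  obtain ⟨L, hL⟩ : ∃ L : ↥U →ₗ[F] (ι → F), ∀ a : ↥U, L a = (a : ι → F) + gact Q γ a :=
    ⟨U.subtype + (Matrix.toLin' ((γ : GL ι F) : Matrix ι ι F)) ∘ₗ U.subtype, fun a => by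
      rw [LinearMap.add_apply, LinearMap.comp_apply, Submodule.subtype_apply, Matrix.toLin'_apply]
      rfl⟩
  have hinj : Function.Injective L := by
    rw [← LinearMap.ker_eq_bot, LinearMap.ker_eq_bot']
    intro a ha
    rw [hL] at ha
    have h1 : (a : ι → F) = -gact Q γ a := eq_neg_of_add_eq_zero_left ha
    have h3 : (a : ι → F) ∈ W := by
      rw [h1]
      exact W.neg_mem (hγ a a.2)
    exact Subtype.ext (hP.inter a.2 h3)
  refine ⟨LinearMap.range L, ?_, LinearMap.finrank_range_of_inj hinj⟩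
  rintro t ⟨a, rfl⟩
  rw [hL]
  have h3 : Q ((a : ι → F) + gact Q γ a) =
      Q (a : ι → F) + Q (gact Q γ a) + polar (⇑Q) (a : ι → F) (gact Q γ a) := by
    unfold polar
    ring
  rw [h3, Q_gact, hP.orth a a.2 _ (hγ a a.2), add_zero, ← two_mul, h2, zero_mul]

theorem isometric_halves_odd (h2 : (2 : F) ≠ 0) (hQ : (polarBilin Q).Nondegenerate)
    {U W : Submodule F (ι → F)} (hP : OrthPair Q U W)
    (hfr : finrank F U = finrank F W) (hev : Even (finrank F U))
    (γ : ↥(Cfsg.isometryGroup F ⇑Q)) (hγ : ∀ x ∈ U, gact Q γ x ∈ W) :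
    ∃ T : Submodule F (ι → F), (∀ t ∈ T, Q t = 0) ∧ finrank F T = finrank F U := by
  classical
  obtain ⟨fr, hfr'⟩ : ∃ fr : ↥U →ₗ[F] ↥W, ∀ a : ↥U, ((fr a : ↥W) : ι → F) = gact Q γ a :=
    ⟨(Matrix.toLin' ((γ : GL ι F) : Matrix ι ι F)).restrict
      (fun x hx => by rw [Matrix.toLin'_apply]; exact hγ x hx), fun a => by
      rw [LinearMap.coe_restrict_apply, Matrix.toLin'_apply]
      rfl⟩
  have hinj : Function.Injective fr := by
    intro a b hab
    have h1 : gact Q γ a = gact Q γ b := by rw [← hfr' a, ← hfr' b, hab]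
    apply Subtype.ext
    have h3 := congrArg (gact Q γ⁻¹) h1
    rwa [gact_inv_gact, gact_inv_gact] at h3
  have hbij : Function.Bijective fr :=
    ⟨hinj, (LinearMap.injective_iff_surjective_of_finrank_eq_finrank hfr).mp hinj⟩
  obtain ⟨e, he⟩ : ∃ e : ↥U ≃ₗ[F] ↥W, ∀ a : ↥U, ((e a : ↥W) : ι → F) = gact Q γ a :=
    ⟨LinearEquiv.ofBijective fr hbij, fun a => by rw [LinearEquiv.ofBijective_apply, hfr' a]⟩
  have hc : IsCompl U W := by
    refine ⟨?_, ?_⟩
    · rw [Submodule.disjoint_def]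
      intro x hxU hxW
      exact hP.inter hxU hxW
    · rw [codisjoint_iff, Submodule.eq_top_iff']
      intro x
      obtain ⟨u, hu, w, hw, rfl⟩ := hP.dec x
      exact Submodule.add_mem_sup hu hw
  obtain ⟨bU, hbU⟩ : ∃ b : Basis (Fin (finrank F U)) F ↥U, b = finBasis F ↥U := ⟨_, rfl⟩
  obtain ⟨bW, hbW⟩ : ∃ b : Basis (Fin (finrank F U)) F ↥W, b = bU.map e := ⟨_, rfl⟩
  have hS : LinearMap.BilinForm.IsSymm (polarBilin Q) := ⟨fun x y => by
    simp only [polarBilin_apply_apply]
    exact polar_comm _ _ _⟩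
  have hV : finrank F (ι → F) = 2 * finrank F U := by
    rw [Module.finrank_fintype_fun_eq_card, ← hP.finrank_add, ← hfr]
    ring
  have hG : LinearMap.BilinForm.toMatrix (complBasis hc bU bW) (polarBilin Q) =
      Matrix.fromBlocks (LinearMap.BilinForm.toMatrix bU (LinearMap.BilinForm.restrict (polarBilin Q) U)) 0 0
        (LinearMap.BilinForm.toMatrix bU (LinearMap.BilinForm.restrict (polarBilin Q) U)) := by
    rw [toMatrix_complBasis]
    congr 1
    · ext i j
      rw [Matrix.of_apply, Matrix.zero_apply, polarBilin_apply_apply]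
      exact hP.orth _ (bU i).2 _ (bW j).2
    · ext i j
      rw [Matrix.of_apply, Matrix.zero_apply, polarBilin_apply_apply, polar_comm]
      exact hP.orth _ (bU j).2 _ (bW i).2
    · ext i j
      simp only [LinearMap.BilinForm.toMatrix_apply, LinearMap.BilinForm.restrict_apply,
        LinearMap.domRestrict_apply, hbW, Basis.map_apply, he, polarBilin_apply_apply,
        polar_gact]
  have hsq : IsSquare ((-1) ^ finrank F U *
      (LinearMap.BilinForm.toMatrix (complBasis hc bU bW) (polarBilin Q)).det) := by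
    rw [hG, Matrix.det_fromBlocks_zero₁₂, hev.neg_one_pow, one_mul]
    exact ⟨_, rfl⟩
  obtain ⟨X, hXk, hX⟩ := (hasTI_iff_isSquare h2 (polarBilin Q) hS hQ (finrank F U) hV
    (complBasis hc bU bW)).mpr hsq
  refine ⟨X, fun t ht => ?_, hXk⟩
  have h4 := hX t ht t ht
  rw [polarBilin_apply_apply, polar_self, two_nsmul, ← two_mul] at h4
  exact (mul_eq_zero.mp h4).resolve_left h2

/-- If `V = U ⊥ W` with `dim U = dim W` even and an isometry maps `U` into `W`, the form is of
plus type. -/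
theorem plus_of_isometric_halves (hQ : (polarBilin Q).Nondegenerate)
    {U W : Submodule F (ι → F)} (hP : OrthPair Q U W)
    (hfr : finrank F U = finrank F W) (hev : Even (finrank F U))
    (γ : ↥(Cfsg.isometryGroup F ⇑Q)) (hγ : ∀ x ∈ U, gact Q γ x ∈ W) :
    Cfsg.Geo.IsPlusTypeOn (⇑Q) ⊤ := by
  have hT : ∃ T : Submodule F (ι → F), (∀ t ∈ T, Q t = 0) ∧ finrank F T = finrank F U := by
    by_cases h2 : (2 : F) = 0
    · exact isometric_halves_char_two Q h2 hP γ hγ
    · exact isometric_halves_odd Q h2 hQ hP hfr hev γ hγ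
  obtain ⟨T, hT0, hTk⟩ := hT
  refine ⟨T, le_top, hT0, ?_⟩
  rw [finrank_top, Module.finrank_fintype_fun_eq_card, ← hP.finrank_add, hTk, ← hfr]
  ring

end Cfsg.Agent.Lib.Helper13.OND
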