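import Mathlib
import Cfsg.Agent.Lib.Helper13.OrthNondeg

/-!
# The stabiliser of a non-singular point is maximal in `Ω` (characteristic two)

In characteristic two a non-singular vector `v` lies in its own perpendicular space.  The Siegel
transformations `ρ_{u,w}` with `u, w ⟂ v` fix `v`.  If `M` contains the stabiliser of `⟨v⟩` in `Ω`
and an element `γ` moving `⟨v⟩`, conjugating by a Siegel transformation fixing `γ v` produces a
Siegel transformation `ρ_{x,d} ∈ M` with `x ⟂ v` and `d` not perpendicular to `v`; then all Siegel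
transformations centred at `x` lie in `M`, and `M = Ω`.
-/

set_option autoImplicit false
set_option linter.unusedSectionVars false
set_option linter.unusedVariables false

namespace Cfsg.Agent.Lib.Helper13.ONP

open Matrix Module QuadraticMap Cfsg.Agent.Lib.Helper6 Cfsg.Agent.Lib.Helper13
  Cfsg.Agent.Lib.Helper13.OND

section
universe u
variable {F : Type u} [Field F] [Fintype F] {ι : Type} [Fintype ι] [DecidableEq ι]
variable (Q : QuadraticForm F (ι → F))

theorem nonsing_point_stabilizer_maximal (hQ : (polarBilin Q).Nondegenerate) (h2 : (2 : F) = 0)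
    (h13 : 13 ≤ Fintype.card ι) (v : ι → F) (hv : Q v ≠ 0) :
    Cfsg.Geo.IsMaximalIn (Cfsg.Geo.omegaGL ⇑Q)
      (Cfsg.Geo.subspaceStabilizer (Submodule.span F {v}) ⊓ Cfsg.Geo.omegaGL ⇑Q) := by
  have h5 : 5 ≤ Fintype.card ι := by omega
  have hfin : finrank F (ι → F) = Fintype.card ι := Module.finrank_fintype_fun_eq_card F
  have hvv : polar (⇑Q) v v = 0 := by
    rw [polar_self, nsmul_eq_mul]
    push_cast
    rw [h2, zero_mul]
  have hv0 : v ≠ 0 := by
    rintro rfl
    exact hv (map_zero Q)
  have hnotmul : ∀ z : ι → F, Q z = 0 → z ≠ 0 → ∀ c : F, z ≠ c • v := by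
    intro z hz hz0 c h
    rw [h, Q_smul] at hz
    rcases mul_eq_zero.mp hz with h1 | h1
    · have hc : c = 0 := mul_self_eq_zero.mp h1
      apply hz0
      rw [h, hc, zero_smul]
    · exact hv h1
  -- Siegel transformations perpendicular to `v` stabilise the point
  have hH : ∀ (u w : ι → F) (hu : Q u = 0) (huw : polar (⇑Q) u w = 0),
      polar (⇑Q) u v = 0 → polar (⇑Q) w v = 0 →
      ((siegIso Q u w hu huw : ↥(Cfsg.isometryGroup F ⇑Q)) : GL ι F) ∈
        Cfsg.Geo.subspaceStabilizer (Submodule.span F {v}) ⊓ Cfsg.Geo.omegaGL ⇑Q := by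
    intro u w hu huw huv hwv
    refine ⟨?_, (mem_omegaGL_iff Q _).mpr ⟨_, siegIso_mem_Omega Q hQ h5 u w hu huw, rfl⟩⟩
    apply mem_subspaceStabilizer_of_forall'
    intro x hx
    obtain ⟨c, rfl⟩ := Submodule.mem_span_singleton.mp hx
    change gact Q (siegIso Q u w hu huw) (c • v) ∈ _
    rw [gact_smul, gact_siegIso, huv, hwv]
    simp only [mul_zero, sub_zero, zero_smul, neg_zero, add_zero]
    exact Submodule.smul_mem _ _ (Submodule.mem_span_singleton_self v)
  have hSH : ∀ (M : Subgroup (GL ι F)),
      Cfsg.Geo.subspaceStabilizer (Submodule.span F {v}) ⊓ Cfsg.Geo.omegaGL ⇑Q ≤ M →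
      ∀ u w : ι → F, Q u = 0 → polar (⇑Q) u w = 0 → polar (⇑Q) u v = 0 →
      polar (⇑Q) w v = 0 → SIn Q M u w := by
    intro M hHM u w hu huw huv hwv
    refine ⟨hu, huw, fun t hu' huw' => hHM (hH u (t • w) hu' huw' huv ?_)⟩
    rw [polar_smul_left, hwv, smul_zero]
  constructor
  · rw [SetLike.lt_iff_le_and_exists]
    refine ⟨inf_le_right, ?_⟩
    obtain ⟨u, -, hu0, hu, huv, -, -⟩ := exists_singular_cut3 Q ⊤ v v v (by
      rw [finrank_top, hfin]; omega)
    obtain ⟨w, hw1, hw2⟩ := exists_polar_values Q hQ u v hu0 (fun c h => by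
      apply hv
      rw [h, Q_smul, hu, mul_zero]) 0 1
    refine ⟨_, (mem_omegaGL_iff Q _).mpr ⟨_, siegIso_mem_Omega Q hQ h5 u w hu hw1, rfl⟩, ?_⟩
    rintro ⟨hs, -⟩
    have h1 := (hs v).mp (Submodule.mem_span_singleton_self v)
    change gact Q (siegIso Q u w hu hw1) v ∈ _ at h1
    rw [gact_siegIso, polar_comm (⇑Q) w v, hw2, polar_comm (⇑Q) u v, huv] at h1
    simp only [mul_zero, sub_zero, one_smul, neg_zero, zero_smul, add_zero] at h1
    obtain ⟨c, hc⟩ := Submodule.mem_span_singleton.mp h1
    have : u = (c - 1) • v := by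
      rw [sub_smul, one_smul, hc]
      abel
    exact hnotmul u hu hu0 (c - 1) this
  · intro M hHM hMΩ
    by_cases hMH : M ≤ Cfsg.Geo.subspaceStabilizer (Submodule.span F {v}) ⊓ Cfsg.Geo.omegaGL ⇑Q
    · left
      exact le_antisymm hMH hHM
    · right
      apply le_antisymm hMΩ
      obtain ⟨g, hgM, hgH⟩ := SetLike.not_le_iff_exists.mp hMH
      obtain ⟨γ, hγΩ, rfl⟩ := (mem_omegaGL_iff Q g).mp (hMΩ hgM)
      have hγv : gact Q γ v ∉ Submodule.span F {v} := by
        intro hcon
        apply hgH
        refine ⟨mem_subspaceStabilizer_of_forall' _ _ ?_, hMΩ hgM⟩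
        intro x hx
        obtain ⟨c, rfl⟩ := Submodule.mem_span_singleton.mp hx
        change gact Q γ (c • v) ∈ _
        rw [gact_smul]
        exact Submodule.smul_mem _ _ hcon
      obtain ⟨v', hv'⟩ : ∃ v', v' = gact Q γ v := ⟨_, rfl⟩
      rw [← hv'] at hγv
      have hv'0 : v' ≠ 0 := by
        intro h
        apply hγv
        rw [h]
        exact Submodule.zero_mem _
      have hind : ∀ c : F, v ≠ c • v' := by
        intro c h
        have hc : c ≠ 0 := by
          rintro rfl
          rw [zero_smul] at h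
          exact hv0 h
        apply hγv
        have : v' = c⁻¹ • v := by rw [h, smul_smul, inv_mul_cancel₀ hc, one_smul]
        rw [this]
        exact Submodule.smul_mem _ _ (Submodule.mem_span_singleton_self v)
      obtain ⟨q, hq1, hq2⟩ := exists_polar_values Q hQ v' v hv'0 hind 0 1
      obtain ⟨p, -, hp0, hp, hp1, hp2, hp3⟩ := exists_singular_cut3 Q ⊤ v v' q (by
        rw [finrank_top, hfin]; omega)
      obtain ⟨y₀, hy1, hy2⟩ := exists_polar_values Q hQ v p hv0 (hnotmul p hp hp0) 0 1
      have hfinP : Fintype.card ι ≤ finrank F ↥(LinearMap.ker (polarBilin Q v)) + 1 := by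
        have := finrank_le_inf_ker_add_one (⊤ : Submodule F (ι → F)) (polarBilin Q v)
        rw [finrank_top, hfin, top_inf_eq] at this
        exact this
      obtain ⟨x, hxP, hx0, hx, hx1, hx2, hx3⟩ :=
        exists_singular_cut3 Q (LinearMap.ker (polarBilin Q v)) p q y₀ (by omega)
      have hxv : polar (⇑Q) x v = 0 := by
        rw [LinearMap.mem_ker, polarBilin_apply_apply] at hxP
        rw [polar_comm]
        exact hxP
      -- `ρ_{p,q} ∈ M`
      have hpq : SIn Q M p q := by
        have h1 : SIn Q M (gact Q γ⁻¹ p) (gact Q γ⁻¹ q) := by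
          apply hSH M hHM
          · rw [Q_gact, hp]
          · rw [polar_gact]
            rw [polar_comm]
            exact hp3
          · rw [← polar_gact Q γ, gact_gact_inv, ← hv', polar_comm]
            exact hp2
          · rw [← polar_gact Q γ, gact_gact_inv, ← hv', polar_comm]
            exact hq1
        have h2 := h1.conj γ hgM
        rwa [gact_gact_inv, gact_gact_inv] at h2
      have hpq' : polar (⇑Q) p q = 0 := hpq.2.1
      have hρM := hpq.mem hp hpq'
      have h1 : SIn Q M x y₀ := hSH M hHM x y₀ hx (by rw [polar_comm]; exact hx3) hxv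
        (by rw [polar_comm]; exact hy1)
      have h2 := h1.conj (siegIso Q p q hp hpq') hρM
      have hfix : gact Q (siegIso Q p q hp hpq') x = x := by
        rw [gact_siegIso, hx1, hx2]
        simp
      rw [hfix] at h2
      obtain ⟨d, hd⟩ : ∃ d, d = gact Q (siegIso Q p q hp hpq') y₀ := ⟨_, rfl⟩
      rw [← hd] at h2
      have hvd : polar (⇑Q) v d ≠ 0 := by
        rw [hd, gact_siegIso, polar_add_right, polar_add_right, polar_smul_right, polar_smul_right,
          hy1, hp1, hq2, hy2]
        simp
      have hX : OrX Q M x := by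
        apply OrX_of_SIn hx
        intro w hxw
        obtain ⟨c, hc⟩ : ∃ c, c = polar (⇑Q) v w / polar (⇑Q) v d := ⟨_, rfl⟩
        have h3 : SIn Q M x (w - c • d) := by
          apply hSH M hHM x _ hx
          · rw [polar_sub_right, polar_smul_right, hxw, h2.2.1, smul_zero, sub_zero]
          · exact hxv
          · rw [polar_comm, polar_sub_right, polar_smul_right, hc, smul_eq_mul,
              div_mul_cancel₀ _ hvd, sub_self]
        have h4 := h3.add (h2.smul c)
        rwa [sub_add_cancel] at h4
      -- a second centre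
      obtain ⟨y, hy1', hy2'⟩ := exists_polar_values Q hQ v x hv0 (hnotmul x hx hx0) 0 1
      obtain ⟨e, he⟩ : ∃ e, e = y - Q y • x := ⟨_, rfl⟩
      have hQe : Q e = 0 := by
        rw [he, Q_sub, Q_smul, hx, polar_smul_right, polar_comm (⇑Q) y x, hy2', smul_eq_mul]
        ring
      have hev : polar (⇑Q) e v = 0 := by
        rw [he, polar_sub_left, polar_smul_left, hxv, polar_comm (⇑Q) y v, hy1']
        simp
      have hex : polar (⇑Q) e x = 1 := by
        rw [he, polar_sub_left, polar_smul_left, polar_self, hx, polar_comm (⇑Q) y x, hy2']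
        simp
      have hρ2 := (hSH M hHM e v hQe hev hev hvv).mem hQe hev
      have hX2 := hX.map (siegIso Q e v hQe hev) hρ2
      have hne : polar (⇑Q) x (gact Q (siegIso Q e v hQe hev) x) ≠ 0 := by
        rw [polar_gact_siegIso_self e v x hQe hev hx, hex]
        simpa using hv
      apply omegaGL_le_of_forall hQ h5
      intro z hz
      exact OrX.all hQ hX hX2 hne z hz

end

end Cfsg.Agent.Lib.Helper13.ONP
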