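import Mathlib
import Cfsg.Agent.Lib.Helper13.OrthTrans
import Cfsg.Agent.Lib.Helper13.OrthPlusFam

/-!
# Maximal totally singular subspaces, all characteristics

A reflection moves a maximal totally singular subspace to an adjacent one; the commutator
subgroup of the orthogonal group is transitive on each family of maximal totally singular
subspaces; for odd `q` the family character of `O⁺_{2m}(q)` is the determinant.
-/

set_option autoImplicit false

namespace Cfsg.Agent.Lib.Helper13

open Module QuadraticMap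

section adjacent
variable {F V : Type*} [Field F] [AddCommGroup V] [Module F V] [FiniteDimensional F V]
  (Q : QuadraticForm F V)

open Cfsg.Agent.Lib.Helper6 in
/-- a reflection moves a maximal totally singular subspace to an adjacent one -/
theorem finrank_inf_map_reflA (hQ : (polarBilin Q).Nondegenerate) (m : ℕ)
    (hV : finrank F V = 2 * m) (W : Submodule F V) (hW : TS Q W) (hWm : finrank F W = m)
    (a : V) (ha : Q a ≠ 0) :
    finrank F ↥(W ⊓ W.map (reflA Q a).1.toLinearMap) + 1 = m := by
  let φ : V →ₗ[F] F := polarBilin Q a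
  have hφ : ∀ x, φ x = polar Q a x := fun x => rfl
  have haW : a ∉ W := fun h => ha (hW a h)
  have heq : W ⊓ W.map (reflA Q a).1.toLinearMap = W ⊓ LinearMap.ker φ := by
    ext x
    simp only [Submodule.mem_inf, Submodule.mem_map, LinearMap.mem_ker]
    constructor
    · rintro ⟨hx, w, hw, hwx⟩
      refine ⟨hx, ?_⟩
      have hwx' : w - ((Q a)⁻¹ * polar Q a w) • a = x := by
        rw [← reflA_apply Q a w]; exact hwx
      have h0 : polar Q a w = 0 := by
        by_contra hne
        apply haW
        have hc : (Q a)⁻¹ * polar Q a w ≠ 0 := mul_ne_zero (inv_ne_zero ha) hne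
        have : a = ((Q a)⁻¹ * polar Q a w)⁻¹ • (w - x) := by
          rw [← hwx', sub_sub_cancel, smul_smul, inv_mul_cancel₀ hc, one_smul]
        rw [this]
        exact W.smul_mem _ (W.sub_mem hw hx)
      rw [h0, mul_zero, zero_smul, sub_zero] at hwx'
      rw [hφ, ← hwx']
      exact h0
    · rintro ⟨hx, hx0⟩
      refine ⟨hx, x, hx, ?_⟩
      change (reflA Q a).1 x = x
      rw [reflA_apply Q a x, ← hφ, hx0, mul_zero, zero_smul, sub_zero]
  rw [heq]
  have hex : ∃ w ∈ W, φ w ≠ 0 := by
    by_contra hne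
    push Not at hne
    apply haW
    have horth := TS.orth_eq hQ hV hW hWm
    rw [← horth, LinearMap.BilinForm.mem_orthogonal_iff]
    intro w hw
    change polar Q w a = 0
    rw [polar_comm]
    exact hne w hw
  obtain ⟨w0, hw0, hw0φ⟩ := hex
  have := finrank_inf_ker_add_one W φ w0 hw0 hw0φ
  omega

end adjacent

section sign
variable {F V : Type*} [Field F] [Finite F] [AddCommGroup V] [Module F V]
  [FiniteDimensional F V] (Q : QuadraticForm F V)

omit [Finite F] [FiniteDimensional F V] in
/-- a subgroup hitting the classes of all products of two reflections supplements the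
commutator subgroup inside the kernel of a sign character -/
theorem exists_mul_inv_mem_commutator_of_sign (hgen : reflGenA Q = ⊤)
    (S : Subgroup (isoGroup Q)) (ε : isoGroup Q →* ℤˣ)
    (hε : ∀ a, Q a ≠ 0 → ε (reflA Q a) = -1) (a₀ : V)
    (hS : ∀ a, Q a ≠ 0 → ∃ s ∈ S, Abelianization.of s =
      Abelianization.of (reflA Q a) * Abelianization.of (reflA Q a₀))
    (x : isoGroup Q) (hx : ε x = 1) : ∃ s ∈ S, x * s⁻¹ ∈ commutator (isoGroup Q) := by
  set ρ₀ := Abelianization.of (reflA Q a₀) with hρ₀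
  have hρ : ρ₀ * ρ₀ = 1 := ab_reflA_mul_self Q a₀
  have hρinv : ρ₀⁻¹ = ρ₀ := inv_eq_of_mul_eq_one_left hρ
  have key : ∀ y : isoGroup Q, ∃ s ∈ S,
      (Abelianization.of y = Abelianization.of s ∧ ε y = 1) ∨
      (Abelianization.of y = Abelianization.of s * ρ₀ ∧ ε y = -1) := by
    intro y
    have hy : y ∈ reflGenA Q := by rw [hgen]; exact Subgroup.mem_top _
    unfold reflGenA at hy
    induction hy using Subgroup.closure_induction with
    | mem r hr =>
      obtain ⟨a, rfl⟩ := hr
      by_cases ha : Q a = 0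
      · exact ⟨1, S.one_mem, Or.inl ⟨by rw [reflA_of_eq_zero Q a ha], by
          rw [reflA_of_eq_zero Q a ha, map_one]⟩⟩
      · obtain ⟨s, hs, hss⟩ := hS a ha
        exact ⟨s, hs, Or.inr ⟨by rw [hss, mul_assoc, hρ, mul_one], hε a ha⟩⟩
    | one => exact ⟨1, S.one_mem, Or.inl ⟨rfl, map_one _⟩⟩
    | mul y z _ _ ihy ihz =>
      obtain ⟨s, hs, h | h⟩ := ihy <;> obtain ⟨s', hs', h' | h'⟩ := ihz
      · exact ⟨s * s', S.mul_mem hs hs', Or.inl ⟨by rw [map_mul, map_mul, h.1, h'.1], by
          rw [map_mul, h.2, h'.2, one_mul]⟩⟩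
      · exact ⟨s * s', S.mul_mem hs hs', Or.inr ⟨by rw [map_mul, map_mul, h.1, h'.1, mul_assoc],
          by rw [map_mul, h.2, h'.2, one_mul]⟩⟩
      · exact ⟨s * s', S.mul_mem hs hs', Or.inr ⟨by
          rw [map_mul, map_mul, h.1, h'.1, mul_right_comm], by rw [map_mul, h.2, h'.2, mul_one]⟩⟩
      · exact ⟨s * s', S.mul_mem hs hs', Or.inl ⟨by
          rw [map_mul, map_mul, h.1, h'.1, mul_mul_mul_comm, hρ, mul_one], by
          rw [map_mul, h.2, h'.2]; rfl⟩⟩
    | inv y _ ihy =>
      obtain ⟨s, hs, h | h⟩ := ihy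
      · exact ⟨s⁻¹, S.inv_mem hs, Or.inl ⟨by rw [map_inv, map_inv, h.1], by
          rw [map_inv, h.2, inv_one]⟩⟩
      · exact ⟨s⁻¹, S.inv_mem hs, Or.inr ⟨by rw [map_inv, map_inv, h.1, mul_inv, hρinv], by
          rw [map_inv, h.2]; rfl⟩⟩
  obtain ⟨s, hs, h | h⟩ := key x
  · exact ⟨s, hs, by
      rw [← Abelianization.ker_of, MonoidHom.mem_ker, map_mul, map_inv, h.1, mul_inv_cancel]⟩
  · rw [hx] at h
    exact absurd h.2 (by decide)

/-- **Transitivity on a family of maximal totally singular subspaces** (abstract form: the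
family is encoded by a sign character `ε` which is `-1` on reflections and `1` on every isometry
carrying `U` to `W`) -/
theorem exists_commutator_map_of_sign (hQ : (polarBilin Q).Nondegenerate)
    (hgen : reflGenA Q = ⊤) (ε : isoGroup Q →* ℤˣ)
    (hε : ∀ a, Q a ≠ 0 → ε (reflA Q a) = -1) (U W : Submodule F V)
    (hpos : 0 < finrank F U) (hUW : finrank F U = finrank F W) (hU0 : ∀ u ∈ U, Q u = 0)
    (hW0 : ∀ w ∈ W, Q w = 0)
    (hεUW : ∀ g : isoGroup Q, U.map g.1.toLinearMap = W → ε g = 1) :
    ∃ g : isoGroup Q, g ∈ commutator (isoGroup Q) ∧ U.map g.1.toLinearMap = W := by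
  let φ : U ≃ₗ[F] W := LinearEquiv.ofFinrankEq U W hUW
  obtain ⟨g₀, hg₀1, hg₀2⟩ := Cfsg.Agent.S0750.result Q hQ U W φ (fun x => by
    rw [hU0 _ x.2, hW0 _ (φ x).2])
  let g₀' : isoGroup Q := ⟨g₀, hg₀1⟩
  have hmap : U.map g₀'.1.toLinearMap = W := by
    apply Submodule.eq_of_le_of_finrank_eq
    · rintro _ ⟨u, hu, rfl⟩
      change g₀ u ∈ W
      rw [hg₀2 ⟨u, hu⟩]
      exact (φ ⟨u, hu⟩).2
    · rw [LinearEquiv.finrank_map_eq g₀ U, hUW]
  obtain ⟨⟨e, heU⟩, he⟩ := Module.finrank_pos_iff_exists_ne_zero.mp hpos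
  have he0 : e ≠ 0 := fun h => he (Subtype.ext h)
  obtain ⟨f, hf, hef⟩ := exists_hyp_partner Q hQ e (hU0 e heU) he0
  have hnorm : ∀ d : F, Q (e + d • f) = d := by
    intro d
    rw [QuadraticMap.map_add Q, QuadraticMap.map_smul, polar_smul_right, hU0 e heU, hf, hef]
    simp
  obtain ⟨s, hs, hgs⟩ := exists_mul_inv_mem_commutator_of_sign Q hgen (stabA Q U) ε hε
    (e + (1 : F) • f) (by
    intro a ha
    refine ⟨reflA Q (e + Q a • f) * reflA Q (e + (1 : F) • f),
      pair_mem_stabA Q U hU0 e f heU hf hef 1 (Q a) one_ne_zero ha, ?_⟩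
    have h2 : Abelianization.of (reflA Q (e + Q a • f)) = Abelianization.of (reflA Q a) :=
      ab_reflA_eq_of_eq Q hQ _ _ (by rw [hnorm]; exact ha) (by rw [hnorm])
    rw [map_mul, h2]) g₀' (hεUW g₀' hmap)
  refine ⟨g₀' * s⁻¹, hgs, ?_⟩
  rw [map_mul_eq, map_eq_of_mem_stabA Q U s⁻¹ ((stabA Q U).inv_mem hs)]
  exact hmap

end sign

section matrefl
universe u
variable {F : Type u} [Field F] {ι : Type} [Fintype ι] [DecidableEq ι]

open Cfsg.Agent.Lib.Helper6 in
/-- the matrix of a reflection, for a form given as a function -/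
theorem isoEquiv_symm_reflA' (Qf : (ι → F) → F) (Q : QuadraticForm F (ι → F))
    (hfun : ∀ v, Q v = Qf v) (a : ι → F) :
    ((((isoEquiv Qf Q hfun).symm (reflA Q a) : Cfsg.isometryGroup F Qf) :
      Matrix.GeneralLinearGroup ι F) : Matrix ι ι F) = Cfsg.reflectionMatrix ⇑Q a := by
  apply matrix_ext_mulVec
  intro x
  rw [isoEquiv_symm_mulVec, reflA_apply, reflectionMatrix_mulVec]

open Cfsg.Agent.Lib.Helper6 in
/-- the determinant of a reflection matrix -/
theorem det_reflectionMatrix (Q : QuadraticForm F (ι → F)) (v : ι → F) (hv : Q v ≠ 0) :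
    (Cfsg.reflectionMatrix ⇑Q v).det = -1 := by
  unfold Cfsg.reflectionMatrix
  rw [sub_eq_add_neg, ← neg_smul, det_one_add_smul_vecMulVec, polarVec_dot,
    QuadraticMap.polar_self, nsmul_eq_mul]
  push_cast
  field_simp
  ring

end matrefl

section plus
universe u
variable {F : Type u} [Field F] [Fintype F] (m : ℕ)

open Cfsg.Agent.Lib.Helper6 Cfsg.Agent.Lib.Helper15 Matrix

local notation "GP" => Subtype (fun x => x ∈ Cfsg.isometryGroup F (Cfsg.quadFormPlus m F))
local notation "VP" => (Fin m ⊕ Fin m → F)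
local notation "MP" => Matrix (Fin m ⊕ Fin m) (Fin m ⊕ Fin m) F

omit [Fintype F] in
/-- the family exponent of a reflection, all characteristics -/
theorem famExp_reflA (a : VP) (ha : plusQF m F a ≠ 0) :
    famExp ((plusEquiv F m).symm (reflA (plusQF m F) a)) = 1 := by
  have hV := finrank_plus_space (F := F) (m := m)
  have h1 := finrank_inf_map_reflA (plusQF m F) nondegenerate_plusQF m hV (plusE m F) ts_plusE
    finrank_plusE a ha
  unfold famExp
  rw [glMap_eq, MulEquiv.apply_symm_apply]
  omega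

/-- the family character on the abstract isometry group -/
noncomputable def famSign : isoGroup (plusQF m F) →* ℤˣ :=
  (famHom m F).comp (plusEquiv F m).symm.toMonoidHom

omit [Fintype F] in
theorem famSign_apply (x : isoGroup (plusQF m F)) :
    famSign m x = famHom m F ((plusEquiv F m).symm x) := rfl

omit [Fintype F] in
theorem famSign_reflA (a : VP) (ha : plusQF m F a ≠ 0) :
    famSign m (reflA (plusQF m F) a) = -1 := by
  rw [famSign_apply, famHom_apply, famExp_reflA m a ha, pow_one]

theorem reflGenA_plus (h : Fintype.card F ≠ 2 ∨ m ≠ 2) : reflGenA (plusQF m F) = ⊤ := by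
  apply reflGenA_eq_top (plusQF m F) nondegenerate_plusQF
  rcases h with h | h
  · left; exact h
  · right
    rw [finrank_plus_space]
    omega

/-- **`Ω⁺` is transitive on each family of maximal totally singular subspaces** -/
theorem plus_exists_Omega_map (hm : 1 ≤ m) (h : Fintype.card F ≠ 2 ∨ m ≠ 2)
    (U W : Submodule F VP) (hU : finrank F U = m) (hW : finrank F W = m)
    (hU0 : ∀ u ∈ U, plusQF m F u = 0) (hW0 : ∀ w ∈ W, plusQF m F w = 0)
    (he : Even (m - finrank F ↥(U ⊓ W))) :
    ∃ g : GP, g ∈ Cfsg.Omega F (Cfsg.quadFormPlus m F) ∧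
      U.map (Matrix.mulVecLin ((g : GL (Fin m ⊕ Fin m) F) : MP)) = W := by
  let e := plusEquiv F m
  obtain ⟨g', hg', hmap⟩ := exists_commutator_map_of_sign (plusQF m F) nondegenerate_plusQF
    (reflGenA_plus m h) (famSign m) (famSign_reflA m) U W (by omega) (hU.trans hW.symm) hU0 hW0
    (by
      intro g hg
      rw [famSign_apply, famHom_apply]
      have hp := parity_dist m (e.symm g) U hU0 hU
      rw [glMap_eq, MulEquiv.apply_symm_apply, hg] at hp
      have : Even (famExp (e.symm g)) := by
        rw [Nat.even_add] at hp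
        exact hp.mp he
      exact this.neg_one_pow)
  refine ⟨e.symm g', (mem_commutator_iff_of_equiv e _).mpr
    (by rw [e.apply_symm_apply]; exact hg'), ?_⟩
  have hlin : Matrix.mulVecLin ((((e.symm g' : GP) : GL (Fin m ⊕ Fin m) F) : MP)) =
      g'.1.toLinearMap := by
    apply LinearMap.ext
    intro x
    rw [Matrix.mulVecLin_apply]
    exact isoEquiv_symm_mulVec _ _ _ g' x
  rw [hlin]
  exact hmap

/-- for odd `q` the family character is the determinant -/
theorem even_famExp_iff_det (h2 : (2 : F) ≠ 0) (g : GP) :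
    Even (famExp g) ↔ ((g : GL (Fin m ⊕ Fin m) F) : MP).det = 1 := by
  have hcard : Fintype.card F ≠ 2 := by
    intro hc
    have := Nat.cast_card_eq_zero F
    rw [hc] at this
    exact h2 (by exact_mod_cast this)
  have hneg : (-1 : F) ≠ 1 := by
    intro h
    apply h2
    have : (1 : F) + 1 = 0 := by
      nth_rewrite 1 [← h]
      exact neg_add_cancel 1
    rw [← this]
    norm_num
  let e := plusEquiv F m
  let ψ : ℤˣ →* Fˣ := Units.map (Int.castRingHom F).toMonoidHom
  let D : GP →* Fˣ := Matrix.GeneralLinearGroup.det.comp (Subgroup.subtype _)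
  have hgen := reflGenA_plus (F := F) m (Or.inl hcard)
  unfold reflGenA at hgen
  have heq : ψ.comp (famSign m) = D.comp e.symm.toMonoidHom := by
    apply MonoidHom.eq_of_eqOn_dense hgen
    rintro _ ⟨a, rfl⟩
    by_cases ha : plusQF m F a = 0
    · rw [reflA_of_eq_zero _ a ha, map_one, map_one]
    · change ψ (famSign m (reflA (plusQF m F) a)) = D (e.symm (reflA (plusQF m F) a))
      rw [famSign_reflA m a ha]
      apply Units.ext
      change ((ψ (-1) : Fˣ) : F) =
        ((((e.symm (reflA (plusQF m F) a) : GP) : GL (Fin m ⊕ Fin m) F)) : MP).det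
      have hmat : ((((e.symm (reflA (plusQF m F) a) : GP) : GL (Fin m ⊕ Fin m) F)) : MP) =
          Cfsg.reflectionMatrix ⇑(plusQF m F) a := isoEquiv_symm_reflA' _ _ _ a
      rw [hmat, det_reflectionMatrix _ a ha]
      simp [ψ]
  have hg : ψ (famHom m F g) = D g := by
    have := DFunLike.congr_fun heq (e g)
    change ψ (famSign m (e g)) = D (e.symm (e g)) at this
    rw [famSign_apply, e.symm_apply_apply] at this
    exact this
  have hD : ((D g : Fˣ) : F) = ((g : GL (Fin m ⊕ Fin m) F) : MP).det := rfl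
  rw [← hD, ← hg, ← neg_one_pow_eq_one_iff_even (R := ℤˣ) (by decide), ← famHom_apply]
  rcases Int.units_eq_one_or (famHom m F g) with h | h
  · rw [h]
    simp [ψ]
  · rw [h]
    constructor
    · intro h'
      exact absurd h' (by decide)
    · intro h'
      exfalso
      have h3 : ((ψ (-1) : Fˣ) : F) = -1 := by simp [ψ]
      rw [h3] at h'
      exact hneg h'

end plus

end Cfsg.Agent.Lib.Helper13
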