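import Mathlib
import Cfsg.Agent.Lib.Helper13.OrthThree2
import Cfsg.Agent.Lib.Helper6.OmegaSimple
import Cfsg.Agent.Lib.Helper27.TTPrimitive

/-!
# Structure of the group generated by the reflections of one norm over the field with three
elements

The commutator subgroup is `Ω`, quasisimple of index two; the generalised Fitting subgroup is the
product of the centre and `Ω`; the action on the class of reflections is primitive.
-/

set_option autoImplicit false
set_option linter.unusedVariables false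
set_option linter.unusedSectionVars false

namespace Cfsg.Agent.Lib.Helper13

open Module QuadraticMap
open scoped commutatorElement

section scalar
variable {F V : Type*} [Field F] [Fintype F] [AddCommGroup V] [Module F V]
  [FiniteDimensional F V] (Q : QuadraticForm F V)

/-- a vector of prescribed norm (up to squares) orthogonal to a nonsingular vector -/
theorem exists_orth_norm_one (hQ : (polarBilin Q).Nondegenerate) (h2 : (2 : F) ≠ 0)
    (hdim : 3 ≤ finrank F V) (a : V) (ha : Q a ≠ 0) (c' : F) (hc' : c' ≠ 0) :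
    ∃ w : V, ∃ t : F, t ≠ 0 ∧ Q w = t * t * c' ∧ polar Q a w = 0 := by
  let φ : V →ₗ[F] F := polarBilin Q a
  have hφ : ∀ x, φ x = polar Q a x := fun x => rfl
  have haa : polar Q a a ≠ 0 := by
    rw [polar_self, nsmul_eq_mul]
    push_cast
    exact mul_ne_zero h2 ha
  have hK : ∀ x ∈ LinearMap.ker φ, (∀ y ∈ LinearMap.ker φ, polar Q x y = 0) → x = 0 := by
    intro x hx hxy
    apply hQ.1 x
    intro z
    have hax : polar Q a x = 0 := LinearMap.mem_ker.mp hx
    have hxa : polar Q x a = 0 := by rw [polar_comm]; exact hax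
    have hz' : z - (polar Q a z * (polar Q a a)⁻¹) • a ∈ LinearMap.ker φ := by
      rw [LinearMap.mem_ker, hφ, polar_sub_right, polar_smul_right, smul_eq_mul, mul_assoc,
        inv_mul_cancel₀ haa, mul_one, sub_self]
    have h := hxy _ hz'
    rw [polar_sub_right, polar_smul_right, hxa, smul_zero, sub_zero] at h
    exact h
  have hfr : 2 ≤ finrank F (LinearMap.ker φ) := by
    have h1 := LinearMap.finrank_range_add_finrank_ker φ
    have h3 : finrank F (LinearMap.range φ) ≤ 1 := by
      have := Submodule.finrank_le (LinearMap.range φ)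
      rwa [finrank_self] at this
    omega
  obtain ⟨w, hwK, t, ht, hwt⟩ := exists_mem_norm_sq Q (LinearMap.ker φ) hK hfr c' hc'
  exact ⟨w, t, ht, hwt, LinearMap.mem_ker.mp hwK⟩

/-- a vector orthogonal to all vectors of norm `c` vanishes -/
theorem perp_norm_eq_zero (hQ : (polarBilin Q).Nondegenerate)
    (hF : ∀ x : F, x ≠ 0 → x * x = 1) (h2 : (2 : F) ≠ 0) (hdim : 3 ≤ finrank F V)
    (c : F) (hc : c ≠ 0) (y : V) (hy : ∀ a, Q a = c → polar Q y a = 0) : y = 0 := by
  by_contra hy0
  have h3 := three_eq_zero_of hF h2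
  have h2c : (2 : F) * c ≠ 0 := mul_ne_zero h2 hc
  by_cases hQy : Q y = 0
  · obtain ⟨z, hz⟩ : ∃ z, polar Q y z ≠ 0 := by
      by_contra hcon
      push Not at hcon
      exact hy0 (hQ.1 y hcon)
    have hzy : polar Q z y ≠ 0 := by rw [polar_comm]; exact hz
    have h := hy (z + ((c - Q z) * (polar Q z y)⁻¹) • y) (by
      rw [QuadraticMap.map_add Q, QuadraticMap.map_smul, hQy, smul_zero, add_zero,
        polar_smul_right, smul_eq_mul, mul_assoc, inv_mul_cancel₀ hzy, mul_one]
      ring)
    rw [polar_add_right, polar_smul_right, polar_self, hQy, smul_zero, smul_zero, add_zero] at h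
    exact hz h
  · have hQy2 : Q y * Q y = 1 := hF _ hQy
    have hc2 : c * c = 1 := hF c hc
    have hcases : (Q y - c) * (Q y + c) = 0 := by linear_combination hQy2 - hc2
    rcases mul_eq_zero.mp hcases with h | h
    · have hQyc : Q y = c := sub_eq_zero.mp h
      have h' := hy y hQyc
      rw [polar_self, hQyc, nsmul_eq_mul, Nat.cast_ofNat] at h'
      exact h2c h'
    · have hQyc : Q y = -c := eq_neg_of_add_eq_zero_left h
      obtain ⟨u, t, ht, hut, hyu⟩ := exists_orth_norm_one Q hQ h2 hdim y hQy (-c)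
        (neg_ne_zero.mpr hc)
      rw [hF t ht, one_mul] at hut
      have h' := hy (y + u) (by
        rw [QuadraticMap.map_add Q, hQyc, hut, hyu]
        linear_combination (-c) * h3)
      rw [polar_add_right, polar_self, hQyc, hyu, add_zero, nsmul_eq_mul, Nat.cast_ofNat] at h'
      apply h2c
      linear_combination -h'

/-- an isometry commuting with the products of two orthogonal reflections of norm `c` is a
scalar `±1` -/
theorem scalar_of_commute_refl_pairs (hQ : (polarBilin Q).Nondegenerate)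
    (hF : ∀ x : F, x ≠ 0 → x * x = 1) (h2 : (2 : F) ≠ 0) (hdim : 4 ≤ finrank F V)
    (c : F) (hc : c ≠ 0) (g : isoGroup Q)
    (hg : ∀ a b, Q a = c → Q b = c → polar Q a b = 0 →
      g * (reflA Q a * reflA Q b) = reflA Q a * reflA Q b * g) :
    ∃ l : F, l * l = 1 ∧ ∀ x, g.1 x = l • x := by
  have h2c : (2 : F) * c ≠ 0 := mul_ne_zero h2 hc
  have step1 : ∀ a b, Q a = c → Q b = c → polar Q a b = 0 →
      ∃ α β : F, g.1 a = α • a + β • b := by
    intro a b ha hb hab
    have hba : polar Q b a = 0 := by rw [polar_comm]; exact hab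
    have hsa : (reflA Q a * reflA Q b).1 a = -a := by
      change (reflA Q a).1 ((reflA Q b).1 a) = -a
      rw [reflA_apply_of_orth Q b a hba, reflA_apply_self Q a (ha ▸ hc)]
    have hcomm : (reflA Q a * reflA Q b).1 (g.1 a) = -(g.1 a) := by
      have h1 : (g * (reflA Q a * reflA Q b)).1 a = (reflA Q a * reflA Q b * g).1 a := by
        rw [hg a b ha hb hab]
      change g.1 ((reflA Q a * reflA Q b).1 a) = (reflA Q a * reflA Q b).1 (g.1 a) at h1
      rw [← h1, hsa, map_neg]
    have hexp : (reflA Q a * reflA Q b).1 (g.1 a) =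
        g.1 a - (c⁻¹ * polar Q b (g.1 a)) • b - (c⁻¹ * polar Q a (g.1 a)) • a := by
      change (reflA Q a).1 ((reflA Q b).1 (g.1 a)) = _
      rw [reflA_apply Q b, reflA_apply Q a, hb, ha, polar_sub_right, polar_smul_right, hab,
        smul_zero, sub_zero]
    rw [hexp] at hcomm
    have h2y : g.1 a + g.1 a =
        (c⁻¹ * polar Q a (g.1 a)) • a + (c⁻¹ * polar Q b (g.1 a)) • b := by
      have h0 : (g.1 a - (c⁻¹ * polar Q b (g.1 a)) • b - (c⁻¹ * polar Q a (g.1 a)) • a) +
          g.1 a = 0 := by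
        rw [hcomm]
        exact neg_add_cancel _
      rw [← sub_eq_zero, ← h0]
      abel
    have h : g.1 a = ((2 : F)⁻¹ * (c⁻¹ * polar Q a (g.1 a))) • a +
        ((2 : F)⁻¹ * (c⁻¹ * polar Q b (g.1 a))) • b := by
      calc g.1 a = (2 : F)⁻¹ • (g.1 a + g.1 a) := by
            rw [← two_smul F (g.1 a), smul_smul, inv_mul_cancel₀ h2, one_smul]
        _ = _ := by rw [h2y, smul_add, smul_smul, smul_smul]
    exact ⟨_, _, h⟩
  have step2 : ∀ a, Q a = c → ∃ α : F, g.1 a = α • a := by
    intro a ha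
    obtain ⟨b, t, ht, hbt, hab⟩ := exists_orth_norm_one Q hQ h2 (by omega) a (ha ▸ hc) c hc
    rw [hF t ht, one_mul] at hbt
    obtain ⟨b', t', ht', hbt', hab', hbb'⟩ := exists_orth_norm_two Q hQ h2 hdim a b (ha ▸ hc)
      (hbt ▸ hc) hab c hc
    rw [hF t' ht', one_mul] at hbt'
    have hba : polar Q b a = 0 := by rw [polar_comm]; exact hab
    obtain ⟨α, β, h1⟩ := step1 a b ha hbt hab
    obtain ⟨α', β', h2'⟩ := step1 a b' ha hbt' hab'
    have e1 : polar Q b (g.1 a) = β * (2 * c) := by
      rw [h1, polar_add_right, polar_smul_right, polar_smul_right, hba, polar_self, hbt,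
        smul_zero, zero_add, smul_eq_mul, nsmul_eq_mul, Nat.cast_ofNat]
    have e2 : polar Q b (g.1 a) = 0 := by
      rw [h2', polar_add_right, polar_smul_right, polar_smul_right, hba, hbb', smul_zero,
        smul_zero, add_zero]
    have hβ : β = 0 := by
      rw [e1] at e2
      rcases mul_eq_zero.mp e2 with h | h
      · exact h
      · exact absurd h h2c
    exact ⟨α, by rw [h1, hβ, zero_smul, add_zero]⟩
  choose! ev hev using step2
  have hev2 : ∀ a, Q a = c → ev a * ev a = 1 := by
    intro a ha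
    have h1 : Q (g.1 a) = Q a := isoGroup_map Q g a
    rw [hev a ha, QuadraticMap.map_smul, ha, smul_eq_mul] at h1
    have h3 : (ev a * ev a - 1) * c = 0 := by linear_combination h1
    rcases mul_eq_zero.mp h3 with h | h
    · exact sub_eq_zero.mp h
    · exact absurd h hc
  have hevne : ∀ a b, Q a = c → Q b = c → polar Q a b ≠ 0 → ev a = ev b := by
    intro a b ha hb hab
    have h1 : polar Q (g.1 a) (g.1 b) = polar Q a b := isoGroup_polar Q g a b
    rw [hev a ha, hev b hb, polar_smul_left, polar_smul_right, smul_eq_mul, smul_eq_mul] at h1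
    have h3 : (ev a * ev b - 1) * polar Q a b = 0 := by linear_combination h1
    rcases mul_eq_zero.mp h3 with h | h
    · have h4 : ev a * ev b = 1 := sub_eq_zero.mp h
      calc ev a = ev a * (ev b * ev b) := by rw [hev2 b hb, mul_one]
        _ = (ev a * ev b) * ev b := by ring
        _ = ev b := by rw [h4, one_mul]
    · exact absurd h hab
  obtain ⟨a₀, ha₀⟩ := exists_norm_eq Q hQ hF (by omega) c hc
  have hconst : ∀ a, Q a = c → ev a = ev a₀ := by
    intro a ha
    by_cases h : polar Q a a₀ = 0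
    · obtain ⟨d, hd, had, ha₀d⟩ := exists_connecting Q hQ hF h2 hdim a a₀ c hc ha ha₀ h
      rw [hevne a d ha hd had, hevne a₀ d ha₀ hd ha₀d]
    · exact hevne a a₀ ha ha₀ h
  have hl := hev2 a₀ ha₀
  have hga : ∀ a, Q a = c → g.1 a = ev a₀ • a := fun a ha => by rw [hev a ha, hconst a ha]
  refine ⟨ev a₀, hl, ?_⟩
  intro x
  rw [← sub_eq_zero]
  apply perp_norm_eq_zero Q hQ hF h2 (by omega) c hc
  intro a ha
  have h1 : g.1 (ev a₀ • a) = a := by
    rw [map_smul, hga a ha, smul_smul, hl, one_smul]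
  have h3 : polar Q (g.1 x) a = ev a₀ * polar Q x a := by
    calc polar Q (g.1 x) a = polar Q (g.1 x) (g.1 (ev a₀ • a)) := by rw [h1]
      _ = polar Q x (ev a₀ • a) := isoGroup_polar Q g x _
      _ = ev a₀ * polar Q x a := by rw [polar_smul_right, smul_eq_mul]
  rw [polar_sub_left, polar_smul_left, h3, smul_eq_mul, sub_self]

end scalar

section grp
variable {G : Type*} [Group G] [Finite G]

/-- a class of 3-transpositions in a group whose commutator subgroup is quasisimple with central
centraliser -/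
theorem tt_structure_of_commutator_quasisimple (D : Set G)
    (hD : Cfsg.IsThreeTranspositionClass D) (hD2 : ∃ a ∈ D, ∃ b ∈ D, a ≠ b)
    (hqs : Cfsg.IsQuasisimple ↥(commutator G))
    (hcent : Subgroup.centralizer ((commutator G : Subgroup G) : Set G) ≤ Subgroup.center G) :
    (commutator G).index ≤ 2 ∧
    Cfsg.generalizedFittingSubgroup G = Subgroup.center G ⊔ commutator G ∧
    Cfsg.IsPrimitiveUnderConj D := by
  have hLn : (commutator G).Normal := inferInstance
  have hcomp : Cfsg.IsComponent (commutator G) := ⟨hLn.isSubnormal, hqs⟩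
  have hL_le : commutator G ≤ Cfsg.layer G := Cfsg.Agent.Lib.Helper9.comp_le_layer hcomp
  have hlayer_le : Cfsg.layer G ≤ commutator G := by
    calc Cfsg.layer G = ⁅Cfsg.layer G, Cfsg.layer G⁆ :=
          Cfsg.Agent.Lib.Helper9.layer_perfect.symm
      _ ≤ ⁅(⊤ : Subgroup G), ⊤⁆ := Subgroup.commutator_mono le_top le_top
      _ = commutator G := rfl
  have hfit_le : Cfsg.fittingSubgroup G ≤ Subgroup.center G := by
    refine le_trans ?_ hcent
    have h := Cfsg.Agent.Lib.Helper9.commutator_layer_fitting (G := G)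
    rw [Subgroup.commutator_comm, Subgroup.commutator_eq_bot_iff_le_centralizer] at h
    exact h.trans (Subgroup.centralizer_le (SetLike.coe_subset_coe.mpr hL_le))
  have hcen_le : Subgroup.center G ≤ Cfsg.fittingSubgroup G := by
    apply Cfsg.Agent.Lib.Helper1.le_fittingSubgroup inferInstance
    apply Cfsg.Agent.Lib.Helper1.isNilpotent_of_commutator_commutator_eq_bot
    have h5 : ⁅Subgroup.center G, Subgroup.center G⁆ = ⊥ := by
      rw [Subgroup.commutator_eq_bot_iff_le_centralizer]
      exact Subgroup.center_le_centralizer _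
    rw [h5, Subgroup.commutator_bot_left]
  have hgfs : Cfsg.generalizedFittingSubgroup G = commutator G ⊔ Subgroup.center G := by
    unfold Cfsg.generalizedFittingSubgroup
    rw [le_antisymm hlayer_le hL_le, le_antisymm hfit_le hcen_le]
  have hctx : Cfsg.Agent.Lib.Helper27.TT.Ctx D (commutator G) :=
    { hD := hD
      hD2 := hD2
      h2 := (Cfsg.Agent.Lib.Helper1.pCore_le_fittingSubgroup 2).trans hfit_le
      h3 := (Cfsg.Agent.Lib.Helper1.pCore_le_fittingSubgroup 3).trans hfit_le
      hn := hLn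
      hL := hqs
      hF := hgfs }
  obtain ⟨d₀, hd₀, hDeq⟩ := hD.2.1
  have htop : commutator G ⊔ Subgroup.zpowers d₀ = ⊤ := by
    rw [eq_top_iff, ← hD.2.2, Subgroup.closure_le]
    intro x hx
    rw [hDeq] at hx
    have hx2 : IsConj d₀ x := hx
    obtain ⟨g, hg⟩ := isConj_iff.mp hx2
    have hx' : x = ⁅g, d₀⁆ * d₀ := by
      rw [commutatorElement_def, ← hg]
      group
    rw [SetLike.mem_coe, hx']
    exact Subgroup.mul_mem _
      (Subgroup.mem_sup_left (Subgroup.commutator_mem_commutator (Subgroup.mem_top g)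
        (Subgroup.mem_top d₀)))
      (Subgroup.mem_sup_right (Subgroup.mem_zpowers d₀))
  have hidx := hctx.index_le_two_of_sup_eq_top hd₀ htop
  exact ⟨hidx, by rw [hgfs, sup_comm], hctx.primitive_of_index_le_two hidx⟩

end grp

section matstruct
universe u
variable {F : Type u} [Field F] [Fintype F] {n : ℕ} (Q : QuadraticForm F (Fin n → F))

open Matrix

/-- **Structure of the group generated by the reflections of norm `c` over the field with three
elements, in dimension at least five.** -/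
theorem reflectionSubgroup_structure (hQ : (polarBilin Q).Nondegenerate)
    (hF : ∀ x : F, x ≠ 0 → x * x = 1) (h2 : (2 : F) ≠ 0) (hn : 5 ≤ n) (c : F) (hc : c ≠ 0) :
    Cfsg.IsQuasisimple (commutator ↥(Cfsg.reflectionSubgroup (⇑Q) c)) ∧
    (commutator ↥(Cfsg.reflectionSubgroup (⇑Q) c)).index ≤ 2 ∧
    Cfsg.generalizedFittingSubgroup ↥(Cfsg.reflectionSubgroup (⇑Q) c) =
      Subgroup.center ↥(Cfsg.reflectionSubgroup (⇑Q) c) ⊔
        commutator ↥(Cfsg.reflectionSubgroup (⇑Q) c) ∧
    Cfsg.IsPrimitiveUnderConj {g : ↥(Cfsg.reflectionSubgroup (⇑Q) c) |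
      (g : ↥(Cfsg.isometryGroup F (⇑Q))) ∈ Cfsg.reflectionsOfNorm (⇑Q) c} := by
  classical
  let e := isoEquiv ⇑Q Q (fun _ => rfl)
  have hdim' : 5 ≤ finrank F (Fin n → F) := by rw [Module.finrank_fin_fun]; exact hn
  have hcard5 : 5 ≤ Fintype.card (Fin n) := by rw [Fintype.card_fin]; exact hn
  have hDm := mem_reflectionsOfNorm_iff Q c
  have hD := isThreeTranspositionClass_reflectionsOfNorm Q hQ hF h2
    (by rw [Fintype.card_fin]; omega) c hc
  have hidx2 := index_reflectionSubgroup Q hQ hF h2 hn c hc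
  set Rc := Cfsg.reflectionSubgroup (⇑Q) c with hRc
  have hmemRc : ∀ v, Q v = c → e.symm (reflA Q v) ∈ Rc := by
    intro v hv
    apply Subgroup.subset_closure
    exact (hDm _).mpr ⟨v, hv, e.apply_symm_apply _⟩
  let R' : Subgroup (isoGroup Q) := Rc.map e.toMonoidHom
  have hR' : ∀ v, Q v = c → reflA Q v ∈ R' := by
    intro v hv
    exact ⟨e.symm (reflA Q v), hmemRc v hv, e.apply_symm_apply _⟩
  -- `Ω` lies in the reflection subgroup
  have hΩle : Cfsg.Omega F ⇑Q ≤ Rc := by
    change ⁅(⊤ : Subgroup ↥(Cfsg.isometryGroup F ⇑Q)), ⊤⁆ ≤ Rc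
    rw [Subgroup.commutator_le]
    intro x _ y _
    have hxy : x * y * x⁻¹ * y⁻¹ = (x * y) * (x⁻¹ * y⁻¹) := by group
    rw [commutatorElement_def, hxy, Subgroup.mul_mem_iff_of_index_two hidx2,
      Subgroup.mul_mem_iff_of_index_two hidx2, Subgroup.mul_mem_iff_of_index_two hidx2,
      inv_mem_iff, inv_mem_iff]
  have hperf := Cfsg.Agent.Lib.Helper6.Omega_perfect Q hQ hcard5
  have hΩΩ : ⁅Cfsg.Omega F ⇑Q, Cfsg.Omega F ⇑Q⁆ = Cfsg.Omega F ⇑Q :=
    Subgroup.isPerfect_iff.mp ⟨hperf⟩
  have hRR : ⁅Rc, Rc⁆ = Cfsg.Omega F ⇑Q := by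
    apply le_antisymm
    · exact Subgroup.commutator_mono le_top le_top
    · calc Cfsg.Omega F ⇑Q = ⁅Cfsg.Omega F ⇑Q, Cfsg.Omega F ⇑Q⁆ := hΩΩ.symm
        _ ≤ ⁅Rc, Rc⁆ := Subgroup.commutator_mono hΩle hΩle
  have hmap : (commutator ↥Rc).map Rc.subtype = Cfsg.Omega F ⇑Q := by
    rw [Subgroup.map_subtype_commutator, hRR]
  have hΩqs : Cfsg.IsQuasisimple ↥(Cfsg.Omega F ⇑Q) :=
    ⟨⟨hperf⟩, Cfsg.Agent.Lib.Helper6.POmega_isSimpleGroup Q hQ hcard5⟩
  have hqs : Cfsg.IsQuasisimple ↥(commutator ↥Rc) :=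
    Cfsg.Agent.Lib.Helper9.qs_of_mulEquiv
      (((commutator ↥Rc).equivMapOfInjective Rc.subtype Rc.subtype_injective).trans
        (MulEquiv.subgroupCongr hmap)).symm hΩqs
  -- the centraliser of the commutator subgroup is central
  have hcent : Subgroup.centralizer ((commutator ↥Rc : Subgroup ↥Rc) : Set ↥Rc) ≤
      Subgroup.center ↥Rc := by
    intro z hz
    obtain ⟨l, hl, hgl⟩ := scalar_of_commute_refl_pairs Q hQ hF h2 (by omega) c hc (e z.1) (by
      intro a b ha hb hab
      obtain ⟨h', ⟨h₀, hh₀, rfl⟩, hconj⟩ := exists_conj_mem Q hQ hF h2 (by omega) c hc R' hR'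
        a b ha hb
      have hconj' : e h₀ * reflA Q a * (e h₀)⁻¹ = reflA Q b := hconj
      have hmem : (⟨e.symm (reflA Q a), hmemRc a ha⟩ : ↥Rc) *
          ⟨e.symm (reflA Q b), hmemRc b hb⟩ ∈ commutator ↥Rc := by
        have hEq : (⟨e.symm (reflA Q a), hmemRc a ha⟩ : ↥Rc) *
            ⟨e.symm (reflA Q b), hmemRc b hb⟩ =
              ⁅(⟨e.symm (reflA Q a), hmemRc a ha⟩ : ↥Rc), ⟨h₀, hh₀⟩⁆ := by
          apply Subtype.ext
          apply e.injective
          rw [commutatorElement_def]
          change e (e.symm (reflA Q a) * e.symm (reflA Q b)) =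
            e (e.symm (reflA Q a) * h₀ * (e.symm (reflA Q a))⁻¹ * h₀⁻¹)
          simp only [map_mul, map_inv, MulEquiv.apply_symm_apply, reflA_inv]
          rw [← hconj']
          group
        rw [hEq]
        exact Subgroup.commutator_mem_commutator (Subgroup.mem_top _) (Subgroup.mem_top _)
      have hcomm := Subgroup.mem_centralizer_iff.mp hz _ hmem
      have h3 := congrArg (fun w : ↥Rc => e w.1) hcomm
      change e (e.symm (reflA Q a) * e.symm (reflA Q b) * z.1) =
        e (z.1 * (e.symm (reflA Q a) * e.symm (reflA Q b))) at h3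
      simp only [map_mul, MulEquiv.apply_symm_apply] at h3
      exact h3.symm)
    rw [Subgroup.mem_center_iff]
    intro y
    apply Subtype.ext
    apply e.injective
    change e (y.1 * z.1) = e (z.1 * y.1)
    rw [map_mul, map_mul]
    apply Subtype.ext
    apply LinearEquiv.ext
    intro x
    change (e y.1).1 ((e z.1).1 x) = (e z.1).1 ((e y.1).1 x)
    rw [hgl, hgl, map_smul]
  -- two different reflections
  have hD2 : ∃ a ∈ {g : ↥Rc | (g : ↥(Cfsg.isometryGroup F (⇑Q))) ∈
        Cfsg.reflectionsOfNorm (⇑Q) c},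
      ∃ b ∈ {g : ↥Rc | (g : ↥(Cfsg.isometryGroup F (⇑Q))) ∈ Cfsg.reflectionsOfNorm (⇑Q) c},
        a ≠ b := by
    obtain ⟨a₀, ha₀⟩ := exists_norm_eq Q hQ hF (by omega) c hc
    obtain ⟨b, t, ht, hbt, hab⟩ := exists_orth_norm_one Q hQ h2 (by omega) a₀ (ha₀ ▸ hc) c hc
    rw [hF t ht, one_mul] at hbt
    refine ⟨⟨e.symm (reflA Q a₀), hmemRc a₀ ha₀⟩, (hDm _).mpr ⟨a₀, ha₀, e.apply_symm_apply _⟩,
      ⟨e.symm (reflA Q b), hmemRc b hbt⟩, (hDm _).mpr ⟨b, hbt, e.apply_symm_apply _⟩, ?_⟩
    intro hEq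
    have h1 : reflA Q a₀ = reflA Q b := by
      have h0 := congrArg (fun d : ↥Rc => e d.1) hEq
      change e (e.symm (reflA Q a₀)) = e (e.symm (reflA Q b)) at h0
      rwa [e.apply_symm_apply, e.apply_symm_apply] at h0
    have hba : polar Q b a₀ = 0 := by rw [polar_comm]; exact hab
    have h3 : (reflA Q a₀).1 a₀ = (reflA Q b).1 a₀ := by rw [h1]
    rw [reflA_apply_self Q a₀ (ha₀ ▸ hc), reflA_apply_of_orth Q b a₀ hba] at h3
    have h4 : (2 : F) • a₀ = 0 := by
      rw [two_smul]
      nth_rewrite 1 [← h3]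
      exact neg_add_cancel a₀
    rcases smul_eq_zero.mp h4 with h | h
    · exact h2 h
    · rw [h, QuadraticMap.map_zero] at ha₀
      exact hc ha₀.symm
  obtain ⟨r1, r2, r3⟩ := tt_structure_of_commutator_quasisimple _ hD hD2 hqs hcent
  exact ⟨hqs, r1, r2, r3⟩

end matstruct

end Cfsg.Agent.Lib.Helper13
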