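import Mathlib
import Cfsg.Prelude.Def_Blocks
import Cfsg.Prelude.Def_BlockLocal
import Cfsg.Prelude.Def_BlockRank
import Cfsg.Prelude.Def_BrauerPairs
import Cfsg.Agent.Lib.Helper24.StableCover

/-!
# S4640 farm, leaf [A] (SPARE by helper13): `cover_facts_spare`

The block `B` of `G` covering the `G`-stable block `b` of the normal subgroup `N` of `p`-power
index has the idempotent of `b`; membership in `B` / `b` is decided by covering.
-/

set_option autoImplicit false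

namespace Cfsg.Agent.Lib.Helper24.PIdx.Helper13

open Cfsg
open Cfsg.Agent.Lib.Helper2 Cfsg.Agent.Lib.Helper7 Cfsg.Agent.Lib.Helper24
open scoped ComplexConjugate

variable {G : Type*} [Group G] [Fintype G] {p : ℕ} [Fact p.Prime] {M : Ideal Cfsg.AlgInt}

/-- [A] (spare) the covering block has the idempotent of the stable block; membership by
covering -/
theorem cover_facts_spare (hM : Cfsg.IsPModular p M) (N : Subgroup G) [N.Normal] [Fintype N]
    (hNi : ∃ k : ℕ, N.index = p ^ k) (b : Set (Cfsg.IrrCharacter N)) (hb : Cfsg.IsPBlock M b)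
    (hstab : ∀ g : G, Cfsg.StabilizesBlock N b g) (B : Set (Cfsg.IrrCharacter G))
    (hB : Cfsg.IsPBlock M B)
    (hcov : ∃ χ ∈ B, ∃ θ ∈ b,
      Cfsg.classInner (fun n : N => (χ : G → ℂ) n) (θ : N → ℂ) ≠ 0) :
    (∀ g : G, Cfsg.blockCoeff B g = Cfsg.subgroupBlockCoeff N b g) ∧
    (∀ χ : Cfsg.IrrCharacter G, ∀ θ ∈ b,
      Cfsg.classInner (fun n : N => (χ : G → ℂ) n) (θ : N → ℂ) ≠ 0 → χ ∈ B) ∧
    (∀ χ ∈ B, ∀ θ : Cfsg.IrrCharacter N,
      Cfsg.classInner (fun n : N => (χ : G → ℂ) n) (θ : N → ℂ) ≠ 0 → θ ∈ b) := by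
  classical
  have hU := stable_iff_conjIrr N b hstab
  obtain ⟨B', hB', hB'c⟩ := exists_block_of_stable (p := p) (M := M) N hM hNi b hb hstab
  have hfun : Cfsg.blockCoeff B' = coverFn N b := by
    funext g
    rw [hB'c g, subgroupBlockCoeff_eq_coverFn]
  -- covering a member of `b` puts a character into `B'`
  have hin : ∀ χ : Cfsg.IrrCharacter G, ∀ θ ∈ b,
      Cfsg.classInner (fun n : N => (χ : G → ℂ) n) (θ : N → ℂ) ≠ 0 → χ ∈ B' := by
    intro χ θ hθ hne
    have h1 : omega (χ : G → ℂ) (coverFn N b) = 1 := by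
      rw [omega_coverFn N b hU χ θ hne, if_pos hθ]
    rw [← hfun, omega_blockCoeff] at h1
    by_contra hχ
    rw [if_neg hχ] at h1
    exact zero_ne_one h1
  -- `B = B'`
  obtain ⟨χ₀, hχ₀B, θ₀, hθ₀, hne₀⟩ := hcov
  have hχ₀B' : χ₀ ∈ B' := hin χ₀ θ₀ hθ₀ hne₀
  have hBB' : B = B' := by
    rw [eq_blockOf_of_mem hM hB hχ₀B, eq_blockOf_of_mem hM hB' hχ₀B']
  subst hBB'
  refine ⟨hB'c, hin, ?_⟩
  intro χ hχ θ hne
  have h1 : omega (χ : G → ℂ) (Cfsg.blockCoeff B) = 1 := by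
    rw [omega_blockCoeff, if_pos hχ]
  rw [hfun, omega_coverFn N b hU χ θ hne] at h1
  by_contra hθ
  rw [if_neg hθ] at h1
  exact zero_ne_one h1

end Cfsg.Agent.Lib.Helper24.PIdx.Helper13
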