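import Cfsg.Agent.Lib.Helper13.PLiftU5aDefs

set_option autoImplicit false

/-! S2399, piece [U5a]: the certificate for `chevB2`. -/

namespace Cfsg.Agent.Lib.Helper29.PLift.Helper13

open Cfsg.Lie Cfsg.Agent.Lib.Helper8.Chev

set_option maxHeartbeats 0 in
/-- for every root `r` a target `T` and a word taking `r` to `T` -/
def aTabB2 : List (ℕ × List ℕ) :=
  [(7, [0, 1, 0]), (6, [1, 0, 1]), (6, [1, 0]), (7, [0, 1]), (7, [0]), (6, [1]), (6, []), (7, [])]

set_option maxHeartbeats 0 in
/-- for every target `T` and every root `s' ≠ -T` a word making `T` and `s'` positive -/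
def bTabsB2 : List (ℕ × List (List ℕ)) :=
  [
  (7,
    [[], [0, 1], [0], [1], [], [], [], []]),
  (6,
    [[1, 0], [], [0], [1], [], [], [], []])]

set_option maxRecDepth 100000 in
theorem checkA_B2 : checkA chevB2 aTabB2 bTabsB2 = true := by decide +kernel

set_option maxRecDepth 100000 in
theorem checkB_B2 : checkB chevB2 bTabsB2 = true := by decide +kernel

end Cfsg.Agent.Lib.Helper29.PLift.Helper13
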