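import Cfsg.Agent.Lib.Helper13.PLiftU5aDefs

set_option autoImplicit false

/-! S2399, piece [U5a]: the certificate for `chevD4`. -/

namespace Cfsg.Agent.Lib.Helper29.PLift.Helper13

open Cfsg.Lie Cfsg.Agent.Lib.Helper8.Chev

set_option maxHeartbeats 0 in
/-- for every root `r` a target `T` and a word taking `r` to `T` -/
def aTabD4 : List (ℕ × List ℕ) :=
  [(23, [1, 0, 2, 1, 3, 1, 0, 2, 1]), (23, [1, 0, 2, 1, 3, 1, 0, 2]), (23, [1, 0, 2, 3, 1, 0, 2]),
    (23, [1, 0, 2, 1, 3, 1, 0]), (23, [1, 0, 2, 3, 1, 0]), (23, [1, 2, 3, 1, 0]),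
    (23, [1, 0, 2, 1, 3, 1, 2]), (23, [1, 0, 2, 3, 1, 2]), (23, [1, 0, 2, 1, 3, 1]),
    (23, [1, 0, 2, 3, 1]), (23, [1, 0, 3, 1, 2]), (23, [1, 0, 2, 1, 3]), (23, [1, 0, 2, 1]),
    (23, [1, 0, 3, 1]), (23, [1, 0, 2, 3]), (23, [1, 0, 2]), (23, [1, 0, 3]), (23, [1, 0]),
    (23, [1, 2, 3, 1]), (23, [1, 2, 3]), (23, [1, 2]), (23, [1, 3]), (23, [1]), (23, [])]

set_option maxHeartbeats 0 in
/-- for every target `T` and every root `s' ≠ -T` a word making `T` and `s'` positive -/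
def bTabsD4 : List (ℕ × List (List ℕ)) :=
  [
  (23,
    [[], [0, 1, 2, 3], [0, 1, 2], [0, 1, 3], [0, 1], [0], [2, 1, 3], [2, 1], [3, 1], [1], [2], [3],
      [], [], [], [], [], [], [], [], [], [], [], []])]

set_option maxRecDepth 100000 in
theorem checkA_D4 : checkA chevD4 aTabD4 bTabsD4 = true := by decide +kernel

set_option maxRecDepth 100000 in
theorem checkB_D4 : checkB chevD4 bTabsD4 = true := by decide +kernel

end Cfsg.Agent.Lib.Helper29.PLift.Helper13
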