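import Cfsg.Agent.Lib.Helper13.PLiftU5aDefs

set_option autoImplicit false

/-! S2399, piece [U5a]: the certificate for `chevE6`. -/

namespace Cfsg.Agent.Lib.Helper29.PLift.Helper13

open Cfsg.Lie Cfsg.Agent.Lib.Helper8.Chev

set_option maxHeartbeats 0 in
/-- for every root `r` a target `T` and a word taking `r` to `T` -/
def aTabE6 : List (ℕ × List ℕ) :=
  [(71, [1, 3, 2, 0, 4, 3, 1, 2, 3, 4, 5, 4, 3, 1, 2, 0, 3, 2, 4, 3, 1]),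
    (71, [1, 3, 2, 0, 4, 3, 1, 2, 3, 4, 5, 4, 3, 1, 2, 0, 3, 2, 4, 3]),
    (71, [1, 3, 2, 0, 4, 3, 1, 2, 3, 4, 5, 4, 3, 1, 2, 0, 3, 2, 4]),
    (71, [1, 3, 2, 0, 4, 3, 1, 2, 3, 4, 5, 4, 3, 1, 2, 0, 3, 2]),
    (71, [1, 3, 2, 0, 4, 3, 1, 2, 3, 5, 4, 3, 1, 2, 0, 3, 2]),
    (71, [1, 3, 2, 0, 4, 3, 1, 2, 3, 4, 5, 4, 3, 1, 2, 0, 3, 4]),
    (71, [1, 3, 2, 0, 4, 3, 1, 2, 3, 4, 5, 4, 3, 1, 2, 0, 3]),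
    (71, [1, 3, 2, 0, 4, 3, 1, 2, 3, 5, 4, 3, 1, 2, 0, 3]),
    (71, [1, 3, 2, 0, 4, 3, 1, 2, 3, 4, 5, 4, 3, 1, 2, 0]),
    (71, [1, 3, 2, 0, 4, 3, 1, 2, 3, 5, 4, 3, 1, 2, 0]),
    (71, [1, 3, 2, 0, 4, 3, 1, 2, 5, 4, 3, 1, 2, 0]),
    (71, [1, 3, 2, 0, 4, 3, 1, 2, 3, 4, 5, 4, 3, 2, 0]),
    (71, [1, 3, 2, 0, 4, 3, 1, 2, 3, 5, 4, 3, 2, 0]),
    (71, [1, 3, 2, 0, 4, 3, 1, 2, 5, 4, 3, 2, 0]), (71, [1, 3, 2, 0, 4, 3, 1, 5, 4, 3, 2, 0]),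
    (71, [1, 3, 2, 4, 3, 1, 5, 4, 3, 2, 0]),
    (71, [1, 3, 2, 0, 4, 3, 1, 2, 3, 4, 5, 4, 3, 1, 2, 3, 4]),
    (71, [1, 3, 2, 0, 4, 3, 1, 2, 3, 4, 5, 4, 3, 1, 2, 3]),
    (71, [1, 3, 2, 0, 4, 3, 1, 2, 3, 5, 4, 3, 1, 2, 3]),
    (71, [1, 3, 2, 0, 4, 3, 1, 2, 3, 4, 5, 4, 3, 1, 2]),
    (71, [1, 3, 2, 0, 4, 3, 1, 2, 3, 5, 4, 3, 1, 2]),
    (71, [1, 3, 2, 0, 4, 3, 1, 2, 5, 4, 3, 1, 2]),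
    (71, [1, 3, 2, 0, 4, 3, 1, 2, 3, 4, 5, 4, 3, 1]),
    (71, [1, 3, 2, 0, 4, 3, 1, 2, 3, 5, 4, 3, 1]), (71, [1, 3, 2, 0, 4, 3, 1, 2, 5, 4, 3, 1]),
    (71, [1, 3, 2, 0, 4, 3, 2, 5, 4, 3, 1]), (71, [1, 3, 2, 0, 4, 3, 1, 2, 3, 4, 5, 4, 3, 2]),
    (71, [1, 3, 2, 0, 4, 3, 1, 2, 3, 5, 4, 3, 2]), (71, [1, 3, 2, 0, 4, 3, 1, 2, 5, 4, 3, 2]),
    (71, [1, 3, 2, 0, 4, 3, 1, 5, 4, 3, 2]), (71, [1, 3, 2, 0, 4, 3, 1, 2, 3, 4, 5, 4, 3]),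
    (71, [1, 3, 2, 0, 4, 3, 1, 2, 3, 5, 4, 3]), (71, [1, 3, 2, 0, 4, 3, 1, 2, 5, 4, 3]),
    (71, [1, 3, 2, 0, 4, 3, 1, 2, 3, 4, 5, 4]), (71, [1, 3, 2, 0, 4, 3, 1, 2, 3, 5, 4]),
    (71, [1, 3, 2, 0, 4, 3, 1, 2, 3, 4, 5]), (71, [1, 3, 2, 0, 4, 3, 1, 2, 3, 4]),
    (71, [1, 3, 2, 0, 4, 3, 1, 2, 3, 5]), (71, [1, 3, 2, 0, 4, 3, 1, 2, 3]),
    (71, [1, 3, 2, 0, 4, 3, 1, 2, 5, 4]), (71, [1, 3, 2, 0, 4, 3, 1, 2, 5]),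
    (71, [1, 3, 2, 0, 4, 3, 1, 2]), (71, [1, 3, 2, 0, 4, 3, 1, 5, 4, 3]),
    (71, [1, 3, 2, 0, 4, 3, 1, 5, 4]), (71, [1, 3, 2, 0, 4, 3, 1, 5]), (71, [1, 3, 2, 0, 4, 3, 1]),
    (71, [1, 3, 2, 0, 4, 3, 2, 5, 4, 3]), (71, [1, 3, 2, 0, 4, 3, 2, 5, 4]),
    (71, [1, 3, 2, 0, 4, 3, 2, 5]), (71, [1, 3, 2, 0, 4, 3, 2]), (71, [1, 3, 2, 0, 4, 3, 5, 4]),
    (71, [1, 3, 2, 0, 4, 3, 5]), (71, [1, 3, 2, 0, 4, 3]), (71, [1, 3, 2, 0, 4, 5]),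
    (71, [1, 3, 2, 0, 4]), (71, [1, 3, 2, 0]), (71, [1, 3, 2, 4, 3, 1, 5, 4, 3, 2]),
    (71, [1, 3, 2, 4, 3, 1, 5, 4, 3]), (71, [1, 3, 2, 4, 3, 1, 5, 4]), (71, [1, 3, 2, 4, 3, 1, 5]),
    (71, [1, 3, 2, 4, 3, 1]), (71, [1, 3, 2, 4, 3, 5, 4]), (71, [1, 3, 2, 4, 3, 5]),
    (71, [1, 3, 2, 4, 3]), (71, [1, 3, 2, 4, 5]), (71, [1, 3, 2, 4]), (71, [1, 3, 2]),
    (71, [1, 3, 4, 5]), (71, [1, 3, 4]), (71, [1, 3]), (71, [1]), (71, [])]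

set_option maxHeartbeats 0 in
/-- for every target `T` and every root `s' ≠ -T` a word making `T` and `s'` positive -/
def bTabsE6 : List (ℕ × List (List ℕ)) :=
  [
  (71,
    [[], [0, 2, 3, 1, 4, 3, 2, 5, 4, 3], [0, 2, 3, 1, 4, 3, 2, 5, 4], [0, 2, 3, 1, 4, 3, 2, 5],
      [0, 2, 3, 1, 4, 3, 2], [0, 2, 3, 1, 4, 3, 5, 4], [0, 2, 3, 1, 4, 3, 5], [0, 2, 3, 1, 4, 3],
      [0, 2, 3, 1, 4, 5], [0, 2, 3, 1, 4], [0, 2, 3, 1], [5, 4, 3, 2, 0], [4, 3, 2, 0], [3, 2, 0],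
      [2, 0], [0], [2, 3, 1, 4, 3, 5, 4], [2, 3, 1, 4, 3, 5], [2, 3, 1, 4, 3], [2, 3, 1, 4, 5],
      [2, 3, 1, 4], [2, 3, 1], [5, 4, 3, 1], [4, 3, 1], [3, 1], [1], [5, 4, 3, 2], [4, 3, 2],
      [3, 2], [2], [5, 4, 3], [4, 3], [3], [5, 4], [4], [5], [], [], [], [], [], [], [], [], [],
      [], [], [], [], [], [], [], [], [], [], [], [], [], [], [], [], [], [], [], [], [], [], [],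
      [], [], [], []])]

set_option maxRecDepth 100000 in
theorem checkA_E6 : checkA chevE6 aTabE6 bTabsE6 = true := by decide +kernel

set_option maxRecDepth 100000 in
theorem checkB_E6 : checkB chevE6 bTabsE6 = true := by decide +kernel

end Cfsg.Agent.Lib.Helper29.PLift.Helper13
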