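import Cfsg.Agent.Lib.Helper13.PLiftU5aDefs

set_option autoImplicit false

/-! S2399, piece [U5a]: the certificate for `chevF4`. -/

namespace Cfsg.Agent.Lib.Helper29.PLift.Helper13

open Cfsg.Lie Cfsg.Agent.Lib.Helper8.Chev

set_option maxHeartbeats 0 in
/-- for every root `r` a target `T` and a word taking `r` to `T` -/
def aTabF4 : List (ℕ × List ℕ) :=
  [(47, [3, 2, 1, 0, 2, 1, 2, 3, 2, 1, 0, 2, 1, 2, 3]),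
    (47, [3, 2, 1, 0, 2, 1, 2, 3, 2, 1, 0, 2, 1, 2]),
    (47, [3, 2, 1, 0, 2, 1, 2, 3, 2, 1, 0, 2, 1]),
    (44, [0, 1, 2, 1, 0, 3, 2, 1, 0, 2, 1, 3, 2, 1, 0]),
    (47, [3, 2, 1, 0, 2, 1, 2, 3, 2, 1, 0, 2]), (47, [3, 2, 1, 0, 2, 1, 2, 3, 2, 1, 0]),
    (47, [3, 2, 1, 0, 2, 1, 3, 2, 1, 0]), (44, [0, 1, 2, 1, 0, 3, 2, 1, 0, 2, 1, 3, 2, 1]),
    (44, [0, 1, 2, 1, 0, 3, 2, 1, 0, 2, 1, 3, 2]), (44, [0, 1, 2, 1, 0, 3, 2, 1, 0, 2, 1, 3]),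
    (44, [0, 1, 2, 1, 0, 3, 2, 1, 0, 2, 1]), (44, [0, 1, 2, 1, 0, 3, 2, 1, 0, 2, 3]),
    (44, [0, 1, 2, 1, 0, 3, 2, 1, 0, 2]), (44, [0, 1, 2, 1, 0, 3, 2, 1, 0]),
    (44, [0, 1, 2, 1, 3, 2, 1, 0]), (47, [3, 2, 1, 0, 2, 1, 2, 3, 2, 1, 2]),
    (47, [3, 2, 1, 0, 2, 1, 2, 3, 2, 1]), (47, [3, 2, 1, 0, 2, 1, 3, 2, 1]),
    (44, [0, 1, 2, 1, 0, 3, 2, 1, 2, 3]), (44, [0, 1, 2, 1, 0, 3, 2, 1, 2]),
    (44, [0, 1, 2, 1, 0, 3, 2, 1]), (47, [3, 2, 1, 0, 2, 1, 2, 3, 2]),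
    (47, [3, 2, 1, 0, 2, 1, 3, 2]), (47, [3, 2, 1, 0, 2, 1, 2, 3]), (47, [3, 2, 1, 0, 2, 1, 2]),
    (47, [3, 2, 1, 0, 2, 1, 3]), (47, [3, 2, 1, 0, 2, 1]), (44, [0, 1, 2, 1, 0, 3, 2]),
    (44, [0, 1, 2, 1, 0, 3]), (44, [0, 1, 2, 1, 0]), (47, [3, 2, 1, 0, 2, 3]),
    (47, [3, 2, 1, 0, 2]), (47, [3, 2, 1, 0]), (44, [0, 1, 2, 1, 3, 2, 1]),
    (44, [0, 1, 2, 1, 3, 2]), (44, [0, 1, 2, 1, 3]), (44, [0, 1, 2, 1]), (44, [0, 1, 2, 3]),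
    (44, [0, 1, 2]), (44, [0, 1]), (44, [0]), (47, [3, 2, 1, 2, 3]), (47, [3, 2, 1, 2]),
    (47, [3, 2, 1]), (44, []), (47, [3, 2]), (47, [3]), (47, [])]

set_option maxHeartbeats 0 in
/-- for every target `T` and every root `s' ≠ -T` a word making `T` and `s'` positive -/
def bTabsF4 : List (ℕ × List (List ℕ)) :=
  [
  (47,
    [[], [2, 1, 0, 3, 2, 1, 2], [2, 1, 0, 3, 2, 1], [0, 1, 2, 1, 3, 2, 1, 0], [2, 1, 0, 3, 2],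
      [2, 1, 0, 3], [2, 1, 0], [0, 1, 2, 1, 3, 2, 1], [0, 1, 2, 1, 3, 2], [0, 1, 2, 1, 3],
      [1, 0, 2, 1], [0, 1, 2, 3], [1, 0, 2], [1, 0], [0], [2, 1, 3, 2], [2, 1, 3], [2, 1],
      [1, 2, 3], [1, 2], [1], [2, 3], [2], [3], [], [], [], [], [], [], [], [], [], [], [], [], [],
      [], [], [], [], [], [], [], [], [], [], []]),
  (44,
    [[3, 2, 1, 0, 2, 1, 2, 3], [3, 2, 1, 0, 2, 1, 2], [3, 2, 1, 0, 2, 1], [], [3, 2, 1, 0, 2],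
      [3, 2, 1, 0], [2, 1, 0], [1, 0, 2, 1, 3, 2, 1], [1, 0, 2, 1, 3, 2], [1, 0, 2, 1, 3],
      [1, 0, 2, 1], [1, 0, 2, 3], [1, 0, 2], [1, 0], [0], [3, 2, 1, 2], [3, 2, 1], [2, 1],
      [1, 2, 3], [1, 2], [1], [3, 2], [2], [3], [], [], [], [], [], [], [], [], [], [], [], [], [],
      [], [], [], [], [], [], [], [], [], [], []])]

set_option maxRecDepth 100000 in
theorem checkA_F4 : checkA chevF4 aTabF4 bTabsF4 = true := by decide +kernel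

set_option maxRecDepth 100000 in
theorem checkB_F4 : checkB chevF4 bTabsF4 = true := by decide +kernel

end Cfsg.Agent.Lib.Helper29.PLift.Helper13
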