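import Cfsg.Agent.Lib.Helper13.PLiftU5aG2
import Cfsg.Agent.Lib.Helper13.PLiftU5aB2
import Cfsg.Agent.Lib.Helper13.PLiftU5aD4
import Cfsg.Agent.Lib.Helper13.PLiftU5aF4
import Cfsg.Agent.Lib.Helper13.PLiftU5aE6
import Cfsg.Agent.Lib.Helper13.PLiftU5aE7
import Cfsg.Agent.Lib.Helper13.PLiftU5aE8

set_option autoImplicit false

/-! S2399, piece [U5a]: two roots that are not opposite are made positive by one element of the
Weyl group. -/

namespace Cfsg.Agent.Lib.Helper29.PLift

open Cfsg.Lie Cfsg.Agent.Lib.Helper8.Chev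

variable {D : ChevalleyDatum}

/-- [U5a] TABLES: two roots that are not opposite are made positive by one element of the Weyl group
(positive = index ≥ nroots / 2). -/
theorem exists_word_pos (hD : D ∈ [chevG2, chevB2, chevD4, chevF4, chevE6, chevE7, chevE8])
    {r s : ℕ} (hr : r < D.nroots) (hs : s < D.nroots) (h2 : s ≠ D.neg r) :
    ∃ l : List ℕ, (∀ i ∈ l, i < D.rank) ∧ D.nroots / 2 ≤ reflWord D l r ∧
      D.nroots / 2 ≤ reflWord D l s := by
  have hD0 := hD
  simp only [List.mem_cons, List.not_mem_nil, or_false] at hD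
  rcases hD with rfl | rfl | rfl | rfl | rfl | rfl | rfl
  · exact Helper13.exists_word_pos_of_check hD0 Helper13.checkA_G2 Helper13.checkB_G2 hr hs h2
  · exact Helper13.exists_word_pos_of_check hD0 Helper13.checkA_B2 Helper13.checkB_B2 hr hs h2
  · exact Helper13.exists_word_pos_of_check hD0 Helper13.checkA_D4 Helper13.checkB_D4 hr hs h2
  · exact Helper13.exists_word_pos_of_check hD0 Helper13.checkA_F4 Helper13.checkB_F4 hr hs h2
  · exact Helper13.exists_word_pos_of_check hD0 Helper13.checkA_E6 Helper13.checkB_E6 hr hs h2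
  · exact Helper13.exists_word_pos_of_check hD0 Helper13.checkA_E7 Helper13.checkB_E7 hr hs h2
  · exact Helper13.exists_word_pos_of_check hD0 Helper13.checkA_E8 Helper13.checkB_E8 hr hs h2

end Cfsg.Agent.Lib.Helper29.PLift
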