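import Cfsg.Agent.Lib.Helper8.ChevBN2
import Cfsg.Agent.Lib.Helper8.ChevN3

set_option autoImplicit false

/-! S2399, piece [U5a] (`exists_word_pos`): the generic certificate checker.

For a datum `D` the certificate consists of a table `aTab` giving for every root `r` a target root
`T` and a word `a` of fundamental reflections with `a(r) = T` (only one or two targets occur, one per
root length), and for every target `T` a table giving for every root `s' ≠ -T` a word `b` making
both `T` and `s'` positive.  For a pair `(r, s)` with `s ≠ -r` the word `b_{a(s)} ++ a_r` makes both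
`r` and `s` positive. -/

namespace Cfsg.Agent.Lib.Helper29.PLift.Helper13

open Cfsg.Lie Cfsg.Agent.Lib.Helper8.Chev

/-- `List.any` through the recursor -/
noncomputable def anyF {α : Type} (p : α → Bool) (l : List α) : Bool :=
  @List.rec α (fun _ => Bool) false (fun a _ ih => or (p a) ih) l

theorem anyF_eq_true {α : Type} {p : α → Bool} {l : List α} :
    anyF p l = true ↔ ∃ a ∈ l, p a = true := by
  induction l with
  | nil => simp [anyF]
  | cons a l ih =>
    show (p a || anyF p l) = true ↔ _
    rw [Bool.or_eq_true, ih]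
    simp

theorem getElem?_getD_of_lt {α : Type} (l : List α) (i : ℕ) (d : α) (h : i < l.length) :
    l[i]? = some (l.getD i d) := by
  rw [List.getD_eq_getElem?_getD, List.getElem?_eq_getElem h]
  rfl

/-- all letters of the word are indices of fundamental roots -/
noncomputable def okW (D : ChevalleyDatum) (w : List ℕ) : Bool :=
  allF (fun i => Nat.blt i D.rank) w

theorem okW_spec {D : ChevalleyDatum} {w : List ℕ} (h : okW D w = true) : ∀ i ∈ w, i < D.rank := by
  unfold okW at h
  rw [allF_eq_true] at h
  intro i hi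
  have := h i hi
  rwa [Nat.blt_eq] at this

/-- the words `a_r` take `r` to a target that has a `b`-table -/
noncomputable def checkA (D : ChevalleyDatum) (aTab : List (ℕ × List ℕ))
    (bTabs : List (ℕ × List (List ℕ))) : Bool :=
  Nat.beq aTab.length D.nroots &&
  allIdxF (fun r e => okW D e.2 && Nat.beq (reflWordF D e.2 r) e.1 &&
    anyF (fun tb => Nat.beq tb.1 e.1) bTabs) aTab 0

/-- the words `b_{s'}` make the target and `s'` positive -/
noncomputable def checkB (D : ChevalleyDatum) (bTabs : List (ℕ × List (List ℕ))) : Bool :=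
  allF (fun tb => Nat.beq tb.2.length D.nroots &&
    allIdxF (fun s b => Nat.beq (s + tb.1 + 1) D.nroots ||
      (okW D b && Nat.ble (D.nroots / 2) (reflWordF D b tb.1) &&
        Nat.ble (D.nroots / 2) (reflWordF D b s))) tb.2 0) bTabs

variable {D : ChevalleyDatum}

theorem exists_word_pos_of_check
    (hD : D ∈ [chevG2, chevB2, chevD4, chevF4, chevE6, chevE7, chevE8])
    {aTab : List (ℕ × List ℕ)} {bTabs : List (ℕ × List (List ℕ))}
    (hA : checkA D aTab bTabs = true) (hB : checkB D bTabs = true)
    {r s : ℕ} (hr : r < D.nroots) (hs : s < D.nroots) (h2 : s ≠ D.neg r) :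
    ∃ l : List ℕ, (∀ i ∈ l, i < D.rank) ∧ D.nroots / 2 ≤ reflWord D l r ∧
      D.nroots / 2 ≤ reflWord D l s := by
  have J := validJ_of_mem hD
  have H := validH_of_mem hD
  have hI := checkInv_of_mem hD
  have V := valid0_of_mem hD
  unfold checkA at hA
  rw [Bool.and_eq_true, Nat.beq_eq, allIdxF_eq_true] at hA
  obtain ⟨hlen, hall⟩ := hA
  have hr' : r < aTab.length := by omega
  have hget := getElem?_getD_of_lt aTab r (0, []) hr'
  have he := hall r _ hget
  rw [zero_add, Bool.and_eq_true, Bool.and_eq_true, Nat.beq_eq, anyF_eq_true] at he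
  obtain ⟨⟨hok, hT⟩, tb, htb, htbT⟩ := he
  rw [Nat.beq_eq] at htbT
  set a := (aTab.getD r (0, [])).2 with ha_def
  set T := (aTab.getD r (0, [])).1 with hT_def
  have ha : ∀ i ∈ a, i < D.rank := okW_spec hok
  have haT : reflWord D a r = T := by rw [← reflWordF_eq J H.nS ha hr]; exact hT
  have hTlt : T < D.nroots := by rw [← haT]; exact reflWord_lt J H.nS ha hr
  have hs'lt : reflWord D a s < D.nroots := reflWord_lt J H.nS ha hs
  have harev : ∀ i ∈ a.reverse, i < D.rank := fun i hi => ha i (List.mem_reverse.mp hi)
  have hne : reflWord D a s ≠ D.neg T := by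
    intro h
    apply h2
    rw [← haT, ← reflWord_neg J H.nS ha hr] at h
    have h1 := reflWord_reverse_cancel J H.nS hI harev hs
    have h3 := reflWord_reverse_cancel J H.nS hI harev (V.neg_lt hr)
    rw [List.reverse_reverse] at h1 h3
    rw [← h1, h, h3]
  unfold checkB at hB
  rw [allF_eq_true] at hB
  have hb := hB tb htb
  rw [Bool.and_eq_true, Nat.beq_eq, allIdxF_eq_true] at hb
  obtain ⟨hblen, hball⟩ := hb
  have hs'' : reflWord D a s < tb.2.length := by omega
  have hgetb := getElem?_getD_of_lt tb.2 (reflWord D a s) [] hs''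
  have hbb := hball _ _ hgetb
  rw [zero_add, Bool.or_eq_true, Nat.beq_eq, Bool.and_eq_true, Bool.and_eq_true, Nat.ble_eq,
    Nat.ble_eq, htbT] at hbb
  rcases hbb with hbb | ⟨⟨hokb, hb1⟩, hb2⟩
  · exfalso
    apply hne
    rw [V.neg_eq T hTlt]
    omega
  · set b := tb.2.getD (reflWord D a s) [] with hb_def
    have hbw : ∀ i ∈ b, i < D.rank := okW_spec hokb
    refine ⟨b ++ a, ?_, ?_, ?_⟩
    · intro i hi
      rcases List.mem_append.mp hi with h | h
      · exact hbw i h
      · exact ha i h
    · rw [reflWord_append, haT, ← reflWordF_eq J H.nS hbw hTlt]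
      exact hb1
    · rw [reflWord_append, ← reflWordF_eq J H.nS hbw hs'lt]
      exact hb2

end Cfsg.Agent.Lib.Helper29.PLift.Helper13
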