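import Mathlib
import Cfsg.Agent.Lib.Helper9.ClassGraph8

/-!
S4321, piece [B1] (`exists_sylow_le_cent_inf`): a `p'`-element of `C(a)` centralizes a Sylow
`p`-subgroup of `G` inside `C(a)`.
-/

set_option autoImplicit false

namespace Cfsg.Agent.Lib.Helper24.PSing

open Subgroup
open Cfsg.Agent.Lib.Helper9.ClassGraph

variable {G : Type*} [Group G]

namespace Helper13

/-- the centralizer of a product of commuting elements of coprime orders -/
theorem cent_mul_le_inf {a k : G} (hak : Commute a k)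
    (hcop : (orderOf a).Coprime (orderOf k)) :
    centralizer ({a * k} : Set G) ≤ centralizer ({a} : Set G) ⊓ centralizer ({k} : Set G) := by
  have h1 : a ∈ Subgroup.zpowers (a * k) :=
    Cfsg.Agent.Lib.Helper22.mem_zpowers_mul_of_coprime hak hcop
  have h2 : k ∈ Subgroup.zpowers (a * k) := by
    have := Cfsg.Agent.Lib.Helper22.mem_zpowers_mul_of_coprime hak.symm hcop.symm
    rwa [hak.symm.eq] at this
  obtain ⟨m, hm⟩ := Subgroup.mem_zpowers_iff.mp h1
  obtain ⟨n, hn⟩ := Subgroup.mem_zpowers_iff.mp h2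
  intro x hx
  refine Subgroup.mem_inf.mpr ⟨?_, ?_⟩
  · have := cent_le_cent_zpow (a * k) m hx
    rwa [hm] at this
  · have := cent_le_cent_zpow (a * k) n hx
    rwa [hn] at this

end Helper13

/-- [B1] a `p'`-element `k` of `C(a)` centralizes a Sylow `p`-subgroup of `G` inside `C(a)` -/
theorem exists_sylow_le_cent_inf [Finite G] (p : ℕ) [Fact p.Prime] {a : G}
    (hap : ∃ k : ℕ, orderOf a = p ^ k) (ha1 : a ≠ 1) (ha : cs a ≠ 1)
    (hnm : ∀ x : G, p ∣ orderOf x → p ∣ cs x → (cs x).Coprime (cs a))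
    {k : G} (hk : k ∈ centralizer ({a} : Set G)) (hkp : (orderOf k).Coprime p) :
    ∃ Q : Sylow p G, (Q : Subgroup G) ≤ centralizer ({a} : Set G) ⊓ centralizer ({k} : Set G) := by
  have hp : p.Prime := Fact.out
  obtain ⟨j, hj⟩ := hap
  have hj0 : j ≠ 0 := by
    rintro rfl
    rw [pow_zero, orderOf_eq_one_iff] at hj
    exact ha1 hj
  have hak : Commute a k := by
    have := mem_cent.mp hk
    exact this.symm
  have hcop : (orderOf a).Coprime (orderOf k) := by
    rw [hj]
    exact (Nat.Coprime.pow_left j hkp.symm)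
  have hord : orderOf (a * k) = orderOf a * orderOf k :=
    hak.orderOf_mul_eq_mul_orderOf_of_coprime hcop
  have hpdvd : p ∣ orderOf (a * k) := by
    rw [hord, hj]
    exact Dvd.dvd.mul_right (dvd_pow_self p hj0) _
  have hle := Helper13.cent_mul_le_inf hak hcop
  have hle' : centralizer ({a * k} : Set G) ≤ centralizer ({a} : Set G) :=
    hle.trans inf_le_left
  have hdvd : cs a ∣ cs (a * k) := Subgroup.index_dvd_of_le hle'
  have hnp : ¬ p ∣ cs (a * k) := by
    intro hpd
    have hc := hnm (a * k) hpdvd hpd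
    exact ha (hc.symm.eq_one_of_dvd hdvd)
  obtain ⟨Q, hQ, -⟩ := Cfsg.Agent.Lib.Helper22.exists_sylow_le_mem_of_not_dvd_index
    (centralizer ({a * k} : Set G)) hnp 1 (one_mem _) 0 (by simp)
  exact ⟨Q, hQ.trans hle⟩

end Cfsg.Agent.Lib.Helper24.PSing
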