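import Mathlib
import Cfsg.Agent.Lib.Helper9.ClassGraph8

/-!
S4321, piece [C4] (`main_of_key`): the graph statement from the key claim and the `p`-part lemma
(pure bookkeeping of primes).
-/

set_option autoImplicit false

namespace Cfsg.Agent.Lib.Helper24.PSing

open Subgroup
open Cfsg.Agent.Lib.Helper9.ClassGraph

variable {G : Type*} [Group G]

namespace Helper13

theorem mul_dvd_of_primes' {a b n : ℕ} (ha : a.Prime) (hb : b.Prime) (hab : a ≠ b) (h1 : a ∣ n)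
    (h2 : b ∣ n) : a * b ∣ n :=
  Nat.Coprime.mul_dvd_of_dvd_of_dvd ((Nat.coprime_primes ha hb).mpr hab) h1 h2

end Helper13

/-- [C4] bookkeeping: the graph statement from the key claim and the `p`-part lemma (LEAF piece:
the two inputs are hypotheses) -/
theorem main_of_key [Finite G] (p : ℕ) [Fact p.Prime]
    (hkey : ∀ a b : G, a ≠ 1 → (∃ k : ℕ, orderOf a = p ^ k) → b ≠ 1 → (∃ k : ℕ, orderOf b = p ^ k) →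
      ∃ r₀ s₀ : ℕ, r₀.Prime ∧ s₀.Prime ∧ r₀ ∣ cs a ∧ s₀ ∣ cs b ∧
        (r₀ = s₀ ∨ ∃ x : G, p ∣ orderOf x ∧ r₀ * s₀ ∣ cs x))
    (hpart : ∀ x : G, p ∣ orderOf x →
      ∃ a : G, a ≠ 1 ∧ (∃ k : ℕ, orderOf a = p ^ k) ∧ cs a ∣ cs x)
    (r s : ℕ)
    (hr : r.Prime ∧ ∃ x : G, p ∣ orderOf x ∧ r ∣ cs x)
    (hs : s.Prime ∧ ∃ x : G, p ∣ orderOf x ∧ s ∣ cs x) (hrs : r ≠ s) :
    (∃ x : G, p ∣ orderOf x ∧ r * s ∣ cs x) ∨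
    (∃ t : ℕ, (t.Prime ∧ ∃ x : G, p ∣ orderOf x ∧ t ∣ cs x) ∧ t ≠ r ∧ t ≠ s ∧
      (∃ x : G, p ∣ orderOf x ∧ r * t ∣ cs x) ∧ (∃ x : G, p ∣ orderOf x ∧ t * s ∣ cs x)) ∨
    (∃ t u : ℕ, (t.Prime ∧ ∃ x : G, p ∣ orderOf x ∧ t ∣ cs x) ∧
      (u.Prime ∧ ∃ x : G, p ∣ orderOf x ∧ u ∣ cs x) ∧ t ≠ r ∧ u ≠ s ∧ t ≠ u ∧
      (∃ x : G, p ∣ orderOf x ∧ r * t ∣ cs x) ∧ (∃ x : G, p ∣ orderOf x ∧ t * u ∣ cs x) ∧
      (∃ x : G, p ∣ orderOf x ∧ u * s ∣ cs x)) := by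
  obtain ⟨hrp, xr, hxr, hrx⟩ := hr
  obtain ⟨hsp, xs, hxs, hsx⟩ := hs
  obtain ⟨a, ha1, hap, hax⟩ := hpart xr hxr
  obtain ⟨b, hb1, hbp, hbx⟩ := hpart xs hxs
  obtain ⟨r₀, s₀, hr₀, hs₀, hr₀a, hs₀b, hor⟩ := hkey a b ha1 hap hb1 hbp
  have hr₀x : r₀ ∣ cs xr := hr₀a.trans hax
  have hs₀x : s₀ ∣ cs xs := hs₀b.trans hbx
  have vr₀ : r₀.Prime ∧ ∃ x : G, p ∣ orderOf x ∧ r₀ ∣ cs x := ⟨hr₀, xr, hxr, hr₀x⟩
  have vs₀ : s₀.Prime ∧ ∃ x : G, p ∣ orderOf x ∧ s₀ ∣ cs x := ⟨hs₀, xs, hxs, hs₀x⟩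
  rcases hor with heq | ⟨x₀, hx₀, hx₀d⟩
  · -- r₀ = s₀
    subst heq
    by_cases h1 : r₀ = r
    · subst h1
      exact Or.inl ⟨xs, hxs, Helper13.mul_dvd_of_primes' hrp hsp hrs hs₀x hsx⟩
    · by_cases h2 : r₀ = s
      · subst h2
        exact Or.inl ⟨xr, hxr, Helper13.mul_dvd_of_primes' hrp hsp hrs hrx hr₀x⟩
      · refine Or.inr (Or.inl ⟨r₀, vr₀, h1, h2, ⟨xr, hxr, ?_⟩, ⟨xs, hxs, ?_⟩⟩)
        · exact Helper13.mul_dvd_of_primes' hrp hr₀ (Ne.symm h1) hrx hr₀x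
        · exact Helper13.mul_dvd_of_primes' hr₀ hsp h2 hs₀x hsx
  · by_cases hne : r₀ = s₀
    · -- same as the first case
      subst hne
      by_cases h1 : r₀ = r
      · subst h1
        exact Or.inl ⟨xs, hxs, Helper13.mul_dvd_of_primes' hrp hsp hrs hs₀x hsx⟩
      · by_cases h2 : r₀ = s
        · subst h2
          exact Or.inl ⟨xr, hxr, Helper13.mul_dvd_of_primes' hrp hsp hrs hrx hr₀x⟩
        · refine Or.inr (Or.inl ⟨r₀, vr₀, h1, h2, ⟨xr, hxr, ?_⟩, ⟨xs, hxs, ?_⟩⟩)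
          · exact Helper13.mul_dvd_of_primes' hrp hr₀ (Ne.symm h1) hrx hr₀x
          · exact Helper13.mul_dvd_of_primes' hr₀ hsp h2 hs₀x hsx
    · by_cases h1 : r₀ = r
      · by_cases h2 : s₀ = s
        · subst h1; subst h2
          exact Or.inl ⟨x₀, hx₀, hx₀d⟩
        · subst h1
          refine Or.inr (Or.inl ⟨s₀, vs₀, Ne.symm hne, h2, ⟨x₀, hx₀, hx₀d⟩, ⟨xs, hxs, ?_⟩⟩)
          exact Helper13.mul_dvd_of_primes' hs₀ hsp h2 hs₀x hsx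
      · by_cases h2 : s₀ = s
        · subst h2
          refine Or.inr (Or.inl ⟨r₀, vr₀, h1, hne, ⟨xr, hxr, ?_⟩, ⟨x₀, hx₀, hx₀d⟩⟩)
          exact Helper13.mul_dvd_of_primes' hrp hr₀ (Ne.symm h1) hrx hr₀x
        · refine Or.inr (Or.inr ⟨r₀, s₀, vr₀, vs₀, h1, h2, hne, ⟨xr, hxr, ?_⟩, ⟨x₀, hx₀, hx₀d⟩,
            ⟨xs, hxs, ?_⟩⟩)
          · exact Helper13.mul_dvd_of_primes' hrp hr₀ (Ne.symm h1) hrx hr₀x
          · exact Helper13.mul_dvd_of_primes' hs₀ hsp h2 hs₀x hsx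

end Cfsg.Agent.Lib.Helper24.PSing
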