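import Cfsg.Agent.Lib.Helper28.ElemClasses

/-!
Permutations of the 24 points packed into one natural number (five bits per entry): a straight-line
composition that the kernel evaluates quickly, its meaning, powers, and exact counting of the
elements of a subgroup through an exhaustive list of packed tables.
-/

set_option autoImplicit false

namespace Cfsg.Agent.Lib.Helper13.PackPerm

open Cfsg Cfsg.Agent.Lib.Helper28

/-- one digit of the packed composition -/
def digit (p q i : ℕ) : ℕ :=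
  Nat.mod (Nat.shiftRight p (Nat.mul 5 (Nat.mod (Nat.shiftRight q (Nat.mul 5 i)) 32))) 32

theorem digit_eq (p q i : ℕ) : digit p q i = look p (look q i) := rfl

theorem digit_lt (p q i : ℕ) : digit p q i < 32 := Nat.mod_lt _ (by norm_num)

/-- packed composition, recursive form -/
def compRec (p q : ℕ) : ℕ → ℕ
  | 0 => 0
  | i + 1 => Nat.add (Nat.shiftLeft (digit p q i) (Nat.mul 5 i)) (compRec p q i)

theorem compRec_succ (p q i : ℕ) :
    compRec p q (i + 1) = digit p q i * 2 ^ (5 * i) + compRec p q i := by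
  show (digit p q i) <<< (5 * i) + compRec p q i = _
  rw [Nat.shiftLeft_eq]

theorem compRec_lt (p q : ℕ) : ∀ n, compRec p q n < 2 ^ (5 * n)
  | 0 => by simp [compRec]
  | n + 1 => by
    rw [compRec_succ]
    have h1 := compRec_lt p q n
    have h2 := digit_lt p q n
    have h3 : 2 ^ (5 * (n + 1)) = 32 * 2 ^ (5 * n) := by
      rw [Nat.mul_add, Nat.pow_add]; norm_num [Nat.mul_comm]
    rw [h3]
    nlinarith

theorem look_eq (t a : ℕ) : look t a = t / 2 ^ (5 * a) % 32 := by
  unfold look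
  rw [Nat.shiftRight_eq_div_pow]

theorem look_add_top {d r n : ℕ} (hd : d < 32) (hr : r < 2 ^ (5 * n)) :
    look (d * 2 ^ (5 * n) + r) n = d := by
  rw [look_eq, Nat.add_comm, Nat.add_mul_div_right _ _ (by positivity), Nat.div_eq_of_lt hr,
    Nat.zero_add, Nat.mod_eq_of_lt hd]

theorem look_add_low {d r n j : ℕ} (hj : j < n) :
    look (d * 2 ^ (5 * n) + r) j = look r j := by
  rw [look_eq, look_eq]
  obtain ⟨k, rfl⟩ : ∃ k, n = j + 1 + k := ⟨n - (j + 1), by omega⟩
  have h1 : d * 2 ^ (5 * (j + 1 + k)) = (32 * (d * 2 ^ (5 * k))) * 2 ^ (5 * j) := by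
    have : 5 * (j + 1 + k) = 5 * j + 5 + 5 * k := by ring
    rw [this, Nat.pow_add, Nat.pow_add]
    ring
  rw [h1, Nat.add_comm, Nat.add_mul_div_right _ _ (by positivity), Nat.add_mul_mod_self_left]

theorem look_compRec (p q : ℕ) : ∀ n j, j < n → look (compRec p q n) j = digit p q j
  | 0, j, h => absurd h (Nat.not_lt_zero _)
  | n + 1, j, h => by
    rw [compRec_succ]
    rcases Nat.lt_succ_iff_lt_or_eq.mp h with h1 | rfl
    · rw [look_add_low h1]
      exact look_compRec p q n j h1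
    · exact look_add_top (digit_lt _ _ _) (compRec_lt _ _ _)

theorem compRec_congr {p q p' q' : ℕ} : ∀ n, (∀ i < n, digit p q i = digit p' q' i) →
    compRec p q n = compRec p' q' n
  | 0, _ => rfl
  | n + 1, h => by
    rw [compRec_succ, compRec_succ, h n (Nat.lt_succ_self n),
      compRec_congr n (fun i hi => h i (Nat.lt_succ_of_lt hi))]


/-- packed composition, unrolled form -/
def compRaw (p q : ℕ) : ℕ :=
  (Nat.add (Nat.shiftLeft (Nat.mod (Nat.shiftRight p (Nat.mul 5 (Nat.mod (Nat.shiftRight q 115) 32))) 32) 115) (Nat.add (Nat.shiftLeft (Nat.mod (Nat.shiftRight p (Nat.mul 5 (Nat.mod (Nat.shiftRight q 110) 32))) 32) 110) (Nat.add (Nat.shiftLeft (Nat.mod (Nat.shiftRight p (Nat.mul 5 (Nat.mod (Nat.shiftRight q 105) 32))) 32) 105) (Nat.add (Nat.shiftLeft (Nat.mod (Nat.shiftRight p (Nat.mul 5 (Nat.mod (Nat.shiftRight q 100) 32))) 32) 100) (Nat.add (Nat.shiftLeft (Nat.mod (Nat.shiftRight p (Nat.mul 5 (Nat.mod (Nat.shiftRight q 95) 32))) 32) 95) (Nat.add (Nat.shiftLeft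 (Nat.mod (Nat.shiftRight p (Nat.mul 5 (Nat.mod (Nat.shiftRight q 90) 32))) 32) 90) (Nat.add (Nat.shiftLeft (Nat.mod (Nat.shiftRight p (Nat.mul 5 (Nat.mod (Nat.shiftRight q 85) 32))) 32) 85) (Nat.add (Nat.shiftLeft (Nat.mod (Nat.shiftRight p (Nat.mul 5 (Nat.mod (Nat.shiftRight q 80) 32))) 32) 80) (Nat.add (Nat.shiftLeft (Nat.mod (Nat.shiftRight p (Nat.mul 5 (Nat.mod (Nat.shiftRight q 75) 32))) 32) 75) (Nat.add (Nat.shiftLeft (Nat.mod (Nat.shiftRight p (Nat.mul 5 (Nat.mod (Nat.shiftRight q 70) 32))) 32) 70) (Nat.add (Nat.shiftLeft (Nat.mod (Nat.shiftRight p (Nat.mul 5 (Nat.mod (Nat.shiftRight q 65) 32))) 32) 65) (Nat.add (Nat.shiftLeft (Nat.mod (Nat.shiftRight p (Nat.mul 5 (Nat.mod (Nat.shiftRight q 60) 32))) 32) 60) (Nat.add (Nat.shiftLeft (Nat.mod (Nat.shiftRight p (Nat.mul 5 (Nat.mod (Nat.shiftRight q 55) 32))) 32) 55) (Nat.add (Nat.shiftLeft (Nat.mod (Nat.shiftRight p (Nat.mul 5 (Nat.mod (Nat.shiftRight q 50) 32))) 32) 50) (Nat.add (Nat.shiftLeft (Nat.mod (Nat.shiftRight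 p (Nat.mul 5 (Nat.mod (Nat.shiftRight q 45) 32))) 32) 45) (Nat.add (Nat.shiftLeft (Nat.mod (Nat.shiftRight p (Nat.mul 5 (Nat.mod (Nat.shiftRight q 40) 32))) 32) 40) (Nat.add (Nat.shiftLeft (Nat.mod (Nat.shiftRight p (Nat.mul 5 (Nat.mod (Nat.shiftRight q 35) 32))) 32) 35) (Nat.add (Nat.shiftLeft (Nat.mod (Nat.shiftRight p (Nat.mul 5 (Nat.mod (Nat.shiftRight q 30) 32))) 32) 30) (Nat.add (Nat.shiftLeft (Nat.mod (Nat.shiftRight p (Nat.mul 5 (Nat.mod (Nat.shiftRight q 25) 32))) 32) 25) (Nat.add (Nat.shiftLeft (Nat.mod (Nat.shiftRight p (Nat.mul 5 (Nat.mod (Nat.shiftRight q 20) 32))) 32) 20) (Nat.add (Nat.shiftLeft (Nat.mod (Nat.shiftRight p (Nat.mul 5 (Nat.mod (Nat.shiftRight q 15) 32))) 32) 15) (Nat.add (Nat.shiftLeft (Nat.mod (Nat.shiftRight p (Nat.mul 5 (Nat.mod (Nat.shiftRight q 10) 32))) 32) 10) (Nat.add (Nat.shiftLeft (Nat.mod (Nat.shiftRight p (Nat.mul 5 (Nat.mod (Nat.shiftRight q 5) 32))) 32) 5) (Nat.add (Nat.shiftLeft (Nat.mod (Nat.shiftRight p (Nat.mul 5 (Nat.mod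 (Nat.shiftRight q 0) 32))) 32) 0) 0))))))))))))))))))))))))

theorem compRaw_eq (p q : ℕ) : compRaw p q = compRec p q 24 := rfl

/-! ### semantics -/

theorem actsBy_comp {σ τ : Equiv.Perm GolayPt} {p q : ℕ} (hp : ActsBy σ p) (hq : ActsBy τ q) :
    ActsBy (σ * τ) (compRaw p q) := by
  intro a ha
  rw [compRaw_eq, look_compRec p q 24 a ha, digit_eq]
  obtain ⟨h1, h2⟩ := hq a ha
  obtain ⟨h3, h4⟩ := hp _ h1
  exact ⟨h3, by rw [Equiv.Perm.mul_apply, h2, h4]⟩

theorem exists_ptN (x : GolayPt) : ∃ a, a < 24 ∧ x = ptN a :=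
  ⟨(ptInv x).val, (ptInv x).2, (ptN_ptInv x).symm⟩

theorem actsBy_unique {σ τ : Equiv.Perm GolayPt} {p : ℕ} (hσ : ActsBy σ p) (hτ : ActsBy τ p) :
    σ = τ := by
  apply Equiv.ext
  intro x
  obtain ⟨a, ha, rfl⟩ := exists_ptN x
  rw [(hσ a ha).2, (hτ a ha).2]

/-- the packed identity -/
def idP : ℕ := 984818244535754528103549039458486304

theorem look_idP : ∀ a : Fin 24, look idP a.val = a.val := by decide

theorem actsBy_one : ActsBy 1 idP := by
  intro a ha
  rw [look_idP ⟨a, ha⟩]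
  exact ⟨ha, rfl⟩

/-- canonical packed tables: no bits above the 24 entries -/
def Canon (r : ℕ) : Prop := compRaw r idP = r

instance (r : ℕ) : Decidable (Canon r) := by unfold Canon; infer_instance

theorem digit_idP (r i : ℕ) (hi : i < 24) : digit r idP i = look r i := by
  rw [digit_eq, look_idP ⟨i, hi⟩]

theorem canon_comp (p q : ℕ) : Canon (compRaw p q) := by
  unfold Canon
  rw [compRaw_eq, compRaw_eq]
  apply compRec_congr
  intro i hi
  rw [digit_idP _ _ hi, look_compRec p q 24 i hi]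

theorem eq_of_actsBy {σ : Equiv.Perm GolayPt} {r r' : ℕ} (h : ActsBy σ r) (h' : ActsBy σ r')
    (hc : Canon r) (hc' : Canon r') : r = r' := by
  rw [← hc, ← hc', compRaw_eq, compRaw_eq]
  apply compRec_congr
  intro i hi
  rw [digit_idP _ _ hi, digit_idP _ _ hi]
  apply ptN_inj (h i hi).1 (h' i hi).1
  rw [← (h i hi).2, ← (h' i hi).2]

theorem beq_iff {σ τ : Equiv.Perm GolayPt} {r r' : ℕ} (h : ActsBy σ r) (h' : ActsBy τ r')
    (hc : Canon r) (hc' : Canon r') : Nat.beq r r' = true ↔ σ = τ := by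
  rw [Nat.beq_eq]
  constructor
  · intro e
    subst e
    exact actsBy_unique h h'
  · intro e
    subst e
    exact eq_of_actsBy h h' hc hc'

/-! ### forcing evaluation -/

/-- evaluate `x` before applying `f` -/
def frc {α : Type} (x : ℕ) (f : ℕ → α) : α := Nat.rec (f Nat.zero) (fun n _ => f (Nat.succ n)) x

theorem frc_eq {α : Type} (x : ℕ) (f : ℕ → α) : frc x f = f x := by cases x <;> rfl

/-- packed composition with forced arguments -/
def compP (p q : ℕ) : ℕ := frc p fun p' => frc q fun q' => compRaw p' q'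

theorem compP_eq (p q : ℕ) : compP p q = compRaw p q := by
  unfold compP
  rw [frc_eq, frc_eq]

/-- packed square -/
def sqP (x : ℕ) : ℕ := frc x fun x' => compRaw x' x'

theorem sqP_eq (x : ℕ) : sqP x = compRaw x x := by
  unfold sqP
  rw [frc_eq]

/-- third, fifth, seventh and eleventh powers -/
def pow3 (y : ℕ) : ℕ := frc y fun y' => compP y' (sqP y')
def pow5 (y : ℕ) : ℕ := frc y fun y' => compP y' (sqP (sqP y'))
def pow7 (y : ℕ) : ℕ := frc y fun y' => compP y' (sqP (pow3 y'))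
def pow11 (y : ℕ) : ℕ := frc y fun y' => compP y' (sqP (pow5 y'))

/-- the power `3465 = 3 * 3 * 5 * 7 * 11` -/
def pow3465 (y : ℕ) : ℕ := pow11 (pow7 (pow5 (pow3 (pow3 y))))

/-- the power `128` -/
def pow128 (y : ℕ) : ℕ := sqP (sqP (sqP (sqP (sqP (sqP (sqP y))))))

/-- a packed table together with its meaning -/
def Rep (σ : Equiv.Perm GolayPt) (r : ℕ) : Prop := ActsBy σ r ∧ Canon r

theorem Rep.comp {σ τ : Equiv.Perm GolayPt} {p q : ℕ} (hp : Rep σ p) (hq : Rep τ q) :
    Rep (σ * τ) (compP p q) := by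
  rw [compP_eq]
  exact ⟨actsBy_comp hp.1 hq.1, canon_comp _ _⟩

theorem Rep.sq {σ : Equiv.Perm GolayPt} {p : ℕ} (hp : Rep σ p) : Rep (σ ^ 2) (sqP p) := by
  rw [sqP_eq, pow_two]
  exact ⟨actsBy_comp hp.1 hp.1, canon_comp _ _⟩

theorem Rep.pow3 {σ : Equiv.Perm GolayPt} {p : ℕ} (hp : Rep σ p) : Rep (σ ^ 3) (pow3 p) := by
  unfold PackPerm.pow3
  rw [frc_eq]
  have := hp.comp hp.sq
  rwa [← pow_succ'] at this

theorem Rep.pow5 {σ : Equiv.Perm GolayPt} {p : ℕ} (hp : Rep σ p) : Rep (σ ^ 5) (pow5 p) := by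
  unfold PackPerm.pow5
  rw [frc_eq]
  have := hp.comp hp.sq.sq
  rwa [← pow_mul, ← pow_succ'] at this

theorem Rep.pow7 {σ : Equiv.Perm GolayPt} {p : ℕ} (hp : Rep σ p) : Rep (σ ^ 7) (pow7 p) := by
  unfold PackPerm.pow7
  rw [frc_eq]
  have := hp.comp hp.pow3.sq
  rwa [← pow_mul, ← pow_succ'] at this

theorem Rep.pow11 {σ : Equiv.Perm GolayPt} {p : ℕ} (hp : Rep σ p) : Rep (σ ^ 11) (pow11 p) := by
  unfold PackPerm.pow11
  rw [frc_eq]
  have := hp.comp hp.pow5.sq
  rwa [← pow_mul, ← pow_succ'] at this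

theorem Rep.pow3465 {σ : Equiv.Perm GolayPt} {p : ℕ} (hp : Rep σ p) :
    Rep (σ ^ 3465) (pow3465 p) := by
  have := hp.pow3.pow3.pow5.pow7.pow11
  rwa [← pow_mul, ← pow_mul, ← pow_mul, ← pow_mul] at this

theorem Rep.pow128 {σ : Equiv.Perm GolayPt} {p : ℕ} (hp : Rep σ p) :
    Rep (σ ^ 128) (pow128 p) := by
  have := hp.sq.sq.sq.sq.sq.sq.sq
  rwa [← pow_mul, ← pow_mul, ← pow_mul, ← pow_mul, ← pow_mul, ← pow_mul] at this

theorem rep_one : Rep 1 idP := ⟨actsBy_one, by decide⟩

/-- test for the identity -/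
def isOneP (r : ℕ) : Bool := Nat.beq r idP

theorem Rep.isOne_iff {σ : Equiv.Perm GolayPt} {r : ℕ} (h : Rep σ r) :
    isOneP r = true ↔ σ = 1 :=
  beq_iff h.1 rep_one.1 h.2 rep_one.2

theorem Rep.beq_iff {σ τ : Equiv.Perm GolayPt} {r r' : ℕ} (h : Rep σ r) (h' : Rep τ r') :
    Nat.beq r r' = true ↔ σ = τ :=
  PackPerm.beq_iff h.1 h'.1 h.2 h'.2

/-! ### counting -/

/-- the number of `l` in `ks` whose product with `c` passes the test -/
def cntT (T : ℕ → Bool) (c : ℕ) (ks : List ℕ) : ℕ :=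
  ks.foldl (fun acc l => frc acc fun a => cond (T (compP c l)) (Nat.succ a) a) 0

theorem cntT_eq (T : ℕ → Bool) (c : ℕ) (ks : List ℕ) :
    cntT T c ks = (ks.map (compRaw c)).countP T := by
  unfold cntT
  suffices h : ∀ acc, ks.foldl (fun acc l => frc acc fun a => cond (T (compP c l)) (Nat.succ a) a)
      acc = acc + (ks.map (compRaw c)).countP T by simpa using h 0
  induction ks with
  | nil => intro acc; simp
  | cons l ks ih =>
    intro acc
    rw [List.foldl_cons, ih, frc_eq, compP_eq, List.map_cons, List.countP_cons]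
    cases T (compRaw c l) <;> simp <;> omega

/-- the count over the cosets `m * s`, `s` in `ss` -/
def cntChunk (T : ℕ → Bool) (m : ℕ) (ss ks : List ℕ) : ℕ :=
  ss.foldl (fun acc s => frc acc fun a => Nat.add a (frc (compP m s) fun c => cntT T c ks)) 0

/-- all products `m * s * l` -/
def prods (m : ℕ) (ss ks : List ℕ) : List ℕ :=
  ss.flatMap fun s => ks.map (compRaw (compRaw m s))

theorem cntChunk_eq (T : ℕ → Bool) (m : ℕ) (ss ks : List ℕ) :
    cntChunk T m ss ks = (prods m ss ks).countP T := by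
  unfold cntChunk prods
  suffices h : ∀ acc, ss.foldl (fun acc s => frc acc fun a => Nat.add a
      (frc (compP m s) fun c => cntT T c ks)) acc =
      acc + (ss.flatMap fun s => ks.map (compRaw (compRaw m s))).countP T by simpa using h 0
  induction ss with
  | nil => intro acc; simp
  | cons s ss ih =>
    intro acc
    rw [List.foldl_cons, ih, frc_eq, frc_eq, compP_eq, cntT_eq, List.flatMap_cons,
      List.countP_append]
    show acc + _ + _ = _
    omega

theorem length_prods (m : ℕ) (ss ks : List ℕ) : (prods m ss ks).length = ss.length * ks.length := by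
  unfold prods
  induction ss with
  | nil => simp
  | cons s ss ih =>
    rw [List.flatMap_cons, List.length_append, ih, List.length_map, List.length_cons]
    ring

/-- the full list of products -/
def allProds (ms ss ks : List ℕ) : List ℕ := ms.flatMap fun m => prods m ss ks

theorem length_allProds (ms ss ks : List ℕ) :
    (allProds ms ss ks).length = ms.length * (ss.length * ks.length) := by
  unfold allProds
  induction ms with
  | nil => simp
  | cons m ms ih =>
    rw [List.flatMap_cons, List.length_append, ih, length_prods, List.length_cons]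
    ring

theorem countP_allProds (T : ℕ → Bool) (ms ss ks : List ℕ) :
    (allProds ms ss ks).countP T = (ms.map fun m => cntChunk T m ss ks).sum := by
  unfold allProds
  rw [List.countP_flatMap]
  congr 1
  apply List.map_congr_left
  intro m _
  rw [cntChunk_eq]
  rfl

/-- exact counting through an exhaustive list of packed tables -/
theorem card_filter_of_cover {H : Subgroup (Equiv.Perm GolayPt)} (L : List ℕ)
    (hlen : L.length = Nat.card H)
    (hcov : ∀ σ ∈ H, ∃ r ∈ L, Rep σ r)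
    (P : Equiv.Perm GolayPt → Prop) (T : ℕ → Bool)
    (hT : ∀ σ ∈ H, ∀ r, Rep σ r → (T r = true ↔ P σ)) :
    Nat.card {x : ↥H // P x.1} = L.countP T := by
  classical
  have : Fintype ↥H := Fintype.ofFinite _
  choose f hfL hfR using fun x : ↥H => hcov x.1 x.2
  have hinj : Function.Injective f := by
    intro x y hxy
    apply Subtype.ext
    have h2 := hfR y
    rw [← hxy] at h2
    exact actsBy_unique (hfR x).1 h2.1
  have himg : Finset.univ.image f ⊆ L.toFinset := by
    intro r hr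
    rw [Finset.mem_image] at hr
    obtain ⟨x, _, rfl⟩ := hr
    exact List.mem_toFinset.mpr (hfL x)
  have hcard : (Finset.univ.image f).card = L.length := by
    rw [Finset.card_image_of_injective _ hinj, Finset.card_univ, hlen, Nat.card_eq_fintype_card]
  have hle : L.toFinset.card ≤ L.length := List.toFinset_card_le L
  have heq : Finset.univ.image f = L.toFinset :=
    Finset.eq_of_subset_of_card_le himg (by rw [hcard]; exact hle)
  have hnd : L.Nodup := by
    have h1 : L.toFinset.card = L.length := by rw [← heq, hcard]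
    have h2 := (Multiset.toFinset_card_eq_card_iff_nodup (m := (L : Multiset ℕ))).mp
      (by simpa using h1)
    simpa using h2
  have hsurj : ∀ r ∈ L, ∃ x, f x = r := by
    intro r hr
    have : r ∈ Finset.univ.image f := by rw [heq]; exact List.mem_toFinset.mpr hr
    rw [Finset.mem_image] at this
    obtain ⟨x, _, hx⟩ := this
    exact ⟨x, hx⟩
  have hfT : ∀ x : ↥H, T (f x) = true ↔ P x.1 := fun x => hT x.1 x.2 (f x) (hfR x)
  rw [Nat.card_eq_fintype_card, Fintype.card_subtype, List.countP_eq_length_filter,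
    ← List.toFinset_card_of_nodup (hnd.filter _), List.toFinset_filter,
    ← Finset.card_image_of_injective _ hinj]
  congr 1
  ext r
  simp only [Finset.mem_image, Finset.mem_filter, Finset.mem_univ, true_and, List.mem_toFinset]
  constructor
  · rintro ⟨x, hx, rfl⟩
    exact ⟨hfL x, (hfT x).mpr hx⟩
  · rintro ⟨hr, hTr⟩
    obtain ⟨x, rfl⟩ := hsurj r hr
    exact ⟨x, (hfT x).mp hTr, rfl⟩

end Cfsg.Agent.Lib.Helper13.PackPerm
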