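import Mathlib

set_option autoImplicit false

/-!
Helper lemmas for the involution graph of PSL(2, F): generic group facts, 2 x 2 matrix power
computations (parabolic and hyperbolic cases), and the passage between SL(2, F) and its central
quotient.
-/

namespace Cfsg.Agent.Lib.Helper13.PslInv

open Matrix

section GroupFacts

variable {G : Type*} [Group G]

theorem odd_orderOf_of_pow {x : G} {m : ℕ} (hm : Odd m) (h : x ^ m = 1) : Odd (orderOf x) :=
  Odd.of_dvd_nat hm (orderOf_dvd_of_pow_eq_one h)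

theorem isConj_of_odd_orderOf_mul {x z : G} (hx : x * x = 1) (hz : z * z = 1)
    (h : Odd (orderOf (x * z))) : IsConj x z := by
  obtain ⟨m, hm⟩ := h
  have hxinv : x⁻¹ = x := inv_eq_of_mul_eq_one_left hx
  have hzinv : z⁻¹ = z := inv_eq_of_mul_eq_one_left hz
  have hrpow : (x * z) ^ (2 * m + 1) = 1 := by rw [← hm]; exact pow_orderOf_eq_one _
  have hconj : x * (x * z) * x⁻¹ = (x * z)⁻¹ := by
    rw [_root_.mul_inv_rev, hzinv, ← mul_assoc, hx, one_mul]
  have h1 : x * (x * z) ^ m * x⁻¹ = ((x * z) ^ m)⁻¹ := by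
    rw [← conj_pow, hconj, inv_pow]
  have h2 : (x * z) ^ (2 * m) = (x * z)⁻¹ := by
    have : (x * z) ^ (2 * m) * (x * z) = 1 := by rw [← pow_succ]; exact hrpow
    exact eq_inv_of_mul_eq_one_left this
  refine isConj_iff.mpr ⟨(x * z) ^ m, ?_⟩
  calc (x * z) ^ m * x * ((x * z) ^ m)⁻¹
      = (x * z) ^ m * x * (x * (x * z) ^ m * x⁻¹) := by rw [h1]
    _ = (x * z) ^ m * (x * x) * (x * z) ^ m * x⁻¹ := by group
    _ = (x * z) ^ (2 * m) * x⁻¹ := by rw [hx, mul_one, ← pow_add, two_mul]
    _ = (x * z)⁻¹ * x⁻¹ := by rw [h2]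
    _ = z := by rw [_root_.mul_inv_rev, hzinv, hxinv, mul_assoc, hx, mul_one]

end GroupFacts

section MatrixFacts

variable {F : Type*} [Field F]

/-- Cayley–Hamilton for 2 x 2 matrices. -/
theorem mul_self_fin_two (M : Matrix (Fin 2) (Fin 2) F) :
    M * M = M.trace • M - M.det • (1 : Matrix (Fin 2) (Fin 2) F) := by
  ext i j
  fin_cases i <;> fin_cases j <;>
    simp [Matrix.mul_apply, Fin.sum_univ_two, Matrix.trace_fin_two, Matrix.det_fin_two] <;> ring

/-- A 2 x 2 matrix of determinant one and trace `2ε` with `ε² = 1` has `p`-th power `ε^p`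
in characteristic `p`. -/
theorem pow_char_of_trace (p : ℕ) [Fact p.Prime] [CharP F p] (M : Matrix (Fin 2) (Fin 2) F)
    (hdet : M.det = 1) (ε : F) (hε : ε * ε = 1) (htr : M.trace = 2 * ε) :
    M ^ p = (ε ^ p) • (1 : Matrix (Fin 2) (Fin 2) F) := by
  have hCH : M * M = (2 * ε) • M - 1 := by rw [mul_self_fin_two, hdet, htr, one_smul]
  set E : Matrix (Fin 2) (Fin 2) F := M - ε • 1 with hE
  have hEE : E * E = 0 := by
    rw [hE, sub_mul, mul_sub, mul_sub, hCH]
    simp only [Matrix.smul_mul, Matrix.mul_smul, mul_one, one_mul, smul_smul, hε, one_smul]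
    rw [mul_smul, two_smul]
    abel
  have hM : M = ε • 1 + E := by rw [hE]; abel
  have hcomm : Commute (ε • (1 : Matrix (Fin 2) (Fin 2) F)) E := by
    rw [Commute, SemiconjBy]
    simp
  have hp2 : 2 ≤ p := (Fact.out : p.Prime).two_le
  have hEp : E ^ p = 0 := pow_eq_zero_of_le hp2 (by rw [pow_two, hEE])
  rw [hM, add_pow_char_of_commute _ hcomm, hEp, add_zero, smul_pow, one_pow]

/-- A 2 x 2 matrix of determinant one with two distinct eigenvalue candidates `l`, `m`
(`l m = 1`, trace `l + m`) has `n`-th power `e` whenever `l ^ n = m ^ n = e`. -/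
theorem pow_of_hyperbolic (M : Matrix (Fin 2) (Fin 2) F) (hdet : M.det = 1) (l m e : F)
    (hlm : l * m = 1) (hne : l ≠ m) (htr : M.trace = l + m) (n : ℕ) (hl : l ^ n = e)
    (hm : m ^ n = e) : M ^ n = e • (1 : Matrix (Fin 2) (Fin 2) F) := by
  have hCH : M * M = (l + m) • M - 1 := by rw [mul_self_fin_two, hdet, htr, one_smul]
  have h1 : M * (M - m • 1) = l • (M - m • 1) := by
    rw [mul_sub, hCH, Matrix.mul_smul, mul_one, smul_sub, smul_smul, hlm, one_smul, add_smul]
    abel
  have h2 : M * (l • 1 - M) = m • (l • 1 - M) := by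
    rw [mul_sub, hCH, Matrix.mul_smul, mul_one, smul_sub, smul_smul, mul_comm m l, hlm, one_smul,
      add_smul]
    abel
  have p1 : ∀ k : ℕ, M ^ k * (M - m • 1) = l ^ k • (M - m • 1) := by
    intro k
    induction k with
    | zero => simp
    | succ k ih => rw [pow_succ, mul_assoc, h1, Matrix.mul_smul, ih, smul_smul, pow_succ, mul_comm]
  have p2 : ∀ k : ℕ, M ^ k * (l • 1 - M) = m ^ k • (l • 1 - M) := by
    intro k
    induction k with
    | zero => simp
    | succ k ih => rw [pow_succ, mul_assoc, h2, Matrix.mul_smul, ih, smul_smul, pow_succ, mul_comm]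
  have hsum : (M - m • (1 : Matrix (Fin 2) (Fin 2) F)) + (l • 1 - M) = (l - m) • 1 := by
    rw [sub_smul]; abel
  have hkey : M ^ n * ((l - m) • (1 : Matrix (Fin 2) (Fin 2) F)) = e • ((l - m) • 1) := by
    rw [← hsum, mul_add, p1, p2, hl, hm, smul_add]
  have hlm' : l - m ≠ 0 := sub_ne_zero.mpr hne
  have : (l - m) • (M ^ n) = (l - m) • (e • (1 : Matrix (Fin 2) (Fin 2) F)) := by
    rw [Matrix.mul_smul, mul_one] at hkey
    rw [hkey, smul_comm]
  exact smul_right_injective _ hlm' this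

end MatrixFacts

end Cfsg.Agent.Lib.Helper13.PslInv
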