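import Cfsg.Agent.Lib.Helper13.PslInvA

set_option autoImplicit false

/-!
SL(2, F) versus its central quotient: centre membership, traceless elements, orders of images.
-/

namespace Cfsg.Agent.Lib.Helper13.PslInv

open Matrix

variable {F : Type*} [Field F]

theorem det_entries (g : Matrix.SpecialLinearGroup (Fin 2) F) :
    g 0 0 * g 1 1 - g 0 1 * g 1 0 = 1 := by
  have := g.det_coe
  rwa [Matrix.det_fin_two] at this

theorem mem_center_of_val_eq_smul_one {g : Matrix.SpecialLinearGroup (Fin 2) F} {r : F}
    (hr : r * r = 1) (h : (g : Matrix (Fin 2) (Fin 2) F) = r • (1 : Matrix (Fin 2) (Fin 2) F)) :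
    g ∈ Subgroup.center (Matrix.SpecialLinearGroup (Fin 2) F) := by
  rw [Matrix.SpecialLinearGroup.mem_center_iff]
  refine ⟨r, by simpa [pow_two] using hr, ?_⟩
  rw [h]
  ext i j
  fin_cases i <;> fin_cases j <;> simp

theorem val_eq_smul_one_of_mem_center {g : Matrix.SpecialLinearGroup (Fin 2) F}
    (h : g ∈ Subgroup.center (Matrix.SpecialLinearGroup (Fin 2) F)) :
    ∃ r : F, r * r = 1 ∧ (g : Matrix (Fin 2) (Fin 2) F) = r • (1 : Matrix (Fin 2) (Fin 2) F) := by
  rw [Matrix.SpecialLinearGroup.mem_center_iff] at h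
  obtain ⟨r, hr, hg⟩ := h
  refine ⟨r, by simpa [pow_two] using hr, ?_⟩
  rw [← hg]
  ext i j
  fin_cases i <;> fin_cases j <;> simp

/-- An element of SL(2, F) outside the centre whose square is central has trace zero. -/
theorem trace_zero_of_sq_mem_center {g : Matrix.SpecialLinearGroup (Fin 2) F}
    (hsq : g * g ∈ Subgroup.center (Matrix.SpecialLinearGroup (Fin 2) F))
    (hg : g ∉ Subgroup.center (Matrix.SpecialLinearGroup (Fin 2) F)) :
    g 0 0 + g 1 1 = 0 := by
  by_contra hne
  obtain ⟨r, hr, hgg⟩ := val_eq_smul_one_of_mem_center hsq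
  rw [Matrix.SpecialLinearGroup.coe_mul] at hgg
  have h01 := congrFun (congrFun hgg 0) 1
  have h10 := congrFun (congrFun hgg 1) 0
  have h00 := congrFun (congrFun hgg 0) 0
  have h11 := congrFun (congrFun hgg 1) 1
  simp [Matrix.mul_apply, Fin.sum_univ_two] at h01 h10 h00 h11
  have hdet := det_entries g
  have hb : g 0 1 = 0 := by
    have : g 0 1 * (g 0 0 + g 1 1) = 0 := by linear_combination h01
    rcases mul_eq_zero.mp this with h | h
    · exact h
    · exact absurd h hne
  have hc : g 1 0 = 0 := by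
    have : g 1 0 * (g 0 0 + g 1 1) = 0 := by linear_combination h10
    rcases mul_eq_zero.mp this with h | h
    · exact h
    · exact absurd h hne
  rw [hb, hc] at h00 h11 hdet
  have had : g 0 0 = g 1 1 := by
    have : (g 0 0 - g 1 1) * (g 0 0 + g 1 1) = 0 := by linear_combination h00 - h11
    rcases mul_eq_zero.mp this with h | h
    · exact sub_eq_zero.mp h
    · exact absurd h hne
  apply hg
  refine mem_center_of_val_eq_smul_one (r := g 0 0) ?_ ?_
  · linear_combination hdet + g 0 0 * had
  · ext i j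
    fin_cases i <;> fin_cases j <;> simp [hb, hc, had]

/-- The square of a traceless element of SL(2, F) is the central element `-1`. -/
theorem mul_self_val_of_trace_zero {g : Matrix.SpecialLinearGroup (Fin 2) F}
    (htr : g 0 0 + g 1 1 = 0) :
    ((g * g : Matrix.SpecialLinearGroup (Fin 2) F) : Matrix (Fin 2) (Fin 2) F) = (-1 : F) • (1 : Matrix (Fin 2) (Fin 2) F) := by
  have hdet := det_entries g
  rw [Matrix.SpecialLinearGroup.coe_mul]
  ext i j
  fin_cases i <;> fin_cases j <;> simp [Matrix.mul_apply, Fin.sum_univ_two]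
  · linear_combination (-1 : F) * hdet + g 0 0 * htr
  · linear_combination g 0 1 * htr
  · linear_combination g 1 0 * htr
  · linear_combination (-1 : F) * hdet + g 1 1 * htr

theorem mul_self_mem_center_of_trace_zero {g : Matrix.SpecialLinearGroup (Fin 2) F}
    (htr : g 0 0 + g 1 1 = 0) :
    g * g ∈ Subgroup.center (Matrix.SpecialLinearGroup (Fin 2) F) :=
  mem_center_of_val_eq_smul_one (r := -1) (by ring) (mul_self_val_of_trace_zero htr)

/-- In characteristic different from two, a traceless element is not central. -/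
theorem not_mem_center_of_trace_zero (h2 : (2 : F) ≠ 0) {g : Matrix.SpecialLinearGroup (Fin 2) F}
    (htr : g 0 0 + g 1 1 = 0) :
    g ∉ Subgroup.center (Matrix.SpecialLinearGroup (Fin 2) F) := by
  intro hc
  obtain ⟨r, hr, hg⟩ := val_eq_smul_one_of_mem_center hc
  have h00 := congrFun (congrFun hg 0) 0
  have h11 := congrFun (congrFun hg 1) 1
  simp at h00 h11
  rw [h00, h11] at htr
  have hr0 : r = 0 := by
    have : (2 : F) * r = 0 := by linear_combination htr
    rcases mul_eq_zero.mp this with h | h
    · exact absurd h h2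
    · exact h
  rw [hr0] at hr
  simp at hr

section Quotient

/-- The image in PSL(2, F) of an element with an odd power in the centre has odd order. -/
theorem odd_orderOf_mk {g : Matrix.SpecialLinearGroup (Fin 2) F} {m : ℕ} (hm : Odd m)
    (h : g ^ m ∈ Subgroup.center (Matrix.SpecialLinearGroup (Fin 2) F)) :
    Odd (orderOf (g : Matrix.ProjectiveSpecialLinearGroup (Fin 2) F)) := by
  apply odd_orderOf_of_pow hm
  rw [← QuotientGroup.mk_pow]
  exact (QuotientGroup.eq_one_iff _).mpr h

theorem mk_mul_self_eq_one {g : Matrix.SpecialLinearGroup (Fin 2) F}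
    (htr : g 0 0 + g 1 1 = 0) :
    (g : Matrix.ProjectiveSpecialLinearGroup (Fin 2) F) * g = 1 := by
  rw [← QuotientGroup.mk_mul]
  exact (QuotientGroup.eq_one_iff _).mpr (mul_self_mem_center_of_trace_zero htr)

theorem orderOf_mk_eq_two {g : Matrix.SpecialLinearGroup (Fin 2) F}
    (htr : g 0 0 + g 1 1 = 0)
    (hg : g ∉ Subgroup.center (Matrix.SpecialLinearGroup (Fin 2) F)) :
    orderOf (g : Matrix.ProjectiveSpecialLinearGroup (Fin 2) F) = 2 := by
  apply orderOf_eq_prime
  · rw [pow_two]; exact mk_mul_self_eq_one htr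
  · intro h
    exact hg ((QuotientGroup.eq_one_iff _).mp h)

/-- Lifting an involution of PSL(2, F) to a traceless matrix outside the centre. -/
theorem exists_lift_of_involution (x : Matrix.ProjectiveSpecialLinearGroup (Fin 2) F)
    (hx : x * x = 1) (hx1 : x ≠ 1) :
    ∃ A : Matrix.SpecialLinearGroup (Fin 2) F, (A : Matrix.ProjectiveSpecialLinearGroup (Fin 2) F) = x ∧
      A 0 0 + A 1 1 = 0 ∧ A ∉ Subgroup.center (Matrix.SpecialLinearGroup (Fin 2) F) := by
  obtain ⟨A, rfl⟩ := QuotientGroup.mk_surjective x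
  have hA : A ∉ Subgroup.center (Matrix.SpecialLinearGroup (Fin 2) F) := by
    intro h
    exact hx1 ((QuotientGroup.eq_one_iff _).mpr h)
  have hAA : A * A ∈ Subgroup.center (Matrix.SpecialLinearGroup (Fin 2) F) := by
    rw [← QuotientGroup.mk_mul] at hx
    exact (QuotientGroup.eq_one_iff _).mp hx
  exact ⟨A, rfl, trace_zero_of_sq_mem_center hAA hA, hA⟩

end Quotient

end Cfsg.Agent.Lib.Helper13.PslInv
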