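import Cfsg.Agent.Lib.Helper13.PslInvB

set_option autoImplicit false

/-!
Odd powers in the centre (parabolic and hyperbolic traces) and the polynomial identities behind the
construction of a third traceless matrix with prescribed traces against two given ones.
-/

namespace Cfsg.Agent.Lib.Helper13.PslInv

open Matrix

variable {F : Type*} [Field F]

/-- Parabolic case: trace `2ε` with `ε² = 1` forces the `p`-th power into the centre. -/
theorem pow_char_mem_center (p : ℕ) [Fact p.Prime] [CharP F p]
    (g : Matrix.SpecialLinearGroup (Fin 2) F) (ε : F) (hε : ε * ε = 1)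
    (htr : g 0 0 + g 1 1 = 2 * ε) :
    g ^ p ∈ Subgroup.center (Matrix.SpecialLinearGroup (Fin 2) F) := by
  apply mem_center_of_val_eq_smul_one (r := ε ^ p)
  · rw [← mul_pow, hε, one_pow]
  · rw [Matrix.SpecialLinearGroup.coe_pow]
    exact pow_char_of_trace p _ g.det_coe ε hε (by rw [Matrix.trace_fin_two]; exact htr)

/-- Over a field with `q ≡ 3 (mod 4)` elements, an element of SL(2, F) whose trace is `l + m`
with `l m = 1` has an odd power in the centre. -/
theorem exists_odd_pow_mem_center [Fintype F] (hq : Fintype.card F % 4 = 3)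
    (g : Matrix.SpecialLinearGroup (Fin 2) F) (l m : F) (hlm : l * m = 1)
    (htr : g 0 0 + g 1 1 = l + m) :
    ∃ k : ℕ, Odd k ∧ g ^ k ∈ Subgroup.center (Matrix.SpecialLinearGroup (Fin 2) F) := by
  have hl0 : l ≠ 0 := by
    rintro rfl
    simp at hlm
  by_cases hne : l = m
  · -- parabolic
    haveI : Fact (ringChar F).Prime := ⟨CharP.char_is_prime F (ringChar F)⟩
    have hodd : Odd (ringChar F) := by
      rcases (Fact.out : (ringChar F).Prime).eq_two_or_odd' with h | h
      · exfalso
        have := FiniteField.even_card_of_char_two h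
        omega
      · exact h
    refine ⟨ringChar F, hodd, pow_char_mem_center (ringChar F) g l ?_ ?_⟩
    · rw [← hlm, ← hne]
    · rw [htr, ← hne]; ring
  · -- hyperbolic
    set n := Fintype.card F / 2 with hn
    have hnodd : Odd n := ⟨Fintype.card F / 4, by omega⟩
    have hcard : Fintype.card F - 1 = 2 * n := by omega
    have hpow : l ^ (2 * n) = 1 := by
      rw [← hcard]; exact FiniteField.pow_card_sub_one_eq_one l hl0
    have hee : l ^ n * l ^ n = 1 := by rw [← pow_add, ← two_mul]; exact hpow
    have hmn : m ^ n = l ^ n := by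
      have h1 : l ^ n * m ^ n = 1 := by rw [← mul_pow, hlm, one_pow]
      have hne0 : l ^ n ≠ 0 := pow_ne_zero _ hl0
      exact mul_left_cancel₀ hne0 (h1.trans hee.symm)
    refine ⟨n, hnodd, mem_center_of_val_eq_smul_one (r := l ^ n) hee ?_⟩
    rw [Matrix.SpecialLinearGroup.coe_pow]
    exact pow_of_hyperbolic _ g.det_coe l m (l ^ n) hlm hne
      (by rw [Matrix.trace_fin_two]; exact htr) n rfl hmn

/-- The polynomial identities: given two traceless determinant-one matrices with entries
`a b c` and `d e f`, the scalars `α β`, and a square root `w` of the discriminant, there is a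
traceless determinant-one matrix with the prescribed traces against both. -/
theorem core_identities (a b c d e f α β w Di : F)
    (hA : a ^ 2 + b * c = -1) (hB : d ^ 2 + e * f = -1)
    (hDi : (4 - (2 * a * d + b * f + c * e) ^ 2) * Di = 1)
    (hw : w ^ 2 = 4 - (2 * a * d + b * f + c * e) ^ 2 - α ^ 2 - β ^ 2
      - (2 * a * d + b * f + c * e) * α * β) :
    ∃ c00 c01 c10 : F, c00 * (-c00) - c01 * c10 = 1 ∧
      2 * a * c00 + b * c10 + c * c01 = α ∧ 2 * d * c00 + f * c01 + e * c10 = β := by
  refine ⟨((-2 * α - (2 * a * d + b * f + c * e) * β) * Di) * a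
      + ((-(2 * a * d + b * f + c * e) * α - 2 * β) * Di) * d + (w * Di) * (b * f - c * e),
    ((-2 * α - (2 * a * d + b * f + c * e) * β) * Di) * b
      + ((-(2 * a * d + b * f + c * e) * α - 2 * β) * Di) * e + 2 * (w * Di) * (a * e - b * d),
    ((-2 * α - (2 * a * d + b * f + c * e) * β) * Di) * c
      + ((-(2 * a * d + b * f + c * e) * α - 2 * β) * Di) * f + 2 * (w * Di) * (c * d - a * f),
    ?_, ?_, ?_⟩
  · linear_combination
      (-(((-2 * α - (2 * a * d + b * f + c * e) * β) * Di)) ^ 2
        + 4 * (w * Di) ^ 2 * (d ^ 2 + e * f)) * hA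
      + (-(((-(2 * a * d + b * f + c * e) * α - 2 * β) * Di)) ^ 2 - 4 * (w * Di) ^ 2) * hB
      + (Di ^ 2 * (4 - (2 * a * d + b * f + c * e) ^ 2)) * hw
      + ((4 - (2 * a * d + b * f + c * e) ^ 2) * Di + 1) * hDi
  · linear_combination (2 * ((-2 * α - (2 * a * d + b * f + c * e) * β) * Di)) * hA + α * hDi
  · linear_combination (2 * ((-(2 * a * d + b * f + c * e) * α - 2 * β) * Di)) * hB + β * hDi

end Cfsg.Agent.Lib.Helper13.PslInv
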