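import Cfsg.Agent.Lib.Helper13.PslInvC

set_option autoImplicit false

/-!
Existence of the square-root data over a finite field in which `-1` is not a square.
-/

namespace Cfsg.Agent.Lib.Helper13.PslInv

variable {F : Type*} [Field F] [Fintype F]

/-- If `-1` is not a square in the finite field `F`, some `t ^ 2 + 1` is not a square. -/
theorem exists_not_isSquare_sq_add_one (hm1 : ¬ IsSquare (-1 : F)) :
    ∃ t : F, ¬ IsSquare (t ^ 2 + 1) := by
  by_contra hcon
  push Not at hcon
  have hall : ∀ n : ℕ, IsSquare ((n : F)) := by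
    intro n
    induction n with
    | zero => exact ⟨0, by simp⟩
    | succ n ih =>
      obtain ⟨s, hs⟩ := ih
      have := hcon s
      rw [pow_two, ← hs] at this
      simpa using this
  apply hm1
  have hq : ((Fintype.card F : ℕ) : F) = 0 := FiniteField.cast_card_eq_zero F
  have hpos : 1 ≤ Fintype.card F := Fintype.card_pos
  have : (((Fintype.card F - 1 : ℕ)) : F) = -1 := by
    rw [Nat.cast_sub hpos, hq]; simp
  rw [← this]
  exact hall _

theorem exists_sqrt_data (hF : 4 ≤ Fintype.card F) (hm1 : ¬ IsSquare (-1 : F)) (τ : F)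
    (hτ : ¬ IsSquare (τ ^ 2 - 4)) :
    ∃ ϵ l ω : F, (ϵ = 1 ∨ ϵ = -1) ∧ l ≠ 0 ∧
      ω ^ 2 = -(2 + ϵ * τ) * (l ^ 4 + ϵ * τ * l ^ 2 + 1) := by
  classical
  have hchar : ringChar F ≠ 2 := fun h => hm1 (FiniteField.isSquare_of_char_two h _)
  have h2 : (2 : F) ≠ 0 := Ring.two_ne_zero hchar
  have χm1 : quadraticChar F (-1) = -1 := quadraticChar_neg_one_iff_not_isSquare.mpr hm1
  have χτ : quadraticChar F (τ ^ 2 - 4) = -1 := quadraticChar_neg_one_iff_not_isSquare.mpr hτ
  have hN : ∀ ρ : F, ρ ^ 2 + τ * ρ + 1 ≠ 0 := by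
    intro ρ h
    apply hτ
    exact ⟨2 * ρ + τ, by linear_combination (-4 : F) * h⟩
  have hD : quadraticChar F (4 - τ ^ 2) = 1 := by
    have : (4 - τ ^ 2 : F) = (-1) * (τ ^ 2 - 4) := by ring
    rw [this, map_mul, χm1, χτ]; norm_num
  have hD0 : (4 - τ ^ 2 : F) ≠ 0 := by
    intro h
    rw [h, quadraticChar_zero] at hD
    exact zero_ne_one hD
  obtain ⟨k, hk⟩ := (quadraticChar_one_iff_isSquare hD0).mp hD
  have hk0 : k ≠ 0 := by
    rintro rfl
    exact hD0 (by simpa using hk)
  have hp1 : (2 + τ : F) ≠ 0 := by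
    intro h; apply hD0; linear_combination (2 - τ) * h
  have hp2 : (2 - τ : F) ≠ 0 := by
    intro h; apply hD0; linear_combination (2 + τ) * h
  have hprod : quadraticChar F (2 + τ) * quadraticChar F (2 - τ) = 1 := by
    rw [← map_mul]
    have : (2 + τ) * (2 - τ) = 4 - τ ^ 2 := by ring
    rw [this, hD]
  -- the finishing step
  have finish : ∀ (c : ℤ) (ρ : F), quadraticChar F (2 + τ) = c → quadraticChar F (2 - τ) = c →
      c * c = 1 → ρ ≠ 0 → quadraticChar F (ρ ^ 2 + τ * ρ + 1) = -c →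
      ∃ ϵ l ω : F, (ϵ = 1 ∨ ϵ = -1) ∧ l ≠ 0 ∧
        ω ^ 2 = -(2 + ϵ * τ) * (l ^ 4 + ϵ * τ * l ^ 2 + 1) := by
    intro c ρ hc1 hc2 hcc hρ hNρ
    rcases quadraticChar_dichotomy hρ with h | h
    · obtain ⟨l, hl⟩ := (quadraticChar_one_iff_isSquare hρ).mp h
      have hl0 : l ≠ 0 := by
        rintro rfl
        exact hρ (by simpa using hl)
      have e1 : (-(2 + 1 * τ) * (l ^ 4 + 1 * τ * l ^ 2 + 1) : F)
          = (-1) * (2 + τ) * (ρ ^ 2 + τ * ρ + 1) := by rw [hl]; ring
      have hval : quadraticChar F (-(2 + 1 * τ) * (l ^ 4 + 1 * τ * l ^ 2 + 1)) = 1 := by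
        rw [e1, map_mul, map_mul, χm1, hc1, hNρ]; linear_combination hcc
      have hne : (-(2 + 1 * τ) * (l ^ 4 + 1 * τ * l ^ 2 + 1) : F) ≠ 0 := by
        intro h0
        rw [h0, quadraticChar_zero] at hval
        exact zero_ne_one hval
      obtain ⟨ω, hω⟩ := (quadraticChar_one_iff_isSquare hne).mp hval
      exact ⟨1, l, ω, Or.inl rfl, hl0, by rw [pow_two, ← hω]⟩
    · have h' : quadraticChar F (-ρ) = 1 := by
        have : (-ρ : F) = (-1) * ρ := by ring
        rw [this, map_mul, χm1, h]; norm_num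
      obtain ⟨l, hl⟩ := (quadraticChar_one_iff_isSquare (neg_ne_zero.mpr hρ)).mp h'
      have hl0 : l ≠ 0 := by
        rintro rfl
        exact hρ (by simpa using hl)
      have hρl : ρ = -(l * l) := by rw [← hl]; ring
      have e1 : (-(2 + (-1) * τ) * (l ^ 4 + (-1) * τ * l ^ 2 + 1) : F)
          = (-1) * (2 - τ) * (ρ ^ 2 + τ * ρ + 1) := by rw [hρl]; ring
      have hval : quadraticChar F (-(2 + (-1) * τ) * (l ^ 4 + (-1) * τ * l ^ 2 + 1)) = 1 := by
        rw [e1, map_mul, map_mul, χm1, hc2, hNρ]; linear_combination hcc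
      have hne : (-(2 + (-1) * τ) * (l ^ 4 + (-1) * τ * l ^ 2 + 1) : F) ≠ 0 := by
        intro h0
        rw [h0, quadraticChar_zero] at hval
        exact zero_ne_one hval
      obtain ⟨ω, hω⟩ := (quadraticChar_one_iff_isSquare hne).mp hval
      exact ⟨-1, l, ω, Or.inr rfl, hl0, by rw [pow_two, ← hω]⟩
  rcases quadraticChar_dichotomy hp1 with c1 | c1
  · -- both characters are `1`: look for a non-square value of the norm form
    have c2 : quadraticChar F (2 - τ) = 1 := by rw [c1, one_mul] at hprod; exact hprod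
    obtain ⟨t, ht⟩ := exists_not_isSquare_sq_add_one hm1
    have χt : quadraticChar F (t ^ 2 + 1) = -1 := quadraticChar_neg_one_iff_not_isSquare.mpr ht
    obtain ⟨ρ1, hρ1⟩ : ∃ ρ1 : F, 2 * ρ1 = k * t - τ := ⟨(k * t - τ) / 2, by field_simp⟩
    have hNρ1 : (2 : F) ^ 2 * (ρ1 ^ 2 + τ * ρ1 + 1) = k ^ 2 * (t ^ 2 + 1) := by
      linear_combination (2 * ρ1 + (k * t - τ) + 2 * τ) * hρ1 + hk
    have hχ : quadraticChar F (ρ1 ^ 2 + τ * ρ1 + 1) = -1 := by
      have := congrArg (quadraticChar F) hNρ1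
      rw [map_mul, map_mul, quadraticChar_sq_one' h2, quadraticChar_sq_one' hk0, one_mul, one_mul,
        χt] at this
      exact this
    have hρ10 : ρ1 ≠ 0 := by
      rintro rfl
      simp at hχ
    exact finish 1 ρ1 c1 c2 (by norm_num) hρ10 (by rw [hχ])
  · -- both characters are `-1`: look for a square value of the norm form
    have c2 : quadraticChar F (2 - τ) = -1 := by
      rw [c1] at hprod; linarith
    obtain ⟨s, hs1, hs2, hs3⟩ : ∃ s : F, s ≠ 1 ∧ s ≠ -1 ∧ s ≠ τ / 2 := by
      by_contra hcon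
      push Not at hcon
      have hsub : (Finset.univ : Finset F) ⊆ {1, -1, τ / 2} := by
        intro s _
        simp only [Finset.mem_insert, Finset.mem_singleton]
        by_cases h1 : s = 1
        · exact Or.inl h1
        · by_cases h2' : s = -1
          · exact Or.inr (Or.inl h2')
          · exact Or.inr (Or.inr (hcon s h1 h2'))
      have := Finset.card_le_card hsub
      have h3 : ({1, -1, τ / 2} : Finset F).card ≤ 3 := Finset.card_le_three
      rw [Finset.card_univ] at this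
      omega
    have hs : s ^ 2 - 1 ≠ 0 := by
      intro h
      have : (s - 1) * (s + 1) = 0 := by linear_combination h
      rcases mul_eq_zero.mp this with h | h
      · exact hs1 (sub_eq_zero.mp h)
      · exact hs2 (eq_neg_of_add_eq_zero_left h)
    obtain ⟨ρs, hρs⟩ : ∃ ρs : F, (s ^ 2 - 1) * ρs = τ - 2 * s :=
      ⟨(τ - 2 * s) / (s ^ 2 - 1), by field_simp⟩
    have hNs : ρs ^ 2 + τ * ρs + 1 = (1 + s * ρs) ^ 2 := by
      linear_combination (-ρs) * hρs
    have hne : (1 + s * ρs) ≠ 0 := by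
      intro h
      apply hN ρs
      rw [hNs, h]; ring
    have hχ : quadraticChar F (ρs ^ 2 + τ * ρs + 1) = 1 := by
      rw [hNs]; exact quadraticChar_sq_one' hne
    have hρs0 : ρs ≠ 0 := by
      rintro rfl
      apply hs3
      have : τ - 2 * s = 0 := by rw [← hρs]; ring
      field_simp
      linear_combination -this
    exact finish (-1) ρs c1 c2 (by norm_num) hρs0 (by rw [hχ]; norm_num)

end Cfsg.Agent.Lib.Helper13.PslInv
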