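import Cfsg.Agent.Lib.Helper13.PslInvD

set_option autoImplicit false

/-!
Odd characteristic: a common neighbour for two involutions of PSL(2, F) whose product has even
order, and a pair of commuting involutions.
-/

namespace Cfsg.Agent.Lib.Helper13.PslInv

open Matrix

variable {F : Type*} [Field F]

theorem trace_mul_entries (A C : Matrix.SpecialLinearGroup (Fin 2) F) :
    (A * C) 0 0 + (A * C) 1 1
      = A 0 0 * C 0 0 + A 0 1 * C 1 0 + (A 1 0 * C 0 1 + A 1 1 * C 1 1) := by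
  have h : ((A * C : Matrix.SpecialLinearGroup (Fin 2) F) : Matrix (Fin 2) (Fin 2) F)
      = (A : Matrix (Fin 2) (Fin 2) F) * (C : Matrix (Fin 2) (Fin 2) F) :=
    Matrix.SpecialLinearGroup.coe_mul A C
  change ((A * C : Matrix.SpecialLinearGroup (Fin 2) F) : Matrix (Fin 2) (Fin 2) F) 0 0
    + ((A * C : Matrix.SpecialLinearGroup (Fin 2) F) : Matrix (Fin 2) (Fin 2) F) 1 1 = _
  rw [h]
  simp [Matrix.mul_apply, Fin.sum_univ_two]

theorem entry_mul_01 (A C : Matrix.SpecialLinearGroup (Fin 2) F) :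
    (A * C) 0 1 = A 0 0 * C 0 1 + A 0 1 * C 1 1 := by
  have h : ((A * C : Matrix.SpecialLinearGroup (Fin 2) F) : Matrix (Fin 2) (Fin 2) F)
      = (A : Matrix (Fin 2) (Fin 2) F) * (C : Matrix (Fin 2) (Fin 2) F) :=
    Matrix.SpecialLinearGroup.coe_mul A C
  change ((A * C : Matrix.SpecialLinearGroup (Fin 2) F) : Matrix (Fin 2) (Fin 2) F) 0 1 = _
  rw [h]
  simp [Matrix.mul_apply, Fin.sum_univ_two]

theorem entry_mul_10 (A C : Matrix.SpecialLinearGroup (Fin 2) F) :
    (A * C) 1 0 = A 1 0 * C 0 0 + A 1 1 * C 1 0 := by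
  have h : ((A * C : Matrix.SpecialLinearGroup (Fin 2) F) : Matrix (Fin 2) (Fin 2) F)
      = (A : Matrix (Fin 2) (Fin 2) F) * (C : Matrix (Fin 2) (Fin 2) F) :=
    Matrix.SpecialLinearGroup.coe_mul A C
  change ((A * C : Matrix.SpecialLinearGroup (Fin 2) F) : Matrix (Fin 2) (Fin 2) F) 1 0 = _
  rw [h]
  simp [Matrix.mul_apply, Fin.sum_univ_two]

variable [Fintype F]

/-- Odd characteristic: two involutions of PSL(2, F) whose product has even order have a common
neighbour in the odd-order-product graph. -/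
theorem exists_third_of_odd_char (hF : 4 ≤ Fintype.card F) (hchar : ringChar F ≠ 2)
    (x y : Matrix.ProjectiveSpecialLinearGroup (Fin 2) F) (hx : x * x = 1) (hx1 : x ≠ 1)
    (hy : y * y = 1) (hy1 : y ≠ 1) (hno : ¬ Odd (orderOf (x * y))) :
    ∃ z : Matrix.ProjectiveSpecialLinearGroup (Fin 2) F,
      z * z = 1 ∧ Odd (orderOf (x * z)) ∧ Odd (orderOf (z * y)) := by
  obtain ⟨A, rfl, hAtr, -⟩ := exists_lift_of_involution x hx hx1
  obtain ⟨B, rfl, hBtr, -⟩ := exists_lift_of_involution y hy hy1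
  have : Fact (ringChar F).Prime := ⟨CharP.char_is_prime F (ringChar F)⟩
  have hpodd : Odd (ringChar F) :=
    (Fact.out : (ringChar F).Prime).eq_two_or_odd'.resolve_left hchar
  have hA11 : A 1 1 = -A 0 0 := by linear_combination hAtr
  have hB11 : B 1 1 = -B 0 0 := by linear_combination hBtr
  have hdetA := det_entries A
  have hdetB := det_entries B
  have hA : A 0 0 ^ 2 + A 0 1 * A 1 0 = -1 := by
    rw [hA11] at hdetA; linear_combination -hdetA
  have hB : B 0 0 ^ 2 + B 0 1 * B 1 0 = -1 := by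
    rw [hB11] at hdetB; linear_combination -hdetB
  set τ : F := 2 * A 0 0 * B 0 0 + A 0 1 * B 1 0 + A 1 0 * B 0 1 with hτdef
  have htrAB : (A * B) 0 0 + (A * B) 1 1 = τ := by
    rw [trace_mul_entries, hA11, hB11, hτdef]; ring
  have hnoP : ∀ k : ℕ, Odd k →
      (A * B) ^ k ∉ Subgroup.center (Matrix.SpecialLinearGroup (Fin 2) F) := by
    intro k hk hmem
    apply hno
    rw [← QuotientGroup.mk_mul]
    exact odd_orderOf_mk hk hmem
  have hD : 4 - τ ^ 2 ≠ 0 := by
    intro h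
    have h' : (τ - 2) * (τ + 2) = 0 := by linear_combination -h
    rcases mul_eq_zero.mp h' with h | h
    · exact hnoP _ hpodd (pow_char_mem_center (ringChar F) (A * B) 1 (by ring)
        (by rw [htrAB]; linear_combination h))
    · exact hnoP _ hpodd (pow_char_mem_center (ringChar F) (A * B) (-1) (by ring)
        (by rw [htrAB]; linear_combination h))
  obtain ⟨Di, hDi⟩ : ∃ Di : F, (4 - τ ^ 2) * Di = 1 := ⟨(4 - τ ^ 2)⁻¹, mul_inv_cancel₀ hD⟩
  have build : ∀ α β w : F, w ^ 2 = 4 - τ ^ 2 - α ^ 2 - β ^ 2 - τ * α * β →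
      (∀ g : Matrix.SpecialLinearGroup (Fin 2) F, g 0 0 + g 1 1 = α →
        ∃ k : ℕ, Odd k ∧ g ^ k ∈ Subgroup.center (Matrix.SpecialLinearGroup (Fin 2) F)) →
      (∀ g : Matrix.SpecialLinearGroup (Fin 2) F, g 0 0 + g 1 1 = β →
        ∃ k : ℕ, Odd k ∧ g ^ k ∈ Subgroup.center (Matrix.SpecialLinearGroup (Fin 2) F)) →
      ∃ z : Matrix.ProjectiveSpecialLinearGroup (Fin 2) F, z * z = 1 ∧
        Odd (orderOf ((A : Matrix.ProjectiveSpecialLinearGroup (Fin 2) F) * z)) ∧
        Odd (orderOf (z * (B : Matrix.ProjectiveSpecialLinearGroup (Fin 2) F))) := by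
    intro α β w hw hα hβ
    obtain ⟨c00, c01, c10, hdetC, hAC, hCB⟩ :=
      core_identities (A 0 0) (A 0 1) (A 1 0) (B 0 0) (B 0 1) (B 1 0) α β w Di hA hB hDi hw
    set C : Matrix.SpecialLinearGroup (Fin 2) F :=
      ⟨!![c00, c01; c10, -c00], by rw [Matrix.det_fin_two_of]; exact hdetC⟩ with hCdef
    have hC00 : C 0 0 = c00 := rfl
    have hC01 : C 0 1 = c01 := rfl
    have hC10 : C 1 0 = c10 := rfl
    have hC11 : C 1 1 = -c00 := rfl
    have hCtr : C 0 0 + C 1 1 = 0 := by rw [hC00, hC11]; ring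
    refine ⟨(C : Matrix.ProjectiveSpecialLinearGroup (Fin 2) F), mk_mul_self_eq_one hCtr, ?_, ?_⟩
    · obtain ⟨k, hk, hmem⟩ := hα (A * C) (by
        rw [trace_mul_entries, hA11, hC00, hC01, hC10, hC11]; linear_combination hAC)
      rw [← QuotientGroup.mk_mul]
      exact odd_orderOf_mk hk hmem
    · obtain ⟨k, hk, hmem⟩ := hβ (C * B) (by
        rw [trace_mul_entries, hB11, hC00, hC01, hC10, hC11]; linear_combination hCB)
      rw [← QuotientGroup.mk_mul]
      exact odd_orderOf_mk hk hmem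
  by_cases hsq : IsSquare (-1 : F)
  · obtain ⟨i, hi⟩ := hsq
    refine build 2 2 (i * (τ + 2)) (by linear_combination (-(τ + 2) ^ 2) * hi) ?_ ?_
    · intro g hg
      exact ⟨ringChar F, hpodd, pow_char_mem_center _ g 1 (by ring) (by rw [hg]; ring)⟩
    · intro g hg
      exact ⟨ringChar F, hpodd, pow_char_mem_center _ g 1 (by ring) (by rw [hg]; ring)⟩
  · have hq : Fintype.card F % 4 = 3 := by
      by_contra h
      exact hsq (FiniteField.isSquare_neg_one_iff.mpr h)
    have h2 : (2 : F) ≠ 0 := Ring.two_ne_zero hchar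
    have hτns : ¬ IsSquare (τ ^ 2 - 4) := by
      rintro ⟨μ, hμ⟩
      obtain ⟨k, hk, hmem⟩ := exists_odd_pow_mem_center hq (A * B) ((τ + μ) / 2) ((τ - μ) / 2)
        (by field_simp; linear_combination hμ) (by rw [htrAB]; field_simp; ring)
      exact hnoP k hk hmem
    obtain ⟨ϵ, l, ω, hϵ, hl0, hω⟩ := exists_sqrt_data hF hsq τ hτns
    obtain ⟨li, hli⟩ : ∃ li : F, l * li = 1 := ⟨l⁻¹, mul_inv_cancel₀ hl0⟩
    refine build (l + li) (ϵ * (l + li)) (ω * li) ?_ ?_ ?_
    · rcases hϵ with rfl | rfl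
      · linear_combination (li ^ 2) * hω
          + (-(2 + τ) * (l * li + 1) * (l ^ 2 + τ) + 2 * (2 + τ)) * hli
      · linear_combination (li ^ 2) * hω
          + (-(2 - τ) * (l * li + 1) * (l ^ 2 - τ) + 2 * (2 - τ)) * hli
    · intro g hg
      exact exists_odd_pow_mem_center hq g l li hli hg
    · intro g hg
      refine exists_odd_pow_mem_center hq g (ϵ * l) (ϵ * li) ?_ (by rw [hg]; ring)
      rcases hϵ with rfl | rfl
      · linear_combination hli
      · linear_combination hli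

/-- Odd characteristic: every involution of PSL(2, F) commutes with another involution such that
the product is again an involution. -/
theorem exists_far_of_odd_char (hchar : ringChar F ≠ 2)
    (t : Matrix.ProjectiveSpecialLinearGroup (Fin 2) F) (ht : t * t = 1) (ht1 : t ≠ 1) :
    ∃ y : Matrix.ProjectiveSpecialLinearGroup (Fin 2) F,
      y * y = 1 ∧ y ≠ 1 ∧ orderOf (t * y) = 2 := by
  obtain ⟨A, rfl, hAtr, -⟩ := exists_lift_of_involution t ht ht1
  have h2 : (2 : F) ≠ 0 := Ring.two_ne_zero hchar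
  have hA11 : A 1 1 = -A 0 0 := by linear_combination hAtr
  have hdetA := det_entries A
  have hA : A 0 0 ^ 2 + A 0 1 * A 1 0 = -1 := by
    rw [hA11] at hdetA; linear_combination -hdetA
  have hprime : (ringChar F).Prime := CharP.char_is_prime F (ringChar F)
  have : NeZero (ringChar F) := ⟨hprime.ne_zero⟩
  obtain ⟨m, n, hmn⟩ := CharP.sq_add_sq F (ringChar F) (-1)
  have hXY : (m : F) ^ 2 + (n : F) ^ 2 = -1 := by
    rw [hmn]; simp
  -- finishing step once a suitable `B` is available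
  have finish : ∀ B : Matrix.SpecialLinearGroup (Fin 2) F, B 0 0 + B 1 1 = 0 →
      (A * B) 0 0 + (A * B) 1 1 = 0 →
      ∃ y : Matrix.ProjectiveSpecialLinearGroup (Fin 2) F, y * y = 1 ∧ y ≠ 1 ∧
        orderOf ((A : Matrix.ProjectiveSpecialLinearGroup (Fin 2) F) * y) = 2 := by
    intro B hBtr hABtr
    refine ⟨(B : Matrix.ProjectiveSpecialLinearGroup (Fin 2) F), mk_mul_self_eq_one hBtr, ?_, ?_⟩
    · intro h
      exact not_mem_center_of_trace_zero h2 hBtr ((QuotientGroup.eq_one_iff _).mp h)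
    · rw [← QuotientGroup.mk_mul]
      exact orderOf_mk_eq_two hABtr (not_mem_center_of_trace_zero h2 hABtr)
  by_cases hb : A 0 1 = 0
  · by_cases hc : A 1 0 = 0
    · -- diagonal case
      have hB : (0 : F) * 0 - 1 * (-1) = 1 := by ring
      set B : Matrix.SpecialLinearGroup (Fin 2) F :=
        ⟨!![0, 1; -1, 0], by rw [Matrix.det_fin_two_of]; exact hB⟩ with hBdef
      have hB00 : B 0 0 = 0 := rfl
      have hB01 : B 0 1 = 1 := rfl
      have hB10 : B 1 0 = -1 := rfl
      have hB11 : B 1 1 = 0 := rfl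
      refine finish B (by rw [hB00, hB11]; ring) ?_
      rw [trace_mul_entries, hB00, hB01, hB10, hB11, hb, hc]; ring
    · obtain ⟨ci, hci⟩ : ∃ ci : F, A 1 0 * ci = 1 := ⟨(A 1 0)⁻¹, mul_inv_cancel₀ hc⟩
      have hB : ((n : F) - A 0 0 * m) * (-((n : F) - A 0 0 * m))
          - (A 0 1 * m - 2 * A 0 0 * ((n : F) - A 0 0 * m) * ci) * (-(A 1 0 * m)) = 1 := by
        linear_combination (-1 : F) * hXY + (m : F) ^ 2 * hA
          + (-2 * A 0 0 * m * ((n : F) - A 0 0 * m)) * hci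
      set B : Matrix.SpecialLinearGroup (Fin 2) F :=
        ⟨!![(n : F) - A 0 0 * m, A 0 1 * m - 2 * A 0 0 * ((n : F) - A 0 0 * m) * ci;
            -(A 1 0 * m), -((n : F) - A 0 0 * m)],
          by rw [Matrix.det_fin_two_of]; exact hB⟩ with hBdef
      have hB00 : B 0 0 = (n : F) - A 0 0 * m := rfl
      have hB01 : B 0 1 = A 0 1 * m - 2 * A 0 0 * ((n : F) - A 0 0 * m) * ci := rfl
      have hB10 : B 1 0 = -(A 1 0 * m) := rfl
      have hB11 : B 1 1 = -((n : F) - A 0 0 * m) := rfl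
      refine finish B (by rw [hB00, hB11]; ring) ?_
      rw [trace_mul_entries, hB00, hB01, hB10, hB11, hA11]
      linear_combination (-2 * A 0 0 * ((n : F) - A 0 0 * m)) * hci
  · obtain ⟨bi, hbi⟩ : ∃ bi : F, A 0 1 * bi = 1 := ⟨(A 0 1)⁻¹, mul_inv_cancel₀ hb⟩
    have hB : ((n : F) - A 0 0 * m) * (-((n : F) - A 0 0 * m))
        - (-(A 0 1 * m)) * (A 1 0 * m - 2 * A 0 0 * ((n : F) - A 0 0 * m) * bi) = 1 := by
      linear_combination (-1 : F) * hXY + (m : F) ^ 2 * hA
        + (-2 * A 0 0 * m * ((n : F) - A 0 0 * m)) * hbi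
    set B : Matrix.SpecialLinearGroup (Fin 2) F :=
      ⟨!![(n : F) - A 0 0 * m, -(A 0 1 * m);
          A 1 0 * m - 2 * A 0 0 * ((n : F) - A 0 0 * m) * bi, -((n : F) - A 0 0 * m)],
        by rw [Matrix.det_fin_two_of]; exact hB⟩ with hBdef
    have hB00 : B 0 0 = (n : F) - A 0 0 * m := rfl
    have hB01 : B 0 1 = -(A 0 1 * m) := rfl
    have hB10 : B 1 0 = A 1 0 * m - 2 * A 0 0 * ((n : F) - A 0 0 * m) * bi := rfl
    have hB11 : B 1 1 = -((n : F) - A 0 0 * m) := rfl
    refine finish B (by rw [hB00, hB11]; ring) ?_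
    rw [trace_mul_entries, hB00, hB01, hB10, hB11, hA11]
    linear_combination (-2 * A 0 0 * ((n : F) - A 0 0 * m)) * hbi

end Cfsg.Agent.Lib.Helper13.PslInv
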