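import Cfsg.Agent.Lib.Helper13.PslInvE

set_option autoImplicit false

/-!
Characteristic two: elements of SL(2, F) with non-zero trace have images of odd order; common
neighbours and commuting pairs of involutions.
-/

namespace Cfsg.Agent.Lib.Helper13.PslInv

open Matrix

variable {F : Type*} [Field F]

/-- In characteristic two, a matrix commuting with a non-zero square-zero 2 x 2 matrix has trace
zero. -/
theorem trace_zero_of_commute_nilpotent [CharP F 2] (M E : Matrix (Fin 2) (Fin 2) F)
    (hEE : E * E = 0) (hE : E ≠ 0) (hcomm : M * E = E * M) : M 0 0 + M 1 1 = 0 := by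
  have h2 : (2 : F) = 0 := CharTwo.two_eq_zero
  have e01 := congrFun (congrFun hEE 0) 1
  have e10 := congrFun (congrFun hEE 1) 0
  have e00 := congrFun (congrFun hEE 0) 0
  have e11 := congrFun (congrFun hEE 1) 1
  have c01 := congrFun (congrFun hcomm 0) 1
  have c10 := congrFun (congrFun hcomm 1) 0
  simp [Matrix.mul_apply, Fin.sum_univ_two] at e01 e10 e00 e11 c01 c10
  by_cases h01 : E 0 1 = 0
  · by_cases h10 : E 1 0 = 0
    · exfalso
      apply hE
      rw [h01, h10] at e00 e11
      have h00 : E 0 0 = 0 := by simpa using e00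
      have h11 : E 1 1 = 0 := by simpa using e11
      ext i j
      fin_cases i <;> fin_cases j <;> simp [h00, h01, h10, h11]
    · have h14 : E 0 0 + E 1 1 = 0 := by
        have : E 1 0 * (E 0 0 + E 1 1) = 0 := by linear_combination e10
        rcases mul_eq_zero.mp this with h | h
        · exact absurd h h10
        · exact h
      have : E 1 0 * (M 0 0 + M 1 1) = 0 := by
        linear_combination c10 + M 1 0 * h14 + (E 1 0 * M 0 0 - M 1 0 * E 0 0) * h2
      rcases mul_eq_zero.mp this with h | h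
      · exact absurd h h10
      · exact h
  · have h14 : E 0 0 + E 1 1 = 0 := by
      have : E 0 1 * (E 0 0 + E 1 1) = 0 := by linear_combination e01
      rcases mul_eq_zero.mp this with h | h
      · exact absurd h h01
      · exact h
    have : E 0 1 * (M 0 0 + M 1 1) = 0 := by
      linear_combination c01 + M 0 1 * h14 + (E 0 1 * M 1 1 - M 0 1 * E 1 1) * h2
    rcases mul_eq_zero.mp this with h | h
    · exact absurd h h01
    · exact h

/-- In characteristic two the centre of SL(2, F) is trivial. -/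
theorem val_eq_one_of_mem_center [CharP F 2] {g : Matrix.SpecialLinearGroup (Fin 2) F}
    (h : g ∈ Subgroup.center (Matrix.SpecialLinearGroup (Fin 2) F)) :
    (g : Matrix (Fin 2) (Fin 2) F) = 1 := by
  obtain ⟨r, hr, hg⟩ := val_eq_smul_one_of_mem_center h
  have h2 : (2 : F) = 0 := CharTwo.two_eq_zero
  have : (r - 1) * (r - 1) = 0 := by linear_combination hr + (1 - r) * h2
  have hr1 : r = 1 := by
    rcases mul_eq_zero.mp this with h | h <;> exact sub_eq_zero.mp h
  rw [hg, hr1, one_smul]

/-- In characteristic two, a traceless element outside the centre has a non-zero off-diagonal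
entry. -/
theorem offdiag_ne_zero [CharP F 2] {A : Matrix.SpecialLinearGroup (Fin 2) F}
    (htr : A 0 0 + A 1 1 = 0)
    (hA : A ∉ Subgroup.center (Matrix.SpecialLinearGroup (Fin 2) F)) :
    A 0 1 ≠ 0 ∨ A 1 0 ≠ 0 := by
  by_contra hcon
  push Not at hcon
  obtain ⟨h01, h10⟩ := hcon
  apply hA
  have h2 : (2 : F) = 0 := CharTwo.two_eq_zero
  have hdet := det_entries A
  have h11 : A 1 1 = A 0 0 := by linear_combination htr - A 0 0 * h2
  refine mem_center_of_val_eq_smul_one (r := A 0 0) ?_ ?_
  · rw [h01, h11] at hdet; linear_combination hdet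
  · ext i j
    fin_cases i <;> fin_cases j <;> simp [h01, h10]
    exact h11

variable [Fintype F]

/-- In characteristic two, an element of SL(2, F) with non-zero trace has image of odd order. -/
theorem odd_orderOf_mk_of_trace_ne_zero [CharP F 2] (g : Matrix.SpecialLinearGroup (Fin 2) F)
    (hne : g 0 0 + g 1 1 ≠ 0) :
    Odd (orderOf (g : Matrix.ProjectiveSpecialLinearGroup (Fin 2) F)) := by
  by_contra hno
  have hpos : 0 < orderOf (g : Matrix.ProjectiveSpecialLinearGroup (Fin 2) F) := orderOf_pos _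
  rcases Nat.even_or_odd (orderOf (g : Matrix.ProjectiveSpecialLinearGroup (Fin 2) F))
    with he | ho
  swap
  · exact hno ho
  obtain ⟨k, hk⟩ := he
  have hkpos : 0 < k := by omega
  have hklt : k < orderOf (g : Matrix.ProjectiveSpecialLinearGroup (Fin 2) F) := by omega
  have hN1 : ((g ^ k : Matrix.SpecialLinearGroup (Fin 2) F) :
      Matrix.ProjectiveSpecialLinearGroup (Fin 2) F) ≠ 1 := by
    rw [QuotientGroup.mk_pow]
    exact pow_ne_one_of_lt_orderOf hkpos.ne' hklt
  have hNN : ((g ^ k * g ^ k : Matrix.SpecialLinearGroup (Fin 2) F) :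
      Matrix.ProjectiveSpecialLinearGroup (Fin 2) F) = 1 := by
    rw [← pow_add, QuotientGroup.mk_pow, ← hk]
    exact pow_orderOf_eq_one _
  have hNc : g ^ k ∉ Subgroup.center (Matrix.SpecialLinearGroup (Fin 2) F) :=
    fun h => hN1 ((QuotientGroup.eq_one_iff _).mpr h)
  have hNNc : g ^ k * g ^ k ∈ Subgroup.center (Matrix.SpecialLinearGroup (Fin 2) F) :=
    (QuotientGroup.eq_one_iff _).mp hNN
  have hNNm := val_eq_one_of_mem_center hNNc
  rw [Matrix.SpecialLinearGroup.coe_mul] at hNNm
  set N : Matrix (Fin 2) (Fin 2) F := ((g ^ k : Matrix.SpecialLinearGroup (Fin 2) F) :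
    Matrix (Fin 2) (Fin 2) F) with hNdef
  have hEE : (N + 1) * (N + 1) = 0 := by
    have : (N + 1) * (N + 1) = N * N + (N + N) + 1 := by
      rw [add_mul, mul_add, mul_add, mul_one, one_mul, mul_one]; abel
    rw [this, hNNm, CharTwo.add_self_eq_zero, add_zero, CharTwo.add_self_eq_zero]
  have hE0 : N + 1 ≠ 0 := by
    intro h
    apply hNc
    refine mem_center_of_val_eq_smul_one (r := 1) (by ring) ?_
    rw [one_smul]
    have : N = -1 := eq_neg_of_add_eq_zero_left h
    rw [← hNdef, this, CharTwo.neg_eq]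
  have hcommG : g * g ^ k = g ^ k * g := (pow_mul_comm' g k).symm
  have hcommM : (g : Matrix (Fin 2) (Fin 2) F) * N = N * (g : Matrix (Fin 2) (Fin 2) F) := by
    rw [hNdef, ← Matrix.SpecialLinearGroup.coe_mul, ← Matrix.SpecialLinearGroup.coe_mul, hcommG]
  have hcomm : (g : Matrix (Fin 2) (Fin 2) F) * (N + 1) = (N + 1) * (g : Matrix (Fin 2) (Fin 2) F) := by
    rw [mul_add, add_mul, hcommM, mul_one, one_mul]
  exact hne (trace_zero_of_commute_nilpotent _ _ hEE hE0 hcomm)

/-- Characteristic two: two involutions of PSL(2, F) whose product has even order have a common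
neighbour in the odd-order-product graph. -/
theorem exists_third_of_char_two [CharP F 2]
    (x y : Matrix.ProjectiveSpecialLinearGroup (Fin 2) F) (hx : x * x = 1) (hx1 : x ≠ 1)
    (hy : y * y = 1) (hy1 : y ≠ 1) (hno : ¬ Odd (orderOf (x * y))) :
    ∃ z : Matrix.ProjectiveSpecialLinearGroup (Fin 2) F,
      z * z = 1 ∧ Odd (orderOf (x * z)) ∧ Odd (orderOf (z * y)) := by
  obtain ⟨A, rfl, hAtr, hAc⟩ := exists_lift_of_involution x hx hx1
  obtain ⟨B, rfl, hBtr, hBc⟩ := exists_lift_of_involution y hy hy1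
  have h2 : (2 : F) = 0 := CharTwo.two_eq_zero
  have hAB : (A * B) 0 0 + (A * B) 1 1 = 0 := by
    by_contra h
    apply hno
    rw [← QuotientGroup.mk_mul]
    exact odd_orderOf_mk_of_trace_ne_zero _ h
  rw [trace_mul_entries] at hAB
  have hAB' : A 0 1 * B 1 0 + A 1 0 * B 0 1 = 0 := by
    linear_combination hAB - B 0 0 * hAtr - A 1 1 * hBtr + (A 1 1 * B 0 0) * h2
  have hC1 : (1 : F) * 1 - 1 * 0 = 1 := by ring
  have hC2 : (1 : F) * 1 - 0 * 1 = 1 := by ring
  set C1 : Matrix.SpecialLinearGroup (Fin 2) F :=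
    ⟨!![1, 1; 0, 1], by rw [Matrix.det_fin_two_of]; exact hC1⟩ with hC1def
  set C2 : Matrix.SpecialLinearGroup (Fin 2) F :=
    ⟨!![1, 0; 1, 1], by rw [Matrix.det_fin_two_of]; exact hC2⟩ with hC2def
  have c1_00 : C1 0 0 = 1 := rfl
  have c1_01 : C1 0 1 = 1 := rfl
  have c1_10 : C1 1 0 = 0 := rfl
  have c1_11 : C1 1 1 = 1 := rfl
  have c2_00 : C2 0 0 = 1 := rfl
  have c2_01 : C2 0 1 = 0 := rfl
  have c2_10 : C2 1 0 = 1 := rfl
  have c2_11 : C2 1 1 = 1 := rfl
  have hC1tr : C1 0 0 + C1 1 1 = 0 := by rw [c1_00, c1_11]; linear_combination h2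
  have hC2tr : C2 0 0 + C2 1 1 = 0 := by rw [c2_00, c2_11]; linear_combination h2
  have useC1 : A 1 0 ≠ 0 → B 1 0 ≠ 0 →
      ∃ z : Matrix.ProjectiveSpecialLinearGroup (Fin 2) F, z * z = 1 ∧
        Odd (orderOf ((A : Matrix.ProjectiveSpecialLinearGroup (Fin 2) F) * z)) ∧
        Odd (orderOf (z * (B : Matrix.ProjectiveSpecialLinearGroup (Fin 2) F))) := by
    intro ha hb
    refine ⟨(C1 : Matrix.ProjectiveSpecialLinearGroup (Fin 2) F), mk_mul_self_eq_one hC1tr, ?_, ?_⟩
    · rw [← QuotientGroup.mk_mul]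
      apply odd_orderOf_mk_of_trace_ne_zero
      rw [trace_mul_entries, c1_00, c1_01, c1_10, c1_11]
      intro h
      apply ha
      linear_combination h - hAtr
    · rw [← QuotientGroup.mk_mul]
      apply odd_orderOf_mk_of_trace_ne_zero
      rw [trace_mul_entries, c1_00, c1_01, c1_10, c1_11]
      intro h
      apply hb
      linear_combination h - hBtr
  have useC2 : A 0 1 ≠ 0 → B 0 1 ≠ 0 →
      ∃ z : Matrix.ProjectiveSpecialLinearGroup (Fin 2) F, z * z = 1 ∧
        Odd (orderOf ((A : Matrix.ProjectiveSpecialLinearGroup (Fin 2) F) * z)) ∧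
        Odd (orderOf (z * (B : Matrix.ProjectiveSpecialLinearGroup (Fin 2) F))) := by
    intro ha hb
    refine ⟨(C2 : Matrix.ProjectiveSpecialLinearGroup (Fin 2) F), mk_mul_self_eq_one hC2tr, ?_, ?_⟩
    · rw [← QuotientGroup.mk_mul]
      apply odd_orderOf_mk_of_trace_ne_zero
      rw [trace_mul_entries, c2_00, c2_01, c2_10, c2_11]
      intro h
      apply ha
      linear_combination h - hAtr
    · rw [← QuotientGroup.mk_mul]
      apply odd_orderOf_mk_of_trace_ne_zero
      rw [trace_mul_entries, c2_00, c2_01, c2_10, c2_11]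
      intro h
      apply hb
      linear_combination h - hBtr
  have hAoff := offdiag_ne_zero hAtr hAc
  have hBoff := offdiag_ne_zero hBtr hBc
  by_cases ha10 : A 1 0 = 0
  · have ha01 : A 0 1 ≠ 0 := hAoff.resolve_right (not_not.mpr ha10)
    by_cases hb01 : B 0 1 = 0
    · exfalso
      have hb10 : B 1 0 ≠ 0 := hBoff.resolve_left (not_not.mpr hb01)
      rw [ha10, hb01] at hAB'
      have : A 0 1 * B 1 0 = 0 := by linear_combination hAB'
      rcases mul_eq_zero.mp this with h | h
      · exact ha01 h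
      · exact hb10 h
    · exact useC2 ha01 hb01
  · by_cases hb10 : B 1 0 = 0
    · have hb01 : B 0 1 ≠ 0 := hBoff.resolve_right (not_not.mpr hb10)
      by_cases ha01 : A 0 1 = 0
      · exfalso
        rw [ha01, hb10] at hAB'
        have : A 1 0 * B 0 1 = 0 := by linear_combination hAB'
        rcases mul_eq_zero.mp this with h | h
        · exact ha10 h
        · exact hb01 h
      · exact useC2 ha01 hb01
    · exact useC1 ha10 hb10

/-- Characteristic two: every involution of PSL(2, F), `F` with at least four elements, commutes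
with another involution such that the product is again an involution. -/
theorem exists_far_of_char_two [CharP F 2] (hF : 4 ≤ Fintype.card F)
    (t : Matrix.ProjectiveSpecialLinearGroup (Fin 2) F) (ht : t * t = 1) (ht1 : t ≠ 1) :
    ∃ y : Matrix.ProjectiveSpecialLinearGroup (Fin 2) F,
      y * y = 1 ∧ y ≠ 1 ∧ orderOf (t * y) = 2 := by
  classical
  obtain ⟨A, rfl, hAtr, hAc⟩ := exists_lift_of_involution t ht ht1
  have h2 : (2 : F) = 0 := CharTwo.two_eq_zero
  have hdetA := det_entries A
  have hAoff := offdiag_ne_zero hAtr hAc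
  obtain ⟨κ, hκ0, hκ1⟩ : ∃ κ : F, κ ≠ 0 ∧ κ ≠ 1 := by
    by_contra hcon
    push Not at hcon
    have hsub : (Finset.univ : Finset F) ⊆ {0, 1} := by
      intro s _
      simp only [Finset.mem_insert, Finset.mem_singleton]
      by_cases h0 : s = 0
      · exact Or.inl h0
      · exact Or.inr (hcon s h0)
    have := Finset.card_le_card hsub
    have h3 : ({0, 1} : Finset F).card ≤ 2 := Finset.card_le_two
    rw [Finset.card_univ] at this
    omega
  have hY : (1 - κ + κ * A 0 0) * (1 - κ + κ * A 1 1) - (κ * A 0 1) * (κ * A 1 0) = 1 := by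
    linear_combination (κ * (1 - κ)) * hAtr + κ ^ 2 * hdetA + (κ ^ 2 - κ) * h2
  set Y : Matrix.SpecialLinearGroup (Fin 2) F :=
    ⟨!![1 - κ + κ * A 0 0, κ * A 0 1; κ * A 1 0, 1 - κ + κ * A 1 1],
      by rw [Matrix.det_fin_two_of]; exact hY⟩ with hYdef
  have y00 : Y 0 0 = 1 - κ + κ * A 0 0 := rfl
  have y01 : Y 0 1 = κ * A 0 1 := rfl
  have y10 : Y 1 0 = κ * A 1 0 := rfl
  have y11 : Y 1 1 = 1 - κ + κ * A 1 1 := rfl
  have hYtr : Y 0 0 + Y 1 1 = 0 := by
    rw [y00, y11]; linear_combination κ * hAtr + (1 - κ) * h2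
  have hYc : Y ∉ Subgroup.center (Matrix.SpecialLinearGroup (Fin 2) F) := by
    intro h
    have hone := val_eq_one_of_mem_center h
    have e01 := congrFun (congrFun hone 0) 1
    have e10 := congrFun (congrFun hone 1) 0
    change Y 0 1 = _ at e01
    change Y 1 0 = _ at e10
    rw [y01] at e01
    rw [y10] at e10
    simp at e01 e10
    rcases hAoff with h | h
    · exact h (e01.resolve_left hκ0)
    · exact h (e10.resolve_left hκ0)
  have hAYtr : (A * Y) 0 0 + (A * Y) 1 1 = 0 := by
    rw [trace_mul_entries, y00, y01, y10, y11]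
    linear_combination ((1 - κ) + κ * (A 0 0 + A 1 1)) * hAtr
      + (-κ * (A 0 0 * A 1 1 - A 0 1 * A 1 0)) * h2
  have hκ1' : 1 - κ ≠ 0 := fun h => hκ1 (by linear_combination -h)
  have hAYc : A * Y ∉ Subgroup.center (Matrix.SpecialLinearGroup (Fin 2) F) := by
    intro h
    have hone := val_eq_one_of_mem_center h
    have e01 := congrFun (congrFun hone 0) 1
    have e10 := congrFun (congrFun hone 1) 0
    change (A * Y) 0 1 = _ at e01
    change (A * Y) 1 0 = _ at e10
    rw [entry_mul_01, y01, y11] at e01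
    rw [entry_mul_10, y00, y10] at e10
    simp at e01 e10
    have f01 : A 0 1 * (1 - κ) = 0 := by linear_combination e01 - (κ * A 0 1) * hAtr
    have f10 : A 1 0 * (1 - κ) = 0 := by linear_combination e10 - (κ * A 1 0) * hAtr
    rcases hAoff with h | h
    · exact h ((mul_eq_zero.mp f01).resolve_right hκ1')
    · exact h ((mul_eq_zero.mp f10).resolve_right hκ1')
  refine ⟨(Y : Matrix.ProjectiveSpecialLinearGroup (Fin 2) F), mk_mul_self_eq_one hYtr, ?_, ?_⟩
  · intro h
    exact hYc ((QuotientGroup.eq_one_iff _).mp h)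
  · rw [← QuotientGroup.mk_mul]
    exact orderOf_mk_eq_two hAYtr hAYc

end Cfsg.Agent.Lib.Helper13.PslInv
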