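import Mathlib
import Cfsg.Agent.Lib.Helper13.SpMax2

/-!
# The orthogonal groups are maximal in the symplectic group in characteristic two

`Q` is a quadratic form on `F^(2m)` polarising to the standard alternating form `f`, `F` finite of
characteristic two.  Every form `Q ∘ g`, `g` symplectic, is `Q_a = Q + f(·,a)^2`.  For an overgroup
`M` of the isometry group `H` of `Q` inside the symplectic group, let `Δ` be the set of `a` with
`Q ∘ g = Q_a` for some `g ∈ M`.  A symplectic element `k` with `Q ∘ k = Q_b`, `b ∈ Δ`, lies in `M`.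
The orthogonal transvections make `Δ` invariant under `H`-moves `a ↦ a + f(a,v)/Q(v) v`, which are
transitive on nonzero vectors of the same value; one non-orthogonal transvection in `M` then gives
all values `z^2+z`, and so all transvections.
-/

set_option autoImplicit false

namespace Cfsg.Agent.Lib.Helper13

open Matrix Module Cfsg.Agent.Lib.Helper6

section qspmax
variable {m : ℕ} {F : Type*} [Field F]

local notation "ff" => Cfsg.sympForm m F
local notation "VV" => (Fin m ⊕ Fin m → F)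
local notation "GG" => GL (Fin m ⊕ Fin m) F

/-- the action of an invertible matrix on column vectors -/
def qact (g : GL (Fin m ⊕ Fin m) F) (x : Fin m ⊕ Fin m → F) : Fin m ⊕ Fin m → F :=
  (g : Matrix (Fin m ⊕ Fin m) (Fin m ⊕ Fin m) F) *ᵥ x

theorem qact_mul (g k : GG) (x : VV) : qact (g * k) x = qact g (qact k x) := by
  unfold qact
  rw [Units.val_mul, mulVec_mulVec]

theorem qact_one (x : VV) : qact (1 : GG) x = x := by
  unfold qact
  rw [Units.val_one, one_mulVec]

theorem qact_zero (g : GG) : qact g (0 : VV) = 0 := by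
  unfold qact
  rw [mulVec_zero]

theorem qact_add (g : GG) (x y : VV) : qact g (x + y) = qact g x + qact g y := by
  unfold qact
  rw [mulVec_add]

theorem qact_inv_qact (g : GG) (x : VV) : qact g (qact g⁻¹ x) = x := by
  rw [← qact_mul, mul_inv_cancel, qact_one]

theorem qact_inv_qact' (g : GG) (x : VV) : qact g⁻¹ (qact g x) = x := by
  rw [← qact_mul, inv_mul_cancel, qact_one]

theorem qact_tv (v : VV) (c : F) (x : VV) :
    qact (sympTransvGL v c) x = x + (c * ff x v) • v :=
  sympTransvGL_mulVec v c x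

theorem qact_symp {g : GG} (hg : g ∈ Cfsg.spGL m F) (x y : VV) :
    ff (qact g x) (qact g y) = ff x y := hg x y

/-- characteristic two data for a quadratic form polarising to the standard alternating form -/
structure QData (Q : (Fin m ⊕ Fin m → F) → F) : Prop where
  two : (2 : F) = 0
  sq : ∀ x : F, ∃ y : F, y * y = x
  smul : ∀ (c : F) (v : Fin m ⊕ Fin m → F), Q (c • v) = c * c * Q v
  add : ∀ u v : Fin m ⊕ Fin m → F, Q (u + v) = Q u + Q v + Cfsg.sympForm m F u v

variable {Q : (Fin m ⊕ Fin m → F) → F}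

theorem QData.neg (h : QData Q) (x : F) : -x = x := by
  have : x + x = 0 := by rw [← two_mul, h.two, zero_mul]
  exact neg_eq_of_add_eq_zero_right this

theorem QData.vadd (h : QData Q) (v : VV) : v + v = 0 := by
  rw [← two_smul F v, h.two, zero_smul]

theorem QData.swap (h : QData Q) (u v : VV) : ff u v = ff v u := by
  rw [sympForm_swap, h.neg]

theorem QData.zero (h : QData Q) : Q 0 = 0 := by
  have := h.smul 0 0
  simpa using this

theorem QData.tv (h : QData Q) (v x : VV) (c : F) :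
    Q (qact (sympTransvGL v c) x) = Q x + (c + c * c * Q v) * (ff x v * ff x v) := by
  rw [qact_tv, h.add, h.smul, sympForm_smul_right]
  ring

/-- `a` is reachable: some element of `M` carries `Q` to `Q + f(·,a)^2` -/
def QDel (Q : (Fin m ⊕ Fin m → F) → F) (M : Subgroup (GL (Fin m ⊕ Fin m) F))
    (a : Fin m ⊕ Fin m → F) : Prop :=
  ∃ g ∈ M, ∀ x, Q (qact g x) = Q x + ff x a * ff x a

theorem QDel.zero (M : Subgroup GG) : QDel Q M 0 :=
  ⟨1, M.one_mem, fun x => by rw [qact_one, sympForm_zero_right, mul_zero, add_zero]⟩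

theorem QDel.mem {M : Subgroup GG} (hMS : M ≤ Cfsg.spGL m F)
    (hH : ∀ k ∈ Cfsg.spGL m F, (∀ x, Q (qact k x) = Q x) → k ∈ M) {b : VV} (hb : QDel Q M b)
    {k : GG} (hk : k ∈ Cfsg.spGL m F) (hkQ : ∀ x, Q (qact k x) = Q x + ff x b * ff x b) :
    k ∈ M := by
  obtain ⟨g, hg, hgQ⟩ := hb
  have h1 : k * g⁻¹ ∈ M := by
    refine hH _ ((Cfsg.spGL m F).mul_mem hk ((Cfsg.spGL m F).inv_mem (hMS hg))) (fun x => ?_)
    rw [qact_mul, hkQ]
    have := hgQ (qact g⁻¹ x)
    rw [qact_inv_qact] at this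
    exact this.symm
  have := M.mul_mem h1 hg
  rwa [inv_mul_cancel_right] at this

theorem QDel.step (h : QData Q) {M : Subgroup GG} {a b w : VV} {c : F} (ha : QDel Q M a)
    (hT : sympTransvGL w c ∈ M)
    (hb : ∀ x, Q (qact (sympTransvGL w c) x) = Q x + ff x b * ff x b) :
    QDel Q M (b + a + (c * ff a w) • w) := by
  obtain ⟨g, hg, hgQ⟩ := ha
  refine ⟨g * sympTransvGL w c, M.mul_mem hg hT, fun x => ?_⟩
  rw [qact_mul, hgQ, hb, qact_tv, sympForm_add_left, sympForm_smul_left, sympForm_add_right,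
    sympForm_add_right, sympForm_smul_right, sympForm_swap w a]
  linear_combination (-(ff x b * (ff x a + c * ff a w * ff x w) +
    2 * ff x a * c * ff a w * ff x w)) * h.two

theorem QDel.refl (h : QData Q) {M : Subgroup GG}
    (hR : ∀ v, Q v ≠ 0 → sympTransvGL v (Q v)⁻¹ ∈ M) {a : VV} (ha : QDel Q M a) (v : VV)
    (hv : Q v ≠ 0) : QDel Q M (a + ((Q v)⁻¹ * ff a v) • v) := by
  have h1 : ∀ x, Q (qact (sympTransvGL v (Q v)⁻¹) x) = Q x + ff x 0 * ff x 0 := by
    intro x
    rw [h.tv, sympForm_zero_right]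
    have e : (Q v)⁻¹ * Q v = 1 := inv_mul_cancel₀ hv
    linear_combination ((Q v)⁻¹ * (ff x v * ff x v)) * h.two +
      ((Q v)⁻¹ * (ff x v * ff x v)) * e
  have := ha.step h (hR v hv) h1
  rwa [zero_add] at this

theorem QDel.trans_ne (h : QData Q) {M : Subgroup GG}
    (hR : ∀ v, Q v ≠ 0 → sympTransvGL v (Q v)⁻¹ ∈ M) {a b : VV} (ha : QDel Q M a)
    (hab : Q b = Q a) (hf : ff a b ≠ 0) : QDel Q M b := by
  have hv : Q (a + b) = ff a b := by
    rw [h.add, hab]
    linear_combination (Q a) * h.two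
  have hv0 : Q (a + b) ≠ 0 := by rw [hv]; exact hf
  have := ha.refl h hR (a + b) hv0
  have e : a + ((Q (a + b))⁻¹ * ff a (a + b)) • (a + b) = b := by
    rw [sympForm_add_right, sympForm_self, zero_add, hv, inv_mul_cancel₀ hf, one_smul, ← add_assoc,
      h.vadd, zero_add]
  rwa [e] at this

theorem QData.exists_perp (h : QData Q) (hm : 4 ≤ m) (p₁ p₂ p₃ : VV) (r : F) :
    ∃ t, ff t p₁ = 0 ∧ ff t p₂ = 0 ∧ ff t p₃ = 0 ∧ Q t = r := by
  classical
  have hrefl : (Cfsg.Agent.Lib.Helper15.stdSymp m F).IsRefl := stdSymp_isRefl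
  have hnd : LinearMap.BilinForm.Nondegenerate (Cfsg.Agent.Lib.Helper15.stdSymp m F) :=
    (LinearMap.IsRefl.nondegenerate_iff_separatingLeft hrefl).mpr
      (fun x hx => Cfsg.Agent.Lib.Helper15.stdSymp_nondeg x hx)
  let S : Submodule F VV := Submodule.span F (({p₁, p₂, p₃} : Finset VV) : Set VV)
  have hp₁ : p₁ ∈ S := Submodule.subset_span (by simp)
  have hp₂ : p₂ ∈ S := Submodule.subset_span (by simp)
  have hp₃ : p₃ ∈ S := Submodule.subset_span (by simp)
  have hS : finrank F S ≤ 3 :=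
    (finrank_span_finset_le_card (R := F) ({p₁, p₂, p₃} : Finset VV)).trans Finset.card_le_three
  have hV : finrank F VV = m + m := by simp
  have hU := LinearMap.BilinForm.finrank_orthogonal hnd S
  have hUU := LinearMap.BilinForm.finrank_orthogonal hnd
    (LinearMap.BilinForm.orthogonal (Cfsg.Agent.Lib.Helper15.stdSymp m F) S)
  have hex : ∃ t₀ ∈ LinearMap.BilinForm.orthogonal (Cfsg.Agent.Lib.Helper15.stdSymp m F) S, Q t₀ ≠ 0 := by
    by_contra hne
    push Not at hne
    have hle : LinearMap.BilinForm.orthogonal (Cfsg.Agent.Lib.Helper15.stdSymp m F) S ≤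
        LinearMap.BilinForm.orthogonal (Cfsg.Agent.Lib.Helper15.stdSymp m F)
          (LinearMap.BilinForm.orthogonal (Cfsg.Agent.Lib.Helper15.stdSymp m F) S) := by
      intro x hx
      rw [LinearMap.BilinForm.mem_orthogonal_iff]
      intro y hy
      rw [Cfsg.Agent.Lib.Helper15.stdSymp_apply]
      have h1 := h.add y x
      rw [hne _ (Submodule.add_mem _ hy hx), hne _ hy, hne _ hx] at h1
      linear_combination -h1
    have := Submodule.finrank_mono hle
    omega
  obtain ⟨t₀, ht₀, hQt₀⟩ := hex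
  rw [LinearMap.BilinForm.mem_orthogonal_iff] at ht₀
  obtain ⟨y, hy⟩ := h.sq (r / Q t₀)
  have hperp : ∀ p ∈ S, ff (y • t₀) p = 0 := by
    intro p hp
    have := ht₀ p hp
    rw [Cfsg.Agent.Lib.Helper15.stdSymp_apply] at this
    rw [sympForm_smul_left, sympForm_swap, this, neg_zero, mul_zero]
  refine ⟨y • t₀, hperp _ hp₁, hperp _ hp₂, hperp _ hp₃, ?_⟩
  rw [h.smul, hy, div_mul_cancel₀ _ hQt₀]

theorem exists_link_top (a b : VV) (ha : a ≠ 0) (hb : b ≠ 0) :
    ∃ z, ff a z ≠ 0 ∧ ff z b ≠ 0 := by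
  have hW : ∀ w ∈ (⊤ : Submodule F VV), w ≠ 0 → ∃ x ∈ (⊤ : Submodule F VV), ff w x ≠ 0 := by
    intro w _ hw
    by_contra hne
    push Not at hne
    exact hw (Cfsg.Agent.Lib.Helper15.stdSymp_nondeg w (fun y => hne y Submodule.mem_top))
  obtain ⟨z, _, h1, h2⟩ := exists_link ⊤ hW a b Submodule.mem_top Submodule.mem_top ha hb
  exact ⟨z, h1, h2⟩

theorem QDel.trans (h : QData Q) (hm : 4 ≤ m) {M : Subgroup GG}
    (hR : ∀ v, Q v ≠ 0 → sympTransvGL v (Q v)⁻¹ ∈ M) {a b : VV} (ha : QDel Q M a)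
    (ha0 : a ≠ 0) (hb0 : b ≠ 0) (hab : Q b = Q a) : QDel Q M b := by
  by_cases hf : ff a b = 0
  · obtain ⟨z, hz1, hz2⟩ := exists_link_top a b ha0 hb0
    obtain ⟨t, ht1, ht2, ht3, htQ⟩ := h.exists_perp hm a b z (Q a + Q z)
    have hc : Q (z + t) = Q a := by
      rw [h.add, htQ, h.swap z t, ht3]
      linear_combination (Q z) * h.two
    have hac : ff a (z + t) ≠ 0 := by
      rw [sympForm_add_right, h.swap a t, ht1, add_zero]
      exact hz1
    have hcb : ff (z + t) b ≠ 0 := by
      rw [sympForm_add_left, ht2, add_zero]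
      exact hz2
    exact (ha.trans_ne h hR hc hac).trans_ne h hR (hab.trans hc.symm) hcb
  · exact ha.trans_ne h hR hab hf

theorem charTwo_of_not_odd [Fintype F] (heven : ¬ Odd (Fintype.card F)) : (2 : F) = 0 := by
  obtain ⟨p, hp⟩ := CharP.exists F
  have := hp
  obtain ⟨n, hpp, hn⟩ := FiniteField.card F p
  have he : Even (Fintype.card F) := Nat.not_odd_iff_even.mp heven
  rw [hn] at he
  have hpe : Even p := (Nat.even_pow.mp he).1
  have hp2 : p = 2 := (Nat.Prime.even_iff hpp).mp hpe
  subst hp2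
  exact_mod_cast CharP.cast_eq_zero F 2

theorem exists_sq_of_two [Finite F] (h2 : (2 : F) = 0) (x : F) : ∃ y : F, y * y = x := by
  have hinj : Function.Injective (fun y : F => y * y) := by
    intro a b hab
    have hab' : a * a = b * b := hab
    have h1 : (a - b) * (a - b) = 0 := by
      linear_combination hab' - (a * b - b * b) * h2
    exact sub_eq_zero.mp (mul_self_eq_zero.mp h1)
  exact (Finite.injective_iff_surjective.mp hinj) x

/-- **The isometry group of a quadratic form polarising to the standard alternating form is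
maximal in the symplectic group** (finite fields of characteristic two, `m ≥ 4`). -/
theorem qsp_maximal [Fintype F] (hm : 4 ≤ m) (heven : ¬ Odd (Fintype.card F))
    (Q : VV → F) (hQ : Cfsg.Geo.IsNondegenerateQuadraticForm Q)
    (hpol : ∀ u v, QuadraticMap.polar Q u v = ff u v) :
    Cfsg.Geo.IsMaximalIn (Cfsg.spGL m F)
      (Cfsg.Geo.quadSimilarityGroup Q ⊓ Cfsg.spGL m F) := by
  have h2 : (2 : F) = 0 := charTwo_of_not_odd heven
  have h : QData Q :=
    { two := h2
      sq := exists_sq_of_two h2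
      smul := fun c v => by rw [hQ.smul, pow_two]
      add := fun u v => by
        have := hpol u v
        unfold QuadraticMap.polar at this
        linear_combination this }
  have hHmem : ∀ k ∈ Cfsg.spGL m F, (∀ x, Q (qact k x) = Q x) →
      k ∈ Cfsg.Geo.quadSimilarityGroup Q ⊓ Cfsg.spGL m F := by
    intro k hk hkQ
    refine ⟨⟨1, fun v => ?_⟩, hk⟩
    rw [Units.val_one, one_mul]
    exact hkQ v
  have hRH : ∀ v, Q v ≠ 0 →
      sympTransvGL v (Q v)⁻¹ ∈ Cfsg.Geo.quadSimilarityGroup Q ⊓ Cfsg.spGL m F := by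
    intro v hv
    refine hHmem _ (sympTransvGL_mem _ _) (fun x => ?_)
    rw [h.tv]
    have e : (Q v)⁻¹ * Q v = 1 := inv_mul_cancel₀ hv
    linear_combination ((Q v)⁻¹ * (ff x v * ff x v)) * h2 +
      ((Q v)⁻¹ * (ff x v * ff x v)) * e
  refine ⟨lt_of_le_of_ne inf_le_right ?_, ?_⟩
  · intro heq
    obtain ⟨w₁, -, -, -, hw₁⟩ := h.exists_perp hm 0 0 0 1
    have hw₁0 : w₁ ≠ 0 := by
      intro h0
      rw [h0, h.zero] at hw₁
      exact zero_ne_one hw₁
    obtain ⟨z, hz, -⟩ := exists_link_top w₁ w₁ hw₁0 hw₁0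
    obtain ⟨t, ht1, ht2, -, htQ⟩ := h.exists_perp hm w₁ z 0 1
    have hw : Q (w₁ + t) = 0 := by
      rw [h.add, hw₁, htQ, h.swap, ht1]
      linear_combination h2
    have hw0 : w₁ + t ≠ 0 := by
      intro h0
      have : ff (w₁ + t) z = 0 := by rw [h0, sympForm_zero_left]
      rw [sympForm_add_left, ht2, add_zero] at this
      exact hz this
    have hT : sympTransvGL (w₁ + t) 1 ∈ Cfsg.Geo.quadSimilarityGroup Q ⊓ Cfsg.spGL m F := by
      rw [heq]
      exact sympTransvGL_mem _ _
    obtain ⟨⟨κ, hκ⟩, -⟩ := hT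
    obtain ⟨s, hs1, -, -, hsQ⟩ := h.exists_perp hm (w₁ + t) 0 0 1
    have e1 := hκ s
    change Q (qact (sympTransvGL (w₁ + t) 1) s) = _ at e1
    rw [h.tv, hs1, hsQ, hw] at e1
    have hκ1 : (κ : F) = 1 := by linear_combination -e1
    obtain ⟨x₁, -, hx₁⟩ := exists_link_top (w₁ + t) (w₁ + t) hw0 hw0
    have e2 := hκ x₁
    change Q (qact (sympTransvGL (w₁ + t) 1) x₁) = _ at e2
    rw [h.tv, hw, hκ1] at e2
    have h3 : ff x₁ (w₁ + t) * ff x₁ (w₁ + t) = 0 := by linear_combination e2
    exact hx₁ (mul_self_eq_zero.mp h3)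
  · intro M hHM hMS
    by_cases hMH : M ≤ Cfsg.Geo.quadSimilarityGroup Q ⊓ Cfsg.spGL m F
    · exact Or.inl (le_antisymm hMH hHM)
    right
    refine le_antisymm hMS (spGL_le_of_transvections M ?_)
    have hH : ∀ k ∈ Cfsg.spGL m F, (∀ x, Q (qact k x) = Q x) → k ∈ M :=
      fun k hk hkQ => hHM (hHmem k hk hkQ)
    have hR : ∀ v, Q v ≠ 0 → sympTransvGL v (Q v)⁻¹ ∈ M := fun v hv => hHM (hRH v hv)
    obtain ⟨g, hgM, hgH⟩ := SetLike.not_le_iff_exists.mp hMH
    have hgS : g ∈ Cfsg.spGL m F := hMS hgM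
    have hex : ∃ x₀, Q (qact g x₀) ≠ Q x₀ := by
      by_contra hne
      push Not at hne
      exact hgH (hHmem g hgS hne)
    obtain ⟨x₀, hx₀⟩ := hex
    have hDadd : ∀ x y, Q (qact g (x + y)) + Q (x + y) =
        (Q (qact g x) + Q x) + (Q (qact g y) + Q y) := by
      intro x y
      rw [qact_add, h.add, h.add, qact_symp hgS]
      linear_combination (ff x y) * h2
    have hv : ∃ v, Q v ≠ 0 ∧ Q (qact g v) ≠ Q v := by
      by_cases hQx : Q x₀ = 0
      · obtain ⟨t, ht1, -, -, htQ⟩ := h.exists_perp hm x₀ 0 0 1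
        by_cases hDt : Q (qact g t) = Q t
        · refine ⟨x₀ + t, ?_, ?_⟩
          · rw [h.add, hQx, htQ, h.swap, ht1]
            simp
          · intro hcon
            have := hDadd x₀ t
            rw [hcon, hDt] at this
            apply hx₀
            linear_combination -this + (Q (x₀ + t) - Q t - Q x₀) * h2
        · exact ⟨t, by rw [htQ]; exact one_ne_zero, hDt⟩
      · exact ⟨x₀, hQx, hx₀⟩
    obtain ⟨v, hv0, hgv⟩ := hv
    obtain ⟨w, hw⟩ : ∃ w, w = qact g v := ⟨_, rfl⟩
    obtain ⟨c, hc⟩ : ∃ c, c = (Q v)⁻¹ := ⟨_, rfl⟩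
    have hc0 : c ≠ 0 := by rw [hc]; exact inv_ne_zero hv0
    have hcv : c * Q v = 1 := by rw [hc]; exact inv_mul_cancel₀ hv0
    have hTM : sympTransvGL w c ∈ M := by
      have e : g * sympTransvGL v c * g⁻¹ = sympTransvGL w c := by
        rw [hw]
        exact conj_sympTransvGL g hgS v c
      rw [← e]
      refine M.mul_mem (M.mul_mem hgM ?_) (M.inv_mem hgM)
      rw [hc]
      exact hR v hv0
    have hQw : Q w ≠ Q v := by rw [hw]; exact hgv
    have hε : c + c * c * Q w ≠ 0 := by
      intro h0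
      apply hQw
      have h1 : 1 + c * Q w = 0 := by
        have : c * (1 + c * Q w) = 0 := by linear_combination h0
        exact (mul_eq_zero.mp this).resolve_left hc0
      have h3 : c * (Q w - Q v) = 0 := by linear_combination h1 - hcv - h2
      exact sub_eq_zero.mp ((mul_eq_zero.mp h3).resolve_left hc0)
    obtain ⟨μ, hμ⟩ := h.sq (c + c * c * Q w)
    have hμ0 : μ ≠ 0 := by
      intro h0
      rw [h0, mul_zero] at hμ
      exact hε hμ.symm
    have hw0 : w ≠ 0 := by
      intro h0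
      have hv00 : v = 0 := by
        have := qact_inv_qact' g v
        rw [← hw, h0, qact_zero] at this
        exact this.symm
      exact hv0 (by rw [hv00]; exact h.zero)
    obtain ⟨b, hb⟩ : ∃ b, b = μ • w := ⟨_, rfl⟩
    have hb0 : b ≠ 0 := by rw [hb]; exact smul_ne_zero hμ0 hw0
    have hTb : ∀ x, Q (qact (sympTransvGL w c) x) = Q x + ff x b * ff x b := by
      intro x
      rw [h.tv, hb, sympForm_smul_right]
      linear_combination (-(ff x w * ff x w)) * hμ
    have hbΔ : QDel Q M b := ⟨sympTransvGL w c, hTM, hTb⟩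
    have hQb : ∃ y : F, y ≠ 1 ∧ Q b = y * y + y := by
      have e : Q b = (c * Q w) * (c * Q w) + c * Q w := by
        rw [hb, h.smul, hμ]
        ring
      by_cases hy : c * Q w = 1
      · refine ⟨0, zero_ne_one, ?_⟩
        rw [e, hy]
        linear_combination h2
      · exact ⟨_, hy, e⟩
    obtain ⟨y, hy1, hQby⟩ := hQb
    have h1y : 1 + y ≠ 0 := by
      intro h0
      apply hy1
      linear_combination h0 - h2
    obtain ⟨κ, hκ⟩ : ∃ κ, κ = (1 + y)⁻¹ := ⟨_, rfl⟩
    have hκy : κ * (1 + y) = 1 := by rw [hκ]; exact inv_mul_cancel₀ h1y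
    have hTκ : ∀ x, Q (qact (sympTransvGL b κ) x) = Q x + ff x b * ff x b := by
      intro x
      rw [h.tv, hQby]
      linear_combination (ff x b * ff x b * (κ * y + 1)) * hκy
    have hTκM : sympTransvGL b κ ∈ M := hbΔ.mem hMS hH (sympTransvGL_mem _ _) hTκ
    have hstep : ∀ n : VV, n ≠ 0 → ∀ z : F, Q n = z * z + z → QDel Q M n := by
      intro n hn0 z hz
      have hz' : ∃ z' : F, z' ≠ 0 ∧ Q n = z' * z' + z' := by
        by_cases hz0 : z = 0
        · refine ⟨1, one_ne_zero, ?_⟩
          rw [hz, hz0]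
          linear_combination -h2
        · exact ⟨z, hz0, hz⟩
      obtain ⟨z', hz'0, hz'Q⟩ := hz'
      obtain ⟨x, -, hxb⟩ := exists_link_top b b hb0 hb0
      obtain ⟨t, ht1, ht2, -, htQ⟩ := h.exists_perp hm ((z' / ff x b) • x) b 0
        (Q b + Q ((z' / ff x b) • x))
      obtain ⟨a, ha⟩ : ∃ a, a = (z' / ff x b) • x + t := ⟨_, rfl⟩
      have hab : ff a b = z' := by
        rw [ha, sympForm_add_left, sympForm_smul_left, ht2, add_zero, div_mul_cancel₀ _ hxb]
      have hQa : Q a = Q b := by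
        rw [ha, h.add, htQ, h.swap _ t, ht1]
        linear_combination (Q ((z' / ff x b) • x)) * h2
      have ha0 : a ≠ 0 := by
        intro h0
        rw [h0, sympForm_zero_left] at hab
        exact hz'0 hab.symm
      have haΔ : QDel Q M a := hbΔ.trans h hm hR hb0 ha0 hQa
      have hn' := haΔ.step h hTκM hTκ
      rw [hab] at hn'
      have hn'0 : b + a + (κ * z') • b ≠ 0 := by
        intro h0
        have h4 : ff (b + a + (κ * z') • b) b = 0 := by rw [h0, sympForm_zero_left]
        rw [sympForm_add_left, sympForm_add_left, sympForm_smul_left, sympForm_self, hab] at h4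
        apply hz'0
        linear_combination h4
      have hQn' : Q n = Q (b + a + (κ * z') • b) := by
        rw [h.add, h.add, h.smul, sympForm_add_left, sympForm_smul_right, sympForm_smul_right,
          sympForm_self, hQa, h.swap b a, hab, hz'Q, hQby]
        linear_combination (-(y * y + y)) * h2 - (κ * z' * z' * y + z' * z') * hκy
      exact hn'.trans h hm hR hn'0 hn0 hQn'
    intro a' c'
    obtain ⟨μ', hμ'⟩ := h.sq (c' + c' * c' * Q a')
    have hT' : ∀ x, Q (qact (sympTransvGL a' c') x) =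
        Q x + ff x (μ' • a') * ff x (μ' • a') := by
      intro x
      rw [h.tv, sympForm_smul_right]
      linear_combination (-(ff x a' * ff x a')) * hμ'
    refine QDel.mem hMS hH ?_ (sympTransvGL_mem _ _) hT'
    by_cases hn0 : μ' • a' = 0
    · rw [hn0]
      exact QDel.zero M
    · refine hstep _ hn0 (c' * Q a') ?_
      rw [h.smul, hμ']
      ring

end qspmax

end Cfsg.Agent.Lib.Helper13
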