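import Mathlib

set_option autoImplicit false

namespace Cfsg.Agent.Lib.Helper26.ReeCube

namespace Helper13

theorem p6_slotE {R E : Type*} [Group R] [Group E] (S : ℕ → Prop)
    (hE2 : ∀ n, S n → ∃ x : E, orderOf x = n) (r r' : R) (n : ℕ) (hn : S n) :
    ∃ y : R × R × E, orderOf y = Nat.lcm n (Nat.lcm (orderOf r) (orderOf r')) := by
  obtain ⟨x, hx⟩ := hE2 n hn
  refine ⟨(r, r', x), ?_⟩
  rw [Prod.orderOf, Prod.orderOf]
  simp only [hx]
  ac_rfl

theorem p6_merge {R E : Type*} [Group R] [Group E] (S : ℕ → Prop) (c d : ℕ)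
    (hR : ∀ n, (∃ g : R, orderOf g = n) ↔ (S n ∨ n ∣ c ∨ n ∣ d))
    (r : R) (a b m : ℕ) (ha : a ∣ m) (hb : b ∣ m) (hm : m = c ∨ m = d) :
    ∃ y : R × R × E, orderOf y = Nat.lcm (Nat.lcm a b) (orderOf r) := by
  have hdvd : Nat.lcm a b ∣ m := Nat.lcm_dvd ha hb
  have hex : ∃ g : R, orderOf g = Nat.lcm a b := by
    rw [hR]
    rcases hm with rfl | rfl
    · exact Or.inr (Or.inl hdvd)
    · exact Or.inr (Or.inr hdvd)
  obtain ⟨g, hg⟩ := hex
  refine ⟨(g, r, 1), ?_⟩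
  rw [Prod.orderOf, Prod.orderOf]
  simp only [hg, orderOf_one, Nat.lcm_one_right]

end Helper13

/-- [P6] the assembly: if the spectrum of `R` is `S ∪ div c ∪ div d` and the spectrum of `E` lies
between `S` and the spectrum of `R`, then `R × R × E` and `R × R × R` have the same spectrum -/
theorem range_orderOf_prod_eq {R E : Type*} [Group R] [Group E] (S : ℕ → Prop) (c d : ℕ)
    (hR : ∀ n, (∃ g : R, orderOf g = n) ↔ (S n ∨ n ∣ c ∨ n ∣ d))
    (hE1 : ∀ x : E, ∃ g : R, orderOf g = orderOf x)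
    (hE2 : ∀ n, S n → ∃ x : E, orderOf x = n) :
    Set.range (orderOf : R × R × E → ℕ) = Set.range (orderOf : R × R × R → ℕ) := by
  apply Set.eq_of_subset_of_subset
  · rintro n ⟨⟨r1, r2, e⟩, rfl⟩
    obtain ⟨g, hg⟩ := hE1 e
    refine ⟨(r1, r2, g), ?_⟩
    simp only [Prod.orderOf, hg]
  · rintro n ⟨⟨r1, r2, r3⟩, rfl⟩
    show ∃ y : R × R × E, orderOf y = orderOf (r1, r2, r3)
    have h1 := (hR (orderOf r1)).1 ⟨r1, rfl⟩
    have h2 := (hR (orderOf r2)).1 ⟨r2, rfl⟩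
    have h3 := (hR (orderOf r3)).1 ⟨r3, rfl⟩
    have hgoal : orderOf (r1, r2, r3) =
        Nat.lcm (orderOf r1) (Nat.lcm (orderOf r2) (orderOf r3)) := by
      rw [Prod.orderOf, Prod.orderOf]
    rw [hgoal]
    -- slot cases
    rcases h1 with h1 | h1
    · exact Helper13.p6_slotE S hE2 r2 r3 _ h1
    rcases h2 with h2 | h2
    · obtain ⟨y, hy⟩ := Helper13.p6_slotE S hE2 r1 r3 _ h2
      refine ⟨y, hy.trans ?_⟩
      ac_rfl
    rcases h3 with h3 | h3
    · obtain ⟨y, hy⟩ := Helper13.p6_slotE S hE2 r1 r2 _ h3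
      refine ⟨y, hy.trans ?_⟩
      ac_rfl
    -- all three divide c or d
    have m12 : ∀ (m : ℕ), (m = c ∨ m = d) → orderOf r1 ∣ m → orderOf r2 ∣ m →
        ∃ y : R × R × E, orderOf y =
          Nat.lcm (orderOf r1) (Nat.lcm (orderOf r2) (orderOf r3)) := by
      intro m hm ha hb
      obtain ⟨y, hy⟩ := Helper13.p6_merge (E := E) S c d hR r3 _ _ m ha hb hm
      refine ⟨y, hy.trans ?_⟩
      ac_rfl
    have m13 : ∀ (m : ℕ), (m = c ∨ m = d) → orderOf r1 ∣ m → orderOf r3 ∣ m →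
        ∃ y : R × R × E, orderOf y =
          Nat.lcm (orderOf r1) (Nat.lcm (orderOf r2) (orderOf r3)) := by
      intro m hm ha hb
      obtain ⟨y, hy⟩ := Helper13.p6_merge (E := E) S c d hR r2 _ _ m ha hb hm
      refine ⟨y, hy.trans ?_⟩
      ac_rfl
    have m23 : ∀ (m : ℕ), (m = c ∨ m = d) → orderOf r2 ∣ m → orderOf r3 ∣ m →
        ∃ y : R × R × E, orderOf y =
          Nat.lcm (orderOf r1) (Nat.lcm (orderOf r2) (orderOf r3)) := by
      intro m hm ha hb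
      obtain ⟨y, hy⟩ := Helper13.p6_merge (E := E) S c d hR r1 _ _ m ha hb hm
      refine ⟨y, hy.trans ?_⟩
      ac_rfl
    rcases h1 with h1 | h1 <;> rcases h2 with h2 | h2 <;> rcases h3 with h3 | h3
    · exact m12 c (Or.inl rfl) h1 h2
    · exact m12 c (Or.inl rfl) h1 h2
    · exact m13 c (Or.inl rfl) h1 h3
    · exact m23 d (Or.inr rfl) h2 h3
    · exact m23 c (Or.inl rfl) h2 h3
    · exact m13 d (Or.inr rfl) h1 h3
    · exact m12 d (Or.inr rfl) h1 h2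
    · exact m12 d (Or.inr rfl) h1 h2

end Cfsg.Agent.Lib.Helper26.ReeCube
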