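import Mathlib
import Cfsg.Agent.Lib.Helper13.RegUniB

set_option autoImplicit false

/-!
Main theorem: `SL_n(F)` (`n ≥ 3`, `F` a finite field) is generated by three conjugate regular
unipotent elements.
-/

namespace Cfsg.Agent.Lib.Helper13.RegUni

open Matrix

section main

variable (F : Type*) [Field F] (m : ℕ)

local notation "ε" => e F (m + 3)

theorem conj_h_coe (hh : (⟨m + 2, by omega⟩ : Fin (m + 3)) ≠ ⟨0, by omega⟩)
    (u : Matrix.SpecialLinearGroup (Fin (m + 3)) F) :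
    ((Matrix.SpecialLinearGroup.transvection hh (1 : F) * u *
        (Matrix.SpecialLinearGroup.transvection hh (1 : F))⁻¹ :
        Matrix.SpecialLinearGroup (Fin (m + 3)) F) : Matrix (Fin (m + 3)) (Fin (m + 3)) F)
      = Hm F m * (u : Matrix (Fin (m + 3)) (Fin (m + 3)) F) * Hm' F m := by
  rw [Matrix.SpecialLinearGroup.transvection_inv, Matrix.SpecialLinearGroup.coe_mul,
    Matrix.SpecialLinearGroup.coe_mul,
    transvection_coe_eq_T F (m + 3) (m + 2) 0 (by omega) (by omega) hh 1,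
    transvection_coe_eq_T F (m + 3) (m + 2) 0 (by omega) (by omega) hh (-1),
    one_smul, neg_smul, one_smul]
  rfl

theorem conj_g_coe (hg : (⟨0, by omega⟩ : Fin (m + 3)) ≠ ⟨m + 1, by omega⟩) (s : F)
    (u : Matrix.SpecialLinearGroup (Fin (m + 3)) F) :
    ((Matrix.SpecialLinearGroup.transvection hg s * u *
        (Matrix.SpecialLinearGroup.transvection hg s)⁻¹ * u⁻¹ :
        Matrix.SpecialLinearGroup (Fin (m + 3)) F) : Matrix (Fin (m + 3)) (Fin (m + 3)) F)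
      = T (s • ε 0) (ε (m + 1)) * (u : Matrix (Fin (m + 3)) (Fin (m + 3)) F) *
          T ((-s) • ε 0) (ε (m + 1)) *
          ((u⁻¹ : Matrix.SpecialLinearGroup (Fin (m + 3)) F) :
            Matrix (Fin (m + 3)) (Fin (m + 3)) F) := by
  rw [Matrix.SpecialLinearGroup.transvection_inv, Matrix.SpecialLinearGroup.coe_mul,
    Matrix.SpecialLinearGroup.coe_mul, Matrix.SpecialLinearGroup.coe_mul,
    transvection_coe_eq_T F (m + 3) 0 (m + 1) (by omega) (by omega) hg s,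
    transvection_coe_eq_T F (m + 3) 0 (m + 1) (by omega) (by omega) hg (-s)]

theorem exists_pow_succ [Fintype F] :
    ∃ ζ : F, ∀ x : F, x ≠ 0 → ∃ k : ℕ, x = ζ ^ (k + 1) := by
  obtain ⟨ζ, hζ⟩ := IsCyclic.exists_monoid_generator (α := Fˣ)
  refine ⟨(ζ : F), ?_⟩
  intro x hx
  obtain ⟨k, hk⟩ := (Submonoid.mem_powers_iff _ _).mp (hζ (Units.mk0 x hx))
  have hk' : (ζ : F) ^ k = x := by
    have h1 := congrArg Units.val hk
    rw [Units.val_pow_eq_pow_val, Units.val_mk0] at h1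
    exact h1
  cases k with
  | zero =>
    refine ⟨orderOf ζ - 1, ?_⟩
    rw [Nat.sub_add_cancel (orderOf_pos ζ), ← Units.val_pow_eq_pow_val, pow_orderOf_eq_one,
      Units.val_one, ← hk', pow_zero]
  | succ k => exact ⟨k, hk'.symm⟩

theorem main_gen [Fintype F] :
    ∃ u g h : Matrix.SpecialLinearGroup (Fin (m + 3)) F,
      ((u : Matrix (Fin (m + 3)) (Fin (m + 3)) F) - 1 = Nm F (m + 3)) ∧
      Subgroup.closure ({u, g * u * g⁻¹, h * u * h⁻¹} :
        Set (Matrix.SpecialLinearGroup (Fin (m + 3)) F)) = ⊤ := by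
  obtain ⟨ζ, hζ⟩ := exists_pow_succ F
  obtain ⟨φ₀, hφdef⟩ : ∃ φ₀ : F, φ₀ = -(-1) ^ (m + 2) := ⟨_, rfl⟩
  have hφ0 : φ₀ ≠ 0 := by
    rw [hφdef]
    exact neg_ne_zero.mpr (pow_ne_zero _ (neg_ne_zero.mpr one_ne_zero))
  have hg : (⟨0, by omega⟩ : Fin (m + 3)) ≠ ⟨m + 1, by omega⟩ := by
    intro h
    have := congrArg Fin.val h
    simp at this
  have hh : (⟨m + 2, by omega⟩ : Fin (m + 3)) ≠ ⟨0, by omega⟩ := by
    intro h
    have := congrArg Fin.val h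
    simp at this
  obtain ⟨u, hu_def⟩ : ∃ u : Matrix.SpecialLinearGroup (Fin (m + 3)) F,
      (u : Matrix (Fin (m + 3)) (Fin (m + 3)) F) = Um F (m + 3) :=
    ⟨⟨Um F (m + 3), det_Um F (m + 3)⟩, rfl⟩
  obtain ⟨g, hg_def⟩ : ∃ g : Matrix.SpecialLinearGroup (Fin (m + 3)) F,
      g = Matrix.SpecialLinearGroup.transvection hg (φ₀⁻¹ * ζ) := ⟨_, rfl⟩
  obtain ⟨h, hh_def⟩ : ∃ h : Matrix.SpecialLinearGroup (Fin (m + 3)) F,
      h = Matrix.SpecialLinearGroup.transvection hh (1 : F) := ⟨_, rfl⟩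
  refine ⟨u, g, h, ?_, ?_⟩
  · rw [hu_def, Um, add_sub_cancel_left]
  obtain ⟨H, hH⟩ : ∃ H : Subgroup (Matrix.SpecialLinearGroup (Fin (m + 3)) F),
      H = Subgroup.closure ({u, g * u * g⁻¹, h * u * h⁻¹} :
        Set (Matrix.SpecialLinearGroup (Fin (m + 3)) F)) := ⟨_, rfl⟩
  rw [← hH]
  have hu : u ∈ H := by
    rw [hH]; exact Subgroup.subset_closure (by simp)
  have hgu : g * u * g⁻¹ ∈ H := by
    rw [hH]; exact Subgroup.subset_closure (by simp)
  have hhu : h * u * h⁻¹ ∈ H := by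
    rw [hH]; exact Subgroup.subset_closure (by simp)
  have hUU' : Um F (m + 3) * ((u⁻¹ : Matrix.SpecialLinearGroup (Fin (m + 3)) F) :
      Matrix (Fin (m + 3)) (Fin (m + 3)) F) = 1 := by
    rw [← hu_def]; exact coe_mul_coe_inv u
  have eV : ((h * u * h⁻¹ : Matrix.SpecialLinearGroup (Fin (m + 3)) F) :
      Matrix (Fin (m + 3)) (Fin (m + 3)) F) = Hm F m * Um F (m + 3) * Hm' F m := by
    rw [hh_def, conj_h_coe F m hh u, hu_def]
  have eV' : ((h * u⁻¹ * h⁻¹ : Matrix.SpecialLinearGroup (Fin (m + 3)) F) :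
      Matrix (Fin (m + 3)) (Fin (m + 3)) F)
      = Hm F m * ((u⁻¹ : Matrix.SpecialLinearGroup (Fin (m + 3)) F) :
        Matrix (Fin (m + 3)) (Fin (m + 3)) F) * Hm' F m := by
    rw [hh_def, conj_h_coe F m hh u⁻¹]
  have hinv : (h * u * h⁻¹)⁻¹ = h * u⁻¹ * h⁻¹ := by group
  have hU2 : ε (m + 2) ᵥ* ((u⁻¹ : Matrix.SpecialLinearGroup (Fin (m + 3)) F) :
      Matrix (Fin (m + 3)) (Fin (m + 3)) F) = ε (m + 2) :=
    vecMul_inv_of hUU' (by rw [vecMul_Um, v2, add_zero])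
  have hU0 : ε 0 ᵥ* ((u⁻¹ : Matrix.SpecialLinearGroup (Fin (m + 3)) F) :
      Matrix (Fin (m + 3)) (Fin (m + 3)) F) = rv F (m + 3) :=
    vecMul_inv_of hUU' (rv_vecMul_Um F (m + 3) (by omega))
  have S : Setup H ((u⁻¹ : Matrix.SpecialLinearGroup (Fin (m + 3)) F) :
      Matrix (Fin (m + 3)) (Fin (m + 3)) F) (Hm F m * Um F (m + 3) * Hm' F m)
      (Hm F m * ((u⁻¹ : Matrix.SpecialLinearGroup (Fin (m + 3)) F) :
        Matrix (Fin (m + 3)) (Fin (m + 3)) F) * Hm' F m) φ₀ :=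
    { hU := by rw [← hu_def]; exact MemM.of_mem hu
      hUU' := hUU'
      hV := by rw [← eV]; exact MemM.of_mem hhu
      hVV' := by rw [← eV, ← eV', ← hinv]; exact coe_mul_coe_inv _
      hV0 := V_mulVec_e0 F m
      hV2 := e2_vecMul_V F m
      hV1 := e1_vecMul_V F m
      hφ := by rw [hφdef]; exact phi_dot F m _ hU2 hU0
      hφ0 := hφ0 }
  have hU' : MemM H ((u⁻¹ : Matrix.SpecialLinearGroup (Fin (m + 3)) F) :
      Matrix (Fin (m + 3)) (Fin (m + 3)) F) := MemM.of_mem (H.inv_mem hu)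
  have hV' : MemM H (Hm F m * ((u⁻¹ : Matrix.SpecialLinearGroup (Fin (m + 3)) F) :
      Matrix (Fin (m + 3)) (Fin (m + 3)) F) * Hm' F m) := by
    rw [← eV', ← hinv]; exact MemM.of_mem (H.inv_mem hhu)
  have hX : MemM H (T ((φ₀⁻¹ * ζ) • ε 0) (ε (m + 2))) := by
    have h1 : MemM H ((g * u * g⁻¹ * u⁻¹ : Matrix.SpecialLinearGroup (Fin (m + 3)) F) :
        Matrix (Fin (m + 3)) (Fin (m + 3)) F) := MemM.of_mem (H.mul_mem hgu (H.inv_mem hu))
    rw [hg_def, conj_g_coe F m hg (φ₀⁻¹ * ζ) u, hu_def, X_eq F m (φ₀⁻¹ * ζ) _ hUU'] at h1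
    exact h1
  have htr := S.transvection_mem hU' hV' ζ hζ hX
  rw [eq_top_iff]
  intro A _
  exact Cfsg.Agent.Lib.Helper15.SLn_transvection_induction (fun A => A ∈ H)
    (fun i j hij c => htr i j hij c) (fun _ _ => H.mul_mem) A

end main

/-- `SL_n(F)`, `n ≥ 3`, `F` a finite field, is generated by three conjugate regular unipotent
elements. -/
theorem sl_three_regular_unipotents {F : Type*} [Field F] [Fintype F] (n : ℕ) (hn : 3 ≤ n) :
    ∃ u g h : Matrix.SpecialLinearGroup (Fin n) F,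
      (IsNilpotent ((u : Matrix (Fin n) (Fin n) F) - 1) ∧
        ((u : Matrix (Fin n) (Fin n) F) - 1) ^ (n - 1) ≠ 0) ∧
      Subgroup.closure ({u, g * u * g⁻¹, h * u * h⁻¹} :
        Set (Matrix.SpecialLinearGroup (Fin n) F)) = ⊤ := by
  obtain ⟨m, rfl⟩ : ∃ m, n = m + 3 := ⟨n - 3, by omega⟩
  obtain ⟨u, g, h, hN, hgen⟩ := main_gen F m
  refine ⟨u, g, h, ⟨?_, ?_⟩, hgen⟩
  · rw [hN]
    exact ⟨m + 3, Nm_pow_n F (m + 3)⟩
  · rw [hN]
    exact Nm_pow_pred_ne F (m + 3) (by omega)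

end Cfsg.Agent.Lib.Helper13.RegUni
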