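import Mathlib
import Cfsg.Agent.Lib.Helper13.RegUniA

set_option autoImplicit false

/-!
A three-term frame calculus: elements `1 + A X B` for a fixed frame of three vectors and three
covectors, and the double commutator producing a transvection.
-/

namespace Cfsg.Agent.Lib.Helper13.RegUni

open Matrix

section frame

variable {F : Type*} [Field F] {ι : Type*} [Fintype ι] [DecidableEq ι]

/-- the three vectors as columns -/
def frA (vs : Fin 3 → ι → F) : Matrix ι (Fin 3) F := Matrix.of fun i k => vs k i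

/-- the three covectors as rows -/
def frB (fs : Fin 3 → ι → F) : Matrix (Fin 3) ι F := Matrix.of fun k i => fs k i

/-- the element `1 + A X B` -/
def frPsi (vs fs : Fin 3 → ι → F) (X : Matrix (Fin 3) (Fin 3) F) : Matrix ι ι F :=
  1 + frA vs * X * frB fs

/-- circle product with structure matrix `M` -/
def frC (M X Y : Matrix (Fin 3) (Fin 3) F) : Matrix (Fin 3) (Fin 3) F := X + Y + X * M * Y

theorem frB_mul_frA (vs fs : Fin 3 → ι → F) (j k : Fin 3) :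
    (frB fs * frA vs) j k = fs j ⬝ᵥ vs k := rfl

theorem frPsi_mul (vs fs : Fin 3 → ι → F) (X Y : Matrix (Fin 3) (Fin 3) F) :
    frPsi vs fs X * frPsi vs fs Y = frPsi vs fs (frC (frB fs * frA vs) X Y) := by
  unfold frPsi frC
  simp only [mul_add, add_mul, mul_one, one_mul, Matrix.mul_add, Matrix.add_mul, Matrix.mul_assoc]
  abel

theorem frPsi_zero (vs fs : Fin 3 → ι → F) : frPsi vs fs 0 = 1 := by
  unfold frPsi
  rw [Matrix.mul_zero, Matrix.zero_mul, add_zero]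

theorem frPsi_eq (vs fs : Fin 3 → ι → F) (X : Matrix (Fin 3) (Fin 3) F) :
    frPsi vs fs X = 1 + ∑ j, ∑ k, X j k • vecMulVec (vs j) (fs k) := by
  unfold frPsi
  congr 1
  ext r s
  simp only [Matrix.mul_apply, Fin.sum_univ_three, Matrix.add_apply, Matrix.smul_apply,
    vecMulVec_apply, frA, frB, Matrix.of_apply, smul_eq_mul]
  ring

theorem T_mul_T_neg_fr (lam : F) {a b α β : ι → F} (h : α ⬝ᵥ b = 0) :
    T (lam • a) α * T (-(lam • b)) β = 1 + lam • vecMulVec a α + (-lam) • vecMulVec b β := by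
  rw [T_mul_T, dotProduct_neg, dotProduct_smul, h, smul_zero, neg_zero, zero_smul, add_zero,
    smul_vecMulVec, neg_vecMulVec, smul_vecMulVec, neg_smul]

theorem T_mul_T_neg_fr' (lam c : F) {a b α β : ι → F} (h : β ⬝ᵥ a = c) :
    T (lam • b) β * T (-(lam • a)) α
      = 1 + lam • vecMulVec b β + (-lam) • vecMulVec a α + (-(lam ^ 2 * c)) • vecMulVec b α := by
  rw [T_mul_T, dotProduct_neg, dotProduct_smul, h, smul_vecMulVec, neg_vecMulVec, smul_vecMulVec,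
    smul_vecMulVec, neg_smul, smul_eq_mul, smul_smul, neg_smul, neg_smul]
  have e : lam * c * lam = lam ^ 2 * c := by ring
  rw [e]

end frame

section stages

variable {F : Type*} [Field F]

theorem frC_stage1 (lam c d : F) :
    frC !![0, 0, 0; c, 0, 0; d, c, 0]
      (frC !![0, 0, 0; c, 0, 0; d, c, 0] !![0, 0, 0; 0, lam, 0; 0, 0, -lam]
        !![lam, 0, 0; 0, -lam, 0; 0, 0, 0])
      (frC !![0, 0, 0; c, 0, 0; d, c, 0] !![0, 0, 0; 0, -lam, 0; 0, -(lam ^ 2 * c), lam]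
        !![-lam, 0, 0; -(lam ^ 2 * c), lam, 0; 0, 0, 0])
    = !![0, 0, 0; lam ^ 2 * c, 0, 0; -(lam ^ 2 * d) - lam ^ 3 * c ^ 2, lam ^ 2 * c, 0] := by
  ext i j
  fin_cases i <;> fin_cases j <;>
    simp [frC] <;> ring

theorem frC_stage_inv (lam c d : F) :
    frC !![0, 0, 0; c, 0, 0; d, c, 0]
      !![0, 0, 0; lam ^ 2 * c, 0, 0; -(lam ^ 2 * d) - lam ^ 3 * c ^ 2, lam ^ 2 * c, 0]
      (-!![0, 0, 0; lam ^ 2 * c, 0, 0; -(lam ^ 2 * d) - lam ^ 3 * c ^ 2, lam ^ 2 * c, 0]) = 0 := by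
  ext i j
  fin_cases i <;> fin_cases j <;>
    simp [frC] <;> ring

theorem frC_stage2 (lam c d : F) :
    frC !![0, 0, 0; c, 0, 0; d, c, 0]
      (frC !![0, 0, 0; c, 0, 0; d, c, 0]
        !![0, 0, 0; lam ^ 2 * c, 0, 0; -(lam ^ 2 * d) - lam ^ 3 * c ^ 2, lam ^ 2 * c, 0]
        !![lam, 0, 0; 0, -lam, 0; 0, 0, 0])
      (frC !![0, 0, 0; c, 0, 0; d, c, 0]
        (-!![0, 0, 0; lam ^ 2 * c, 0, 0; -(lam ^ 2 * d) - lam ^ 3 * c ^ 2, lam ^ 2 * c, 0])
        !![-lam, 0, 0; -(lam ^ 2 * c), lam, 0; 0, 0, 0])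
    = !![0, 0, 0; 0, 0, 0; lam ^ 3 * c ^ 2, 0, 0] := by
  ext i j
  fin_cases i <;> fin_cases j <;>
    simp [frC] <;> ring

end stages

section stepone

variable {F : Type*} [Field F] {ι : Type*} [Fintype ι] [DecidableEq ι]
  {H : Subgroup (Matrix.SpecialLinearGroup ι F)}

/-- the double commutator of two products of transvections is a transvection -/
theorem step_one (vs fs : Fin 3 → ι → F) (lam c d : F)
    (h00 : fs 0 ⬝ᵥ vs 0 = 0) (h01 : fs 0 ⬝ᵥ vs 1 = 0) (h02 : fs 0 ⬝ᵥ vs 2 = 0)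
    (h10 : fs 1 ⬝ᵥ vs 0 = c) (h11 : fs 1 ⬝ᵥ vs 1 = 0) (h12 : fs 1 ⬝ᵥ vs 2 = 0)
    (h20 : fs 2 ⬝ᵥ vs 0 = d) (h21 : fs 2 ⬝ᵥ vs 1 = c) (h22 : fs 2 ⬝ᵥ vs 2 = 0)
    (hx : MemM H (T (lam • vs 0) (fs 0) * T (-(lam • vs 1)) (fs 1)))
    (hx' : MemM H (T (lam • vs 1) (fs 1) * T (-(lam • vs 0)) (fs 0)))
    (hy : MemM H (T (lam • vs 1) (fs 1) * T (-(lam • vs 2)) (fs 2)))
    (hy' : MemM H (T (lam • vs 2) (fs 2) * T (-(lam • vs 1)) (fs 1))) :
    MemM H (T ((lam ^ 3 * c ^ 2) • vs 2) (fs 0)) := by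
  have hM : frB fs * frA vs = !![0, 0, 0; c, 0, 0; d, c, 0] := by
    ext j k
    rw [frB_mul_frA]
    fin_cases j <;> fin_cases k <;> simp [h00, h01, h02, h10, h11, h12, h20, h21, h22]
  have ex : T (lam • vs 0) (fs 0) * T (-(lam • vs 1)) (fs 1)
      = frPsi vs fs !![lam, 0, 0; 0, -lam, 0; 0, 0, 0] := by
    rw [T_mul_T_neg_fr lam h01, frPsi_eq]
    simp [Fin.sum_univ_three]
    abel
  have ex' : T (lam • vs 1) (fs 1) * T (-(lam • vs 0)) (fs 0)
      = frPsi vs fs !![-lam, 0, 0; -(lam ^ 2 * c), lam, 0; 0, 0, 0] := by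
    rw [T_mul_T_neg_fr' lam c h10, frPsi_eq]
    simp [Fin.sum_univ_three]
    abel
  have ey : T (lam • vs 1) (fs 1) * T (-(lam • vs 2)) (fs 2)
      = frPsi vs fs !![0, 0, 0; 0, lam, 0; 0, 0, -lam] := by
    rw [T_mul_T_neg_fr lam h12, frPsi_eq]
    simp [Fin.sum_univ_three]
    abel
  have ey' : T (lam • vs 2) (fs 2) * T (-(lam • vs 1)) (fs 1)
      = frPsi vs fs !![0, 0, 0; 0, -lam, 0; 0, -(lam ^ 2 * c), lam] := by
    rw [T_mul_T_neg_fr' lam c h21, frPsi_eq]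
    simp [Fin.sum_univ_three]
    abel
  rw [ex] at hx
  rw [ex'] at hx'
  rw [ey] at hy
  rw [ey'] at hy'
  have hw := (hy.mul hx).mul (hy'.mul hx')
  rw [frPsi_mul, frPsi_mul, frPsi_mul, hM, frC_stage1] at hw
  have hw' := hw.inv_of_mul_eq_one
    (A' := frPsi vs fs
      (-!![0, 0, 0; lam ^ 2 * c, 0, 0; -(lam ^ 2 * d) - lam ^ 3 * c ^ 2, lam ^ 2 * c, 0]))
    (by rw [frPsi_mul, hM, frC_stage_inv, frPsi_zero])
  have hr := (hw.mul hx).mul (hw'.mul hx')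
  rw [frPsi_mul, frPsi_mul, frPsi_mul, hM, frC_stage2] at hr
  have er : frPsi vs fs !![0, 0, 0; 0, 0, 0; lam ^ 3 * c ^ 2, 0, 0]
      = T ((lam ^ 3 * c ^ 2) • vs 2) (fs 0) := by
    rw [frPsi_eq, T, smul_vecMulVec]
    simp [Fin.sum_univ_three]
  rwa [er] at hr

end stepone

end Cfsg.Agent.Lib.Helper13.RegUni
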