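import Mathlib
import Cfsg.Agent.Lib.Helper13.RegUniB
import Cfsg.Agent.Lib.Helper13.RegUniG

set_option autoImplicit false

/-!
The vectors `a_k = u ^ k e_{n-1}` and covectors `α_k = ε_0 u ^ (-k)` attached to the regular
unipotent element `u`, their pairings, and the transvections `T (x a_i) α_j` inside a subgroup
containing `u` and a conjugate of `u` by a lowest root element.
-/

namespace Cfsg.Agent.Lib.Helper13.RegUni

open Matrix

section seq

variable (F : Type*) [Field F] (m : ℕ)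

local notation "ε" => e F (m + 3)

/-- the vector `u ^ k e_{n-1}` -/
def aV (k : ℕ) : Fin (m + 3) → F := (Um F (m + 3)) ^ k *ᵥ e F (m + 3) (m + 2)

variable {F m}

/-- the covector `ε_0 u ^ (-k)` -/
def bV (U' : Matrix (Fin (m + 3)) (Fin (m + 3)) F) (k : ℕ) : Fin (m + 3) → F :=
  e F (m + 3) 0 ᵥ* U' ^ k

variable (F m)

theorem aV_zero : aV F m 0 = ε (m + 2) := by rw [aV, pow_zero, one_mulVec]

theorem aV_succ (k : ℕ) : aV F m (k + 1) = Um F (m + 3) *ᵥ aV F m k := by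
  unfold aV
  rw [pow_succ', mulVec_mulVec]

variable {F m}
variable (U' : Matrix (Fin (m + 3)) (Fin (m + 3)) F)

theorem bV_zero : bV U' 0 = ε 0 := by rw [bV, pow_zero, vecMul_one]

theorem bV_succ (k : ℕ) : bV U' (k + 1) = bV U' k ᵥ* U' := by
  unfold bV
  rw [pow_succ, vecMul_vecMul]

variable {U'}

theorem U'_mulVec_aV_succ (hU'U : U' * Um F (m + 3) = 1) (k : ℕ) :
    U' *ᵥ aV F m (k + 1) = aV F m k := by
  rw [aV_succ, mulVec_mulVec, hU'U, one_mulVec]

theorem bV_succ_vecMul_U (hU'U : U' * Um F (m + 3) = 1) (k : ℕ) :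
    bV U' (k + 1) ᵥ* Um F (m + 3) = bV U' k := by
  rw [bV_succ, vecMul_vecMul, hU'U, vecMul_one]

theorem pair_succ (hU'U : U' * Um F (m + 3) = 1) (i j : ℕ) :
    bV U' (j + 1) ⬝ᵥ aV F m (i + 1) = bV U' j ⬝ᵥ aV F m i := by
  rw [bV_succ, aV_succ, ← dotProduct_mulVec, mulVec_mulVec, hU'U, one_mulVec]

theorem pair_add (hU'U : U' * Um F (m + 3) = 1) (i j k : ℕ) :
    bV U' (j + k) ⬝ᵥ aV F m (i + k) = bV U' j ⬝ᵥ aV F m i := by
  induction k with
  | zero => rfl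
  | succ k ih => rw [← add_assoc, ← add_assoc, pair_succ hU'U, ih]

variable (F m)

theorem e0_pow_dot (i : ℕ) :
    ∀ k, k < m + 3 → (ε 0 ᵥ* (Um F (m + 3)) ^ i) ⬝ᵥ ε k = ((i.choose k : ℕ) : F) := by
  induction i with
  | zero =>
    intro k hk
    rw [pow_zero, vecMul_one]
    cases k with
    | zero => rw [e_dot_e_self F (m + 3) 0 (by omega), Nat.choose_self, Nat.cast_one]
    | succ k =>
      rw [e_dot_e_ne F (m + 3) 0 (k + 1) (by omega), Nat.choose_zero_succ, Nat.cast_zero]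
  | succ i ih =>
    intro k hk
    rw [pow_succ, ← vecMul_vecMul, ← dotProduct_mulVec, Um_mulVec, dotProduct_add]
    cases k with
    | zero =>
      rw [Nm_mulVec_e_zero F (m + 3) (by omega), dotProduct_zero, add_zero, ih 0 hk,
        Nat.choose_zero_right, Nat.choose_zero_right]
    | succ k =>
      rw [Nm_mulVec_e_succ F (m + 3) k hk, ih (k + 1) hk, ih k (by omega),
        Nat.choose_succ_succ' i k, Nat.cast_add]
      ring

variable {F m}

theorem pair_zero (i : ℕ) : bV U' 0 ⬝ᵥ aV F m i = ((i.choose (m + 2) : ℕ) : F) := by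
  rw [bV_zero, aV, dotProduct_mulVec]
  exact e0_pow_dot F m i (m + 2) (by omega)

theorem pair_ge (hU'U : U' * Um F (m + 3) = 1) (i j : ℕ) :
    bV U' j ⬝ᵥ aV F m (j + i) = ((i.choose (m + 2) : ℕ) : F) := by
  have h := pair_add hU'U i 0 j
  rw [zero_add, add_comm i j] at h
  rw [h, pair_zero]

theorem pair_ge_zero (hU'U : U' * Um F (m + 3) = 1) (i j : ℕ) (hi : i < m + 2) :
    bV U' j ⬝ᵥ aV F m (j + i) = 0 := by
  rw [pair_ge hU'U, Nat.choose_eq_zero_of_lt hi, Nat.cast_zero]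

theorem pair_self (hU'U : U' * Um F (m + 3) = 1) (j : ℕ) : bV U' j ⬝ᵥ aV F m j = 0 :=
  pair_ge_zero hU'U 0 j (by omega)

theorem pair_lt (hUU' : Um F (m + 3) * U' = 1) (hU'U : U' * Um F (m + 3) = 1) (j : ℕ) :
    bV U' (j + 1) ⬝ᵥ aV F m j = (-1) ^ (m + 2) := by
  have h := pair_add hU'U 0 1 j
  rw [zero_add, add_comm 1 j] at h
  rw [h, bV_succ, bV_zero, aV_zero,
    vecMul_inv_of hUU' (rv_vecMul_Um F (m + 3) (by omega)), dot_e F (m + 3) (m + 2) (by omega)]
  rfl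

end seq

section mem

variable {F : Type*} [Field F] {m : ℕ}
  {H : Subgroup (Matrix.SpecialLinearGroup (Fin (m + 3)) F)}
  {U' : Matrix (Fin (m + 3)) (Fin (m + 3)) F}

local notation "ε" => e F (m + 3)

theorem InW_up (hU : MemM H (Um F (m + 3))) (hUU' : Um F (m + 3) * U' = 1) {k i : ℕ} {x : F}
    (h : InW H (bV U' k) (x • aV F m i)) : InW H (bV U' (k + 1)) (x • aV F m (i + 1)) := by
  have h1 := InW.conj hU hUU' h
  rwa [mulVec_smul, ← aV_succ, ← bV_succ] at h1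

theorem InW_down (hU' : MemM H U') (hU'U : U' * Um F (m + 3) = 1) {k i : ℕ} {x : F}
    (h : InW H (bV U' (k + 1)) (x • aV F m (i + 1))) : InW H (bV U' k) (x • aV F m i) := by
  have h1 := InW.conj hU' hU'U h
  rwa [mulVec_smul, U'_mulVec_aV_succ hU'U, bV_succ_vecMul_U hU'U] at h1

/-- `T (x a_δ) α_0 ∈ H` -/
def PP (H : Subgroup (Matrix.SpecialLinearGroup (Fin (m + 3)) F))
    (U' : Matrix (Fin (m + 3)) (Fin (m + 3)) F) (δ : ℕ) (x : F) : Prop :=
  InW H (bV U' 0) (x • aV F m δ)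

theorem PP.up (hU : MemM H (Um F (m + 3))) (hUU' : Um F (m + 3) * U' = 1) {δ : ℕ} {x : F}
    (h : PP H U' δ x) (k : ℕ) : InW H (bV U' k) (x • aV F m (k + δ)) := by
  induction k with
  | zero => rw [zero_add]; exact h
  | succ k ih =>
    have h1 := InW_up hU hUU' ih
    rwa [show k + δ + 1 = k + 1 + δ by omega] at h1

theorem PP.of (hU' : MemM H U') (hU'U : U' * Um F (m + 3) = 1) {δ : ℕ} {x : F} (k : ℕ)
    (h : InW H (bV U' k) (x • aV F m (k + δ))) : PP H U' δ x := by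
  induction k with
  | zero => rw [zero_add] at h; exact h
  | succ k ih =>
    rw [show k + 1 + δ = k + δ + 1 by omega] at h
    exact ih (InW_down hU' hU'U h)

theorem PP.neg {δ : ℕ} {x : F} (h : PP H U' δ x) : PP H U' δ (-x) := by
  have h1 := InW.neg h
  rwa [← neg_smul] at h1

theorem PP.add {δ : ℕ} {x y : F} (hx : PP H U' δ x) (hy : PP H U' δ y) : PP H U' δ (x + y) := by
  have h1 := InW.add hx hy
  rwa [← add_smul] at h1

theorem PP.zero (δ : ℕ) : PP H U' δ 0 := by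
  unfold PP
  rw [zero_smul]
  exact InW.zero _

/-- the elements `t_k t_{k+1}⁻¹` -/
def Wm (lam : F) (U' : Matrix (Fin (m + 3)) (Fin (m + 3)) F) (k : ℕ) :
    Matrix (Fin (m + 3)) (Fin (m + 3)) F :=
  T (lam • aV F m k) (bV U' k) * T (-(lam • aV F m (k + 1))) (bV U' (k + 1))

/-- the elements `t_{k+1} t_k⁻¹` -/
def Wm' (lam : F) (U' : Matrix (Fin (m + 3)) (Fin (m + 3)) F) (k : ℕ) :
    Matrix (Fin (m + 3)) (Fin (m + 3)) F :=
  T (lam • aV F m (k + 1)) (bV U' (k + 1)) * T (-(lam • aV F m k)) (bV U' k)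

theorem Wm_mul_Wm' (hU'U : U' * Um F (m + 3) = 1) (lam : F) (k : ℕ) :
    Wm lam U' k * Wm' lam U' k = 1 := by
  have h1 : bV U' k ⬝ᵥ (lam • aV F m k) = 0 := by
    rw [dotProduct_smul, pair_self hU'U, smul_zero]
  have h2 : bV U' (k + 1) ⬝ᵥ (lam • aV F m (k + 1)) = 0 := by
    rw [dotProduct_smul, pair_self hU'U, smul_zero]
  unfold Wm Wm'
  rw [mul_assoc, ← mul_assoc (T (-(lam • aV F m (k + 1))) (bV U' (k + 1))), T_neg_mul_T h2,
    one_mul, T_mul_T_neg h1]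

theorem conj_mul_aux {G G' A B : Matrix (Fin (m + 3)) (Fin (m + 3)) F} (h : G' * G = 1) :
    G * (A * B) * G' = (G * A * G') * (G * B * G') := by
  simp only [mul_assoc]
  rw [← mul_assoc G' G, h, one_mul]

theorem Wm_succ (hUU' : Um F (m + 3) * U' = 1) (hU'U : U' * Um F (m + 3) = 1) (lam : F) (k : ℕ) :
    Wm lam U' (k + 1) = Um F (m + 3) * Wm lam U' k * U' := by
  unfold Wm
  rw [conj_mul_aux hU'U, conj_T hUU', conj_T hUU', mulVec_smul, mulVec_neg, mulVec_smul,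
    ← aV_succ, ← aV_succ, ← bV_succ, ← bV_succ]

theorem Wm'_succ (hUU' : Um F (m + 3) * U' = 1) (hU'U : U' * Um F (m + 3) = 1) (lam : F)
    (k : ℕ) : Wm' lam U' (k + 1) = Um F (m + 3) * Wm' lam U' k * U' := by
  unfold Wm'
  rw [conj_mul_aux hU'U, conj_T hUU', conj_T hUU', mulVec_smul, mulVec_neg, mulVec_smul,
    ← aV_succ, ← aV_succ, ← bV_succ, ← bV_succ]

theorem memW (hU : MemM H (Um F (m + 3))) (hU' : MemM H U') (hUU' : Um F (m + 3) * U' = 1)
    (hU'U : U' * Um F (m + 3) = 1) (lam : F) (h0 : MemM H (Wm lam U' 0))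
    (h0' : MemM H (Wm' lam U' 0)) (k : ℕ) : MemM H (Wm lam U' k) ∧ MemM H (Wm' lam U' k) := by
  induction k with
  | zero => exact ⟨h0, h0'⟩
  | succ k ih =>
    rw [Wm_succ hUU' hU'U, Wm'_succ hUU' hU'U]
    exact ⟨(hU.mul ih.1).mul hU', (hU.mul ih.2).mul hU'⟩

/-- the action of `t_δ t_{δ+1}⁻¹` moves `T (x a_δ) α_0` to `T (lam x a_{δ+1}) α_0` -/
theorem PP.step (hUU' : Um F (m + 3) * U' = 1) (hU'U : U' * Um F (m + 3) = 1) (lam : F)
    (hW : ∀ k, MemM H (Wm lam U' k)) {δ : ℕ} {x : F} (hδ : δ + 1 ≤ m + 1) (h : PP H U' δ x) :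
    PP H U' (δ + 1) (lam * x) := by
  have e1 : bV U' 0 ⬝ᵥ aV F m (δ + 1) = 0 := by
    have := pair_ge_zero hU'U (δ + 1) 0 (by omega)
    rwa [zero_add] at this
  have e2 : bV U' 0 ⬝ᵥ aV F m δ = 0 := by
    have := pair_ge_zero hU'U δ 0 (by omega)
    rwa [zero_add] at this
  have e3 : bV U' (δ + 1) ⬝ᵥ aV F m δ = (-1) ^ (m + 2) := pair_lt hUU' hU'U δ
  have e4 : bV U' δ ⬝ᵥ aV F m δ = 0 := pair_self hU'U δ
  have e5 : bV U' δ ⬝ᵥ aV F m (δ + 1) = 0 := pair_ge_zero hU'U 1 δ (by omega)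
  have h1 := InW.conj (hW δ) (Wm_mul_Wm' hU'U lam δ) h
  have hb : bV U' 0 ᵥ* Wm' lam U' δ = bV U' 0 := by
    unfold Wm'
    rw [← vecMul_vecMul, T_vecMul, T_vecMul, dotProduct_smul, e1, smul_zero, zero_smul, add_zero,
      dotProduct_neg, dotProduct_smul, e2, smul_zero, neg_zero, zero_smul, add_zero]
  have ha : Wm lam U' δ *ᵥ (x • aV F m δ) - x • aV F m δ
      = (-(lam * (-1) ^ (m + 2) * x)) • aV F m (δ + 1) := by
    unfold Wm
    rw [← mulVec_mulVec, T_mulVec, T_mulVec]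
    simp only [dotProduct_add, dotProduct_smul, dotProduct_neg, e3, e4, e5, smul_eq_mul, mul_zero,
      neg_zero, add_zero, zero_smul]
    module
  rw [hb] at h1
  have h2 := h1.sub h
  rw [ha] at h2
  unfold PP
  rcases neg_one_pow_eq_or F (m + 2) with hc | hc
  · rw [hc, mul_one] at h2
    have h3 := h2.neg
    rwa [← neg_smul, neg_neg] at h3
  · rw [hc, mul_neg, mul_one, neg_mul, neg_neg] at h2
    exact h2

theorem PP.steps (hUU' : Um F (m + 3) * U' = 1) (hU'U : U' * Um F (m + 3) = 1) (lam : F)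
    (hW : ∀ k, MemM H (Wm lam U' k)) {δ : ℕ} {x : F} (h : PP H U' δ x) (k : ℕ)
    (hk : δ + k ≤ m + 1) : PP H U' (δ + k) (lam ^ k * x) := by
  induction k with
  | zero => rw [pow_zero, one_mul]; exact h
  | succ k ih =>
    have h1 := PP.step hUU' hU'U lam hW (by omega) (ih (by omega))
    rw [← mul_assoc, ← pow_succ'] at h1
    exact h1

/-- the commutator rule -/
theorem PP.rule (hU : MemM H (Um F (m + 3))) (hU' : MemM H U')
    (hUU' : Um F (m + 3) * U' = 1) (hU'U : U' * Um F (m + 3) = 1) {δ δ' δ'' s : ℕ} {x y : F}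
    (hs : δ + δ' = δ'' + s) (hδ'' : δ'' ≤ m + 1) (hx : PP H U' δ x) (hy : PP H U' δ' y) :
    PP H U' δ'' (((s.choose (m + 2) : ℕ) : F) * x * y) := by
  have t1 := hx.up hU hUU' s
  have t2 := hy.up hU hUU' δ
  have h3 : bV U' s ⬝ᵥ (y • aV F m (δ + δ')) = 0 := by
    rw [hs, add_comm δ'' s, dotProduct_smul, pair_ge_zero hU'U δ'' s (by omega), smul_zero]
  have h4 := InW.comm t1 t2 h3
  rw [add_comm s δ, dotProduct_smul, pair_ge hU'U s δ, hs, add_comm δ'' s] at h4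
  have h5 := h4.neg
  have e : -((-(x • ((s.choose (m + 2) : ℕ) : F))) • y • aV F m (s + δ''))
      = (((s.choose (m + 2) : ℕ) : F) * x * y) • aV F m (s + δ'') := by
    simp only [smul_eq_mul]
    module
  rw [e] at h5
  exact PP.of hU' hU'U s h5

end mem

end Cfsg.Agent.Lib.Helper13.RegUni
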