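import Mathlib
import Cfsg.Agent.Lib.Helper13.RegUniC
import Cfsg.Agent.Lib.Helper13.RegUniD
import Cfsg.Agent.Lib.Helper13.RegUniH

set_option autoImplicit false

/-!
`SL_n(F)`, `n ≥ 4`, `F` a finite field, is generated by the regular unipotent element `u` and its
conjugate by the lowest root element `x_{n-1,0}(ζ)`, `ζ` a generator of the multiplicative group.
-/

namespace Cfsg.Agent.Lib.Helper13.RegUni

open Matrix

section lucas

theorem choose_pow_not_dvd (p : ℕ) [Fact p.Prime] (n' : ℕ) (hn' : ¬ p ∣ n') (h0 : 0 < n') :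
    ∀ a : ℕ, ¬ p ∣ Nat.choose (p ^ a * n' - 1 + p ^ a) (p ^ a) := by
  intro a
  induction a with
  | zero =>
    rw [pow_zero, one_mul, Nat.sub_add_cancel (show 1 ≤ n' from h0), Nat.choose_one_right]
    exact hn'
  | succ a ih =>
    have hp : 0 < p := (Fact.out : p.Prime).pos
    have hpos : 0 < p ^ a * n' := by positivity
    obtain ⟨t, ht⟩ : ∃ t, p ^ a * n' = t + 1 := ⟨p ^ a * n' - 1, by omega⟩
    have e1 : p ^ (a + 1) * n' = p * t + p := by
      rw [pow_succ', mul_assoc, ht]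
      ring
    have e2 : p ^ (a + 1) = p * p ^ a := pow_succ' p a
    have hN : p ^ (a + 1) * n' - 1 + p ^ (a + 1) = (p - 1) + p * (t + p ^ a) := by
      rw [e1, e2, mul_add]
      omega
    have hI : p ^ a * n' - 1 + p ^ a = t + p ^ a := by
      rw [ht]
      omega
    rw [hI] at ih
    have hL := Choose.choose_modEq_choose_mod_mul_choose_div_nat
      (n := (p - 1) + p * (t + p ^ a)) (k := p * p ^ a) (p := p)
    rw [Nat.add_mul_mod_self_left, Nat.mod_eq_of_lt (by omega : p - 1 < p),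
      Nat.add_mul_div_left _ _ hp, Nat.div_eq_of_lt (by omega : p - 1 < p), zero_add,
      Nat.mul_mod_right, Nat.mul_div_cancel_left _ hp, Nat.choose_zero_right, one_mul] at hL
    rw [hN, e2, Nat.ModEq.dvd_iff hL (dvd_refl p)]
    exact ih

theorem choose_cast_ne_zero {F : Type*} [Field F] (p : ℕ) [Fact p.Prime] [CharP F p]
    (a n' m : ℕ) (hn' : ¬ p ∣ n') (hn : m + 3 = p ^ a * n') :
    (((m + 2 + p ^ a).choose (m + 2) : ℕ) : F) ≠ 0 := by
  have h0 : 0 < n' := by
    rcases Nat.eq_zero_or_pos n' with h | h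
    · rw [h, mul_zero] at hn
      omega
    · exact h
  rw [Nat.choose_symm_add, Ne, CharP.cast_eq_zero_iff F p]
  have e : m + 2 + p ^ a = p ^ a * n' - 1 + p ^ a := by omega
  rw [e]
  exact choose_pow_not_dvd p n' hn' h0 a

end lucas

section ax

variable {F : Type*} [Field F] {m : ℕ}
  {H : Subgroup (Matrix.SpecialLinearGroup (Fin (m + 3)) F)}
  {U' : Matrix (Fin (m + 3)) (Fin (m + 3)) F}

local notation "ε" => e F (m + 3)

/-- the additive group of `x` with `T (x a_δ) α_0 ∈ H` -/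
def PPsub (H : Subgroup (Matrix.SpecialLinearGroup (Fin (m + 3)) F))
    (U' : Matrix (Fin (m + 3)) (Fin (m + 3)) F) (δ : ℕ) : AddSubgroup F where
  carrier := {x | PP H U' δ x}
  add_mem' := fun hx hy => PP.add hx hy
  zero_mem' := PP.zero δ
  neg_mem' := fun hx => PP.neg hx

theorem mem_PPsub {δ : ℕ} {x : F} : x ∈ PPsub H U' δ ↔ PP H U' δ x := Iff.rfl

theorem Ax_e0_of_PP (hall : ∀ δ, δ ≤ m + 1 → ∀ x : F, PP H U' δ x) : Ax H (ε 0) := by
  have claim : ∀ k, k ≤ m + 1 → ∀ j, j + k ≤ m + 1 → ∀ x : F,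
      InW H (ε 0) (x • ((Um F (m + 3)) ^ j *ᵥ ε (m + 2 - k))) := by
    intro k
    induction k with
    | zero =>
      intro _ j hj x
      have h := hall j (by omega) x
      unfold PP at h
      rw [bV_zero] at h
      exact h
    | succ k ih =>
      intro hk j hj x
      have hN : ε (m + 2 - (k + 1)) = Nm F (m + 3) *ᵥ ε (m + 2 - k) := by
        have h1 := Nm_mulVec_e_succ F (m + 3) (m + 1 - k) (by omega)
        rw [show m + 1 - k + 1 = m + 2 - k by omega] at h1
        rw [h1]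
        congr 1
        omega
      have hN2 : Nm F (m + 3) *ᵥ ε (m + 2 - k)
          = Um F (m + 3) *ᵥ ε (m + 2 - k) - ε (m + 2 - k) := by
        rw [Um_mulVec, add_sub_cancel_left]
      have e1 : x • ((Um F (m + 3)) ^ j *ᵥ ε (m + 2 - (k + 1)))
          = x • ((Um F (m + 3)) ^ (j + 1) *ᵥ ε (m + 2 - k))
            - x • ((Um F (m + 3)) ^ j *ᵥ ε (m + 2 - k)) := by
        rw [hN, hN2, mulVec_sub, mulVec_mulVec, ← pow_succ, smul_sub]
      rw [e1]
      exact (ih (by omega) (j + 1) (by omega) x).sub (ih (by omega) j (by omega) x)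
  have hpos : ∀ i, 1 ≤ i → i ≤ m + 2 → ∀ x : F, InW H (ε 0) (x • ε i) := by
    intro i hi1 hi2 x
    have h := claim (m + 2 - i) (by omega) 0 (by omega) x
    rw [pow_zero, one_mulVec, show m + 2 - (m + 2 - i) = i by omega] at h
    exact h
  apply Ax.of_InW
  intro w hw
  have hsum : w = ∑ i : Fin (m + 3), w i • ε (i : ℕ) := by
    funext j
    rw [Finset.sum_apply]
    simp only [Pi.smul_apply, e_apply, smul_eq_mul, mul_ite, mul_one, mul_zero]
    rw [Finset.sum_eq_single j]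
    · rw [if_pos rfl]
    · intro b _ hb
      rw [if_neg]
      intro h
      exact hb (Fin.ext h.symm)
    · intro h
      exact absurd (Finset.mem_univ j) h
  rw [hsum]
  apply Finset.sum_induction _ (InW H (ε 0)) (fun a b ha hb => ha.add hb) (InW.zero _)
  intro i _
  by_cases hi : (i : ℕ) = 0
  · have hwi : w i = 0 := by
      rw [e_dot F (m + 3) 0 (by omega)] at hw
      have hi' : i = ⟨0, by omega⟩ := Fin.ext hi
      rw [hi']
      exact hw
    rw [hwi, zero_smul]
    exact InW.zero _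
  · exact hpos _ (by omega) (by have := i.2; omega) _

theorem Ax_all_of_e0 (hU' : MemM H U') (hU'U : U' * Um F (m + 3) = 1) (h : Ax H (ε 0)) :
    ∀ j, j < m + 3 → Ax H (ε j) := by
  intro j
  induction j with
  | zero => intro _; exact h
  | succ j ih =>
    intro hj
    have hA := ih (by omega)
    have h1 : Ax H (ε j + ε (j + 1)) := by
      have h1 := hA.conj hU' hU'U
      rw [e_vecMul_Um] at h1
      exact h1
    have h2 := h1.add_smul hA (-ε (j + 1))
      (by rw [dotProduct_neg, e_dot_e_ne F (m + 3) j (j + 1) (by omega), neg_zero])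
    have e1 : ε j + ε (j + 1) + ((ε j + ε (j + 1)) ⬝ᵥ (-ε (j + 1))) • ε j = ε (j + 1) := by
      simp (disch := omega) only [dotProduct_neg, add_dotProduct, e_dot_e_self, e_dot_e_ne]
      module
    rw [e1] at h2
    exact h2

end ax

section main

variable {F : Type*} [Field F] [Fintype F] {m : ℕ}

local notation "ε" => e F (m + 3)

theorem two_gen_transvections (hm : 1 ≤ m) (ζ : F)
    (hζ : ∀ x : F, x ≠ 0 → ∃ k : ℕ, x = ζ ^ (k + 1))
    (H : Subgroup (Matrix.SpecialLinearGroup (Fin (m + 3)) F))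
    (U' : Matrix (Fin (m + 3)) (Fin (m + 3)) F) (hUU' : Um F (m + 3) * U' = 1)
    (hU : MemM H (Um F (m + 3))) (hU' : MemM H U')
    (hV : MemM H (T (ζ • ε (m + 2)) (ε 0) * Um F (m + 3) * T (-(ζ • ε (m + 2))) (ε 0)))
    (hV' : MemM H (T (ζ • ε (m + 2)) (ε 0) * U' * T (-(ζ • ε (m + 2))) (ε 0)))
    (i j : Fin (m + 3)) (hij : i ≠ j) (c : F) :
    Matrix.SpecialLinearGroup.transvection hij c ∈ H := by
  have hU'U : U' * Um F (m + 3) = 1 := mul_eq_one_comm.mp hUU'
  have hζ0 : ζ ≠ 0 := by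
    obtain ⟨k, hk⟩ := hζ 1 one_ne_zero
    intro h
    rw [h, zero_pow (by omega)] at hk
    exact one_ne_zero hk
  -- the elements `W_k`
  have hW0 : MemM H (Wm ζ U' 0) := by
    have h1 := hV.mul hU'
    have e1 : T (ζ • ε (m + 2)) (ε 0) * Um F (m + 3) * T (-(ζ • ε (m + 2))) (ε 0) * U'
        = Wm ζ U' 0 := by
      unfold Wm
      rw [mul_assoc, mul_assoc, ← mul_assoc (Um F (m + 3)), conj_T hUU', mulVec_neg, mulVec_smul,
        aV_succ, aV_zero, bV_succ, bV_zero]
    rwa [e1] at h1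
  have hW0' : MemM H (Wm' ζ U' 0) := by
    have h1 := hU.mul hV'
    have e1 : Um F (m + 3) * (T (ζ • ε (m + 2)) (ε 0) * U' * T (-(ζ • ε (m + 2))) (ε 0))
        = Wm' ζ U' 0 := by
      unfold Wm'
      rw [← mul_assoc, ← mul_assoc, conj_T hUU', mulVec_smul, aV_succ, aV_zero, bV_succ, bV_zero]
    rwa [e1] at h1
  have hWW := memW hU hU' hUU' hU'U ζ hW0 hW0'
  have hW : ∀ k, MemM H (Wm ζ U' k) := fun k => (hWW k).1
  -- step one
  have hc2 : ((-1 : F) ^ (m + 2)) ^ 2 = 1 := by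
    rcases neg_one_pow_eq_or F (m + 2) with h | h
    · rw [h, one_pow]
    · rw [h, neg_one_sq]
  have hP2 : PP H U' 2 (ζ ^ 3) := by
    have h1 : MemM H (T ((ζ ^ 3 * ((-1 : F) ^ (m + 2)) ^ 2) • aV F m 2) (bV U' 0)) :=
      step_one (H := H) ![aV F m 0, aV F m 1, aV F m 2] ![bV U' 0, bV U' 1, bV U' 2] ζ
        ((-1) ^ (m + 2)) (bV U' 2 ⬝ᵥ aV F m 0)
        (pair_self hU'U 0) (pair_ge_zero hU'U 1 0 (by omega)) (pair_ge_zero hU'U 2 0 (by omega))
        (pair_lt hUU' hU'U 0) (pair_self hU'U 1) (pair_ge_zero hU'U 1 1 (by omega))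
        rfl (pair_lt hUU' hU'U 1) (pair_self hU'U 2)
        (hWW 0).1 (hWW 0).2 (hWW 1).1 (hWW 1).2
    rw [hc2, mul_one] at h1
    refine ⟨?_, h1⟩
    have := pair_ge_zero (F := F) (m := m) hU'U 2 0 (by omega)
    rw [zero_add] at this
    rw [dotProduct_smul, this, smul_zero]
  have hs0 : PP H U' (m + 1) (ζ ^ (m + 2)) := by
    have h1 := PP.steps hUU' hU'U ζ hW hP2 (m - 1) (by omega)
    rw [← pow_add, show 2 + (m - 1) = m + 1 by omega, show m - 1 + 3 = m + 2 by omega] at h1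
    exact h1
  -- the stabilizer of the top group
  have hk1 : ζ ^ (m + 3) ∈ stabSubfield (PPsub H U' (m + 1)) := by
    rw [mem_stabSubfield]
    intro x hx
    rw [mem_PPsub] at hx ⊢
    have h1 := PP.rule hU hU' hUU' hU'U (δ := m + 1) (δ' := m + 1) (δ'' := m) (s := m + 2)
      (by omega) (by omega) hx hs0
    have h2 := PP.step hUU' hU'U ζ hW (by omega) h1
    rw [Nat.choose_self, Nat.cast_one] at h2
    have e : ζ * (1 * x * ζ ^ (m + 2)) = ζ ^ (m + 3) * x := by ring
    rwa [e] at h2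
  obtain ⟨p, hcp⟩ := CharP.exists F
  have := hcp
  have hp : p.Prime := (CharP.char_is_prime_or_zero F p).resolve_right
    (CharP.char_ne_zero_of_finite F p)
  have : Fact p.Prime := ⟨hp⟩
  obtain ⟨a, n', hn', hn⟩ := Nat.exists_eq_pow_mul_and_not_dvd (n := m + 3) (by omega) p hp.ne_one
  have hn'0 : 0 < n' := by
    rcases Nat.eq_zero_or_pos n' with h | h
    · rw [h, mul_zero] at hn
      omega
    · exact h
  have hζP : ζ ^ (p ^ a) ∈ stabSubfield (PPsub H U' (m + 1)) := by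
    by_cases h1 : n' = 1
    · rw [h1, mul_one] at hn
      rw [← hn]
      exact hk1
    · have hn2 : 2 ≤ n' := by omega
      have hP1 : 1 ≤ p ^ a := Nat.one_le_pow _ _ hp.pos
      have hPm : p ^ a ≤ m := by
        by_contra hcon
        push Not at hcon
        have h2 : p ^ a * 2 ≤ p ^ a * n' := Nat.mul_le_mul_left _ hn2
        have hm1 : m = 1 := by omega
        have hP2 : p ^ a = 2 := by
          rw [hm1] at hcon hn
          omega
        have hn'2 : n' = 2 := by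
          rw [hm1, hP2] at hn
          omega
        have ha0 : a ≠ 0 := by
          rintro rfl
          rw [pow_zero] at hP2
          omega
        have hp2 : p ∣ 2 := by
          rw [← hP2]
          exact dvd_pow_self p ha0
        rw [hn'2] at hn'
        exact hn' hp2
      have hC := choose_cast_ne_zero (F := F) p a n' m hn' hn
      have hk2 : (((m + 2 + p ^ a).choose (m + 2) : ℕ) : F) * ζ ^ (m + 3 + p ^ a)
          ∈ stabSubfield (PPsub H U' (m + 1)) := by
        rw [mem_stabSubfield]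
        intro x hx
        rw [mem_PPsub] at hx ⊢
        have h3 := PP.rule hU hU' hUU' hU'U (δ := m + 1) (δ' := m + 1) (δ'' := m - p ^ a)
          (s := m + 2 + p ^ a) (by omega) (by omega) hx hs0
        have h4 := PP.steps hUU' hU'U ζ hW h3 (p ^ a + 1) (by omega)
        rw [show m - p ^ a + (p ^ a + 1) = m + 1 by omega] at h4
        have e : ζ ^ (p ^ a + 1) * ((((m + 2 + p ^ a).choose (m + 2) : ℕ) : F) * x * ζ ^ (m + 2))
            = (((m + 2 + p ^ a).choose (m + 2) : ℕ) : F) * ζ ^ (m + 3 + p ^ a) * x := by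
          rw [show m + 3 + p ^ a = (p ^ a + 1) + (m + 2) by omega, pow_add]
          ring
        rwa [e] at h4
      have h5 := (stabSubfield (PPsub H U' (m + 1))).mul_mem
        ((stabSubfield (PPsub H U' (m + 1))).mul_mem hk2
          ((stabSubfield (PPsub H U' (m + 1))).inv_mem
            (natCast_mem (stabSubfield (PPsub H U' (m + 1))) ((m + 2 + p ^ a).choose (m + 2)))))
        ((stabSubfield (PPsub H U' (m + 1))).inv_mem hk1)
      have e : (((m + 2 + p ^ a).choose (m + 2) : ℕ) : F) * ζ ^ (m + 3 + p ^ a)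
          * (((m + 2 + p ^ a).choose (m + 2) : ℕ) : F)⁻¹ * (ζ ^ (m + 3))⁻¹ = ζ ^ (p ^ a) := by
        have hz : ζ ^ (m + 3) ≠ 0 := pow_ne_zero _ hζ0
        rw [pow_add]
        field_simp
      rwa [e] at h5
  have hζK : ζ ∈ stabSubfield (PPsub H U' (m + 1)) := by
    obtain ⟨f, _, hq⟩ := FiniteField.card F p
    obtain ⟨f', hf'⟩ : ∃ f', (f : ℕ) = f' + 1 := ⟨(f : ℕ) - 1, by have := f.pos; omega⟩
    have h1 := FiniteField.pow_card_pow a ζ
    rw [hq, ← pow_mul, mul_comm, pow_mul, hf', pow_succ, pow_mul'] at h1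
    rw [← h1]
    exact pow_mem hζP _
  have hKtop : ∀ t : F, t ∈ stabSubfield (PPsub H U' (m + 1)) := by
    intro t
    by_cases ht : t = 0
    · rw [ht]
      exact zero_mem _
    · obtain ⟨k, hk⟩ := hζ t ht
      rw [hk]
      exact pow_mem hζK _
  have hStop : ∀ t : F, PP H U' (m + 1) t := by
    intro t
    have h1 := (mem_stabSubfield _ _).mp (hKtop (t * (ζ ^ (m + 2))⁻¹)) (ζ ^ (m + 2)) hs0
    rw [mem_PPsub, mul_assoc, inv_mul_cancel₀ (pow_ne_zero _ hζ0), mul_one] at h1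
    exact h1
  have hdesc : ∀ k, k ≤ m + 1 → ∀ x : F, PP H U' (m + 1 - k) x := by
    intro k
    induction k with
    | zero => intro _ x; exact hStop x
    | succ k ih =>
      intro hk x
      have h1 := PP.rule hU hU' hUU' hU'U (δ := m + 1 - k) (δ' := m + 1)
        (δ'' := m + 1 - (k + 1)) (s := m + 2) (by omega) (by omega) (ih (by omega) x) (hStop 1)
      rw [Nat.choose_self, Nat.cast_one, one_mul, mul_one] at h1
      exact h1
  have hall : ∀ δ, δ ≤ m + 1 → ∀ x : F, PP H U' δ x := by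
    intro δ hδ x
    have h1 := hdesc (m + 1 - δ) (by omega) x
    rwa [show m + 1 - (m + 1 - δ) = δ by omega] at h1
  have hA := Ax_all_of_e0 hU' hU'U (Ax_e0_of_PP hall)
  apply MemM.mem
  rw [transvection_coe_eq_T' F (m + 3) i j hij c]
  apply hA (j : ℕ) j.2
  rw [dotProduct_smul, e_dot_e_ne F (m + 3) (j : ℕ) (i : ℕ) (fun h => hij (Fin.ext h.symm)),
    smul_zero]

end main

section final

variable (F : Type*) [Field F] (m : ℕ)

local notation "ε" => e F (m + 3)

theorem conj_hc_coe (hh : (⟨m + 2, by omega⟩ : Fin (m + 3)) ≠ ⟨0, by omega⟩) (c : F)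
    (u : Matrix.SpecialLinearGroup (Fin (m + 3)) F) :
    ((Matrix.SpecialLinearGroup.transvection hh c * u *
        (Matrix.SpecialLinearGroup.transvection hh c)⁻¹ :
        Matrix.SpecialLinearGroup (Fin (m + 3)) F) : Matrix (Fin (m + 3)) (Fin (m + 3)) F)
      = T (c • ε (m + 2)) (ε 0) * (u : Matrix (Fin (m + 3)) (Fin (m + 3)) F) *
          T (-(c • ε (m + 2))) (ε 0) := by
  rw [Matrix.SpecialLinearGroup.transvection_inv, Matrix.SpecialLinearGroup.coe_mul,
    Matrix.SpecialLinearGroup.coe_mul,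
    transvection_coe_eq_T F (m + 3) (m + 2) 0 (by omega) (by omega) hh c,
    transvection_coe_eq_T F (m + 3) (m + 2) 0 (by omega) (by omega) hh (-c), neg_smul]

variable {F} in
theorem conj_pow_aux {ι : Type*} [Fintype ι] [DecidableEq ι] {G G' A : Matrix ι ι F}
    (h : G' * G = 1) (k : ℕ) : (G * A * G') ^ k = G * A ^ k * G' := by
  induction k with
  | zero => rw [pow_zero, pow_zero, mul_one, mul_eq_one_comm.mp h]
  | succ k ih =>
    rw [pow_succ, ih, pow_succ]
    calc G * A ^ k * G' * (G * A * G') = G * A ^ k * (G' * G) * A * G' := by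
          simp only [mul_assoc]
      _ = G * (A ^ k * A) * G' := by
          rw [h, mul_one]
          simp only [mul_assoc]

theorem main_two_gen [Fintype F] (hm : 1 ≤ m) :
    ∃ u g : Matrix.SpecialLinearGroup (Fin (m + 3)) F,
      ((u : Matrix (Fin (m + 3)) (Fin (m + 3)) F) - 1 = Nm F (m + 3)) ∧
      (∃ G G' : Matrix (Fin (m + 3)) (Fin (m + 3)) F, G * G' = 1 ∧ G' * G = 1 ∧
        ((g * u * g⁻¹ : Matrix.SpecialLinearGroup (Fin (m + 3)) F) :
          Matrix (Fin (m + 3)) (Fin (m + 3)) F) - 1 = G * Nm F (m + 3) * G') ∧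
      Subgroup.closure ({u, g * u * g⁻¹} :
        Set (Matrix.SpecialLinearGroup (Fin (m + 3)) F)) = ⊤ := by
  obtain ⟨ζ, hζ⟩ := exists_pow_succ F
  have hh : (⟨m + 2, by omega⟩ : Fin (m + 3)) ≠ ⟨0, by omega⟩ := by
    intro h
    have := congrArg Fin.val h
    simp at this
  obtain ⟨u, hu_def⟩ : ∃ u : Matrix.SpecialLinearGroup (Fin (m + 3)) F,
      (u : Matrix (Fin (m + 3)) (Fin (m + 3)) F) = Um F (m + 3) :=
    ⟨⟨Um F (m + 3), det_Um F (m + 3)⟩, rfl⟩
  obtain ⟨g, hg_def⟩ : ∃ g : Matrix.SpecialLinearGroup (Fin (m + 3)) F,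
      g = Matrix.SpecialLinearGroup.transvection hh ζ := ⟨_, rfl⟩
  have hd : ε 0 ⬝ᵥ (ζ • ε (m + 2)) = 0 := by
    rw [dotProduct_smul, e_dot_e_ne F (m + 3) 0 (m + 2) (by omega), smul_zero]
  refine ⟨u, g, ?_, ?_, ?_⟩
  · rw [hu_def, Um, add_sub_cancel_left]
  · refine ⟨T (ζ • ε (m + 2)) (ε 0), T (-(ζ • ε (m + 2))) (ε 0), T_mul_T_neg hd,
      T_neg_mul_T hd, ?_⟩
    rw [hg_def, conj_hc_coe F m hh ζ u, hu_def, Um, mul_add, add_mul, mul_one, T_mul_T_neg hd,
      add_sub_cancel_left]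
  obtain ⟨H, hH⟩ : ∃ H : Subgroup (Matrix.SpecialLinearGroup (Fin (m + 3)) F),
      H = Subgroup.closure ({u, g * u * g⁻¹} :
        Set (Matrix.SpecialLinearGroup (Fin (m + 3)) F)) := ⟨_, rfl⟩
  rw [← hH]
  have hu : u ∈ H := by
    rw [hH]; exact Subgroup.subset_closure (by simp)
  have hgu : g * u * g⁻¹ ∈ H := by
    rw [hH]; exact Subgroup.subset_closure (by simp)
  have hUU' : Um F (m + 3) * ((u⁻¹ : Matrix.SpecialLinearGroup (Fin (m + 3)) F) :
      Matrix (Fin (m + 3)) (Fin (m + 3)) F) = 1 := by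
    rw [← hu_def]; exact coe_mul_coe_inv u
  have eV : ((g * u * g⁻¹ : Matrix.SpecialLinearGroup (Fin (m + 3)) F) :
      Matrix (Fin (m + 3)) (Fin (m + 3)) F)
      = T (ζ • ε (m + 2)) (ε 0) * Um F (m + 3) * T (-(ζ • ε (m + 2))) (ε 0) := by
    rw [hg_def, conj_hc_coe F m hh ζ u, hu_def]
  have eV' : ((g * u⁻¹ * g⁻¹ : Matrix.SpecialLinearGroup (Fin (m + 3)) F) :
      Matrix (Fin (m + 3)) (Fin (m + 3)) F)
      = T (ζ • ε (m + 2)) (ε 0) * ((u⁻¹ : Matrix.SpecialLinearGroup (Fin (m + 3)) F) :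
        Matrix (Fin (m + 3)) (Fin (m + 3)) F) * T (-(ζ • ε (m + 2))) (ε 0) := by
    rw [hg_def, conj_hc_coe F m hh ζ u⁻¹]
  have hinv : (g * u * g⁻¹)⁻¹ = g * u⁻¹ * g⁻¹ := by group
  have htr := two_gen_transvections hm ζ hζ H
    ((u⁻¹ : Matrix.SpecialLinearGroup (Fin (m + 3)) F) : Matrix (Fin (m + 3)) (Fin (m + 3)) F)
    hUU' (by rw [← hu_def]; exact MemM.of_mem hu) (MemM.of_mem (H.inv_mem hu))
    (by rw [← eV]; exact MemM.of_mem hgu)
    (by rw [← eV', ← hinv]; exact MemM.of_mem (H.inv_mem hgu))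
  rw [eq_top_iff]
  intro A _
  exact Cfsg.Agent.Lib.Helper15.SLn_transvection_induction (fun A => A ∈ H)
    (fun i j hij c => htr i j hij c) (fun _ _ => H.mul_mem) A

end final

/-- `SL_n(F)`, `n ≥ 4`, `F` a finite field, is generated by two conjugate regular unipotent
elements. -/
theorem sl_two_conj_regular_unipotents {F : Type*} [Field F] [Fintype F] (n : ℕ) (hn : 4 ≤ n) :
    ∃ u g : Matrix.SpecialLinearGroup (Fin n) F,
      (IsNilpotent ((u : Matrix (Fin n) (Fin n) F) - 1) ∧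
        ((u : Matrix (Fin n) (Fin n) F) - 1) ^ (n - 1) ≠ 0) ∧
      (IsNilpotent (((g * u * g⁻¹ : Matrix.SpecialLinearGroup (Fin n) F) :
          Matrix (Fin n) (Fin n) F) - 1) ∧
        (((g * u * g⁻¹ : Matrix.SpecialLinearGroup (Fin n) F) :
          Matrix (Fin n) (Fin n) F) - 1) ^ (n - 1) ≠ 0) ∧
      Subgroup.closure ({u, g * u * g⁻¹} : Set (Matrix.SpecialLinearGroup (Fin n) F)) = ⊤ := by
  obtain ⟨m, rfl⟩ : ∃ m, n = m + 3 := ⟨n - 3, by omega⟩
  obtain ⟨u, g, hN, ⟨G, G', hGG', hG'G, hV⟩, hgen⟩ := main_two_gen F m (by omega)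
  refine ⟨u, g, ⟨?_, ?_⟩, ⟨?_, ?_⟩, hgen⟩
  · rw [hN]
    exact ⟨m + 3, Nm_pow_n F (m + 3)⟩
  · rw [hN]
    exact Nm_pow_pred_ne F (m + 3) (by omega)
  · rw [hV]
    exact ⟨m + 3, by rw [conj_pow_aux hG'G, Nm_pow_n, mul_zero, zero_mul]⟩
  · rw [hV, conj_pow_aux hG'G]
    intro h0
    apply Nm_pow_pred_ne F (m + 3) (by omega)
    calc Nm F (m + 3) ^ (m + 3 - 1)
        = (G' * G) * Nm F (m + 3) ^ (m + 3 - 1) * (G' * G) := by rw [hG'G, one_mul, mul_one]
      _ = G' * (G * Nm F (m + 3) ^ (m + 3 - 1) * G') * G := by simp only [mul_assoc]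
      _ = 0 := by rw [h0, mul_zero, zero_mul]

end Cfsg.Agent.Lib.Helper13.RegUni
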