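import Mathlib
import Cfsg.Agent.S2117

set_option autoImplicit false

namespace Cfsg.Agent.Lib.Helper13.S2202R6

/-- A perfect finite central extension of `SL₂(F)` (`#F ∉ {4, 9}`) is trivial: the Schur multiplier
of `SL₂(F)` is trivial (landed statement S2117), after transport to universe `0`. -/
theorem central_ext_SL2_trivial {G : Type*} [Group G] [Finite G] (hperf : commutator G = ⊤)
    (N : Subgroup G) [N.Normal] (hN : N ≤ Subgroup.center G) {F : Type} [Field F] [Fintype F]
    (h4 : Fintype.card F ≠ 4) (h9 : Fintype.card F ≠ 9)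
    (e : G ⧸ N ≃* Matrix.SpecialLinearGroup (Fin 2) F) : N = ⊥ := by
  classical
  let Γ := Shrink.{0} G
  let φ : Γ ≃* G := Shrink.mulEquiv
  have : Finite Γ := Finite.of_equiv G (equivShrink.{0} G)
  let σ₀ : G →* Matrix.SpecialLinearGroup (Fin 2) F :=
    e.toMonoidHom.comp (QuotientGroup.mk' N)
  let σ : Γ →* Matrix.SpecialLinearGroup (Fin 2) F := σ₀.comp φ.toMonoidHom
  have hσ₀ : ∀ g : G, σ₀ g = e (QuotientGroup.mk' N g) := fun g => rfl
  have hσ : ∀ x : Γ, σ x = σ₀ (φ x) := fun x => rfl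
  have hker₀ : ∀ g : G, σ₀ g = 1 ↔ g ∈ N := by
    intro g
    rw [hσ₀, EmbeddingLike.map_eq_one_iff, QuotientGroup.mk'_apply, QuotientGroup.eq_one_iff]
  have hsurj : Function.Surjective σ := by
    intro y
    obtain ⟨q, hq⟩ := e.surjective y
    obtain ⟨g, hg⟩ := QuotientGroup.mk'_surjective N q
    refine ⟨φ.symm g, ?_⟩
    rw [hσ, MulEquiv.apply_symm_apply, hσ₀, hg, hq]
  have hkerσ : ∀ x : Γ, x ∈ σ.ker ↔ φ x ∈ N := by
    intro x
    rw [MonoidHom.mem_ker, hσ, hker₀]
  have hcentral : σ.ker ≤ Subgroup.center Γ := by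
    intro x hx
    rw [Subgroup.mem_center_iff]
    intro y
    have h1 : φ x ∈ Subgroup.center G := hN ((hkerσ x).mp hx)
    rw [Subgroup.mem_center_iff] at h1
    apply φ.injective
    rw [map_mul, map_mul]
    exact h1 (φ y)
  have hcomm : commutator Γ = ⊤ := by
    have h1 : (commutator Γ).map φ.toMonoidHom = ⊤ := by
      rw [commutator_def, Subgroup.map_commutator,
        Subgroup.map_top_of_surjective φ.toMonoidHom φ.surjective, ← commutator_def, hperf]
    rw [eq_top_iff]
    intro x _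
    have h2 : φ.toMonoidHom x ∈ (commutator Γ).map φ.toMonoidHom := by
      rw [h1]; exact Subgroup.mem_top _
    obtain ⟨y, hy, hyx⟩ := Subgroup.mem_map.mp h2
    have : y = x := φ.injective hyx
    rw [← this]; exact hy
  have hstem : Cfsg.IsStemExtension σ :=
    ⟨hsurj, hcentral, by rw [hcomm]; exact le_top⟩
  obtain ⟨π, hπ⟩ := (Cfsg.Agent.S2117.result (F := F) h4 h9).2 Γ σ hstem
  have hs1 : Subsingleton (ZMod 1) := (inferInstance : Subsingleton (Fin 1))
  have hs2 : ∀ a b : Multiplicative (ZMod 1), a = b := fun a b =>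
    Multiplicative.toAdd.injective (Subsingleton.elim _ _)
  have hkerbot : ∀ x : Γ, x ∈ σ.ker → x = 1 := by
    intro x hx
    obtain ⟨a, ha⟩ := hπ ⟨x, hx⟩
    have h1 : π a = 1 := by rw [hs2 a 1, map_one]
    rw [ha] at h1
    exact Subtype.ext_iff.mp h1
  rw [eq_bot_iff]
  intro n hn
  rw [Subgroup.mem_bot]
  have h1 : φ.symm n ∈ σ.ker := by
    rw [hkerσ, MulEquiv.apply_symm_apply]; exact hn
  have h2 := hkerbot _ h1
  have h3 : φ (φ.symm n) = φ 1 := by rw [h2]
  rwa [MulEquiv.apply_symm_apply, map_one] at h3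

end Cfsg.Agent.Lib.Helper13.S2202R6
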