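import Mathlib
import Cfsg.Agent.Lib.Helper21.SuzD
import Cfsg.Agent.Lib.Helper13.S2202R6
import Cfsg.Agent.Lib.Helper2.S2202R
import Cfsg.Agent.Lib.Helper3.CardSL
import Cfsg.Agent.S1230

/-!
# `case2` for S2202 (requested by helper21)

If `G` (involution centralizers commutative, Sylow 2-subgroup `P` noncyclic and non-normal) is
generated by its Sylow 2-subgroups, then the core of `N(P)` is trivial.
-/

set_option autoImplicit false
set_option linter.style.haveILetI false
set_option linter.unusedSectionVars false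
set_option linter.unusedVariables false
set_option linter.style.longLine false
set_option linter.unnecessarySimpa false

namespace Cfsg.Agent.Lib.Helper13.S2202Case2

open Subgroup Cfsg.Agent.Lib.Helper21.Suz
open scoped commutatorElement

universe u

section core

variable {G : Type u} [Group G] [Finite G]

/-- 2-elements of the core of `N(P)` are trivial when `P` is not normal. -/
theorem core_two_elt (h : ICA G) (P : Sylow 2 G) (hnn : ¬ (P : Subgroup G).Normal)
    {x : G} (hx : x ∈ (normalizer ((P : Subgroup G) : Set G)).normalCore) {k : ℕ}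
    (hxk : x ^ (2 ^ k) = 1) : x = 1 := by
  by_contra hx1
  apply hnn
  have hall : ∀ Q : Sylow 2 G, x ∈ Q := by
    intro Q
    have h1 := (mem_normalCore_normalizer_iff P x).mp hx Q
    exact mem_sylow_of_normalizer Q (mem_normalizer_sylow_iff.mpr h1) hxk
  apply Subgroup.normalizer_eq_top_iff.mp
  rw [eq_top_iff]
  intro g _
  rw [mem_normalizer_sylow_iff]
  exact (sylow_TI h P (g • P) hx1 (hall P) (hall (g • P))).symm

theorem core_comm (h : ICA G) (P : Sylow 2 G) (hnn : ¬ (P : Subgroup G).Normal)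
    {x : G} (hx : x ∈ (normalizer ((P : Subgroup G) : Set G)).normalCore) (Q : Sylow 2 G)
    {y : G} (hy : y ∈ Q) : x * y = y * x := by
  have hxQ : x • Q = Q := (mem_normalCore_normalizer_iff P x).mp hx Q
  have h1 : x * y * x⁻¹ ∈ Q := by
    have := smul_mem_smul_sylow (P := Q) (g := x) hy
    rwa [hxQ] at this
  have hc : x * y * x⁻¹ * y⁻¹ ∈ (Q : Subgroup G) :=
    (Q : Subgroup G).mul_mem h1 ((Q : Subgroup G).inv_mem hy)
  have hcN : x * y * x⁻¹ * y⁻¹ ∈ (normalizer ((P : Subgroup G) : Set G)).normalCore := by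
    have hn : ((normalizer ((P : Subgroup G) : Set G)).normalCore).Normal := inferInstance
    have h2 : y * x⁻¹ * y⁻¹ ∈ (normalizer ((P : Subgroup G) : Set G)).normalCore :=
      hn.conj_mem _ (Subgroup.inv_mem _ hx) y
    have h3 := Subgroup.mul_mem _ hx h2
    simpa [mul_assoc] using h3
  obtain ⟨k, hk⟩ := Q.isPGroup' ⟨_, hc⟩
  have hk' : (x * y * x⁻¹ * y⁻¹) ^ (2 ^ k) = 1 := by
    have := congrArg Subtype.val hk
    simpa using this
  have h4 := core_two_elt h P hnn hcN hk'
  calc x * y = (x * y * x⁻¹ * y⁻¹) * (y * x) := by group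
    _ = y * x := by rw [h4, one_mul]

theorem core_le_center (h : ICA G) (P : Sylow 2 G) (hnn : ¬ (P : Subgroup G).Normal)
    (hgen : (⨆ Q : Sylow 2 G, (Q : Subgroup G)) = ⊤) :
    (normalizer ((P : Subgroup G) : Set G)).normalCore ≤ Subgroup.center G := by
  intro x hx
  rw [Subgroup.mem_center_iff]
  intro g
  have hle : (⨆ Q : Sylow 2 G, (Q : Subgroup G)) ≤ Subgroup.centralizer ({x} : Set G) := by
    apply iSup_le
    intro Q y hy
    rw [Subgroup.mem_centralizer_singleton_iff]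
    exact (core_comm h P hnn hx Q hy).symm
  have hg : g ∈ Subgroup.centralizer ({x} : Set G) := hle (by rw [hgen]; exact Subgroup.mem_top g)
  exact Subgroup.mem_centralizer_singleton_iff.mp hg

theorem core_odd (h : ICA G) (P : Sylow 2 G) (hnn : ¬ (P : Subgroup G).Normal) :
    Odd (Nat.card (normalizer ((P : Subgroup G) : Set G)).normalCore) := by
  by_contra hodd
  rw [Nat.not_odd_iff_even] at hodd
  haveI : Fact (Nat.Prime 2) := ⟨Nat.prime_two⟩
  obtain ⟨x, hx⟩ := exists_prime_orderOf_dvd_card' 2 (even_iff_two_dvd.mp hodd)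
  have hxt : orderOf (x : G) = 2 := by rw [Subgroup.orderOf_coe]; exact hx
  have := core_two_elt h P hnn x.2 (k := 1) (by rw [pow_one, pow_two]; exact sq_of_two hxt)
  exact ne_one_of_two hxt this

end core

section quot

variable {G : Type u} [Group G] [Finite G] (N : Subgroup G) [N.Normal]

theorem lift_invol (hodd : Odd (Nat.card N)) (t' : G ⧸ N) (ht' : orderOf t' = 2) :
    ∃ t : G, orderOf t = 2 ∧ (QuotientGroup.mk t : G ⧸ N) = t' := by
  obtain ⟨t₀, rfl⟩ := QuotientGroup.mk_surjective t'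
  obtain ⟨j, hj⟩ := hodd
  have hsq : t₀ * t₀ ∈ N := by
    rw [← QuotientGroup.eq_one_iff, QuotientGroup.mk_mul]
    exact sq_of_two ht'
  have hpow : (t₀ * t₀) ^ Nat.card N = 1 := by
    have h1 : (⟨t₀ * t₀, hsq⟩ : N) ^ Nat.card N = 1 := pow_card_eq_one'
    have := congrArg Subtype.val h1
    simp only [SubmonoidClass.coe_pow, OneMemClass.coe_one] at this
    exact this
  have hmk : (QuotientGroup.mk (t₀ ^ Nat.card N) : G ⧸ N) = QuotientGroup.mk t₀ := by
    rw [QuotientGroup.mk_pow, hj, pow_succ, pow_mul, pow_two, sq_of_two ht', one_pow, one_mul]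
  refine ⟨t₀ ^ Nat.card N, ?_, hmk⟩
  apply two_of_sq
  · rw [← pow_two, ← pow_mul, mul_comm, pow_mul, pow_two]; exact hpow
  · intro h1
    rw [h1] at hmk
    exact ne_one_of_two ht' hmk.symm

theorem comm_lift (hZ : N ≤ Subgroup.center G) (hN2 : ∀ z ∈ N, z * z = 1 → z = 1)
    {t a : G} (ht : t * t = 1)
    (hc : (QuotientGroup.mk t : G ⧸ N) * QuotientGroup.mk a =
      QuotientGroup.mk a * QuotientGroup.mk t) :
    t * a = a * t := by
  have hz : t * a * t⁻¹ * a⁻¹ ∈ N := by
    rw [← QuotientGroup.eq_one_iff]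
    simp only [QuotientGroup.mk_mul, QuotientGroup.mk_inv]
    rw [hc]; group
  obtain ⟨z, hzdef⟩ : ∃ z, z = t * a * t⁻¹ * a⁻¹ := ⟨_, rfl⟩
  rw [← hzdef] at hz
  have hzc : ∀ g : G, g * z = z * g := fun g => Subgroup.mem_center_iff.mp (hZ hz) g
  have htinv : t⁻¹ = t := inv_eq_of_mul_eq_one_left ht
  have h1 : t * a * t = z * a := by
    rw [hzdef, inv_mul_cancel_right, htinv]
  have h2 : a = z * (z * a) := by
    calc a = (t * t) * a * (t * t) := by rw [ht, one_mul, mul_one]
      _ = t * (t * a * t) * t := by simp only [mul_assoc]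
      _ = t * (z * a) * t := by rw [h1]
      _ = z * (t * a * t) := by rw [← mul_assoc t z a, hzc t]; simp only [mul_assoc]
      _ = z * (z * a) := by rw [h1]
  have h3 : z * z = 1 := by
    have : 1 * a = (z * z) * a := by rw [one_mul, mul_assoc]; exact h2
    exact (mul_right_cancel this).symm
  have h4 := hN2 z hz h3
  rw [hzdef] at h4
  have h5 := mul_inv_eq_one.mp h4
  exact mul_inv_eq_iff_eq_mul.mp h5

theorem ica_quot (h : ICA G) (hZ : N ≤ Subgroup.center G)
    (hN2 : ∀ z ∈ N, z * z = 1 → z = 1) (hodd : Odd (Nat.card N)) : ICA (G ⧸ N) := by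
  intro t' ht' a' b' ha' hb'
  obtain ⟨t, ht, rfl⟩ := lift_invol N hodd t' ht'
  obtain ⟨a, rfl⟩ := QuotientGroup.mk_surjective a'
  obtain ⟨b, rfl⟩ := QuotientGroup.mk_surjective b'
  have hta := comm_lift N hZ hN2 (sq_of_two ht) ha'
  have htb := comm_lift N hZ hN2 (sq_of_two ht) hb'
  have := h t ht a b hta htb
  rw [← QuotientGroup.mk_mul, ← QuotientGroup.mk_mul, this]

theorem not_cyclic_image (hN2 : ∀ z ∈ N, ∀ k : ℕ, z ^ (2 ^ k) = 1 → z = 1) (P : Sylow 2 G)
    (P' : Subgroup (G ⧸ N)) (hP' : P' = (P : Subgroup G).map (QuotientGroup.mk' N))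
    (hnc : ¬ IsCyclic (P : Subgroup G)) : ¬ IsCyclic P' := by
  intro hcyc
  apply hnc
  let f : (P : Subgroup G) →* P' :=
    ((QuotientGroup.mk' N).comp (P : Subgroup G).subtype).codRestrict P'
      (fun x => by rw [hP']; exact Subgroup.mem_map_of_mem _ x.2)
  apply isCyclic_of_injective f
  rw [injective_iff_map_eq_one]
  intro x hx
  have h1 : (QuotientGroup.mk (x : G) : G ⧸ N) = 1 := by
    have := congrArg Subtype.val hx
    simpa [f] using this
  have h2 : (x : G) ∈ N := (QuotientGroup.eq_one_iff _).mp h1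
  obtain ⟨k, hk⟩ := P.isPGroup' x
  have hk' : (x : G) ^ (2 ^ k) = 1 := by
    have := congrArg Subtype.val hk
    simpa using this
  exact Subtype.ext (hN2 _ h2 k hk')

theorem not_normal_image (hZ : N ≤ Subgroup.center G)
    (hN2 : ∀ z ∈ N, ∀ k : ℕ, z ^ (2 ^ k) = 1 → z = 1) (P : Sylow 2 G)
    (P' : Subgroup (G ⧸ N)) (hP' : P' = (P : Subgroup G).map (QuotientGroup.mk' N))
    (hnn : ¬ (P : Subgroup G).Normal) : ¬ P'.Normal := by
  intro hn
  apply hnn
  refine ⟨fun x hx g => ?_⟩
  have h1 : (QuotientGroup.mk' N) (g * x * g⁻¹) ∈ P' := by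
    rw [map_mul, map_mul, map_inv]
    apply hn.conj_mem
    rw [hP']; exact Subgroup.mem_map_of_mem _ hx
  rw [hP'] at h1
  obtain ⟨y, hy, hyx⟩ := Subgroup.mem_map.mp h1
  have hyx' : (QuotientGroup.mk y : G ⧸ N) = QuotientGroup.mk (g * x * g⁻¹) := hyx
  have hz : y⁻¹ * (g * x * g⁻¹) ∈ N := QuotientGroup.eq.mp hyx'
  obtain ⟨z, hzdef⟩ : ∃ z, z = y⁻¹ * (g * x * g⁻¹) := ⟨_, rfl⟩
  rw [← hzdef] at hz
  have hw : g * x * g⁻¹ = y * z := by rw [hzdef, mul_inv_cancel_left]
  have hyz : Commute y z := (Subgroup.mem_center_iff.mp (hZ hz) y)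
  obtain ⟨k1, hk1⟩ := P.isPGroup' ⟨y, hy⟩
  have hk1' : y ^ (2 ^ k1) = 1 := by
    have := congrArg Subtype.val hk1
    simpa using this
  obtain ⟨k2, hk2⟩ := P.isPGroup' ⟨x, hx⟩
  have hk2' : x ^ (2 ^ k2) = 1 := by
    have := congrArg Subtype.val hk2
    simpa using this
  have hy' : y ^ (2 ^ (k1 + k2)) = 1 := by rw [pow_add, pow_mul, hk1', one_pow]
  have hw' : (g * x * g⁻¹) ^ (2 ^ (k1 + k2)) = 1 := by
    rw [conj_pow, add_comm, pow_add, pow_mul, hk2', one_pow, mul_one, mul_inv_cancel]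
  rw [hw, hyz.mul_pow, hy', one_mul] at hw'
  have hz1 := hN2 z hz _ hw'
  rw [hw, hz1, mul_one]
  exact hy

end quot

section good

variable {H : Type u} [Group H] [Finite H]

theorem bsw_of_good_of_gen (hG : Good H)
    (hgen : ∀ K : Subgroup H, (∀ y : H, ∀ k : ℕ, y ^ (2 ^ k) = 1 → y ∈ K) → K = ⊤) : BSW H := by
  obtain ⟨L, B, hLn, hBn, hLB, hsup, hBc, hBo, hL⟩ := hG
  have hLtop : L = ⊤ := by
    apply hgen
    intro y k hyk
    have hy : y ∈ ((L ⊔ B : Subgroup H) : Set H) := by rw [hsup]; exact Set.mem_univ _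
    rw [Subgroup.mul_normal] at hy
    obtain ⟨l, hl, b, hb, rfl⟩ := Set.mem_mul.mp hy
    have hl' : l ∈ L := hl
    have hb' : b ∈ B := hb
    have hcomm := Subgroup.commute_of_normal_of_disjoint L B hLn hBn (disjoint_iff.mpr hLB) l b hl' hb'
    rw [hcomm.mul_pow] at hyk
    have hbL : b ^ (2 ^ k) ∈ L := by
      have : b ^ (2 ^ k) = (l ^ (2 ^ k))⁻¹ := eq_inv_of_mul_eq_one_right hyk
      rw [this]; exact L.inv_mem (L.pow_mem hl' _)
    have hb1 : b ^ (2 ^ k) = 1 := by
      have : b ^ (2 ^ k) ∈ L ⊓ B := ⟨hbL, B.pow_mem hb' _⟩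
      rw [hLB] at this; exact Subgroup.mem_bot.mp this
    have hdvd : orderOf b ∣ 2 ^ k := orderOf_dvd_of_pow_eq_one hb1
    have hob : orderOf b = 1 :=
      Nat.Coprime.eq_one_of_dvd (Nat.Coprime.pow_right k ((hBo b hb').coprime_two_right)) hdvd
    rw [orderOf_eq_one_iff.mp hob, mul_one]
    exact hl'
  intro t ht c hc
  exact hL t (by rw [hLtop]; exact Subgroup.mem_top t) ht c (by rw [hLtop]; exact Subgroup.mem_top c) hc

end good

section perfect

variable {G : Type u} [Group G] [Finite G]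

theorem perfect_of (h : ICA G) (P : Sylow 2 G) (hnc : ¬ IsCyclic (P : Subgroup G))
    (hnn : ¬ (P : Subgroup G).Normal) (hgen : (⨆ Q : Sylow 2 G, (Q : Subgroup G)) = ⊤)
    (hexp : ∀ Q : Sylow 2 G, ∀ x ∈ Q, x * x = 1) : commutator G = ⊤ := by
  have hne := sylow_ne_bot_of_not_normal P hnn
  obtain ⟨s, hsP, hs⟩ := exists_invol_of_pgroup (P : Subgroup G) P.isPGroup' hne
  obtain ⟨s', hs'P, hs', hne'⟩ : ∃ s' ∈ P, orderOf s' = 2 ∧ s' ≠ s := by
    by_contra hcon
    push Not at hcon
    apply hnc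
    refine ⟨⟨⟨s, hsP⟩, fun x => ?_⟩⟩
    by_cases hx1 : (x : G) = 1
    · have : x = 1 := Subtype.ext hx1
      rw [this]
      exact one_mem (Subgroup.zpowers (⟨s, hsP⟩ : (P : Subgroup G)))
    · have hx2 : orderOf (x : G) = 2 := two_of_sq (hexp P x x.2) hx1
      have : x = ⟨s, hsP⟩ := Subtype.ext (hcon x x.2 hx2)
      rw [this]; exact Subgroup.mem_zpowers _
  obtain ⟨g, hg⟩ := isConj_iff.mp (all_invol_conj h P hnn hs hs')
  have hu : s' * s ∈ commutator G := by
    have h1 : ⁅g, s⁆ ∈ ⁅(⊤ : Subgroup G), ⊤⁆ :=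
      Subgroup.commutator_mem_commutator (Subgroup.mem_top g) (Subgroup.mem_top s)
    rw [commutatorElement_def, hg, inv_of_two hs] at h1
    exact h1
  have hcomm := sylow_comm h P s' hs'P s hsP
  have hu2 : orderOf (s' * s) = 2 := by
    apply two_of_sq
    · calc s' * s * (s' * s) = s' * s * (s * s') := by rw [hcomm]
        _ = s' * (s * s) * s' := by group
        _ = 1 := by rw [sq_of_two hs, mul_one, sq_of_two hs']
    · intro h1
      apply hne'
      have := eq_inv_of_mul_eq_one_left h1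
      rw [this, inv_of_two hs]
  have hinv : ∀ t : G, orderOf t = 2 → t ∈ commutator G := by
    intro t ht
    obtain ⟨c, hc⟩ := isConj_iff.mp (all_invol_conj h P hnn hu2 ht)
    rw [← hc]
    exact (inferInstance : (commutator G).Normal).conj_mem _ hu c
  rw [eq_top_iff, ← hgen]
  apply iSup_le
  intro Q x hx
  by_cases hx1 : x = 1
  · rw [hx1]; exact Subgroup.one_mem _
  · exact hinv x (two_of_sq (hexp Q x hx) hx1)

end perfect

section card4

variable {G : Type u} [Group G] [Finite G]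

theorem card4_case (N : Subgroup G) [N.Normal] (hZ : N ≤ Subgroup.center G)
    (hperf : commutator G = ⊤) (hodd : Odd (Nat.card N)) (hNbot : N ≠ ⊥)
    (hc60 : Nat.card (G ⧸ N) = 60) : False := by
  have h1 : Nat.card N ≠ 1 := fun h1 => hNbot (Subgroup.card_eq_one.mp h1)
  obtain ⟨p, hp, hpN⟩ := Nat.exists_prime_and_dvd h1
  haveI : Fact p.Prime := ⟨hp⟩
  have hp2 : p ≠ 2 := by
    rintro rfl
    exact (Nat.not_even_iff_odd.mpr hodd) (even_iff_two_dvd.mpr hpN)
  obtain ⟨z, hz⟩ := exists_prime_orderOf_dvd_card' p hpN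
  have hzo : orderOf (z : G) = p := by rw [Subgroup.orderOf_coe]; exact hz
  have hzp : IsPGroup p (Subgroup.zpowers (z : G)) := by
    apply IsPGroup.of_card (n := 1)
    rw [Nat.card_zpowers, hzo, pow_one]
  obtain ⟨Pp, hPp⟩ := hzp.exists_le_sylow
  have hzPp : (z : G) ∈ Pp := hPp (Subgroup.mem_zpowers _)
  have hRp : IsPGroup p ((Pp : Subgroup G).map (QuotientGroup.mk' N)) :=
    Pp.isPGroup'.map (QuotientGroup.mk' N)
  have hRc : IsCyclic ((Pp : Subgroup G).map (QuotientGroup.mk' N)) := by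
    obtain ⟨k, hk⟩ := IsPGroup.iff_card.mp hRp
    have hdvd : Nat.card ((Pp : Subgroup G).map (QuotientGroup.mk' N)) ∣ 60 := by
      rw [← hc60]; exact Subgroup.card_subgroup_dvd_card _
    have hpodd : Odd p := hp.odd_of_ne_two hp2
    have hcop : Nat.Coprime (Nat.card ((Pp : Subgroup G).map (QuotientGroup.mk' N))) 4 := by
      rw [hk]
      apply Nat.Coprime.pow_left
      exact Nat.Coprime.pow_right 2 hpodd.coprime_two_right
    have hdvd15 : Nat.card ((Pp : Subgroup G).map (QuotientGroup.mk' N)) ∣ 15 :=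
      Nat.Coprime.dvd_of_dvd_mul_left hcop (by norm_num; exact hdvd)
    have hmem : Nat.card ((Pp : Subgroup G).map (QuotientGroup.mk' N)) ∈ Nat.divisors 15 :=
      Nat.mem_divisors.mpr ⟨hdvd15, by norm_num⟩
    have hdiv : Nat.divisors 15 = {1, 3, 5, 15} := by decide
    rw [hdiv] at hmem
    simp only [Finset.mem_insert, Finset.mem_singleton] at hmem
    rcases hmem with h | h | h | h
    · haveI : Subsingleton ((Pp : Subgroup G).map (QuotientGroup.mk' N)) :=
        (Nat.card_eq_one_iff_unique.mp h).1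
      exact isCyclic_of_subsingleton
    · haveI : Fact (Nat.Prime 3) := ⟨Nat.prime_three⟩
      exact isCyclic_of_prime_card h
    · haveI : Fact (Nat.Prime 5) := ⟨Nat.prime_five⟩
      exact isCyclic_of_prime_card h
    · exfalso
      rw [h] at hk
      have h3 : 3 ∣ p ^ k := by rw [← hk]; norm_num
      have h5 : 5 ∣ p ^ k := by rw [← hk]; norm_num
      have e3 := (Nat.prime_dvd_prime_iff_eq Nat.prime_three hp).mp
        (Nat.Prime.dvd_of_dvd_pow Nat.prime_three h3)
      have e5 := (Nat.prime_dvd_prime_iff_eq Nat.prime_five hp).mp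
        (Nat.Prime.dvd_of_dvd_pow Nat.prime_five h5)
      omega
  let f : (Pp : Subgroup G) →* ((Pp : Subgroup G).map (QuotientGroup.mk' N)) :=
    (QuotientGroup.mk' N).subgroupMap (Pp : Subgroup G)
  have hker : f.ker ≤ Subgroup.center (Pp : Subgroup G) := by
    intro x hx
    rw [MonoidHom.mem_ker] at hx
    have h1 : (QuotientGroup.mk (x : G) : G ⧸ N) = 1 := by
      have := congrArg Subtype.val hx
      simpa [f] using this
    have h2 : (x : G) ∈ N := (QuotientGroup.eq_one_iff _).mp h1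
    rw [Subgroup.mem_center_iff]
    intro y
    apply Subtype.ext
    exact Subgroup.mem_center_iff.mp (hZ h2) (y : G)
  have hcomm : ∀ a ∈ Pp, ∀ b ∈ Pp, a * b = b * a := by
    intro a ha b hb
    haveI := hRc
    have hmc := MonoidHom.isMulCommutative_of_isCyclic_of_ker_le_center f hker
    have := hmc.is_comm.comm ⟨a, ha⟩ ⟨b, hb⟩
    exact congrArg Subtype.val this
  have hbot := Cfsg.Agent.Lib.Helper2.S2202R.sylow_inf_center_eq_bot_of_perfect hperf p Pp hcomm
  have hz1 : (z : G) ∈ (Pp : Subgroup G) ⊓ Subgroup.center G := ⟨hzPp, hZ z.2⟩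
  rw [hbot, Subgroup.mem_bot] at hz1
  rw [hz1, orderOf_one] at hzo
  exact hp.one_lt.ne hzo

end card4

theorem case2 {G : Type u} [Group G] [Finite G] (IH : IHyp G) (h : ICA G) (P : Sylow 2 G)
    (hnc : ¬ IsCyclic (P : Subgroup G)) (hnn : ¬ (P : Subgroup G).Normal)
    (hgen : (⨆ Q : Sylow 2 G, (Q : Subgroup G)) = ⊤) :
    (normalizer ((P : Subgroup G) : Set G)).normalCore = ⊥ := by
  by_contra hNbot
  haveI : Fact (Nat.Prime 2) := ⟨Nat.prime_two⟩
  obtain ⟨N, hNdef⟩ : ∃ N : Subgroup G,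
      N = (normalizer ((P : Subgroup G) : Set G)).normalCore := ⟨_, rfl⟩
  rw [← hNdef] at hNbot
  haveI hNn : N.Normal := by rw [hNdef]; infer_instance
  have hN2 : ∀ z ∈ N, ∀ k : ℕ, z ^ (2 ^ k) = 1 → z = 1 := fun z hz k hk =>
    core_two_elt h P hnn (hNdef ▸ hz) hk
  have hZ : N ≤ Subgroup.center G := by rw [hNdef]; exact core_le_center h P hnn hgen
  have hodd : Odd (Nat.card N) := by rw [hNdef]; exact core_odd h P hnn
  have hN2' : ∀ z ∈ N, z * z = 1 → z = 1 := fun z hz hzz =>
    hN2 z hz 1 (by rw [pow_one, pow_two]; exact hzz)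
  have hica' : ICA (G ⧸ N) := ica_quot N h hZ hN2' hodd
  have hπ : Function.Surjective (QuotientGroup.mk' N) := QuotientGroup.mk'_surjective N
  obtain ⟨P', hP'def⟩ : ∃ P' : Sylow 2 (G ⧸ N), P' = P.mapSurjective hπ := ⟨_, rfl⟩
  have hP' : (P' : Subgroup (G ⧸ N)) = (P : Subgroup G).map (QuotientGroup.mk' N) := by
    rw [hP'def]; rfl
  have hnc' : ¬ IsCyclic (P' : Subgroup (G ⧸ N)) := not_cyclic_image N hN2 P _ hP' hnc
  have hnn' : ¬ (P' : Subgroup (G ⧸ N)).Normal := not_normal_image N hZ hN2 P _ hP' hnn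
  have hcard : Nat.card (G ⧸ N) < Nat.card G := by
    rw [Subgroup.card_eq_card_quotient_mul_card_subgroup N]
    have h1 : 1 < Nat.card N := (Subgroup.one_lt_card_iff_ne_bot N).mpr hNbot
    have h2 : 0 < Nat.card (G ⧸ N) := Nat.card_pos
    nlinarith
  have hgood : Good (G ⧸ N) := IH (G ⧸ N) hcard hica' P' hnc' hnn'
  have hB : BSW (G ⧸ N) := by
    apply bsw_of_good_of_gen hgood
    intro K hK
    have hcomap : K.comap (QuotientGroup.mk' N) = ⊤ := by
      rw [eq_top_iff, ← hgen]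
      apply iSup_le
      intro Q x hx
      obtain ⟨k, hk⟩ := Q.isPGroup' ⟨x, hx⟩
      have hk' : x ^ (2 ^ k) = 1 := by
        have := congrArg Subtype.val hk
        simpa using this
      rw [Subgroup.mem_comap]
      apply hK _ k
      rw [← map_pow, hk', map_one]
    rw [eq_top_iff]
    intro y _
    obtain ⟨x, rfl⟩ := hπ y
    have : x ∈ K.comap (QuotientGroup.mk' N) := by rw [hcomap]; exact Subgroup.mem_top x
    exact this
  have hexp : ∀ Q : Sylow 2 G, ∀ x ∈ Q, x * x = 1 := by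
    intro Q x hx
    by_cases hQ : (Q : Subgroup G) = ⊥
    · have hx' : x ∈ (Q : Subgroup G) := hx
      rw [hQ, Subgroup.mem_bot] at hx'
      rw [hx', one_mul]
    · obtain ⟨s, hsQ, hs⟩ := exists_invol_of_pgroup (Q : Subgroup G) Q.isPGroup' hQ
      have hsx : s * x = x * s := sylow_comm h Q s hsQ x hx
      have hs' : orderOf (QuotientGroup.mk' N s) = 2 := by
        apply two_of_sq
        · rw [← map_mul, sq_of_two hs, map_one]
        · intro h1
          have : s ∈ N := (QuotientGroup.eq_one_iff s).mp h1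
          exact ne_one_of_two hs (hN2' s this (sq_of_two hs))
      have h1 : QuotientGroup.mk' N x * QuotientGroup.mk' N x = 1 :=
        hB (QuotientGroup.mk' N s) hs' (QuotientGroup.mk' N x)
          (by rw [← map_mul, ← map_mul, hsx])
      have h2 : x * x ∈ N := by
        apply (QuotientGroup.eq_one_iff _).mp
        rw [← h1]; rfl
      obtain ⟨k, hk⟩ := Q.isPGroup' ⟨x * x, (Q : Subgroup G).mul_mem hx hx⟩
      have hk' : (x * x) ^ (2 ^ k) = 1 := by
        have := congrArg Subtype.val hk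
        simpa using this
      exact hN2 _ h2 k hk'
  have hperf : commutator G = ⊤ := perfect_of h P hnc hnn hgen hexp
  obtain ⟨F, _, _, hFcard, ⟨e⟩⟩ := Cfsg.Agent.S1230.result P' hnc' hnn' hB.hC
  have heven : 2 ∣ Fintype.card F := by
    rw [hFcard]
    rcases P'.isPGroup'.card_eq_or_dvd with h1 | h1
    · exact absurd (Subgroup.card_eq_one.mp h1) (sylow_ne_bot_of_not_normal P' hnn')
    · exact h1
  haveI hchar : CharP F 2 := by
    obtain ⟨n, hp, hn⟩ := FiniteField.card F (ringChar F)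
    have h2 : 2 ∣ ringChar F := Nat.Prime.dvd_of_dvd_pow Nat.prime_two (hn ▸ heven)
    have := (Nat.prime_dvd_prime_iff_eq Nat.prime_two hp).mp h2
    exact ringChar.of_eq this.symm
  have hcen := Cfsg.Agent.Lib.Helper3.CardSL.center_SL2_eq_bot (F := F)
  let e2 : Matrix.ProjectiveSpecialLinearGroup (Fin 2) F ≃* Matrix.SpecialLinearGroup (Fin 2) F :=
    (QuotientGroup.quotientMulEquivOfEq hcen).trans QuotientGroup.quotientBot
  let e3 : G ⧸ N ≃* Matrix.SpecialLinearGroup (Fin 2) F := e.trans e2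
  by_cases h4 : Fintype.card F = 4
  · have hc60 : Nat.card (G ⧸ N) = 60 := by
      have := (bsw_facts hB P' hnc' hnn').2
      rw [← hFcard, h4] at this
      exact this
    exact card4_case N hZ hperf hodd hNbot hc60
  · have h9 : Fintype.card F ≠ 9 := by
      intro h9
      rw [h9] at heven
      omega
    exact hNbot (Cfsg.Agent.Lib.Helper13.S2202R6.central_ext_SL2_trivial hperf N hZ h4 h9 e3)

end Cfsg.Agent.Lib.Helper13.S2202Case2
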