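import Mathlib

/-!
# S3805, piece FO-D of helper19's skeleton: the pure arithmetic lemma
-/

set_option autoImplicit false

namespace Cfsg.Agent.Lib.Helper13.S3805Arith

variable {ι : Type*} [Fintype ι] [DecidableEq ι]

omit [DecidableEq ι] in
/-- Integer sums after the substitution `x = z + 3 e`, `y = z + 3 e'`. -/
theorem int_sums (x y z e e' : ι → ℤ)
    (hx : ∀ i, x i = z i + 3 * e i) (hy : ∀ i, y i = z i + 3 * e' i)
    (hxx : ∑ i, x i ^ 2 = 18) (hyy : ∑ i, y i ^ 2 = 18) (hzz : ∑ i, z i ^ 2 = 9)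
    (hxy : ∑ i, x i * y i = 0) (hxz : ∑ i, x i * z i = 0) (hyz : ∑ i, y i * z i = 0) :
    ∑ i, e i * z i = -3 ∧ ∑ i, e' i * z i = -3 ∧ ∑ i, e i ^ 2 = 3 ∧ ∑ i, e' i ^ 2 = 3 ∧
      ∑ i, e i * e' i = 1 := by
  have k1 : ∀ i, x i * z i = z i ^ 2 + 3 * (e i * z i) := by intro i; rw [hx i]; ring
  have k2 : ∀ i, y i * z i = z i ^ 2 + 3 * (e' i * z i) := by intro i; rw [hy i]; ring
  have k3 : ∀ i, x i ^ 2 = z i ^ 2 + 6 * (e i * z i) + 9 * e i ^ 2 := by
    intro i; rw [hx i]; ring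
  have k4 : ∀ i, y i ^ 2 = z i ^ 2 + 6 * (e' i * z i) + 9 * e' i ^ 2 := by
    intro i; rw [hy i]; ring
  have k5 : ∀ i, x i * y i = z i ^ 2 + 3 * (e i * z i) + 3 * (e' i * z i) + 9 * (e i * e' i) := by
    intro i; rw [hx i, hy i]; ring
  rw [Finset.sum_congr rfl (fun i _ => k1 i), Finset.sum_add_distrib, ← Finset.mul_sum] at hxz
  rw [Finset.sum_congr rfl (fun i _ => k2 i), Finset.sum_add_distrib, ← Finset.mul_sum] at hyz
  rw [Finset.sum_congr rfl (fun i _ => k3 i), Finset.sum_add_distrib, Finset.sum_add_distrib,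
    ← Finset.mul_sum, ← Finset.mul_sum] at hxx
  rw [Finset.sum_congr rfl (fun i _ => k4 i), Finset.sum_add_distrib, Finset.sum_add_distrib,
    ← Finset.mul_sum, ← Finset.mul_sum] at hyy
  rw [Finset.sum_congr rfl (fun i _ => k5 i), Finset.sum_add_distrib, Finset.sum_add_distrib,
    Finset.sum_add_distrib, ← Finset.mul_sum, ← Finset.mul_sum, ← Finset.mul_sum] at hxy
  refine ⟨by linarith, by linarith, by linarith, by linarith, by linarith⟩

omit [DecidableEq ι] in
/-- The rational relations R1-R4 and `D = D'`. -/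
theorem rat_relations (x y z e e' : ι → ℤ) (d : ι → ℕ) (g : ℚ) (hg : g ≠ 0)
    (hx : ∀ i, x i = z i + 3 * e i) (hy : ∀ i, y i = z i + 3 * e' i)
    (E1 : g * ∑ i, ((x i : ℚ) * y i * z i) / d i = 324)
    (E2 : g * ∑ i, ((x i : ℚ) * y i * x i) / d i = 0)
    (E3 : g * ∑ i, ((y i : ℚ) * x i * y i) / d i = 0)
    (E4 : g * ∑ i, ((x i : ℚ) * z i * x i) / d i = 0)
    (E5 : g * ∑ i, ((y i : ℚ) * z i * y i) / d i = 0)
    (E6 : g * ∑ i, ((x i : ℚ) * z i * z i) / d i = 162)
    (E7 : g * ∑ i, ((y i : ℚ) * z i * z i) / d i = 162) :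
    g * (∑ i, ((e i : ℚ) * e' i * z i) / d i + 3 * ∑ i, ((e i : ℚ) * e i * e' i) / d i) = -18 ∧
    ∑ i, ((e i : ℚ) * e i * e' i) / d i = ∑ i, ((e i : ℚ) * e' i * e' i) / d i ∧
    g * (∑ i, ((e i : ℚ) * e i * z i) / d i - ∑ i, ((e i : ℚ) * e' i * z i) / d i) = -36 ∧
    g * (∑ i, ((e i : ℚ) * z i * z i) / d i + 3 * ∑ i, ((e i : ℚ) * e' i * z i) / d i) = 54 := by
  set Z := ∑ i, ((z i : ℚ) * z i * z i) / d i with hZ
  set P := ∑ i, ((e i : ℚ) * z i * z i) / d i with hP
  set P' := ∑ i, ((e' i : ℚ) * z i * z i) / d i with hP'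
  set B := ∑ i, ((e i : ℚ) * e' i * z i) / d i with hB
  set Q := ∑ i, ((e i : ℚ) * e i * z i) / d i with hQ
  set Q' := ∑ i, ((e' i : ℚ) * e' i * z i) / d i with hQ'
  set D := ∑ i, ((e i : ℚ) * e i * e' i) / d i with hD
  set D' := ∑ i, ((e i : ℚ) * e' i * e' i) / d i with hD'
  have c1 : ∑ i, ((x i : ℚ) * y i * z i) / d i = Z + 3 * P + 3 * P' + 9 * B := by
    rw [hZ, hP, hP', hB, Finset.mul_sum, Finset.mul_sum, Finset.mul_sum, ← Finset.sum_add_distrib,
      ← Finset.sum_add_distrib, ← Finset.sum_add_distrib]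
    apply Finset.sum_congr rfl
    intro i _
    rw [hx i, hy i]
    push_cast
    ring
  have c6 : ∑ i, ((x i : ℚ) * z i * z i) / d i = Z + 3 * P := by
    rw [hZ, hP, Finset.mul_sum, ← Finset.sum_add_distrib]
    apply Finset.sum_congr rfl
    intro i _
    rw [hx i]
    push_cast
    ring
  have c7 : ∑ i, ((y i : ℚ) * z i * z i) / d i = Z + 3 * P' := by
    rw [hZ, hP', Finset.mul_sum, ← Finset.sum_add_distrib]
    apply Finset.sum_congr rfl
    intro i _
    rw [hy i]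
    push_cast
    ring
  have c4 : ∑ i, ((x i : ℚ) * z i * x i) / d i = Z + 6 * P + 9 * Q := by
    rw [hZ, hP, hQ, Finset.mul_sum, Finset.mul_sum, ← Finset.sum_add_distrib,
      ← Finset.sum_add_distrib]
    apply Finset.sum_congr rfl
    intro i _
    rw [hx i]
    push_cast
    ring
  have c5 : ∑ i, ((y i : ℚ) * z i * y i) / d i = Z + 6 * P' + 9 * Q' := by
    rw [hZ, hP', hQ', Finset.mul_sum, Finset.mul_sum, ← Finset.sum_add_distrib,
      ← Finset.sum_add_distrib]
    apply Finset.sum_congr rfl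
    intro i _
    rw [hy i]
    push_cast
    ring
  have c2 : ∑ i, ((x i : ℚ) * y i * x i) / d i
      = Z + 3 * P' + 6 * P + 18 * B + 9 * Q + 27 * D := by
    rw [hZ, hP', hP, hB, hQ, hD, Finset.mul_sum, Finset.mul_sum, Finset.mul_sum, Finset.mul_sum,
      Finset.mul_sum, ← Finset.sum_add_distrib, ← Finset.sum_add_distrib,
      ← Finset.sum_add_distrib, ← Finset.sum_add_distrib, ← Finset.sum_add_distrib]
    apply Finset.sum_congr rfl
    intro i _
    rw [hx i, hy i]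
    push_cast
    ring
  have c3 : ∑ i, ((y i : ℚ) * x i * y i) / d i
      = Z + 3 * P + 6 * P' + 18 * B + 9 * Q' + 27 * D' := by
    rw [hZ, hP', hP, hB, hQ', hD', Finset.mul_sum, Finset.mul_sum, Finset.mul_sum,
      Finset.mul_sum, Finset.mul_sum, ← Finset.sum_add_distrib, ← Finset.sum_add_distrib,
      ← Finset.sum_add_distrib, ← Finset.sum_add_distrib, ← Finset.sum_add_distrib]
    apply Finset.sum_congr rfl
    intro i _
    rw [hx i, hy i]
    push_cast
    ring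
  rw [c1] at E1
  rw [c2] at E2
  rw [c3] at E3
  rw [c4] at E4
  rw [c5] at E5
  rw [c6] at E6
  rw [c7] at E7
  have r1 : g * (B + 3 * D) = -18 := by linear_combination (E2 - E4 - E1 + E6) / 9
  have r2 : g * (B + 3 * D') = -18 := by linear_combination (E3 - E5 - E1 + E7) / 9
  refine ⟨r1, ?_, ?_, ?_⟩
  · have : g * (D - D') = 0 := by linear_combination (r1 - r2) / 3
    rcases mul_eq_zero.1 this with h | h
    · exact absurd h hg
    · linarith
  · linear_combination ((E4 - 2 * E6) - (E1 - E6 - E7)) / 9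
  · linear_combination (E6 + (E1 - E6 - E7)) / 3

omit [DecidableEq ι] in
/-- Entries of a norm-3 integer vector are in `{-1,0,1}`. -/
theorem entry_bound (e : ι → ℤ) (he : ∑ i, e i ^ 2 = 3) (i : ι) : -1 ≤ e i ∧ e i ≤ 1 := by
  have h1 : e i ^ 2 ≤ ∑ k, e k ^ 2 :=
    Finset.single_le_sum (f := fun k => e k ^ 2) (fun k _ => sq_nonneg (e k)) (Finset.mem_univ i)
  rw [he] at h1
  constructor <;> nlinarith

/-- Sums of functions supported on the support of a norm-3 vector. -/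
theorem sum_three (e : ι → ℤ) (he : ∑ i, e i ^ 2 = 3) (c : ι) (hc : e c ≠ 0) :
    ∃ i j : ι, i ≠ j ∧ i ≠ c ∧ j ≠ c ∧ e i ≠ 0 ∧ e j ≠ 0 ∧
      ∀ {M : Type} [AddCommMonoid M] (F : ι → M), (∀ k, e k = 0 → F k = 0) →
        ∑ k, F k = F c + (F i + F j) := by
  classical
  have hsq : ∀ k, e k ^ 2 = if e k ≠ 0 then 1 else 0 := by
    intro k
    have hb := entry_bound e he k
    by_cases h0 : e k = 0
    · rw [if_neg (not_not.2 h0), h0]; norm_num
    · rw [if_pos h0]
      have h1 : e k = 1 ∨ e k = -1 := by omega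
      rcases h1 with h1 | h1 <;> rw [h1] <;> norm_num
  set S := Finset.univ.filter (fun k => e k ≠ 0) with hS
  have hcard : S.card = 3 := by
    have h1 : ∑ k, e k ^ 2 = (S.card : ℤ) := by
      rw [Finset.sum_congr rfl (fun k _ => hsq k), hS, Finset.sum_ite, Finset.sum_const_zero,
        add_zero, Finset.sum_const, nsmul_eq_mul, mul_one]
    rw [he] at h1
    exact_mod_cast h1.symm
  have hcS : c ∈ S := by rw [hS, Finset.mem_filter]; exact ⟨Finset.mem_univ _, hc⟩
  have hcard2 : (S.erase c).card = 2 := by rw [Finset.card_erase_of_mem hcS, hcard]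
  obtain ⟨i, j, hij, hSij⟩ := Finset.card_eq_two.1 hcard2
  have hi : i ∈ S.erase c := by rw [hSij]; simp
  have hj : j ∈ S.erase c := by rw [hSij]; simp
  rw [Finset.mem_erase, hS, Finset.mem_filter] at hi hj
  refine ⟨i, j, hij, hi.1, hj.1, hi.2.2, hj.2.2, ?_⟩
  intro M _ F hF
  have h1 : ∑ k, F k = ∑ k ∈ S, F k := by
    symm
    apply Finset.sum_subset (Finset.subset_univ _)
    intro k _ hk
    apply hF
    by_contra h
    exact hk (by rw [hS, Finset.mem_filter]; exact ⟨Finset.mem_univ _, h⟩)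
  rw [h1, ← Finset.insert_erase hcS, Finset.sum_insert (Finset.notMem_erase c S), hSij,
    Finset.sum_pair hij]

/-- No index with `e e' = -1`. -/
theorem no_neg (e e' : ι → ℤ) (d : ι → ℕ) (hd : ∀ i, 0 < d i)
    (hee : ∑ i, e i ^ 2 = 3) (hee' : ∑ i, e' i ^ 2 = 3) (hcross : ∑ i, e i * e' i = 1)
    (hDD : ∑ i, ((e i : ℚ) * e i * e' i) / d i = ∑ i, ((e i : ℚ) * e' i * e' i) / d i)
    (j : ι) : e j * e' j ≠ -1 := by
  classical
  intro hj
  have hdiff : ∑ i, (e i - e' i) ^ 2 = 4 := by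
    have k : ∀ i, (e i - e' i) ^ 2 = e i ^ 2 + e' i ^ 2 - 2 * (e i * e' i) := by intro i; ring
    rw [Finset.sum_congr rfl (fun i _ => k i), Finset.sum_sub_distrib, Finset.sum_add_distrib,
      ← Finset.mul_sum, hee, hee', hcross]
    norm_num
  have hbj := entry_bound e hee j
  have hbj' := entry_bound e' hee' j
  have hj4 : (e j - e' j) ^ 2 = 4 := by
    have h1 : (e j = 1 ∧ e' j = -1) ∨ (e j = -1 ∧ e' j = 1) := by
      have : e j = 1 ∨ e j = 0 ∨ e j = -1 := by omega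
      have : e' j = 1 ∨ e' j = 0 ∨ e' j = -1 := by omega
      rcases ‹e j = 1 ∨ e j = 0 ∨ e j = -1› with h | h | h <;>
        rcases ‹e' j = 1 ∨ e' j = 0 ∨ e' j = -1› with h' | h' | h' <;>
        rw [h, h'] at hj <;> simp_all
    rcases h1 with ⟨h, h'⟩ | ⟨h, h'⟩ <;> rw [h, h'] <;> norm_num
  have hrest : ∀ i, i ≠ j → e i = e' i := by
    intro i hi
    have h1 : ∑ k, (e k - e' k) ^ 2 = (e j - e' j) ^ 2 + ∑ k ∈ Finset.univ.erase j, (e k - e' k) ^ 2 := by
      rw [← Finset.add_sum_erase Finset.univ _ (Finset.mem_univ j)]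
    rw [hdiff, hj4] at h1
    have h2 : ∑ k ∈ Finset.univ.erase j, (e k - e' k) ^ 2 = 0 := by linarith
    have h3 := (Finset.sum_eq_zero_iff_of_nonneg (fun k _ => sq_nonneg (e k - e' k))).1 h2 i
      (Finset.mem_erase.2 ⟨hi, Finset.mem_univ _⟩)
    have h4 : e i - e' i = 0 := by
      rcases sq_eq_zero_iff.1 h3 with h
      exact h
    linarith
  have hsub : ∑ i, (((e i : ℚ) * e i * e' i) / d i - ((e i : ℚ) * e' i * e' i) / d i) = 0 := by
    rw [Finset.sum_sub_distrib, hDD, sub_self]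
  rw [Finset.sum_eq_single j] at hsub
  · have hdj : (d j : ℚ) ≠ 0 := by exact_mod_cast (hd j).ne'
    have h1 : ((e j : ℚ) * e j * e' j) - ((e j : ℚ) * e' j * e' j) = 0 := by
      field_simp at hsub
      linarith
    have h2 : ((e j * e' j * (e j - e' j) : ℤ) : ℚ) = 0 := by
      push_cast
      linarith
    have h3 : e j * e' j * (e j - e' j) = 0 := by exact_mod_cast h2
    rw [hj] at h3
    have h4 : e j - e' j = 0 := by linarith
    rw [h4] at hj4
    norm_num at hj4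
  · intro i _ hi
    rw [hrest i hi]
    ring
  · intro h
    exact absurd (Finset.mem_univ j) h

/-- The unique common index. -/
theorem unique_c (e e' : ι → ℤ)
    (hee : ∑ i, e i ^ 2 = 3) (hee' : ∑ i, e' i ^ 2 = 3) (hcross : ∑ i, e i * e' i = 1)
    (hneg : ∀ j, e j * e' j ≠ -1) :
    ∃ c : ι, e c * e' c = 1 ∧ ∀ i, i ≠ c → e i * e' i = 0 := by
  classical
  have hnn : ∀ i, 0 ≤ e i * e' i ∧ e i * e' i ≤ 1 := by
    intro i
    have hb := entry_bound e hee i
    have hb' := entry_bound e' hee' i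
    have hn := hneg i
    have h1 : e i = 1 ∨ e i = 0 ∨ e i = -1 := by omega
    have h2 : e' i = 1 ∨ e' i = 0 ∨ e' i = -1 := by omega
    rcases h1 with h | h | h <;> rcases h2 with h' | h' | h' <;> rw [h, h'] at hn ⊢ <;>
      simp_all
  have hex : ∃ c, e c * e' c ≠ 0 := by
    by_contra hcon
    push Not at hcon
    rw [Finset.sum_congr rfl (fun i _ => hcon i), Finset.sum_const_zero] at hcross
    norm_num at hcross
  obtain ⟨c, hc⟩ := hex
  have hc1 : e c * e' c = 1 := by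
    have := hnn c
    omega
  refine ⟨c, hc1, ?_⟩
  intro i hi
  have h1 : ∑ k, e k * e' k = e c * e' c + ∑ k ∈ Finset.univ.erase c, e k * e' k := by
    rw [← Finset.add_sum_erase Finset.univ _ (Finset.mem_univ c)]
  rw [hcross, hc1] at h1
  have h2 : ∑ k ∈ Finset.univ.erase c, e k * e' k = 0 := by linarith
  exact (Finset.sum_eq_zero_iff_of_nonneg (fun k _ => (hnn k).1)).1 h2 i
    (Finset.mem_erase.2 ⟨hi, Finset.mem_univ _⟩)

/-- The endgame for `z c = 2`: a contradiction. -/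
theorem case_two (ai aj : ℚ) (ei ej zi zj : ℤ)
    (hei : ei = 1 ∨ ei = -1) (hej : ej = 1 ∨ ej = -1)
    (hsum : ei * zi + ej * zj = -1) (hsq : zi ^ 2 + zj ^ 2 ≤ 4)
    (r3 : ai * zi + aj * zj = -36)
    (r4 : ai * ei * zi ^ 2 + aj * ej * zj ^ 2 = 18) : False := by
  have hzi1 : -2 ≤ zi := by nlinarith
  have hzi2 : zi ≤ 2 := by nlinarith
  have hzj1 : -2 ≤ zj := by nlinarith
  have hzj2 : zj ≤ 2 := by nlinarith
  rcases hei with rfl | rfl <;> rcases hej with rfl | rfl <;>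
    interval_cases zi <;> interval_cases zj <;>
    first
      | omega
      | (norm_num at r3 r4; linarith)

theorem aux5 (g dc : ℤ) (h : 5 * g = 18 * dc) (h1 : dc ^ 2 + 1 ≤ g) (h36 : 36 ≤ g) : False := by
  have hdc : 10 ≤ dc := by omega
  have h2 : 10 * dc ≤ dc ^ 2 := by nlinarith
  linarith

theorem aux4 (g dc : ℤ) (h : 4 * g = 18 * dc) (h1 : dc ^ 2 + 1 ≤ g) (h36 : 36 ≤ g) : False := by
  have hdc : 8 ≤ dc := by omega
  have h2 : 8 * dc ≤ dc ^ 2 := by nlinarith
  linarith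

theorem aux3 (g dc : ℤ) (h : 3 * g = 18 * dc) (h1 : dc ^ 2 + 1 ≤ g) (h36 : 36 ≤ g) : False := by
  have hdc : 6 ≤ dc := by omega
  have h2 : 6 * dc ≤ dc ^ 2 := by nlinarith
  linarith

theorem aux2 (g dc : ℤ) (h : 2 * g = 18 * dc) (h1 : dc ^ 2 + 1 ≤ g) : g < 81 := by
  by_contra hcon
  push Not at hcon
  have hdc : 9 ≤ dc := by omega
  have h2 : 9 * dc ≤ dc ^ 2 := by nlinarith
  linarith

theorem arith (x y z : ι → ℤ) (d : ι → ℕ) (g : ℕ) (t₀ : ι)
    (hd : ∀ i, 0 < d i) (hx0 : x t₀ = 1) (hy0 : y t₀ = 1) (hz0 : z t₀ = 1) (hd0 : d t₀ = 1)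
    (hg : ∑ i, d i ^ 2 = g) (hg36 : 36 ≤ g)
    (hxz3 : ∀ i, (3 : ℤ) ∣ x i - z i) (hyz3 : ∀ i, (3 : ℤ) ∣ y i - z i)
    (hxx : ∑ i, x i ^ 2 = 18) (hyy : ∑ i, y i ^ 2 = 18) (hzz : ∑ i, z i ^ 2 = 9)
    (hxy : ∑ i, x i * y i = 0) (hxz : ∑ i, x i * z i = 0) (hyz : ∑ i, y i * z i = 0)
    (E1 : (g : ℚ) * ∑ i, ((x i : ℚ) * y i * z i) / d i = 324)
    (E2 : (g : ℚ) * ∑ i, ((x i : ℚ) * y i * x i) / d i = 0)
    (E3 : (g : ℚ) * ∑ i, ((y i : ℚ) * x i * y i) / d i = 0)
    (E4 : (g : ℚ) * ∑ i, ((x i : ℚ) * z i * x i) / d i = 0)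
    (E5 : (g : ℚ) * ∑ i, ((y i : ℚ) * z i * y i) / d i = 0)
    (E6 : (g : ℚ) * ∑ i, ((x i : ℚ) * z i * z i) / d i = 162)
    (E7 : (g : ℚ) * ∑ i, ((y i : ℚ) * z i * z i) / d i = 162) :
    g < 81 := by
  classical
  choose e he using hxz3
  choose e' he' using hyz3
  have hx : ∀ i, x i = z i + 3 * e i := fun i => by linarith [he i]
  have hy : ∀ i, y i = z i + 3 * e' i := fun i => by linarith [he' i]
  obtain ⟨hez, _, hee, hee', hcross⟩ := int_sums x y z e e' hx hy hxx hyy hzz hxy hxz hyz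
  have hgq : (g : ℚ) ≠ 0 := by
    have : 0 < g := by omega
    exact_mod_cast this.ne'
  obtain ⟨r1, hDD, r3, r4⟩ := rat_relations x y z e e' d (g : ℚ) hgq hx hy E1 E2 E3 E4 E5 E6 E7
  have hneg := no_neg e e' d hd hee hee' hcross hDD
  obtain ⟨c, hc1, hc0⟩ := unique_c e e' hee hee' hcross hneg
  have het0 : e t₀ = 0 := by
    have := hx t₀
    rw [hx0, hz0] at this
    linarith
  have hct0 : c ≠ t₀ := by
    rintro rfl
    rw [het0] at hc1
    simp at hc1
  have hcq : ((e c : ℚ) * e' c) = 1 := by exact_mod_cast hc1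
  have hB : ∑ i, ((e i : ℚ) * e' i * z i) / d i = (z c : ℚ) / d c := by
    rw [Finset.sum_eq_single c]
    · rw [hcq, one_mul]
    · intro i _ hi
      have : ((e i : ℚ) * e' i) = 0 := by exact_mod_cast hc0 i hi
      rw [this]
      simp
    · intro h
      exact absurd (Finset.mem_univ c) h
  have hD : ∑ i, ((e i : ℚ) * e i * e' i) / d i = (e c : ℚ) / d c := by
    rw [Finset.sum_eq_single c]
    · rw [mul_assoc, hcq, mul_one]
    · intro i _ hi
      have : ((e i : ℚ) * e' i) = 0 := by exact_mod_cast hc0 i hi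
      rw [mul_assoc, this]
      simp
    · intro h
      exact absurd (Finset.mem_univ c) h
  have hdc : (d c : ℚ) ≠ 0 := by exact_mod_cast (hd c).ne'
  have hdcpos : (0 : ℚ) < d c := by exact_mod_cast hd c
  have r1' : (g : ℚ) * ((z c : ℚ) + 3 * e c) = -18 * d c := by
    rw [hB, hD] at r1
    field_simp at r1
    linarith
  have r1i : (g : ℤ) * (z c + 3 * e c) = -18 * (d c : ℤ) := by exact_mod_cast r1'
  -- bounds
  have hzc : z c ^ 2 ≤ 8 := by
    have h1 : ∑ k ∈ ({t₀, c} : Finset ι), z k ^ 2 ≤ ∑ k, z k ^ 2 :=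
      Finset.sum_le_sum_of_subset_of_nonneg (Finset.subset_univ _) (fun k _ _ => sq_nonneg _)
    rw [Finset.sum_pair (Ne.symm hct0), hzz, hz0] at h1
    linarith
  have hdcg : d c ^ 2 + 1 ≤ g := by
    have h1 : ∑ k ∈ ({t₀, c} : Finset ι), d k ^ 2 ≤ ∑ k, d k ^ 2 :=
      Finset.sum_le_sum_of_subset_of_nonneg (Finset.subset_univ _) (fun k _ _ => Nat.zero_le _)
    rw [Finset.sum_pair (Ne.symm hct0), hg, hd0] at h1
    omega
  have hbc := entry_bound e hee c
  have hbc' := entry_bound e' hee' c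
  have hec : e c = 1 ∨ e c = -1 := by
    have h1 : e c = 1 ∨ e c = 0 ∨ e c = -1 := by omega
    rcases h1 with h | h | h
    · exact Or.inl h
    · rw [h] at hc1; simp at hc1
    · exact Or.inr h
  have hz1 : -2 ≤ z c := by nlinarith
  have hz2 : z c ≤ 2 := by nlinarith
  have hdcZ : (0 : ℤ) < d c := by exact_mod_cast hd c
  have hgZ : (36 : ℤ) ≤ g := by exact_mod_cast hg36
  have hdcgZ : (d c : ℤ) ^ 2 + 1 ≤ g := by exact_mod_cast hdcg
  rcases hec with hec | hec
  · exfalso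
    rw [hec] at r1i
    have h1 : 0 < (g : ℤ) * (z c + 3 * 1) := by
      apply mul_pos
      · linarith
      · linarith
    linarith
  · rw [hec] at r1i
    obtain ⟨zc, hzc'⟩ : ∃ zc : ℤ, z c = zc := ⟨_, rfl⟩
    rw [hzc'] at r1i hz1 hz2
    have hgoal : (g : ℤ) < 81 ∨ zc = 2 := by
      interval_cases zc
      · exfalso; exact aux5 g (d c) (by linarith) hdcgZ hgZ
      · exfalso; exact aux4 g (d c) (by linarith) hdcgZ hgZ
      · exfalso; exact aux3 g (d c) (by linarith) hdcgZ hgZ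
      · left; exact aux2 g (d c) (by linarith) hdcgZ
      · right; rfl
    rcases hgoal with h | h
    · exact_mod_cast h
    · exfalso
      rw [h] at r1i hzc'
      have hg18 : (g : ℤ) = 18 * d c := by linarith
      have hg18q : (g : ℚ) = 18 * d c := by exact_mod_cast hg18
      have hce : e c ≠ 0 := by rw [hec]; norm_num
      obtain ⟨i, j, hij, hic, hjc, hei, hej, hsum⟩ := sum_three e hee c hce
      have hbi := entry_bound e hee i
      have hbj := entry_bound e hee j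
      have hei' : e i = 1 ∨ e i = -1 := by omega
      have hej' : e j = 1 ∨ e j = -1 := by omega
      have hit0 : i ≠ t₀ := by rintro rfl; exact hei het0
      have hjt0 : j ≠ t₀ := by rintro rfl; exact hej het0
      -- the sum of e z
      have hs1 := hsum (M := ℤ) (fun k => e k * z k) (by intro k hk; simp [hk])
      rw [hez, hec, hzc'] at hs1
      -- the bound on z i, z j
      have hs2 : ∑ k ∈ ({t₀, c, i, j} : Finset ι), z k ^ 2 ≤ ∑ k, z k ^ 2 :=
        Finset.sum_le_sum_of_subset_of_nonneg (Finset.subset_univ _) (fun k _ _ => sq_nonneg _)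
      rw [Finset.sum_insert (by simp [Ne.symm hct0, Ne.symm hit0, Ne.symm hjt0]),
        Finset.sum_insert (by simp [Ne.symm hic, Ne.symm hjc]), Finset.sum_pair hij, hzz, hz0,
        hzc'] at hs2
      -- Q and P
      have hQ := hsum (M := ℚ) (fun k => ((e k : ℚ) * e k * z k) / d k)
        (by intro k hk; simp [hk])
      have hP := hsum (M := ℚ) (fun k => ((e k : ℚ) * z k * z k) / d k)
        (by intro k hk; simp [hk])
      rw [hQ, hB] at r3
      rw [hP, hB] at r4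
      have hdi : (d i : ℚ) ≠ 0 := by exact_mod_cast (hd i).ne'
      have hdj : (d j : ℚ) ≠ 0 := by exact_mod_cast (hd j).ne'
      have hei2 : (e i : ℚ) * e i = 1 := by
        rcases hei' with h | h <;> rw [h] <;> norm_num
      have hej2 : (e j : ℚ) * e j = 1 := by
        rcases hej' with h | h <;> rw [h] <;> norm_num
      have hecq : (e c : ℚ) = -1 := by exact_mod_cast hec
      have hzcq : (z c : ℚ) = 2 := by exact_mod_cast hzc'
      rw [hecq, hzcq, hei2, hej2, hg18q] at r3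
      rw [hecq, hzcq, hg18q] at r4
      apply case_two ((18 * d c : ℚ) / d i) ((18 * d c : ℚ) / d j) (e i) (e j) (z i) (z j)
        hei' hej' (by linarith) (by linarith)
      · field_simp at r3 ⊢
        linarith
      · field_simp at r4 ⊢
        linarith

end Cfsg.Agent.Lib.Helper13.S3805Arith
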