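import Mathlib
import Cfsg.Agent.Lib.Helper19.S3805Defs

/-!
# S3805, piece FO-A (`exists_cfg`): the structure of `N_G(T)` when `N_G(T)/T` is a four-group
-/

set_option autoImplicit false

namespace Cfsg.Agent.Lib.Helper13.S3805CfgA

open Cfsg.Agent.Lib.Helper19.S3805

variable {G : Type*} [Group G] [Finite G]

/-- A proper subgroup of `T` (of order 9, exponent 3) containing `g ≠ 1` is `{1, g, g⁻¹}`. -/
theorem mem_three (T H : Subgroup G) (hexp : ∀ x ∈ T, x ^ 3 = 1) (hcard : Nat.card T = 9)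
    (hHT : H ≤ T) (hne : ∃ t ∈ T, t ∉ H) (g : G) (hg : g ∈ H) (hg1 : g ≠ 1) :
    ∀ x ∈ H, x = 1 ∨ x = g ∨ x = g⁻¹ := by
  have h3 : orderOf g = 3 := by
    have : Fact (Nat.Prime 3) := ⟨by norm_num⟩
    exact orderOf_eq_prime (hexp g (hHT hg)) hg1
  have hdvd : Nat.card H ∣ 9 := hcard ▸ Subgroup.card_dvd_of_le hHT
  have hz : Subgroup.zpowers g ≤ H := by
    rw [Subgroup.zpowers_le]; exact hg
  have hzc : Nat.card (Subgroup.zpowers g) = 3 := by rw [Nat.card_zpowers, h3]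
  have h3dvd : 3 ∣ Nat.card H := hzc ▸ Subgroup.card_dvd_of_le hz
  have hcardH : Nat.card H = 3 := by
    have hle : Nat.card H ≤ 9 := Nat.le_of_dvd (by norm_num) hdvd
    have h39 : Nat.card H = 3 ∨ Nat.card H = 9 := by
      generalize Nat.card H = k at *
      interval_cases k <;> omega
    rcases h39 with h | h
    · exact h
    · exfalso
      obtain ⟨t, ht, htH⟩ := hne
      have : H = T := Subgroup.eq_of_le_of_card_ge hHT (by rw [h, hcard])
      exact htH (this ▸ ht)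
  have hzH : Subgroup.zpowers g = H := Subgroup.eq_of_le_of_card_ge hz (by rw [hcardH, hzc])
  have hg3 : g ^ 3 = 1 := hexp g (hHT hg)
  have hg2 : g ^ 2 = g⁻¹ := by
    apply eq_inv_of_mul_eq_one_left
    rw [← pow_succ]; exact hg3
  intro x hx
  rw [← hzH] at hx
  obtain ⟨k, rfl⟩ := Subgroup.mem_zpowers_iff.mp hx
  rw [← zpow_mod_orderOf, h3]
  have h0 := Int.emod_nonneg k (by norm_num : ((3 : ℕ) : ℤ) ≠ 0)
  have h1 := Int.emod_lt_of_pos k (by norm_num : (0 : ℤ) < ((3 : ℕ) : ℤ))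
  generalize k % ((3 : ℕ) : ℤ) = r at h0 h1
  push_cast at h1
  interval_cases r
  · left; simp
  · right; left; simp
  · right; right
    have : g ^ (2 : ℤ) = g ^ (2 : ℕ) := by norm_cast
    rw [this, hg2]

/-- The subgroup of `T` of elements fixed under conjugation by `x`. -/
def fixSub (T : Subgroup G) (x : G) : Subgroup G where
  carrier := {y | y ∈ T ∧ x * y * x⁻¹ = y}
  one_mem' := ⟨T.one_mem, by group⟩
  mul_mem' := fun {y z} hy hz => ⟨T.mul_mem hy.1 hz.1, by rw [← conj_mul, hy.2, hz.2]⟩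
  inv_mem' := fun {y} hy => ⟨T.inv_mem hy.1, by rw [← conj_inv, hy.2]⟩

/-- The subgroup of the abelian group `T` of elements inverted under conjugation by `x`. -/
def invSub (T : Subgroup G) (hcomm : ∀ x ∈ T, ∀ y ∈ T, x * y = y * x) (x : G) : Subgroup G where
  carrier := {y | y ∈ T ∧ x * y * x⁻¹ = y⁻¹}
  one_mem' := ⟨T.one_mem, by group⟩
  mul_mem' := fun {y z} hy hz => ⟨T.mul_mem hy.1 hz.1, by
    rw [← conj_mul, hy.2, hz.2, mul_inv_rev]
    exact hcomm _ (T.inv_mem hy.1) _ (T.inv_mem hz.1)⟩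
  inv_mem' := fun {y} hy => ⟨T.inv_mem hy.1, by rw [← conj_inv, hy.2]⟩

omit [Finite G] in
theorem eq_one_of_eq_inv (T : Subgroup G) (hexp : ∀ x ∈ T, x ^ 3 = 1) (x : G) (hx : x ∈ T)
    (h : x = x⁻¹) : x = 1 := by
  have h2 : x * x = 1 := by
    nth_rewrite 2 [h]; exact mul_inv_cancel x
  have h3 := hexp x hx
  rw [pow_succ, pow_two, h2, one_mul] at h3
  exact h3

theorem core (T : Sylow 3 G)
    (hcomm : ∀ x ∈ (T : Subgroup G), ∀ y ∈ (T : Subgroup G), x * y = y * x)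
    (hexp : ∀ x ∈ (T : Subgroup G), x ^ 3 = 1)
    (hcard : Nat.card (T : Subgroup G) = 9)
    (hC : Subgroup.centralizer ((T : Subgroup G) : Set G) = T)
    (hsq : ∀ n ∈ Subgroup.normalizer ((T : Subgroup G) : Set G), n ^ 2 ∈ (T : Subgroup G))
    (hab : ∀ m ∈ Subgroup.normalizer ((T : Subgroup G) : Set G),
      ∀ n ∈ Subgroup.normalizer ((T : Subgroup G) : Set G),
        (n * m)⁻¹ * (m * n) ∈ (T : Subgroup G))
    (n m : G) (hn : n ∈ Subgroup.normalizer ((T : Subgroup G) : Set G))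
    (hm : m ∈ Subgroup.normalizer ((T : Subgroup G) : Set G))
    (hnT : n ∉ (T : Subgroup G)) (hmT : m ∉ (T : Subgroup G))
    (hnm : n⁻¹ * m ∉ (T : Subgroup G))
    (t : G) (ht : t ∈ (T : Subgroup G)) (hnt : n * t * n⁻¹ ≠ t⁻¹) :
    ∃ a b u v : G, Cfg T a b u v := by
  have hN : ∀ x ∈ Subgroup.normalizer ((T : Subgroup G) : Set G), ∀ y ∈ (T : Subgroup G),
      x * y * x⁻¹ ∈ (T : Subgroup G) := fun x hx y hy => (Subgroup.mem_normalizer_iff.mp hx y).mp hy
  have hcen : ∀ x : G, (∀ y ∈ (T : Subgroup G), x * y * x⁻¹ = y) → x ∈ (T : Subgroup G) := by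
    intro x hx
    rw [← hC, Subgroup.mem_centralizer_iff]
    intro y hy
    have := hx y hy
    rw [mul_inv_eq_iff_eq_mul] at this
    exact this.symm
  have hsq2 : ∀ x ∈ Subgroup.normalizer ((T : Subgroup G) : Set G), ∀ y ∈ (T : Subgroup G),
      x * (x * y * x⁻¹) * x⁻¹ = y := by
    intro x hx y hy
    have h := hcomm (x ^ 2) (hsq x hx) y hy
    calc x * (x * y * x⁻¹) * x⁻¹ = (x ^ 2 * y) * (x ^ 2)⁻¹ := by
          simp only [pow_two, mul_inv_rev, mul_assoc]
      _ = y := by rw [h, mul_inv_cancel_right]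
  have hcm : ∀ x ∈ Subgroup.normalizer ((T : Subgroup G) : Set G),
      ∀ z ∈ Subgroup.normalizer ((T : Subgroup G) : Set G), ∀ y ∈ (T : Subgroup G),
      x * (z * y * z⁻¹) * x⁻¹ = z * (x * y * x⁻¹) * z⁻¹ := by
    intro x hx z hz y hy
    have hc : ((z * x)⁻¹ * (x * z)) * y = y * ((z * x)⁻¹ * (x * z)) :=
      hcomm _ (hab x hx z hz) y hy
    calc x * (z * y * z⁻¹) * x⁻¹
        = (z * x) * (((z * x)⁻¹ * (x * z)) * y) * (x * z)⁻¹ := by group
      _ = (z * x) * (y * ((z * x)⁻¹ * (x * z))) * (x * z)⁻¹ := by rw [hc]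
      _ = z * (x * y * x⁻¹) * z⁻¹ := by group
  -- an element moved by `n`
  obtain ⟨t', ht', hnt'⟩ : ∃ t' ∈ (T : Subgroup G), n * t' * n⁻¹ ≠ t' := by
    by_contra hcon
    push Not at hcon
    exact hnT (hcen n hcon)
  set s := n * t * n⁻¹ with hs
  set s' := n * t' * n⁻¹ with hs'
  have hsT : s ∈ (T : Subgroup G) := hN n hn t ht
  have hsT' : s' ∈ (T : Subgroup G) := hN n hn t' ht'
  have hns : n * s * n⁻¹ = t := hsq2 n hn t ht
  have hns' : n * s' * n⁻¹ = t' := hsq2 n hn t' ht'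
  -- the elements a, b
  have haT : t * s ∈ (T : Subgroup G) := Subgroup.mul_mem _ ht hsT
  have hbT : t' * s'⁻¹ ∈ (T : Subgroup G) := Subgroup.mul_mem _ ht' (Subgroup.inv_mem _ hsT')
  have ha1 : t * s ≠ 1 := fun h => hnt (eq_inv_of_mul_eq_one_right h)
  have hb1 : t' * s'⁻¹ ≠ 1 := fun h => hnt' (mul_inv_eq_one.mp h).symm
  have hna : n * (t * s) * n⁻¹ = t * s := by
    rw [← conj_mul, hns, ← hs]; exact hcomm s hsT t ht
  have hnb : n * (t' * s'⁻¹) * n⁻¹ = (t' * s'⁻¹)⁻¹ := by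
    rw [← conj_mul, ← conj_inv, hns', ← hs', mul_inv_rev, inv_inv]
  set a := t * s with ha
  set b := t' * s'⁻¹ with hb
  have hba : b ≠ a := by
    intro h
    apply hb1
    apply eq_one_of_eq_inv (T : Subgroup G) hexp b hbT
    rw [← hnb, h, hna]
  have hba' : b ≠ a⁻¹ := by
    intro h
    apply hb1
    apply eq_one_of_eq_inv (T : Subgroup G) hexp b hbT
    rw [← hnb, h, ← conj_inv, hna]
  -- fixed points of `n` and inverted points of `n`
  have hfix : ∀ x ∈ fixSub (T : Subgroup G) n, x = 1 ∨ x = a ∨ x = a⁻¹ :=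
    mem_three (T : Subgroup G) (fixSub (T : Subgroup G) n) hexp hcard (fun x hx => hx.1)
      ⟨t', ht', fun h => hnt' h.2⟩ a ⟨haT, hna⟩ ha1
  have hinv : ∀ x ∈ invSub (T : Subgroup G) hcomm n, x = 1 ∨ x = b ∨ x = b⁻¹ :=
    mem_three (T : Subgroup G) (invSub (T : Subgroup G) hcomm n) hexp hcard (fun x hx => hx.1)
      ⟨a, haT, fun h => ha1 (eq_one_of_eq_inv (T : Subgroup G) hexp a haT (hna.symm.trans h.2))⟩
      b ⟨hbT, hnb⟩ hb1
  have hNa : ∀ k ∈ Subgroup.normalizer ((T : Subgroup G) : Set G),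
      k * a * k⁻¹ = a ∨ k * a * k⁻¹ = a⁻¹ := by
    intro k hk
    have hmem : k * a * k⁻¹ ∈ fixSub (T : Subgroup G) n :=
      ⟨hN k hk a haT, by rw [hcm n hn k hk a haT, hna]⟩
    rcases hfix _ hmem with h | h | h
    · exact absurd (conj_eq_one_iff.mp h) ha1
    · exact Or.inl h
    · exact Or.inr h
  have hNb : ∀ k ∈ Subgroup.normalizer ((T : Subgroup G) : Set G),
      k * b * k⁻¹ = b ∨ k * b * k⁻¹ = b⁻¹ := by
    intro k hk
    have hmem : k * b * k⁻¹ ∈ invSub (T : Subgroup G) hcomm n :=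
      ⟨hN k hk b hbT, by rw [hcm n hn k hk b hbT, hnb, conj_inv]⟩
    rcases hinv _ hmem with h | h | h
    · exact absurd (conj_eq_one_iff.mp h) hb1
    · exact Or.inl h
    · exact Or.inr h
  have hNT : ∀ k ∈ Subgroup.normalizer ((T : Subgroup G) : Set G),
      k * a * k⁻¹ = a → k * b * k⁻¹ = b → k ∈ (T : Subgroup G) := by
    intro k hk hka hkb
    apply hcen
    by_contra hcon
    push Not at hcon
    obtain ⟨y, hy, hky⟩ := hcon
    have h3 := mem_three (T : Subgroup G) (fixSub (T : Subgroup G) k) hexp hcard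
      (fun x hx => hx.1) ⟨y, hy, fun h => hky h.2⟩ a ⟨haT, hka⟩ ha1 b ⟨hbT, hkb⟩
    rcases h3 with h | h | h
    · exact hb1 h
    · exact hba h
    · exact hba' h
  have hnbi : n⁻¹ * b⁻¹ * n = b := by
    rw [← hnb]; group
  have hnai : n⁻¹ * a * n = a := by
    nth_rewrite 1 [← hna]; group
  -- choice of `v`
  rcases hNa m hm with hma | hma <;> rcases hNb m hm with hmb | hmb
  · exact absurd (hNT m hm hma hmb) hmT
  · exfalso
    apply hnm
    apply hNT _ (Subgroup.mul_mem _ (Subgroup.inv_mem _ hn) hm)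
    · calc n⁻¹ * m * a * (n⁻¹ * m)⁻¹ = n⁻¹ * (m * a * m⁻¹) * n := by group
        _ = a := by rw [hma, hnai]
    · calc n⁻¹ * m * b * (n⁻¹ * m)⁻¹ = n⁻¹ * (m * b * m⁻¹) * n := by group
        _ = b := by rw [hmb, hnbi]
  · exact ⟨a, b, n, m, ⟨haT, hbT, ha1, hb1, hba, hba', hn, hm, hna, hnb, hma, hmb, hNa, hNb, hNT⟩⟩
  · refine ⟨a, b, n, n * m, ⟨haT, hbT, ha1, hb1, hba, hba', hn, Subgroup.mul_mem _ hn hm, hna, hnb,
      ?_, ?_, hNa, hNb, hNT⟩⟩
    · calc n * m * a * (n * m)⁻¹ = n * (m * a * m⁻¹) * n⁻¹ := by group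
        _ = a⁻¹ := by rw [hma, ← conj_inv, hna]
    · calc n * m * b * (n * m)⁻¹ = n * (m * b * m⁻¹) * n⁻¹ := by group
        _ = b := by rw [hmb, ← conj_inv, hnb, inv_inv]

/-- **FO-A** of helper19's S3805 skeleton. -/
theorem exists_cfg (T : Sylow 3 G)
    (hcomm : ∀ x ∈ (T : Subgroup G), ∀ y ∈ (T : Subgroup G), x * y = y * x)
    (hexp : ∀ x ∈ (T : Subgroup G), x ^ 3 = 1)
    (hcard : Nat.card (T : Subgroup G) = 9)
    (hC : Subgroup.centralizer ((T : Subgroup G) : Set G) = T)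
    [hn : ((T : Subgroup G).subgroupOf (Subgroup.normalizer ((T : Subgroup G) : Set G))).Normal]
    (hK : IsKleinFour (↥(Subgroup.normalizer ((T : Subgroup G) : Set G)) ⧸
      (T : Subgroup G).subgroupOf (Subgroup.normalizer ((T : Subgroup G) : Set G)))) :
    ∃ a b u v : G, Cfg T a b u v := by
  have hexp2 : ∀ q : (↥(Subgroup.normalizer ((T : Subgroup G) : Set G)) ⧸
      (T : Subgroup G).subgroupOf (Subgroup.normalizer ((T : Subgroup G) : Set G))), q ^ 2 = 1 := by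
    intro q
    rw [← hK.exponent_two]; exact Monoid.pow_exponent_eq_one q
  have hsq : ∀ n ∈ Subgroup.normalizer ((T : Subgroup G) : Set G), n ^ 2 ∈ (T : Subgroup G) := by
    intro n hn'
    have h := hexp2 (QuotientGroup.mk ⟨n, hn'⟩)
    rw [← QuotientGroup.mk_pow, QuotientGroup.eq_one_iff, Subgroup.mem_subgroupOf] at h
    simpa using h
  have hab : ∀ m ∈ Subgroup.normalizer ((T : Subgroup G) : Set G),
      ∀ n ∈ Subgroup.normalizer ((T : Subgroup G) : Set G),
        (n * m)⁻¹ * (m * n) ∈ (T : Subgroup G) := by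
    intro m hm n hn'
    have h : (QuotientGroup.mk ((⟨n, hn'⟩ : Subgroup.normalizer ((T : Subgroup G) : Set G)) *
          ⟨m, hm⟩) : (↥(Subgroup.normalizer ((T : Subgroup G) : Set G)) ⧸
          (T : Subgroup G).subgroupOf (Subgroup.normalizer ((T : Subgroup G) : Set G))))
        = QuotientGroup.mk ((⟨m, hm⟩ : Subgroup.normalizer ((T : Subgroup G) : Set G)) *
          ⟨n, hn'⟩) := by
      rw [QuotientGroup.mk_mul, QuotientGroup.mk_mul]
      exact mul_comm_of_exponent_two hK.exponent_two _ _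
    rw [QuotientGroup.eq, Subgroup.mem_subgroupOf] at h
    simpa using h
  have hcardQ := hK.card_four
  have hfin : Finite (↥(Subgroup.normalizer ((T : Subgroup G) : Set G)) ⧸
      (T : Subgroup G).subgroupOf (Subgroup.normalizer ((T : Subgroup G) : Set G))) :=
    Nat.finite_of_card_ne_zero (by rw [hcardQ]; norm_num)
  obtain ⟨q1, hq1⟩ : ∃ q1 : (↥(Subgroup.normalizer ((T : Subgroup G) : Set G)) ⧸
      (T : Subgroup G).subgroupOf (Subgroup.normalizer ((T : Subgroup G) : Set G))), q1 ≠ 1 := by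
    by_contra hcon
    push Not at hcon
    have : Nat.card (↥(Subgroup.normalizer ((T : Subgroup G) : Set G)) ⧸
      (T : Subgroup G).subgroupOf (Subgroup.normalizer ((T : Subgroup G) : Set G))) ≤ 1 :=
      Finite.card_le_one_iff_subsingleton.mpr ⟨fun a b => (hcon a).trans (hcon b).symm⟩
    omega
  obtain ⟨q2, hq2, hq21⟩ : ∃ q2 : (↥(Subgroup.normalizer ((T : Subgroup G) : Set G)) ⧸
      (T : Subgroup G).subgroupOf (Subgroup.normalizer ((T : Subgroup G) : Set G))),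
      q2 ≠ 1 ∧ q2 ≠ q1 := by
    by_contra hcon
    push Not at hcon
    have hsub : (Set.univ : Set (↥(Subgroup.normalizer ((T : Subgroup G) : Set G)) ⧸
      (T : Subgroup G).subgroupOf (Subgroup.normalizer ((T : Subgroup G) : Set G)))) ⊆ {1, q1} := by
      intro q _
      by_cases h : q = 1
      · simp [h]
      · simp [hcon q h]
    have h1 := Set.ncard_le_ncard hsub (Set.toFinite _)
    rw [Set.ncard_univ, hcardQ] at h1
    have h2 := Set.ncard_insert_le (1 : (↥(Subgroup.normalizer ((T : Subgroup G) : Set G)) ⧸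
      (T : Subgroup G).subgroupOf (Subgroup.normalizer ((T : Subgroup G) : Set G)))) {q1}
    rw [Set.ncard_singleton] at h2
    omega
  obtain ⟨⟨n1, hn1⟩, rfl⟩ := QuotientGroup.mk_surjective q1
  obtain ⟨⟨n2, hn2⟩, rfl⟩ := QuotientGroup.mk_surjective q2
  have hn1T : n1 ∉ (T : Subgroup G) := by
    intro h
    apply hq1
    rw [QuotientGroup.eq_one_iff, Subgroup.mem_subgroupOf]
    exact h
  have hn2T : n2 ∉ (T : Subgroup G) := by
    intro h
    apply hq2
    rw [QuotientGroup.eq_one_iff, Subgroup.mem_subgroupOf]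
    exact h
  have h12 : n1⁻¹ * n2 ∉ (T : Subgroup G) := by
    intro h
    apply hq21
    symm
    rw [QuotientGroup.eq, Subgroup.mem_subgroupOf]
    simpa using h
  by_cases h1 : ∃ t ∈ (T : Subgroup G), n1 * t * n1⁻¹ ≠ t⁻¹
  · obtain ⟨t, ht, hnt⟩ := h1
    exact core T hcomm hexp hcard hC hsq hab n1 n2 hn1 hn2 hn1T hn2T h12 t ht hnt
  · by_cases h2 : ∃ t ∈ (T : Subgroup G), n2 * t * n2⁻¹ ≠ t⁻¹
    · obtain ⟨t, ht, hnt⟩ := h2
      have h21 : n2⁻¹ * n1 ∉ (T : Subgroup G) := by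
        intro h
        apply h12
        have := Subgroup.inv_mem _ h
        simpa using this
      exact core T hcomm hexp hcard hC hsq hab n2 n1 hn2 hn1 hn2T hn1T h21 t ht hnt
    · push Not at h1 h2
      exfalso
      apply h12
      rw [← hC, Subgroup.mem_centralizer_iff]
      intro y hy
      have e1 : n2 * y * n2⁻¹ = y⁻¹ := h2 y hy
      have e2 : n1 * y * n1⁻¹ = y⁻¹ := h1 y hy
      calc y * (n1⁻¹ * n2) = n1⁻¹ * (n1 * y * n1⁻¹) * n2 := by group
        _ = n1⁻¹ * (n2 * y * n2⁻¹) * n2 := by rw [e1, e2]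
        _ = (n1⁻¹ * n2) * y := by group

end Cfsg.Agent.Lib.Helper13.S3805CfgA
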