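import Mathlib
import Cfsg.Prelude.Def_Characters

/-!
# S3805: concrete model `D3 × D3` and basic definitions

`N_G(T) ≅ S3 × S3` is modelled by `DD = DihedralGroup 3 × DihedralGroup 3`; all computations
internal to the normaliser are done in `DD` by `decide`.
-/

set_option autoImplicit false

namespace Cfsg.Agent.Lib.Helper13.S3805

open DihedralGroup
open scoped ComplexConjugate

abbrev D3 := DihedralGroup 3
abbrev DD := D3 × D3

/-- `1 + ε - ρ` on `D3`: `3` on the two rotations of order three, `0` elsewhere. -/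
def pi3 : D3 → ℤ
  | r i => if i = 0 then 0 else 3
  | sr _ => 0

/-- Sign-normalised irreducible characters of `D3`: `tau 0 = 1`, `tau 1 = ε`, `tau 2 = -ρ`. -/
def tau : Fin 3 → D3 → ℤ
  | 0, _ => 1
  | 1, r _ => 1
  | 1, sr _ => -1
  | 2, r i => if i = 0 then -2 else 1
  | 2, sr _ => 0

/-- "Columns": `π ⊗ τ_j`. -/
def cHat (j : Fin 3) (p : DD) : ℤ := pi3 p.1 * tau j p.2

/-- "Rows": `τ_i ⊗ π`. -/
def rHat (i : Fin 3) (p : DD) : ℤ := tau i p.1 * pi3 p.2

/-- The `3`-singular elements of `DD`. -/
def isSing (d : DD) : Prop := pi3 d.1 ≠ 0 ∨ pi3 d.2 ≠ 0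

instance : DecidablePred isSing := fun d => by unfold isSing; infer_instance

def a0 : DD := (sr 0, 1)
def b0 : DD := (1, sr 0)
def x0 : DD := (r 1, 1)
def y0 : DD := (1, r 1)

/-- `f` vanishes off the singular elements. -/
def SingSupp (f : DD → ℤ) : Prop := ∀ d, ¬ isSing d → f d = 0

/-- `f` is a class function on `DD`. -/
def ClassFn (f : DD → ℤ) : Prop := ∀ d e : DD, f (e * d * e⁻¹) = f d

instance (f : DD → ℤ) : Decidable (SingSupp f) := by unfold SingSupp; infer_instance
instance (f : DD → ℤ) : Decidable (ClassFn f) := by unfold ClassFn; infer_instance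

theorem singSupp_cHat (j : Fin 3) : SingSupp (cHat j) := by revert j; decide
theorem singSupp_rHat (i : Fin 3) : SingSupp (rHat i) := by revert i; decide
theorem classFn_cHat (j : Fin 3) : ClassFn (cHat j) := by revert j; decide
theorem classFn_rHat (i : Fin 3) : ClassFn (rHat i) := by revert i; decide

theorem gram_cc : ∀ j k : Fin 3, ∑ p : DD, cHat j p * cHat k p = if j = k then 108 else 0 := by decide
theorem gram_rr : ∀ j k : Fin 3, ∑ p : DD, rHat j p * rHat k p = if j = k then 108 else 0 := by decide
theorem gram_cr : ∀ j i : Fin 3, ∑ p : DD, cHat j p * rHat i p = 36 := by decide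
theorem rel_cr : ∀ p : DD, ∑ j : Fin 3, cHat j p = ∑ i : Fin 3, rHat i p := by decide
theorem sum_cHat : ∀ j : Fin 3, ∑ p : DD, cHat j p = if j = 0 then 36 else 0 := by decide
theorem sum_rHat : ∀ j : Fin 3, ∑ p : DD, rHat j p = if j = 0 then 36 else 0 := by decide

/-- Hypotheses on an embedding `Φ` of the model: injective, and the singular set is a
trivial-intersection set controlled by the image. -/
structure Good {G : Type*} [Group G] (Φ : DD →* G) : Prop where
  inj : Function.Injective Φ
  ti : ∀ d d' : DD, isSing d → isSing d' → ∀ g : G, g * Φ d * g⁻¹ = Φ d' → g ∈ Φ.range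

/-- The coefficient of `χ` in the class function induced from `f` (transported along `Φ`):
`(1/36) ∑_d f(d) conj χ(Φ d)`. -/
noncomputable def coefC {G : Type*} [Group G] (Φ : DD →* G) (f : DD → ℤ) (χ : G → ℂ) : ℂ :=
  (36 : ℂ)⁻¹ * ∑ d : DD, (f d : ℂ) * conj (χ (Φ d))

/-- Involution types in `DD`. -/
def isInvA (p : DD) : Bool := match p with
  | (sr _, r i) => decide (i = 0)
  | _ => false
def isInvB (p : DD) : Bool := match p with
  | (r i, sr _) => decide (i = 0)
  | _ => false
def isInvAB (p : DD) : Bool := match p with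
  | (sr _, sr _) => true
  | _ => false

/-- The pairing sum for a fusion pattern. -/
def Ssum (θ : DD → ℤ) (fa fb fab : Bool) : ℤ :=
  ∑ p : DD, ∑ q : DD,
    if ((fa && isInvA p) || (fb && isInvB p) || (fab && isInvAB p)) &&
       ((fa && isInvA q) || (fb && isInvB q) || (fab && isInvAB q)) then θ (p * q) else 0

end Cfsg.Agent.Lib.Helper13.S3805
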