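import Mathlib
import Cfsg.Agent.Lib.Helper13.OSubDefs

/-!
# Algebra of the unitary Eichler elements

Conjugation, products and inverses of the elements `eich u v c`
(`x ↦ x + h(x,u) (v - c u) - h(x,v) u`) of `SU_n(q)`, and two commutator formulas.
-/

set_option autoImplicit false
set_option linter.unusedSectionVars false
set_option linter.unusedVariables false

namespace Cfsg.Agent.Lib.Helper13

open Matrix Module Cfsg.Agent.Lib.Helper6 Cfsg.Agent.S0779 Cfsg.Agent.S0781
open Cfsg.Agent.Lib.Helper6.SUG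

section eichalg
variable {F : Type*} [Field F] [Fintype F] {q n : ℕ}

local notation "hh" => Cfsg.hermForm n F q

theorem herm_neg_left (x y : Fin n → F) : hh (-x) y = -hh x y := by
  have h1 : -x = (-1 : F) • x := by simp
  rw [h1, herm_smul_left]
  ring

theorem herm_neg_right (hF : Fintype.card F = q ^ 2) (x y : Fin n → F) :
    hh x (-y) = -hh x y := by
  have h1 : -y = (-1 : F) • y := by simp
  rw [h1, herm_smul_right, neg_pow_q hF, one_pow]
  ring

theorem av_neg' (g : ↥(Cfsg.SU n F q)) (x : Fin n → F) : av g (-x) = -av g x := by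
  have h1 : -x = (-1 : F) • x := by simp
  rw [h1, av_smul]
  simp

theorem av_sub' (g : ↥(Cfsg.SU n F q)) (x y : Fin n → F) : av g (x - y) = av g x - av g y := by
  rw [sub_eq_add_neg, av_add, av_neg', ← sub_eq_add_neg]

/-- congruence for `eich` -/
theorem eich_congr (hF : Fintype.card F = q ^ 2) {u v u' v' : Fin n → F} {c c' : F}
    (hu : u = u') (hv : v = v') (hcc : c = c')
    (huu : hh u u = 0) (huv : hh u v = 0) (hc : c + c ^ q = hh v v)
    (huu' : hh u' u' = 0) (huv' : hh u' v' = 0) (hc' : c' + c' ^ q = hh v' v') :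
    eich hF u v c huu huv hc = eich hF u' v' c' huu' huv' hc' := by
  subst hu hv hcc
  rfl

/-- FO-E1 conjugation -/
theorem eich_conj (hF : Fintype.card F = q ^ 2) (g : ↥(Cfsg.SU n F q)) (u v : Fin n → F) (c : F)
    (huu : hh u u = 0) (huv : hh u v = 0) (hc : c + c ^ q = hh v v)
    (huu' : hh (av g u) (av g u) = 0) (huv' : hh (av g u) (av g v) = 0)
    (hc' : c + c ^ q = hh (av g v) (av g v)) :
    g * eich hF u v c huu huv hc * g⁻¹ = eich hF (av g u) (av g v) c huu' huv' hc' := by
  apply ext_av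
  intro x
  have e1 : ∀ y, hh (av g⁻¹ x) y = hh x (av g y) := by
    intro y
    rw [← herm_av g (av g⁻¹ x) y, av_av_inv]
  rw [av_mul, av_mul, av_eich, av_eich, e1, e1, av_sub', av_add, av_smul, av_smul, av_sub',
    av_smul, av_av_inv]

/-- product of two Eichler elements with the same centre -/
theorem eich_mul_same (hF : Fintype.card F = q ^ 2) (z v v' : Fin n → F) (a a' : F)
    (hzz : hh z z = 0) (hzv : hh z v = 0) (ha : a + a ^ q = hh v v)
    (hzv' : hh z v' = 0) (ha' : a' + a' ^ q = hh v' v')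
    (hzs : hh z (v + v') = 0)
    (has : (a + a' + hh v' v) + (a + a' + hh v' v) ^ q = hh (v + v') (v + v')) :
    eich hF z v a hzz hzv ha * eich hF z v' a' hzz hzv' ha' =
      eich hF z (v + v') (a + a' + hh v' v) hzz hzs has := by
  apply ext_av
  intro x
  have hv'z : hh v' z = 0 := herm_swap_zero hF hzv'
  rw [av_mul, av_eich, av_eich, av_eich]
  simp only [herm_add_left, herm_sub_left', herm_smul_left, herm_add_right hF, hzz, hzv,
    hv'z, mul_zero, sub_zero, add_zero]
  module

theorem eich_zero (hF : Fintype.card F = q ^ 2) (u : Fin n → F) (huu : hh u u = 0)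
    (hu0 : hh u 0 = 0) (h0 : (0 : F) + 0 ^ q = hh (0 : Fin n → F) 0) :
    eich hF u 0 0 huu hu0 h0 = 1 := by
  apply ext_av
  intro x
  rw [av_eich, av_one, herm_zero_right hF]
  simp

/-- the inverse of an Eichler element -/
theorem eich_inv (hF : Fintype.card F = q ^ 2) (u v : Fin n → F) (c : F)
    (huu : hh u u = 0) (huv : hh u v = 0) (hc : c + c ^ q = hh v v)
    (huv' : hh u (-v) = 0) (hc' : c ^ q + (c ^ q) ^ q = hh (-v) (-v)) :
    (eich hF u v c huu huv hc)⁻¹ = eich hF u (-v) (c ^ q) huu huv' hc' := by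
  symm
  apply eq_inv_of_mul_eq_one_right
  have hq0 : (0 : F) ^ q = 0 := zero_pow (q_pos hF).ne'
  have hzs : hh u (v + -v) = 0 := by rw [add_neg_cancel, herm_zero_right hF]
  have has : (c + c ^ q + hh (-v) v) + (c + c ^ q + hh (-v) v) ^ q =
      hh (v + -v) (v + -v) := by
    rw [add_neg_cancel, herm_zero_left, herm_neg_left, hc]
    simp [hq0]
  rw [eich_mul_same hF u v (-v) c (c ^ q) huu huv hc huv' hc' hzs has]
  have h00 : (0 : F) + 0 ^ q = hh (0 : Fin n → F) 0 := by rw [herm_zero_left, hq0, add_zero]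
  rw [← eich_zero hF u huu (herm_zero_right hF u) h00]
  apply eich_congr hF rfl (add_neg_cancel v)
  rw [herm_neg_left, hc]
  ring

/-- FO-E2 commutator of two Eichler elements with orthogonal isotropic centres `w ⟂ z`,
`y ⟂ z`, `c ⟂ w`: a short root element with centre `z` and direction `-(h c y) w` -/
theorem eich_comm (hF : Fintype.card F = q ^ 2) (w y z c : Fin n → F) (s t : F)
    (hww : hh w w = 0) (hwy : hh w y = 0) (hs : s + s ^ q = hh y y)
    (hzz : hh z z = 0) (hzc : hh z c = 0) (ht : t + t ^ q = hh c c)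
    (hwz : hh w z = 0) (hyz : hh y z = 0) (hcw : hh c w = 0)
    (hzw' : hh z ((-(hh c y)) • w) = 0)
    (h0 : (0 : F) + 0 ^ q = hh ((-(hh c y)) • w) ((-(hh c y)) • w)) :
    eich hF w y s hww hwy hs * eich hF z c t hzz hzc ht * (eich hF w y s hww hwy hs)⁻¹ *
      (eich hF z c t hzz hzc ht)⁻¹ = eich hF z ((-(hh c y)) • w) 0 hzz hzw' h0 := by
  have hzw : hh z w = 0 := herm_swap_zero hF hwz
  have hzy : hh z y = 0 := herm_swap_zero hF hyz
  have hwc : hh w c = 0 := herm_swap_zero hF hcw
  have hq0 : (0 : F) ^ q = 0 := zero_pow (q_pos hF).ne'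
  -- images under the first element
  have e1 : av (eich hF w y s hww hwy hs) z = z := by
    rw [av_eich, hzw, hzy]
    simp
  have e2 : av (eich hF w y s hww hwy hs) c = c + (-(hh c y)) • w := by
    rw [av_eich, hcw]
    simp [sub_eq_add_neg]
  have hzz' : hh (av (eich hF w y s hww hwy hs) z) (av (eich hF w y s hww hwy hs) z) = 0 := by
    rw [herm_av]; exact hzz
  have hzc' : hh (av (eich hF w y s hww hwy hs) z) (av (eich hF w y s hww hwy hs) c) = 0 := by
    rw [herm_av]; exact hzc
  have ht' : t + t ^ q =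
      hh (av (eich hF w y s hww hwy hs) c) (av (eich hF w y s hww hwy hs) c) := by
    rw [herm_av]; exact ht
  rw [eich_conj hF (eich hF w y s hww hwy hs) z c t hzz hzc ht hzz' hzc' ht']
  have hzc'' : hh z (c + (-(hh c y)) • w) = 0 := by rw [← e2, ← e1]; exact hzc'
  have ht'' : t + t ^ q = hh (c + (-(hh c y)) • w) (c + (-(hh c y)) • w) := by
    rw [← e2]; exact ht'
  rw [eich_congr hF e1 e2 rfl hzz' hzc' ht' hzz hzc'' ht'']
  have hzc3 : hh z (-c) = 0 := by rw [herm_neg_right hF, hzc, neg_zero]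
  have ht3 : t ^ q + (t ^ q) ^ q = hh (-c) (-c) := by
    rw [herm_neg_left, herm_neg_right hF, pow_q_q hF, neg_neg, ← ht]
    ring
  rw [eich_inv hF z c t hzz hzc ht hzc3 ht3]
  have hzs : hh z (c + (-(hh c y)) • w + -c) = 0 := by
    rw [herm_add_right hF, hzc'', hzc3, add_zero]
  have hsum : c + (-(hh c y)) • w + -c = (-(hh c y)) • w := by abel
  have hpar : t + t ^ q + hh (-c) (c + (-(hh c y)) • w) = 0 := by
    rw [herm_neg_left, herm_add_right hF, herm_smul_right, hcw, ← ht]
    ring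
  have has : (t + t ^ q + hh (-c) (c + (-(hh c y)) • w)) +
      (t + t ^ q + hh (-c) (c + (-(hh c y)) • w)) ^ q =
      hh (c + (-(hh c y)) • w + -c) (c + (-(hh c y)) • w + -c) := by
    rw [hpar, hsum, ← h0]
  rw [eich_mul_same hF z (c + (-(hh c y)) • w) (-c) t (t ^ q) hzz hzc'' ht'' hzc3 ht3 hzs has]
  exact eich_congr hF rfl hsum hpar _ _ _ _ _ _

/-- an Eichler element with zero direction is a transvection -/
theorem eich_zero_dir (hF : Fintype.card F = q ^ 2) (z : Fin n → F) (κ : F)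
    (hzz : hh z z = 0) (hz0 : hh z 0 = 0) (hκ' : κ + κ ^ q = hh (0 : Fin n → F) 0)
    (hκ : (-κ) ^ q = -(-κ)) :
    eich hF z 0 κ hzz hz0 hκ' = SUG.tv hF z (-κ) hzz hκ := by
  apply ext_av
  intro x
  rw [av_eich, av_tv, herm_zero_right hF]
  module

/-- FO-E3 commutator of two Eichler elements with the same centre: a transvection -/
theorem eich_comm_same (hF : Fintype.card F = q ^ 2) (z v v' : Fin n → F) (a a' : F)
    (hzz : hh z z = 0) (hzv : hh z v = 0) (ha : a + a ^ q = hh v v)
    (hzv' : hh z v' = 0) (ha' : a' + a' ^ q = hh v' v')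
    (hκ : (hh v v' - hh v' v) ^ q = -(hh v v' - hh v' v)) :
    eich hF z v a hzz hzv ha * eich hF z v' a' hzz hzv' ha' * (eich hF z v a hzz hzv ha)⁻¹ *
      (eich hF z v' a' hzz hzv' ha')⁻¹ = SUG.tv hF z (hh v v' - hh v' v) hzz hκ := by
  have hq0 : (0 : F) ^ q = 0 := zero_pow (q_pos hF).ne'
  have c1 : (hh v v') ^ q = hh v' v := herm_conj hF v v'
  have c2 : (hh v' v) ^ q = hh v v' := herm_conj hF v' v
  have hzs : hh z (v + v') = 0 := by rw [herm_add_right hF, hzv, hzv', add_zero]
  have hzs' : hh z (v' + v) = 0 := by rw [herm_add_right hF, hzv, hzv', add_zero]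
  have hexp : hh (v + v') (v + v') = hh v v + hh v' v' + hh v v' + hh v' v := by
    rw [herm_add_left, herm_add_right hF, herm_add_right hF]
    ring
  have has : (a + a' + hh v' v) + (a + a' + hh v' v) ^ q = hh (v + v') (v + v') := by
    rw [hexp, add_pow_q hF, add_pow_q hF, c2, ← ha, ← ha']
    ring
  have has' : (a' + a + hh v v') + (a' + a + hh v v') ^ q = hh (v' + v) (v' + v) := by
    rw [add_comm v' v, hexp, add_pow_q hF, add_pow_q hF, c1, ← ha, ← ha']
    ring
  -- x y x⁻¹ y⁻¹ = (x y) (y x)⁻¹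
  have hgrp : eich hF z v a hzz hzv ha * eich hF z v' a' hzz hzv' ha' *
      (eich hF z v a hzz hzv ha)⁻¹ * (eich hF z v' a' hzz hzv' ha')⁻¹ =
      (eich hF z v a hzz hzv ha * eich hF z v' a' hzz hzv' ha') *
        (eich hF z v' a' hzz hzv' ha' * eich hF z v a hzz hzv ha)⁻¹ := by
    group
  rw [hgrp, eich_mul_same hF z v v' a a' hzz hzv ha hzv' ha' hzs has,
    eich_mul_same hF z v' v a' a hzz hzv' ha' hzv ha hzs' has']
  have hzn : hh z (-(v' + v)) = 0 := by rw [herm_neg_right hF, hzs', neg_zero]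
  have hcn : (a' + a + hh v v') ^ q + ((a' + a + hh v v') ^ q) ^ q =
      hh (-(v' + v)) (-(v' + v)) := by
    rw [herm_neg_left, herm_neg_right hF, pow_q_q hF, neg_neg, ← has']
    ring
  rw [eich_inv hF z (v' + v) (a' + a + hh v v') hzz hzs' has' hzn hcn]
  have hsum : v + v' + -(v' + v) = 0 := by abel
  have hzs2 : hh z (v + v' + -(v' + v)) = 0 := by rw [hsum, herm_zero_right hF]
  have hpar : a + a' + hh v' v + (a' + a + hh v v') ^ q + hh (-(v' + v)) (v + v') =
      hh v' v - hh v v' := by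
    rw [herm_neg_left, add_comm v' v, hexp, add_pow_q hF, add_pow_q hF, c1, ← ha, ← ha']
    ring
  have has2 : (a + a' + hh v' v + (a' + a + hh v v') ^ q + hh (-(v' + v)) (v + v')) +
      (a + a' + hh v' v + (a' + a + hh v v') ^ q + hh (-(v' + v)) (v + v')) ^ q =
      hh (v + v' + -(v' + v)) (v + v' + -(v' + v)) := by
    rw [hpar, hsum, herm_zero_left, sub_pow_q hF, c1, c2]
    ring
  rw [eich_mul_same hF z (v + v') (-(v' + v)) (a + a' + hh v' v) ((a' + a + hh v v') ^ q) hzz hzs
    has hzn hcn hzs2 has2]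
  have hκ2 : (-(hh v' v - hh v v')) ^ q = -(-(hh v' v - hh v v')) := by
    rw [neg_sub, neg_sub, sub_pow_q hF, c1, c2]
  have hk0 : (hh v' v - hh v v') + (hh v' v - hh v v') ^ q = hh (0 : Fin n → F) 0 := by
    rw [herm_zero_left, sub_pow_q hF, c1, c2]
    ring
  rw [eich_congr hF rfl hsum hpar hzz hzs2 has2 hzz (herm_zero_right hF z) hk0,
    eich_zero_dir hF z _ hzz (herm_zero_right hF z) hk0 hκ2]
  congr 1
  ring

end eichalg

end Cfsg.Agent.Lib.Helper13
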