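import Mathlib
import Cfsg.Agent.Lib.Helper13.S5659FOA

/-!
# All transvections at a rational singular point from one irrational short root element
-/

set_option autoImplicit false
set_option linter.unusedSectionVars false
set_option linter.unusedVariables false

namespace Cfsg.Agent.Lib.Helper13

open Matrix Module Cfsg.Agent.Lib.Helper6 Cfsg.Agent.S0779 Cfsg.Agent.S0781
open Cfsg.Agent.Lib.Helper6.SUG

section fob
variable {F : Type*} [Field F] [Fintype F] {q n : ℕ}

local notation "hh" => Cfsg.hermForm n F q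

theorem tv_congr (hF : Fintype.card F = q ^ 2) (z : Fin n → F) {c c' : F} (hcc : c = c')
    (hzz : hh z z = 0) (hc : c ^ q = -c) (hc' : c' ^ q = -c') :
    SUG.tv hF z c hzz hc = SUG.tv hF z c' hzz hc' := by
  subst hcc
  rfl

variable {K : Subfield F} {θ : F} {P : GL (Fin n) F}

theorem suX_of_eich (h : OSub q K θ P) {M : Subgroup (GL (Fin n) F)}
    (hHM : Cfsg.Geo.subfieldSubgroup K P ⊓ (Cfsg.GU n F q ⊓ Cfsg.Geo.specialLinear (Fin n) F) ≤ M)
    (z : Fin n → K) (hz : oB h z z = 0) (w : Fin n → F)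
    (hzw : hh (iot K P z) w = 0) (hww : (0 : F) + 0 ^ q = hh w w)
    (hE : suGL n F q (eich h.hF (iot K P z) w 0 ((h.iso_iot_iff z).mpr hz) hzw hww) ∈ M)
    (c : Fin n → K) (hzc : oB h z c = 0)
    (hμ : (hh w (iot K P c)) ^ q ≠ hh w (iot K P c)) :
    SuX q M (iot K P z) := by
  have hzz : hh (iot K P z) (iot K P z) = 0 := (h.iso_iot_iff z).mpr hz
  apply SuX.of_tv h.hF hzz
  intro c' hc'
  have hμtr : (hh w (iot K P c) - (hh w (iot K P c)) ^ q) ^ q =
      -(hh w (iot K P c) - (hh w (iot K P c)) ^ q) := by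
    rw [sub_pow_q h.hF, pow_q_q h.hF]
    ring
  obtain ⟨k0, hk0⟩ := h.exists_param _ hμtr
  have hk0ne : k0 ≠ 0 := by
    intro h0
    rw [h0] at hk0
    apply hμ
    have h1 : hh w (iot K P c) - (hh w (iot K P c)) ^ q = 0 := by
      rw [hk0]
      simp
    exact (sub_eq_zero.mp h1).symm
  have hk0ne' : (k0 : F) ≠ 0 := by
    intro h0
    apply hk0ne
    exact_mod_cast h0
  obtain ⟨k', hk'⟩ := h.exists_param c' hc'
  have hzkc : oB h z ((k' / k0) • c) = 0 := by rw [h.symF.smul_right, hzc, mul_zero]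
  have hzkc' : hh (iot K P z) (iot K P ((k' / k0) • c)) = 0 := by
    rw [← oB_coe h, hzkc]; rfl
  have ht : ((oB h ((k' / k0) • c) ((k' / k0) • c) : F) / 2) +
      ((oB h ((k' / k0) • c) ((k' / k0) • c) : F) / 2) ^ q =
      hh (iot K P ((k' / k0) • c)) (iot K P ((k' / k0) • c)) := by
    rw [h.half_add, oB_coe]
  have hκval : hh w (iot K P ((k' / k0) • c)) - hh (iot K P ((k' / k0) • c)) w = c' := by
    rw [iot_smul, herm_smul_right, herm_smul_left, h.sd.fixK, ← herm_conj h.hF w (iot K P c), hk']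
    have e1 : ((k' / k0 : K) : F) = (k' : F) / (k0 : F) := by push_cast; rfl
    rw [e1]
    have e2 : (k' : F) / (k0 : F) * hh w (iot K P c) -
        (k' : F) / (k0 : F) * (hh w (iot K P c)) ^ q =
        (k' : F) / (k0 : F) * (hh w (iot K P c) - (hh w (iot K P c)) ^ q) := by ring
    rw [e2, hk0]
    field_simp
  have hκ : (hh w (iot K P ((k' / k0) • c)) - hh (iot K P ((k' / k0) • c)) w) ^ q =
      -(hh w (iot K P ((k' / k0) • c)) - hh (iot K P ((k' / k0) • c)) w) := by
    rw [hκval]; exact hc'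
  have hcomm := eich_comm_same h.hF (iot K P z) w (iot K P ((k' / k0) • c)) 0
    ((oB h ((k' / k0) • c) ((k' / k0) • c) : F) / 2) hzz hzw hww hzkc' ht hκ
  have hE₂ : suGL n F q (eich h.hF (iot K P z) (iot K P ((k' / k0) • c))
      ((oB h ((k' / k0) • c) ((k' / k0) • c) : F) / 2) hzz hzkc' ht) ∈ M :=
    oEich_mem_of_le h hHM z ((k' / k0) • c) hz hzkc
  rw [← tv_congr h.hF (iot K P z) hκval hzz hκ hc', ← hcomm, map_mul, map_mul, map_mul, map_inv,
    map_inv]
  exact M.mul_mem (M.mul_mem (M.mul_mem hE hE₂) (M.inv_mem hE)) (M.inv_mem hE₂)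

end fob

end Cfsg.Agent.Lib.Helper13
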