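import Mathlib
import Cfsg.Agent.Lib.Helper13.OSubDefs

/-!
# Dual vectors of an independent pair for a nondegenerate symmetric form
-/

set_option autoImplicit false

namespace Cfsg.Agent.Lib.Helper13

section foc
variable {K : Type*} [Field K] {n : ℕ} {f : (Fin n → K) → (Fin n → K) → K}

theorem SymF.exists_perp_ne (hf : SymF f) {a b : Fin n → K} (hb : ∀ k : K, b ≠ k • a) :
    ∃ x, f a x = 0 ∧ f b x ≠ 0 := by
  have hb0 : b ≠ 0 := by
    have := hb 0
    rwa [zero_smul] at this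
  obtain ⟨y, hy⟩ := hf.nd b hb0
  by_cases h1 : f a y = 0
  · exact ⟨y, h1, hy⟩
  · have hne : b - (f b y / f a y) • a ≠ 0 := fun h0 => hb _ (sub_eq_zero.mp h0)
    obtain ⟨x₂, hx₂⟩ := hf.nd _ hne
    refine ⟨x₂ - (f a x₂ / f a y) • y, ?_, ?_⟩
    · rw [hf.sub_right, hf.smul_right, div_mul_cancel₀ _ h1, sub_self]
    · intro h0
      apply hx₂
      rw [hf.sub_left, hf.smul_left]
      rw [hf.sub_right, hf.smul_right] at h0
      field_simp at h0 ⊢
      linear_combination h0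

theorem SymF.exists_duals (hf : SymF f) {a b : Fin n → K} (ha : a ≠ 0)
    (hb : ∀ k : K, b ≠ k • a) :
    ∃ a' b' : Fin n → K, f a a' = 1 ∧ f b a' = 0 ∧ f a b' = 0 ∧ f b b' = 1 := by
  have ha' : ∀ k : K, a ≠ k • b := by
    intro k hk
    have hk0 : k ≠ 0 := by
      intro h0
      rw [h0, zero_smul] at hk
      exact ha hk
    apply hb k⁻¹
    rw [hk, smul_smul, inv_mul_cancel₀ hk0, one_smul]
  obtain ⟨x, hx1, hx2⟩ := hf.exists_perp_ne ha'
  obtain ⟨y, hy1, hy2⟩ := hf.exists_perp_ne hb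
  refine ⟨(f a x)⁻¹ • x, (f b y)⁻¹ • y, ?_, ?_, ?_, ?_⟩
  · rw [hf.smul_right, inv_mul_cancel₀ hx2]
  · rw [hf.smul_right, hx1, mul_zero]
  · rw [hf.smul_right, hy1, mul_zero]
  · rw [hf.smul_right, inv_mul_cancel₀ hy2]

end foc

end Cfsg.Agent.Lib.Helper13
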