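import Mathlib
import Cfsg.Agent.Lib.Helper13.OSubDefs

/-!
# The orthogonal subfield group is a proper subgroup of `SU_n(q)`
-/

set_option autoImplicit false
set_option linter.unusedSectionVars false

namespace Cfsg.Agent.Lib.Helper13

open Matrix Module Cfsg.Agent.Lib.Helper6 Cfsg.Agent.S0779 Cfsg.Agent.S0781
open Cfsg.Agent.Lib.Helper6.SUG

section fos
variable {F : Type*} [Field F] [Fintype F] {q n : ℕ}

local notation "hh" => Cfsg.hermForm n F q

variable {K : Subfield F} {θ : F} {P : GL (Fin n) F}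

theorem OSub.exists_not_mem (h : OSub q K θ P) (hn : 13 ≤ n) :
    ∃ g : ↥(Cfsg.SU n F q), suGL n F q g ∉ Cfsg.Geo.subfieldSubgroup K P := by
  have hB := h.symF
  obtain ⟨z, hz0, hz, -⟩ := hB.exists_singular_perp []
    (by simp only [List.length_nil]; omega)
  obtain ⟨y₀, hy₀⟩ := hB.nd z hz0
  obtain ⟨y, hy⟩ : ∃ y : Fin n → K, y = (oB h z y₀)⁻¹ • y₀ := ⟨_, rfl⟩
  have hyz : oB h y z = 1 := by
    rw [hy, hB.smul_left, hB.symm y₀ z, inv_mul_cancel₀ hy₀]
  refine ⟨oTv h z hz 1, ?_⟩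
  intro hmem
  obtain ⟨l, B, hBm⟩ := exists_eq_of_mem_subfieldSubgroup K P _ hmem
  have e1 : av (oTv h z hz 1) (iot K P y) = subE K θ P y z := by
    have h1 := oTv_subE h z hz 1 y 0
    rw [subE_zero_right, hB.zero_left, hyz] at h1
    rw [h1]
    simp
  have e4 : av (oTv h z hz 1) (iot K P y) = l • iot K P (B *ᵥ y) := by
    rw [← suGL_mulVec]
    have h5 : (suGL n F q (oTv h z hz 1) : GL (Fin n) F) =
        P * (P⁻¹ * suGL n F q (oTv h z hz 1) * P) * P⁻¹ := by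
      group
    rw [h5, Units.val_mul, Units.val_mul, hBm]
    unfold iot
    rw [← mulVec_mulVec, ← mulVec_mulVec, mulVec_mulVec (rvec K y), ← Units.val_mul,
      inv_mul_cancel, Units.val_one, one_mulVec, smul_mulVec, rmat_mulVec, mulVec_smul]
  obtain ⟨l₁, l₂, hl⟩ := h.sd.dec l
  have e5 : l • iot K P (B *ᵥ y) = subE K θ P (l₁ • (B *ᵥ y)) (l₂ • (B *ᵥ y)) := by
    unfold subE
    rw [iot_smul, iot_smul, hl, smul_smul, add_smul, mul_smul]
  rw [e1, e5] at e4
  obtain ⟨h6, h7⟩ := subE_inj h.sd P e4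
  have h8 : oB h y z = l₁ * l₂ * oB h (B *ᵥ y) (B *ᵥ y) := by
    conv_lhs => rw [h6, h7]
    rw [hB.smul_left, hB.smul_right]
    ring
  have h9 : oB h z z = l₂ * l₂ * oB h (B *ᵥ y) (B *ᵥ y) := by
    conv_lhs => rw [h7]
    rw [hB.smul_left, hB.smul_right]
    ring
  rw [hyz] at h8
  rw [hz] at h9
  have h10 : l₂ ≠ 0 := by
    intro h0
    rw [h0] at h8
    simp at h8
  have h11 : oB h (B *ᵥ y) (B *ᵥ y) ≠ 0 := by
    intro h0
    rw [h0] at h8
    simp at h8
  exact mul_ne_zero (mul_ne_zero h10 h10) h11 h9.symm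

end fos

end Cfsg.Agent.Lib.Helper13
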