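import Mathlib
import Cfsg.Agent.Lib.Helper13.S5659FOA
import Cfsg.Agent.Lib.Helper13.S5659FOB
import Cfsg.Agent.Lib.Helper13.S5659FOC
import Cfsg.Agent.Lib.Helper13.S5659FOS
import Cfsg.Agent.Lib.Helper10.PureSingular
import Cfsg.Agent.Lib.Helper10.S5659FOD
import Cfsg.Agent.Lib.Helper10.S5659FOE
import Cfsg.Agent.Lib.Helper2.S5659FOG

/-!
# The orthogonal subfield subgroup is maximal in `SU_n(q)`, `q` odd

`F` has `q^2` elements, `K` is the subfield with `q` elements, `θ^q = -θ`, and the Hermitian form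
restricts to a symmetric form `oB` on the rational structure `V₀`; `V = V₀ ⊕ θ V₀`.  The subfield
group `H` contains the rational Eichler elements.  If `H < M` and `g ∈ M ∖ H`, some rational
singular `u` has an impure image `w = g u`; for a rational singular `z ⟂ w` the commutator of the
conjugated Eichler element `E(w, g y₀)` with a rational `E(z, c)` is a short root element
`E(z, -λ w)` with irrational direction, and its commutator with a further rational `E(z, c')` is a
transvection with centre `z` and arbitrary trace-zero parameter.  The rational Eichler elements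
spread this to all rational singular vectors, and two transvection moves reach every isotropic
vector, so `M` contains all transvections of `SU_n(q)`.
-/

set_option autoImplicit false
set_option linter.unusedSectionVars false
set_option linter.unusedVariables false

namespace Cfsg.Agent.Lib.Helper13

open Matrix Module Cfsg.Agent.Lib.Helper6 Cfsg.Agent.S0779 Cfsg.Agent.S0781
open Cfsg.Agent.Lib.Helper6.SUG

section osubmain
variable {F : Type*} [Field F] [Fintype F] {q n : ℕ}

local notation "hh" => Cfsg.hermForm n F q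

variable {K : Subfield F} {θ : F} {P : GL (Fin n) F}

/-- an element outside the subfield group maps a rational singular vector to one with
independent components -/
theorem OSub.exists_singular_nonpure (h : OSub q K θ P) (hn : 13 ≤ n) (g : GL (Fin n) F)
    (hg : g ∉ Cfsg.Geo.subfieldSubgroup K P) :
    ∃ u a b : Fin n → K, oB h u u = 0 ∧
      (g : Matrix (Fin n) (Fin n) F) *ᵥ iot K P u = subE K θ P a b ∧
      a ≠ 0 ∧ ∀ k : K, b ≠ k • a := by
  by_contra hne
  push Not at hne
  apply hg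
  have hA : ∀ u : Fin n → K, h.symF.toBilin u u = 0 → ∃ (l : F) (r : Fin n → K),
      ((P⁻¹ * g * P : GL (Fin n) F) : Matrix (Fin n) (Fin n) F) *ᵥ rvec K u = l • rvec K r := by
    intro u hu
    obtain ⟨a, b, hab⟩ := exists_subE h.sd P ((g : Matrix (Fin n) (Fin n) F) *ᵥ iot K P u)
    have e : ((P⁻¹ * g * P : GL (Fin n) F) : Matrix (Fin n) (Fin n) F) *ᵥ rvec K u =
        rvec K a + θ • rvec K b := by
      rw [Units.val_mul, Units.val_mul, ← mulVec_mulVec, ← mulVec_mulVec]
      change (P⁻¹ : GL (Fin n) F).val *ᵥ ((g : Matrix (Fin n) (Fin n) F) *ᵥ iot K P u) = _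
      rw [hab, subE_eq, mulVec_mulVec, ← Units.val_mul, inv_mul_cancel, Units.val_one, one_mulVec]
    by_cases ha : a = 0
    · refine ⟨θ, b, ?_⟩
      rw [e, ha, rvec_zero, zero_add]
    · obtain ⟨k, hk⟩ := hne u a b hu hab ha
      refine ⟨1 + θ * (k : F), a, ?_⟩
      rw [e, hk, rvec_smul, smul_smul, add_smul, one_smul]
  obtain ⟨l, B, hl, hB⟩ := Cfsg.Agent.Lib.Helper10.PureSingular.exists_rational_of_pure_singular
    (by omega) K h.symF.toBilin (h.symF.isS h.two') (P⁻¹ * g * P) hA
  exact mem_subfieldSubgroup_of_eq K P g l hl B hB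

/-- Lemma D: an impure image of a rational singular vector gives all transvections at some
rational singular point -/
theorem OSub.exists_suX (h : OSub q K θ P) (hn : 13 ≤ n) {M : Subgroup (GL (Fin n) F)}
    (hHM : Cfsg.Geo.subfieldSubgroup K P ⊓ (Cfsg.GU n F q ⊓ Cfsg.Geo.specialLinear (Fin n) F) ≤ M)
    (g : ↥(Cfsg.SU n F q)) (hgM : suGL n F q g ∈ M) (u a b : Fin n → K) (hu : oB h u u = 0)
    (hgu : av g (iot K P u) = subE K θ P a b) (ha : a ≠ 0) (hb : ∀ k : K, b ≠ k • a) :
    ∃ z : Fin n → K, z ≠ 0 ∧ oB h z z = 0 ∧ SuX q M (iot K P z) := by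
  have hB := h.symF
  obtain ⟨a', b', haa', hba', hab', hbb'⟩ := hB.exists_duals ha hb
  obtain ⟨z, hz0, hz, hzL⟩ := hB.exists_singular_perp [a, b, a', b'] (by simp only [List.length_cons, List.length_nil]; omega)
  have hza : oB h a z = 0 := hzL a (by simp)
  have hzb : oB h b z = 0 := hzL b (by simp)
  have hza' : oB h z a' = 0 := by rw [hB.symm]; exact hzL a' (by simp)
  have hzb' : oB h z b' = 0 := by rw [hB.symm]; exact hzL b' (by simp)
  obtain ⟨a₂, b₂, hab₂⟩ := exists_subE h.sd P (av g⁻¹ (iot K P z))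
  obtain ⟨c, y₀, hzc, hac, hbc, huy, ha₂y, hb₂y, hl⟩ :=
    Cfsg.Agent.Lib.Helper10.S5659FOE.exists_lambda h hn g u z a b a₂ b₂
  -- the Hermitian data
  have huu' : hh (iot K P u) (iot K P u) = 0 := (h.iso_iot_iff u).mpr hu
  have hww : hh (av g (iot K P u)) (av g (iot K P u)) = 0 := by rw [herm_av]; exact huu'
  have hwy : hh (av g (iot K P u)) (av g (iot K P y₀)) = 0 := by
    rw [herm_av, ← oB_coe h, huy]; rfl
  have hs : ((oB h y₀ y₀ : F) / 2) + ((oB h y₀ y₀ : F) / 2) ^ q =
      hh (av g (iot K P y₀)) (av g (iot K P y₀)) := by rw [herm_av, h.half_add, oB_coe]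
  have hzz : hh (iot K P z) (iot K P z) = 0 := (h.iso_iot_iff z).mpr hz
  have hzc' : hh (iot K P z) (iot K P c) = 0 := by rw [← oB_coe h, hzc]; rfl
  have ht : ((oB h c c : F) / 2) + ((oB h c c : F) / 2) ^ q = hh (iot K P c) (iot K P c) := by
    rw [h.half_add, oB_coe]
  have hwz : hh (av g (iot K P u)) (iot K P z) = 0 := by
    rw [hgu, h.herm_subE_iot, hza, hzb]; simp
  have hyz : hh (av g (iot K P y₀)) (iot K P z) = 0 := by
    have e1 : hh (av g (iot K P y₀)) (iot K P z) =
        hh (iot K P y₀) (av g⁻¹ (iot K P z)) := by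
      rw [← herm_av g (iot K P y₀) (av g⁻¹ (iot K P z)), ← av_mul, mul_inv_cancel, av_one]
    rw [e1, hab₂, h.herm_iot_subE, hB.symm y₀ a₂, ha₂y, hB.symm y₀ b₂, hb₂y]; simp
  have hcw : hh (iot K P c) (av g (iot K P u)) = 0 := by
    rw [hgu, h.herm_iot_subE, hB.symm c a, hac, hB.symm c b, hbc]; simp
  -- the two Eichler elements
  have hE₂M : suGL n F q (oEich h z c hz hzc) ∈ M := oEich_mem_of_le h hHM z c hz hzc
  have hE₁M : suGL n F q (g * oEich h u y₀ hu huy * g⁻¹) ∈ M := by
    rw [map_mul, map_mul, map_inv]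
    exact M.mul_mem (M.mul_mem hgM (oEich_mem_of_le h hHM u y₀ hu huy)) (M.inv_mem hgM)
  have hE₁ : g * oEich h u y₀ hu huy * g⁻¹ =
      eich h.hF (av g (iot K P u)) (av g (iot K P y₀)) ((oB h y₀ y₀ : F) / 2) hww hwy hs := by
    unfold oEich
    exact eich_conj h.hF g _ _ _ _ _ _ hww hwy hs
  rw [hE₁] at hE₁M
  have hE₂ : oEich h z c hz hzc =
      eich h.hF (iot K P z) (iot K P c) ((oB h c c : F) / 2) hzz hzc' ht := rfl
  rw [hE₂] at hE₂M
  -- the commutator
  have hq0 : (0 : F) ^ q = 0 := zero_pow (q_pos h.hF).ne'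
  have hzw' : hh (iot K P z)
      ((-(hh (iot K P c) (av g (iot K P y₀)))) • av g (iot K P u)) = 0 := by
    rw [herm_smul_right, herm_swap_zero h.hF hwz, mul_zero]
  have h0 : (0 : F) + 0 ^ q = hh ((-(hh (iot K P c) (av g (iot K P y₀)))) • av g (iot K P u))
      ((-(hh (iot K P c) (av g (iot K P y₀)))) • av g (iot K P u)) := by
    rw [herm_smul_left, herm_smul_right, hww, hq0]; ring
  have hcomm := eich_comm h.hF (av g (iot K P u)) (av g (iot K P y₀)) (iot K P z)
    (iot K P c) ((oB h y₀ y₀ : F) / 2) ((oB h c c : F) / 2) hww hwy hs hzz hzc' ht hwz hyz hcw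
    hzw' h0
  have hEM : suGL n F q (eich h.hF (iot K P z)
      ((-(hh (iot K P c) (av g (iot K P y₀)))) • av g (iot K P u)) 0 hzz hzw' h0) ∈ M := by
    rw [← hcomm, map_mul, map_mul, map_mul, map_inv, map_inv]
    exact M.mul_mem (M.mul_mem (M.mul_mem hE₁M hE₂M) (M.inv_mem hE₁M)) (M.inv_mem hE₂M)
  -- the irrational pairing
  have hθ0 := h.θ0
  have h2 := h.two
  have e_a' : hh ((-(hh (iot K P c) (av g (iot K P y₀)))) • av g (iot K P u)) (iot K P a') =
      -(hh (iot K P c) (av g (iot K P y₀))) := by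
    rw [herm_smul_left, hgu, h.herm_subE_iot, haa', hba']; simp
  have e_b' : hh ((-(hh (iot K P c) (av g (iot K P y₀)))) • av g (iot K P u)) (iot K P b') =
      -(hh (iot K P c) (av g (iot K P y₀))) * θ := by
    rw [herm_smul_left, hgu, h.herm_subE_iot, hab', hbb']; simp
  refine ⟨z, hz0, hz, ?_⟩
  by_cases hlq : (-(hh (iot K P c) (av g (iot K P y₀)))) ^ q =
      -(hh (iot K P c) (av g (iot K P y₀)))
  · refine suX_of_eich h hHM z hz _ hzw' h0 hEM b' hzb' ?_
    rw [e_b', mul_pow, hlq, h.θq]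
    intro h1
    have h3 : (2 : F) * (hh (iot K P c) (av g (iot K P y₀))) * θ = 0 := by
      linear_combination h1
    rcases mul_eq_zero.mp h3 with h4 | h4
    · rcases mul_eq_zero.mp h4 with h5 | h5
      · exact h2 h5
      · exact hl h5
    · exact hθ0 h4
  · refine suX_of_eich h hHM z hz _ hzw' h0 hEM a' hza' ?_
    rw [e_a']
    exact hlq

/-- **The orthogonal subfield subgroup is maximal in `SU_n(q)`, `q` odd.** -/
theorem orth_subfield_maximal (h : OSub q K θ P) (hn : 13 ≤ n) :
    Cfsg.Geo.IsMaximalIn (Cfsg.GU n F q ⊓ Cfsg.Geo.specialLinear (Fin n) F)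
      (Cfsg.Geo.subfieldSubgroup K P ⊓
        (Cfsg.GU n F q ⊓ Cfsg.Geo.specialLinear (Fin n) F)) := by
  refine ⟨lt_of_le_of_ne inf_le_right ?_, ?_⟩
  · intro heq
    obtain ⟨g, hg⟩ := h.exists_not_mem hn
    apply hg
    have h1 : suGL n F q g ∈ Cfsg.Geo.subfieldSubgroup K P ⊓
        (Cfsg.GU n F q ⊓ Cfsg.Geo.specialLinear (Fin n) F) := by
      rw [heq]
      exact suGL_mem g
    exact h1.1
  · intro M hHM hMS
    by_cases hMH : M ≤ Cfsg.Geo.subfieldSubgroup K P ⊓
        (Cfsg.GU n F q ⊓ Cfsg.Geo.specialLinear (Fin n) F)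
    · exact Or.inl (le_antisymm hMH hHM)
    right
    have h32 : ¬ (n = 3 ∧ q = 2) := by omega
    refine le_antisymm hMS (suGL_le_of_forall h.hF (by omega) h32 M ?_)
    obtain ⟨g, hgM, hgH⟩ := SetLike.not_le_iff_exists.mp hMH
    have hgS := hMS hgM
    have hgK : g ∉ Cfsg.Geo.subfieldSubgroup K P := fun hk => hgH ⟨hk, hgS⟩
    obtain ⟨u, a, b, hu, hgu, ha, hb⟩ := h.exists_singular_nonpure hn g hgK
    obtain ⟨g', hg'⟩ := exists_suGL_eq g hgS
    have hgu' : av g' (iot K P u) = subE K θ P a b := by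
      rw [← suGL_mulVec, hg']
      exact hgu
    obtain ⟨z, hz0, hz, hX⟩ :=
      h.exists_suX hn hHM g' (by rw [hg']; exact hgM) u a b hu hgu' ha hb
    have hrat := Cfsg.Agent.Lib.Helper10.S5659FOD.suX_rational_of_one h hn hHM z hz0 hz hX
    exact Cfsg.Agent.Lib.Helper2.S5659G.suX_all_of_rational h hn hrat

end osubmain

end Cfsg.Agent.Lib.Helper13
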