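import Mathlib
import Cfsg.Agent.Lib.Helper13.TensSODefs
import Cfsg.Agent.Lib.Helper13.S5666T4
import Cfsg.Agent.Lib.Helper13.S5666FOAPI

/-!
# S5666 farm-out piece T4-CL (helper13): the closure lemma for the set of transvection centres
-/

set_option autoImplicit false
set_option linter.unusedSectionVars false
set_option linter.unusedVariables false

namespace Cfsg.Agent.Lib.Helper13.S5666CL

open Matrix Module
open Cfsg.Agent.Lib.Helper16.Tens Cfsg.Agent.Lib.Helper10.TensFund Cfsg.Agent.Lib.Helper13.TensSO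
open Cfsg.Agent.Lib.Helper28.TensU (ctrL ctrL_apply ctrL_pur)
open Cfsg.Agent.Lib.Helper3.SpT (bf SympG bf_add_left bf_add_right bf_smul_left bf_smul_right bf_kron_pur
  pur_induction bf_zero_left bf_zero_right bf_neg_left bf_neg_right bf_sub_left bf_sub_right)
open scoped Kronecker

variable {F : Type*} [Field F] {a b : ℕ}
variable {J1 : Matrix (Fin a) (Fin a) F} {J2 : Matrix (Fin b) (Fin b) F}

local notation "V" => (Fin a × Fin b → F)

/-! ### a vector space is not the union of three proper subspaces (char ≠ 2) -/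

theorem exists_not_mem_two {E : Type*} [AddCommGroup E] [Module F E] (A B : Submodule F E)
    (hA : ∃ x, x ∉ A) (hB : ∃ x, x ∉ B) : ∃ x, x ∉ A ∧ x ∉ B := by
  obtain ⟨x1, h1⟩ := hA
  obtain ⟨x2, h2⟩ := hB
  by_cases h3 : x1 ∈ B
  · by_cases h4 : x2 ∈ A
    · refine ⟨x1 + x2, ?_, ?_⟩
      · intro h
        apply h1
        have := A.sub_mem h h4
        rwa [add_sub_cancel_right] at this
      · intro h
        apply h2
        have := B.sub_mem h h3
        rwa [add_sub_cancel_left] at this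
    · exact ⟨x2, h4, h2⟩
  · exact ⟨x1, h1, h3⟩

theorem mem_of_two {E : Type*} [AddCommGroup E] [Module F E] (h2 : (2 : F) ≠ 0) (S : Submodule F E) (e₁ e₂ : E)
    (h : (e₂ ∈ S ∧ e₂ + e₁ ∈ S) ∨ (e₂ ∈ S ∧ e₂ - e₁ ∈ S) ∨ (e₂ + e₁ ∈ S ∧ e₂ - e₁ ∈ S)) : e₁ ∈ S := by
  rcases h with ⟨h1, h2'⟩ | ⟨h1, h2'⟩ | ⟨h1, h2'⟩
  · have := S.sub_mem h2' h1
    rwa [add_sub_cancel_left] at this
  · have := S.sub_mem h1 h2'
    rwa [sub_sub_cancel] at this
  · have h3 := S.sub_mem h1 h2'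
    have e : e₂ + e₁ - (e₂ - e₁) = (2 : F) • e₁ := by
      rw [two_smul]
      abel
    rw [e] at h3
    have h4 := S.smul_mem (2 : F)⁻¹ h3
    rwa [smul_smul, inv_mul_cancel₀ h2, one_smul] at h4

theorem exists_not_mem_three {E : Type*} [AddCommGroup E] [Module F E] (h2 : (2 : F) ≠ 0) (A B C : Submodule F E)
    (hA : ∃ x, x ∉ A) (hB : ∃ x, x ∉ B) (hC : ∃ x, x ∉ C) : ∃ x, x ∉ A ∧ x ∉ B ∧ x ∉ C := by
  obtain ⟨e₁, h1A, h1B⟩ := exists_not_mem_two A B hA hB
  by_cases h1C : e₁ ∈ C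
  · obtain ⟨e₂, c0⟩ := hC
    have c1 : e₂ + e₁ ∉ C := fun h => c0 (by
      have := C.sub_mem h h1C
      rwa [add_sub_cancel_right] at this)
    have c2 : e₂ - e₁ ∉ C := fun h => c0 (by
      have := C.add_mem h h1C
      rwa [sub_add_cancel] at this)
    by_contra hcon
    push Not at hcon
    have k0 : e₂ ∈ A ∨ e₂ ∈ B := by
      by_contra h
      push Not at h
      exact c0 (hcon _ h.1 h.2)
    have k1 : e₂ + e₁ ∈ A ∨ e₂ + e₁ ∈ B := by
      by_contra h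
      push Not at h
      exact c1 (hcon _ h.1 h.2)
    have k2 : e₂ - e₁ ∈ A ∨ e₂ - e₁ ∈ B := by
      by_contra h
      push Not at h
      exact c2 (hcon _ h.1 h.2)
    rcases k0 with k0 | k0 <;> rcases k1 with k1 | k1 <;> rcases k2 with k2 | k2
    · exact h1A (mem_of_two h2 A e₁ e₂ (Or.inl ⟨k0, k1⟩))
    · exact h1A (mem_of_two h2 A e₁ e₂ (Or.inl ⟨k0, k1⟩))
    · exact h1A (mem_of_two h2 A e₁ e₂ (Or.inr (Or.inl ⟨k0, k2⟩)))
    · exact h1B (mem_of_two h2 B e₁ e₂ (Or.inr (Or.inr ⟨k1, k2⟩)))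
    · exact h1A (mem_of_two h2 A e₁ e₂ (Or.inr (Or.inr ⟨k1, k2⟩)))
    · exact h1B (mem_of_two h2 B e₁ e₂ (Or.inr (Or.inl ⟨k0, k2⟩)))
    · exact h1B (mem_of_two h2 B e₁ e₂ (Or.inl ⟨k0, k1⟩))
    · exact h1B (mem_of_two h2 B e₁ e₂ (Or.inl ⟨k0, k1⟩))
  · exact ⟨e₁, h1A, h1B, h1C⟩

theorem exists_not_mem_ker {E G : Type*} [AddCommGroup E] [Module F E] [AddCommGroup G] [Module F G]
    (L : E →ₗ[F] G) (hL : L ≠ 0) : ∃ x, x ∉ LinearMap.ker L := by
  by_contra hcon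
  push Not at hcon
  apply hL
  ext x
  exact LinearMap.mem_ker.1 (hcon x)

/-- T4-CL (a) -/
theorem exists_three_ne_zero {E G : Type*} [AddCommGroup E] [Module F E] [AddCommGroup G] [Module F G]
    (h2 : (2 : F) ≠ 0) (Lx Ly : E →ₗ[F] G) (hx : Lx ≠ 0) (hy : Ly ≠ 0) (hz : Lx + Ly ≠ 0) :
    ∃ e : E, Lx e ≠ 0 ∧ Ly e ≠ 0 ∧ Lx e + Ly e ≠ 0 := by
  obtain ⟨e, h1, h2', h3⟩ := exists_not_mem_three h2 (LinearMap.ker Lx) (LinearMap.ker Ly) (LinearMap.ker (Lx + Ly))
    (exists_not_mem_ker Lx hx) (exists_not_mem_ker Ly hy) (exists_not_mem_ker _ hz)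
  refine ⟨e, fun h => h1 (LinearMap.mem_ker.2 h), fun h => h2' (LinearMap.mem_ker.2 h), fun h => h3 ?_⟩
  rw [LinearMap.mem_ker, LinearMap.add_apply]
  exact h

/-! ### the pure tensor -/

/-- `u ↦ ctrL (J1 u) v` -/
def Lam (J1 : Matrix (Fin a) (Fin a) F) (v : V) : (Fin a → F) →ₗ[F] (Fin b → F) where
  toFun u := ctrL (J1 *ᵥ u) v
  map_add' u u' := by
    funext j
    simp only [ctrL_apply, Matrix.mulVec_add, Pi.add_apply, mul_add, Finset.sum_add_distrib]
  map_smul' c u := by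
    funext j
    simp only [ctrL_apply, Matrix.mulVec_smul, Pi.smul_apply, smul_eq_mul, RingHom.id_apply, Finset.mul_sum]
    apply Finset.sum_congr rfl
    intro i _
    ring

theorem Lam_apply (v : V) (u : Fin a → F) : Lam J1 v u = ctrL (J1 *ᵥ u) v := rfl

theorem Lam_add (x y : V) : Lam J1 (x + y) = Lam J1 x + Lam J1 y := by
  apply LinearMap.ext
  intro u
  rw [LinearMap.add_apply, Lam_apply, Lam_apply, Lam_apply, map_add]

theorem Lam_ne_zero (hS : SetupSO J1 J2) (v : V) (hv : v ≠ 0) : Lam (b := b) J1 v ≠ 0 := by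
  intro h
  apply hv
  apply S5666API.bf_kron_nondeg hS
  intro y
  refine pur_induction (p := fun y => bf (J1 ⊗ₖ J2) v y = 0) ?_ ?_ ?_ y
  · simp
  · intro y y' hy hy'
    rw [bf_add_right, hy, hy', add_zero]
  · intro u w
    rw [S5666API.bf_kron_pur_right', ← Lam_apply, h, LinearMap.zero_apply, bf_zero_left]

theorem bfL_ne_zero (hJ2 : OrthG J2) (p : Fin b → F) (hp : p ≠ 0) : S5666T4.bfL J2 p ≠ 0 := by
  intro h
  apply hp
  apply hJ2.nondeg
  intro y
  have := LinearMap.congr_fun h y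
  exact this

theorem bfL_add (p q : Fin b → F) : S5666T4.bfL J2 (p + q) = S5666T4.bfL J2 p + S5666T4.bfL J2 q := by
  apply LinearMap.ext
  intro y
  rw [LinearMap.add_apply]
  exact bf_add_left J2 p q y

/-- T4-CL (b) -/
theorem exists_pur_three (hS : SetupSO J1 J2) (x y : V) (hx : x ≠ 0) (hy : y ≠ 0) (hxy : x + y ≠ 0) :
    ∃ (u : Fin a → F) (w : Fin b → F), bf (J1 ⊗ₖ J2) x (pur u w) ≠ 0 ∧ bf (J1 ⊗ₖ J2) y (pur u w) ≠ 0 ∧
      bf (J1 ⊗ₖ J2) (x + y) (pur u w) ≠ 0 := by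
  have hz : Lam (b := b) J1 x + Lam J1 y ≠ 0 := by
    rw [← Lam_add]
    exact Lam_ne_zero hS _ hxy
  obtain ⟨u, h1, h2, h3⟩ := exists_three_ne_zero hS.two (Lam J1 x) (Lam J1 y) (Lam_ne_zero hS x hx)
    (Lam_ne_zero hS y hy) hz
  have hz' : S5666T4.bfL J2 (Lam J1 x u) + S5666T4.bfL J2 (Lam J1 y u) ≠ 0 := by
    rw [← bfL_add]
    exact bfL_ne_zero hS.h2 _ h3
  obtain ⟨w, k1, k2, k3⟩ := exists_three_ne_zero hS.two (S5666T4.bfL J2 (Lam J1 x u)) (S5666T4.bfL J2 (Lam J1 y u))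
    (bfL_ne_zero hS.h2 _ h1) (bfL_ne_zero hS.h2 _ h2) hz'
  refine ⟨u, w, ?_, ?_, ?_⟩
  · rw [S5666API.bf_kron_pur_right']
    exact k1
  · rw [S5666API.bf_kron_pur_right']
    exact k2
  · rw [bf_add_left, S5666API.bf_kron_pur_right', S5666API.bf_kron_pur_right']
    exact k3

/-- T4-CL (c): the CLOSURE LEMMA -/
theorem closure_univ (hS : SetupSO J1 J2) (X : Set V) (h0 : (0 : V) ∈ X)
    (hrule : ∀ x ∈ X, ∀ y ∈ X, bf (J1 ⊗ₖ J2) x y ≠ 0 → ∀ l : F, x + l • y ∈ X)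
    (hpur : ∀ (u : Fin a → F) (w : Fin b → F), pur u w ∈ X) : ∀ v : V, v ∈ X := by
  have hadd : ∀ x y : V, x ∈ X → y ∈ X → x + y ∈ X := by
    intro x y hx hy
    by_cases hx0 : x = 0
    · rw [hx0, zero_add]
      exact hy
    by_cases hy0 : y = 0
    · rw [hy0, add_zero]
      exact hx
    by_cases hxy0 : x + y = 0
    · rw [hxy0]
      exact h0
    by_cases hf : bf (J1 ⊗ₖ J2) x y = 0
    · obtain ⟨u, w, k1, k2, k3⟩ := exists_pur_three hS x y hx0 hy0 hxy0
      have hc : pur u w ∈ X := hpur u w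
      have s1 : x + pur u w ∈ X := by
        have := hrule x hx (pur u w) hc k1 1
        rwa [one_smul] at this
      have s2 : x + pur u w + y ∈ X := by
        have hne : bf (J1 ⊗ₖ J2) (x + pur u w) y ≠ 0 := by
          rw [bf_add_left, hf, zero_add, S5666T4.bf_kron_skew hS]
          exact neg_ne_zero.mpr k2
        have := hrule _ s1 y hy hne 1
        rwa [one_smul] at this
      have s3 : x + pur u w + y + (-1 : F) • pur u w ∈ X := by
        have hne : bf (J1 ⊗ₖ J2) (x + pur u w + y) (pur u w) ≠ 0 := by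
          rw [bf_add_left, bf_add_left, S5666T4.bf_kron_alt hS, add_zero, ← bf_add_left]
          exact k3
        exact hrule _ s2 (pur u w) hc hne (-1)
      have e : x + pur u w + y + (-1 : F) • pur u w = x + y := by
        rw [neg_one_smul]
        abel
      rwa [e] at s3
    · have := hrule x hx y hy hf 1
      rwa [one_smul] at this
  intro v
  refine pur_induction (p := fun v => v ∈ X) h0 ?_ hpur v
  intro x y hx hy
  exact hadd x y hx hy

end Cfsg.Agent.Lib.Helper13.S5666CL
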