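import Mathlib
import Cfsg.Agent.Lib.Helper13.TensSODefs
import Cfsg.Agent.Lib.Helper13.S5666T4

/-!
# S5666 farm-out piece T4-W (helper13): the orthogonal side of the transvection argument
-/

set_option autoImplicit false
set_option linter.unusedSectionVars false
set_option linter.unusedVariables false

namespace Cfsg.Agent.Lib.Helper13.S5666W

open Matrix Module
open Cfsg.Agent.Lib.Helper13.TensSO
open Cfsg.Agent.Lib.Helper3.SpT (bf E E_mulVec bf_add_left bf_add_right bf_smul_left bf_smul_right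
  bf_zero_left bf_zero_right bf_neg_left bf_neg_right bf_sub_left bf_sub_right mat_ext_mulVec)

variable {F : Type*} [Field F] {b : ℕ}
variable {J2 : Matrix (Fin b) (Fin b) F}

/-! ### reflections -/

/-- the matrix of the reflection in `c^⊥` -/
noncomputable def reflM (J : Matrix (Fin b) (Fin b) F) (c : Fin b → F) : Matrix (Fin b) (Fin b) F :=
  1 - (2 / bf J c c) • E J c c

theorem reflM_mulVec (J : Matrix (Fin b) (Fin b) F) (c v : Fin b → F) :
    reflM J c *ᵥ v = v - (2 * bf J v c / bf J c c) • c := by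
  unfold reflM
  rw [Matrix.sub_mulVec, Matrix.one_mulVec, Matrix.smul_mulVec, E_mulVec, smul_smul]
  congr 2
  ring

theorem reflM_mul (J : Matrix (Fin b) (Fin b) F) (c : Fin b → F) (hc : bf J c c ≠ 0) :
    reflM J c * reflM J c = 1 := by
  apply mat_ext_mulVec
  intro v
  rw [← Matrix.mulVec_mulVec, Matrix.one_mulVec, reflM_mulVec, reflM_mulVec, bf_sub_left, bf_smul_left]
  have e : 2 * (bf J v c - 2 * bf J v c / bf J c c * bf J c c) / bf J c c = -(2 * bf J v c / bf J c c) := by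
    field_simp
    ring
  rw [e, neg_smul]
  abel

/-- the reflection in `c^⊥` -/
noncomputable def reflGL (J : Matrix (Fin b) (Fin b) F) (c : Fin b → F) (hc : bf J c c ≠ 0) : GL (Fin b) F :=
  ⟨reflM J c, reflM J c, reflM_mul J c hc, reflM_mul J c hc⟩

theorem reflGL_val (J : Matrix (Fin b) (Fin b) F) (c : Fin b → F) (hc : bf J c c ≠ 0) :
    ((reflGL J c hc : GL (Fin b) F) : Matrix (Fin b) (Fin b) F) = reflM J c := rfl

theorem reflGL_mem (hJ : OrthG J2) (c : Fin b → F) (hc : bf J2 c c ≠ 0) : reflGL J2 c hc ∈ IsoG J2 := by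
  intro x y
  rw [reflGL_val, reflM_mulVec, reflM_mulVec, bf_sub_left, bf_sub_right, bf_sub_right, bf_smul_left, bf_smul_right,
    bf_smul_right, bf_smul_left, hJ.symm c y]
  field_simp
  ring

/-! ### the lemmas -/

section
variable (hJ2 : OrthG J2) (h2 : (2 : F) ≠ 0) (S : Set (Fin b → F))
  (hsmul : ∀ w ∈ S, ∀ l : F, l • w ∈ S)
  (hiso : ∀ β : GL (Fin b) F, β ∈ IsoG J2 → ∀ w ∈ S, (β : Matrix (Fin b) (Fin b) F) *ᵥ w ∈ S)

include hJ2 h2 hiso in
/-- Lemma A: from a singular vector of `S` to a non-orthogonal singular vector -/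
theorem sing_of_sing (k k' : Fin b → F) (hk : k ∈ S) (hks : bf J2 k k = 0) (hk's : bf J2 k' k' = 0)
    (hβ : bf J2 k k' ≠ 0) : k' ∈ S := by
  have hc : bf J2 (k - k') (k - k') ≠ 0 := by
    rw [bf_sub_left, bf_sub_right, bf_sub_right, hks, hk's, hJ2.symm k' k]
    intro h
    apply hβ
    have h3 : (2 : F) * bf J2 k k' = 0 := by linear_combination -h
    rcases mul_eq_zero.1 h3 with h4 | h4
    · exact absurd h4 h2
    · exact h4
  have h := hiso (reflGL J2 (k - k') hc) (reflGL_mem hJ2 _ hc) k hk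
  rw [reflGL_val, reflM_mulVec] at h
  have e : 2 * bf J2 k (k - k') / bf J2 (k - k') (k - k') = 1 := by
    rw [div_eq_one_iff_eq hc, bf_sub_left, bf_sub_right, bf_sub_right, hks, hk's, hJ2.symm k' k]
    ring
  rw [e, one_smul, sub_sub_cancel] at h
  exact h

include hJ2 h2 hiso hsmul in
/-- Lemma B: `S` contains, with a non-singular vector, all vectors of the same norm -/
theorem nonsing_of_nonsing (v v' : Fin b → F) (hv : v ∈ S) (hν : bf J2 v v ≠ 0) (hνν : bf J2 v' v' = bf J2 v v) :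
    v' ∈ S := by
  by_cases hc : bf J2 (v - v') (v - v') = 0
  · -- use `v + v'`
    have hc' : bf J2 (v + v') (v + v') ≠ 0 := by
      rw [bf_sub_left, bf_sub_right, bf_sub_right, hνν, hJ2.symm v' v] at hc
      rw [bf_add_left, bf_add_right, bf_add_right, hνν, hJ2.symm v' v]
      intro h
      apply hν
      have h3 : (2 : F) * (2 * bf J2 v v) = 0 := by linear_combination h + hc
      rcases mul_eq_zero.1 h3 with h4 | h4
      · exact absurd h4 h2
      · rcases mul_eq_zero.1 h4 with h5 | h5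
        · exact absurd h5 h2
        · exact h5
    have h := hiso (reflGL J2 (v + v') hc') (reflGL_mem hJ2 _ hc') v hv
    rw [reflGL_val, reflM_mulVec] at h
    have e : 2 * bf J2 v (v + v') / bf J2 (v + v') (v + v') = 1 := by
      rw [div_eq_one_iff_eq hc', bf_add_left, bf_add_right, bf_add_right, hνν, hJ2.symm v' v]
      ring
    rw [e, one_smul, sub_add_cancel_left] at h
    have h' := hsmul _ h (-1)
    rwa [neg_one_smul, neg_neg] at h'
  · have h := hiso (reflGL J2 (v - v') hc) (reflGL_mem hJ2 _ hc) v hv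
    rw [reflGL_val, reflM_mulVec] at h
    have e : 2 * bf J2 v (v - v') / bf J2 (v - v') (v - v') = 1 := by
      rw [div_eq_one_iff_eq hc, bf_sub_left, bf_sub_right, bf_sub_right, hνν, hJ2.symm v' v]
      ring
    rw [e, one_smul, sub_sub_cancel] at h
    exact h

include hJ2 h2 in
/-- Lemma C: a singular vector non-orthogonal to the singular vector `k` and to `k2 ∈ k^⊥` -/
theorem exists_sing_partner (k k2 : Fin b → F) (hk : k ≠ 0) (hk2 : k2 ≠ 0) (hks : bf J2 k k = 0)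
    (h12 : bf J2 k k2 = 0) : ∃ k'' : Fin b → F, bf J2 k'' k'' = 0 ∧ bf J2 k k'' ≠ 0 ∧ bf J2 k'' k2 ≠ 0 := by
  have hφ : ∃ x, S5666T4.bfL J2 k x ≠ 0 := by
    by_contra hcon
    push Not at hcon
    exact hk (hJ2.nondeg k hcon)
  have hψ : ∃ x, S5666T4.bfL J2 k2 x ≠ 0 := by
    by_contra hcon
    push Not at hcon
    exact hk2 (hJ2.nondeg k2 hcon)
  obtain ⟨y, hy1, hy2⟩ := S5666T4.exists_both_ne_zero (S5666T4.bfL J2 k) (S5666T4.bfL J2 k2) hφ hψ
  have hy1' : bf J2 k y ≠ 0 := hy1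
  have hy2' : bf J2 k2 y ≠ 0 := hy2
  have hyk : bf J2 y k ≠ 0 := by
    rw [hJ2.symm]
    exact hy1'
  refine ⟨y + (-(bf J2 y y) / (2 * bf J2 y k)) • k, ?_, ?_, ?_⟩
  · rw [bf_add_left, bf_add_right, bf_add_right, bf_smul_left, bf_smul_right, bf_smul_right, bf_smul_left, hks,
      hJ2.symm k y]
    field_simp
    ring
  · rw [bf_add_right, bf_smul_right, hks, mul_zero, add_zero]
    exact hy1'
  · rw [bf_add_left, bf_smul_left, h12, mul_zero, add_zero, hJ2.symm]
    exact hy2'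

include hJ2 h2 in
theorem exists_sing_partner' (k : Fin b → F) (hk : k ≠ 0) (hks : bf J2 k k = 0) :
    ∃ k'' : Fin b → F, bf J2 k'' k'' = 0 ∧ bf J2 k k'' ≠ 0 := by
  obtain ⟨k'', h1, h2', _⟩ := exists_sing_partner hJ2 h2 k k hk hk hks hks
  exact ⟨k'', h1, h2'⟩

end

/-- T4-W -/
theorem wside_univ (hJ2 : OrthG J2) (h2 : (2 : F) ≠ 0) (S : Set (Fin b → F))
    (hsmul : ∀ w ∈ S, ∀ l : F, l • w ∈ S)
    (hiso : ∀ β : GL (Fin b) F, β ∈ IsoG J2 → ∀ w ∈ S, (β : Matrix (Fin b) (Fin b) F) *ᵥ w ∈ S)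
    (hrule : ∀ w ∈ S, ∀ w' ∈ S, bf J2 w w' ≠ 0 → ∀ l : F, bf J2 (w + l • w') w' ≠ 0 → w + l • w' ∈ S)
    (w₀ : Fin b → F) (hw0 : w₀ ≠ 0) (hsing : bf J2 w₀ w₀ = 0) (hmem : w₀ ∈ S) : ∀ w : Fin b → F, w ∈ S := by
  intro w
  by_cases hw : w = 0
  · have := hsmul w₀ hmem 0
    rwa [zero_smul, ← hw] at this
  by_cases hν : bf J2 w w = 0
  · by_cases h0 : bf J2 w₀ w = 0
    · obtain ⟨k'', hk1, hk2, hk3⟩ := exists_sing_partner hJ2 h2 w₀ w hw0 hw hsing h0
      have hk'' : k'' ∈ S := sing_of_sing hJ2 h2 S hiso w₀ k'' hmem hsing hk1 hk2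
      exact sing_of_sing hJ2 h2 S hiso k'' w hk'' hk1 hν hk3
    · exact sing_of_sing hJ2 h2 S hiso w₀ w hmem hsing hν h0
  · obtain ⟨w', hw'1, hβ⟩ := exists_sing_partner' hJ2 h2 w₀ hw0 hsing
    have hw' : w' ∈ S := sing_of_sing hJ2 h2 S hiso w₀ w' hmem hsing hw'1 hβ
    have hv₁ : w₀ + (bf J2 w w / (2 * bf J2 w₀ w')) • w' ∈ S := by
      apply hrule w₀ hmem w' hw' hβ
      rw [bf_add_left, bf_smul_left, hw'1, mul_zero, add_zero]
      exact hβ
    have hnorm : bf J2 (w₀ + (bf J2 w w / (2 * bf J2 w₀ w')) • w') (w₀ + (bf J2 w w / (2 * bf J2 w₀ w')) • w') =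
        bf J2 w w := by
      rw [bf_add_left, bf_add_right, bf_add_right, bf_smul_left, bf_smul_right, bf_smul_right, bf_smul_left, hsing,
        hw'1, hJ2.symm w' w₀]
      field_simp
      ring
    apply nonsing_of_nonsing hJ2 h2 S hsmul hiso _ w hv₁
    · rw [hnorm]
      exact hν
    · exact hnorm.symm

end Cfsg.Agent.Lib.Helper13.S5666W
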