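import Mathlib
import Cfsg.Agent.Lib.Helper13.TensSODefs
import Cfsg.Agent.Lib.Helper13.S5666T4F
import Cfsg.Agent.Lib.Helper2.S5666FOE1
import Cfsg.Agent.Lib.Helper6.S5666FOEND
import Cfsg.Agent.Lib.Helper27.S5666CoreB
import Cfsg.Agent.Lib.Helper18.S5666FOBRIDGE
import Cfsg.Agent.Lib.Helper27.S5666FOSTRICT
import Cfsg.Agent.Lib.Helper27.S5666FOTRANS
import Cfsg.Agent.Lib.Helper20.S5666ExitA

/-!
# S5666: the top-level assembly (helper13)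

`(Sp_a ⊗ O_b) ∩ Sp_{ab}(q)` is maximal in `Sp_{ab}(q)`, `q` odd.  Pieces: helper2 (A-E1), helper6 (A-F1/X/D/N/END), helper27 +
helper1/21/26 (the branch `a = 2`; STRICT, A-TRANS), helper20 + many (the exit for `a ≥ 4`), helper18 (BRIDGE, EVEN), helper13 (T4).
-/

set_option autoImplicit false
set_option linter.unusedSectionVars false
set_option linter.unusedVariables false

namespace Cfsg.Agent.Lib.Helper13.S5666Main

open Matrix Module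
open Cfsg.Agent.Lib.Helper16.Tens Cfsg.Agent.Lib.Helper10.TensFund Cfsg.Agent.Lib.Helper13.TensSO
open Cfsg.Agent.Lib.Helper28.TensU (ctrL ctrL_apply ctrL_pur hypL mem_hypL_iff ptL mem_ptL_iff pur_mem_ptL rootGLL
  rootGLL_val act_rootGLL rootGLL_mem_SL rootGLL_mem_kron)
open Cfsg.Agent.Lib.Helper3.SpT (bf SympG)
open scoped Kronecker

variable {F : Type*} [Field F] [Fintype F] {a b : ℕ}
variable {J1 : Matrix (Fin a) (Fin a) F} {J2 : Matrix (Fin b) (Fin b) F}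
variable {M : Subgroup (GL (Fin a × Fin b) F)}

local notation "K" => Cfsg.Geo.kroneckerSubgroup a b F
local notation "V" => (Fin a × Fin b → F)

/-- (assembly) T1 for `a ≥ 4` -/
theorem le_kron_of_hypA (hS : SetupSO J1 J2) (ha : 4 ≤ a) (hb : 3 ≤ b)
    (hM : OverS J1 J2 M) (hA : HypA M) : M ≤ K :=
  Cfsg.Agent.Lib.Helper6.S5666FOEND.le_kron_of_hypE1 hS ha (by omega) hM
    (Cfsg.Agent.Lib.Helper2.S5666FOE1.hypE1_of_hypA hS (by omega) (by omega) hM hA)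

/-! ## the exit for `a ≥ 4` -/

/-- A-TRANS -/
theorem exists_kron_img_ptL (hS : SetupSO J1 J2) (u u' : Fin a → F) (hu : u ≠ 0) (hu' : u' ≠ 0) :
    ∃ n : GL (Fin a × Fin b) F, n ∈ K ∧ n ∈ IsoG (J1 ⊗ₖ J2) ∧ img n (ptL (b := b) u) = ptL u' :=
  Cfsg.Agent.Lib.Helper27.S5666FOTRANS.exists_kron_img_ptL hS u u' hu hu'

/-- A-T2T3 -/
theorem exists_center_of_stabL (hS : SetupSO J1 J2) (ha : 4 ≤ a) (hb : 3 ≤ b) (hM : OverS J1 J2 M)
    (m : GL (Fin a × Fin b) F) (hm : m ∈ M) (hmK : m ∉ K) (u₀ : Fin a → F) (hu0 : u₀ ≠ 0)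
    (hstab : img m (ptL (b := b) u₀) = ptL u₀) :
    ∃ z ∈ M, z ∉ K ∧ ∀ v ∈ hypL (b := b) (J1 *ᵥ u₀), act z v = v :=
  Cfsg.Agent.Lib.Helper20.S5666ExitA.exists_center_of_stabL hS ha hb hM m hm hmK u₀ hu0 hstab

/-- A-T3c -/
theorem exists_transvection_A (hS : SetupSO J1 J2) (ha : 2 ≤ a) (hb : 3 ≤ b)
    (hex : ¬ (Fintype.card F = 3 ∧ b = 3)) (hM : OverS J1 J2 M)
    (z : GL (Fin a × Fin b) F) (hz : z ∈ M) (hzK : z ∉ K) (u₀ : Fin a → F) (hu0 : u₀ ≠ 0)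
    (hfix : ∀ v ∈ hypL (b := b) (J1 *ᵥ u₀), act z v = v) :
    ∃ w : Fin b → F, w ≠ 0 ∧ bf J2 w w = 0 ∧
      ∀ (c : F) (t : GL (Fin a × Fin b) F), IsTv (J1 ⊗ₖ J2) (pur u₀ w) c t → t ∈ M :=
  Cfsg.Agent.Lib.Helper20.S5666ExitA.exists_transvection_A hS ha hb hex hM z hz hzK u₀ hu0 hfix

/-- STRICT -/
theorem kron_inf_lt (hS : SetupSO J1 J2) (ha : 2 ≤ a) (hb : 2 ≤ b) :
    K ⊓ IsoG (J1 ⊗ₖ J2) < IsoG (J1 ⊗ₖ J2) :=
  Cfsg.Agent.Lib.Helper27.S5666FOSTRICT.kron_inf_lt hS ha hb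

/-- (assembly) the dichotomy -/
theorem main (hS : SetupSO J1 J2) (hdim : (a = 2 ∧ 7 ≤ b) ∨ (4 ≤ a ∧ 3 ≤ b)) (hn : 14 ≤ a * b)
    (hex : ¬ (Fintype.card F = 3 ∧ b = 3)) (hM : OverS J1 J2 M) :
    M ≤ K ∨ IsoG (J1 ⊗ₖ J2) ≤ M := by
  rcases hdim with ⟨ha2, hb7⟩ | ⟨ha4, hb3⟩
  · rcases Cfsg.Agent.Lib.Helper27.S5666CoreB.core_a2 hS ha2 hb7 hM with h | ⟨u, w, hu, hw, hsing, hX⟩
    · exact Or.inl h
    · exact Or.inr (S5666T4F.iso_le_of_transvection hS hM u w hu hw hsing hX)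
  · by_cases hA : HypA M
    · exact Or.inl (le_kron_of_hypA hS ha4 hb3 hM hA)
    · right
      unfold HypA at hA
      push Not at hA
      obtain ⟨m, hm, u, u', hu, hu', himg, hmK⟩ := hA
      obtain ⟨n, hnK, hnI, hnimg⟩ := exists_kron_img_ptL (b := b) hS u' u hu' hu
      have hnM : n ∈ M := hM.kron_mem n hnK hnI
      have hm' : n * m ∈ M := M.mul_mem hnM hm
      have hm'K : n * m ∉ K := by
        intro h
        apply hmK
        have : m = n⁻¹ * (n * m) := by group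
        rw [this]
        exact (K).mul_mem ((K).inv_mem hnK) h
      have hstab : img (n * m) (ptL (b := b) u) = ptL u := by
        rw [img_mul, himg, hnimg]
      obtain ⟨z, hz, hzK, hfix⟩ := exists_center_of_stabL hS ha4 hb3 hM (n * m) hm' hm'K u hu hstab
      obtain ⟨w, hw, hsing, hX⟩ := exists_transvection_A hS (by omega) hb3 hex hM z hz hzK u hu hfix
      exact S5666T4F.iso_le_of_transvection hS hM u w hu hw hsing hX

/-- (assembly) -/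
theorem kronS_maximal (hS : SetupSO J1 J2) (hdim : (a = 2 ∧ 7 ≤ b) ∨ (4 ≤ a ∧ 3 ≤ b)) (hn : 14 ≤ a * b)
    (hex : ¬ (Fintype.card F = 3 ∧ b = 3)) :
    Cfsg.Geo.IsMaximalIn (IsoG (J1 ⊗ₖ J2)) (K ⊓ IsoG (J1 ⊗ₖ J2)) := by
  refine ⟨kron_inf_lt hS (by omega) (by omega), ?_⟩
  intro M hHM hMle
  have hM : OverS J1 J2 M := ⟨hMle, fun g hg hg' => hHM ⟨hg, hg'⟩⟩
  rcases main hS hdim hn hex hM with h | h
  · left
    exact le_antisymm (le_inf h hMle) hHM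
  · right
    exact le_antisymm hMle h

/-- (assembly) the frozen statement -/
theorem final (m : ℕ) (hm : 7 ≤ m) (hodd : Odd (Fintype.card F)) (n₁ n₂ : ℕ) (hn₂ : 3 ≤ n₂)
    (hex : ¬ (Fintype.card F = 3 ∧ n₂ = 3)) (e : (Fin m ⊕ Fin m) ≃ Fin n₁ × Fin n₂)
    (P : Matrix.GeneralLinearGroup (Fin m ⊕ Fin m) F)
    (f₁ : (Fin n₁ → F) → (Fin n₁ → F) → F) (f₂ : (Fin n₂ → F) → (Fin n₂ → F) → F)
    (hf₁ : Cfsg.Geo.IsSymplecticForm f₁) (hf₂ : Cfsg.Geo.IsSymmetricForm f₂)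
    (hT : Cfsg.Geo.IsTensorFormStructure id (Cfsg.sympForm m F) f₁ f₂ e P) :
    Cfsg.Geo.IsMaximalIn (Cfsg.spGL m F) (Cfsg.Geo.tensorProductSubgroup n₁ n₂ e P ⊓ Cfsg.spGL m F) := by
  have hcard : m + m = n₁ * n₂ := by
    have := Fintype.card_congr e
    simpa using this
  obtain ⟨r, hr⟩ := Cfsg.Agent.Lib.Helper18.S5666BRIDGE.even_of_symplectic f₁ hf₁
  have hdim : (n₁ = 2 ∧ 7 ≤ n₂) ∨ (4 ≤ n₁ ∧ 3 ≤ n₂) := by
    rcases Nat.lt_or_ge r 2 with h | h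
    · left
      have hr1 : r = 1 := by
        rcases Nat.eq_zero_or_pos r with h0 | h0
        · subst h0
          simp at hr
          subst hr
          omega
        · omega
      subst hr1
      refine ⟨by omega, ?_⟩
      have : n₁ = 2 := by omega
      subst this
      omega
    · right
      exact ⟨by omega, hn₂⟩
  have hn : 14 ≤ n₁ * n₂ := by omega
  exact Cfsg.Agent.Lib.Helper18.S5666BRIDGE.bridge m hodd n₁ n₂ e P f₁ f₂ hf₁ hf₂ hT (fun J1 J2 hS => kronS_maximal hS hdim hn hex)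

end Cfsg.Agent.Lib.Helper13.S5666Main
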