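import Mathlib
import Cfsg.Agent.Lib.Helper13.UForm

/-!
# Nondegenerate subspaces of a Hermitian space

Cuts of a subspace by orthogonality conditions, hyperbolic partners, vectors of prescribed norm,
orthogonal decompositions into two nondegenerate subspaces.
-/

set_option autoImplicit false

namespace Cfsg.Agent.Lib.Helper13.UND

open Matrix Module Cfsg.Agent.Lib.Helper13

section geo
variable {n : ℕ} {F : Type*} [Field F]
variable {σ : F →+* F} {B : (Fin n → F) →ₗ[F] (Fin n → F) →ₛₗ[σ] F}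

/-- the vectors of `P` orthogonal to all members of `T` -/
def cutS (B : (Fin n → F) →ₗ[F] (Fin n → F) →ₛₗ[σ] F) (P : Submodule F (Fin n → F))
    (T : Set (Fin n → F)) : Submodule F (Fin n → F) where
  carrier := {y | y ∈ P ∧ ∀ t ∈ T, B y t = 0}
  add_mem' := by
    rintro a b ⟨ha, ha'⟩ ⟨hb, hb'⟩
    refine ⟨P.add_mem ha hb, fun t ht => ?_⟩
    rw [inner_add_left, ha' t ht, hb' t ht, add_zero]
  zero_mem' := ⟨P.zero_mem, fun t _ => inner_zero_left t⟩
  smul_mem' := by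
    rintro c a ⟨ha, ha'⟩
    refine ⟨P.smul_mem c ha, fun t ht => ?_⟩
    rw [inner_smul_left, ha' t ht, mul_zero]

theorem mem_cutS (P : Submodule F (Fin n → F)) (T : Set (Fin n → F)) (y : Fin n → F) :
    y ∈ cutS B P T ↔ y ∈ P ∧ ∀ t ∈ T, B y t = 0 := Iff.rfl

theorem cutS_le (P : Submodule F (Fin n → F)) (T : Set (Fin n → F)) : cutS B P T ≤ P :=
  fun _ hy => hy.1

/-- a nonzero vector of `P` orthogonal to fewer than `dim P` given vectors -/
theorem exists_ne_zero_cut (P : Submodule F (Fin n → F)) (k : ℕ) (p : Fin k → (Fin n → F))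
    (hk : k < finrank F P) : ∃ z ∈ P, z ≠ 0 ∧ ∀ i, B z (p i) = 0 := by
  obtain ⟨L, hL⟩ : ∃ L : P →ₗ[F] (Fin k → F),
      L = (LinearMap.pi (fun i => B.flip (p i))).comp P.subtype := ⟨_, rfl⟩
  have hker : LinearMap.ker L ≠ ⊥ := by
    apply LinearMap.ker_ne_bot_of_finrank_lt
    rw [Module.finrank_fintype_fun_eq_card, Fintype.card_fin]
    exact hk
  obtain ⟨x, hx, hx0⟩ := (Submodule.ne_bot_iff _).mp hker
  refine ⟨(x : Fin n → F), x.2, fun h0 => hx0 (Subtype.ext h0), fun i => ?_⟩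
  have h1 := congrFun (LinearMap.mem_ker.mp hx) i
  rw [hL] at h1
  simpa using h1

theorem ndOn_cut_noniso (h : IsU σ B) (P : Submodule F (Fin n → F)) (hP : NDOn B P)
    (x : Fin n → F) (hx : x ∈ P) (hxx : B x x ≠ 0) : NDOn B (cutS B P {x}) := by
  rintro s ⟨hsP, hs⟩ hs0
  have hsx : B s x = 0 := hs x (Set.mem_singleton x)
  obtain ⟨y, hyP, hy⟩ := hP s hsP hs0
  refine ⟨y - (B y x / B x x) • x, ⟨P.sub_mem hyP (P.smul_mem _ hx), ?_⟩, ?_⟩
  · intro t ht
    rw [Set.mem_singleton_iff] at ht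
    rw [ht, inner_sub_left, inner_smul_left, div_mul_cancel₀ _ hxx, sub_self]
  · rw [inner_sub_left, inner_smul_left, h.swap_zero hsx, mul_zero, sub_zero]
    exact hy

theorem ndOn_cut_hyp (h : IsU σ B) (P : Submodule F (Fin n → F)) (hP : NDOn B P)
    (e f : Fin n → F) (he : e ∈ P) (hf : f ∈ P) (hee : B e e = 0) (hff : B f f = 0)
    (hef : B e f = 1) : NDOn B (cutS B P {e, f}) := by
  have hfe : B f e = 1 := by rw [h.herm, hef, map_one]
  rintro s ⟨hsP, hs⟩ hs0
  have hse : B s e = 0 := hs e (Set.mem_insert e _)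
  have hsf : B s f = 0 := hs f (Set.mem_insert_of_mem e (Set.mem_singleton f))
  obtain ⟨y, hyP, hy⟩ := hP s hsP hs0
  refine ⟨y - (B y f) • e - (B y e) • f,
    ⟨P.sub_mem (P.sub_mem hyP (P.smul_mem _ he)) (P.smul_mem _ hf), ?_⟩, ?_⟩
  · intro t ht
    rw [Set.mem_insert_iff, Set.mem_singleton_iff] at ht
    rcases ht with ht | ht
    · rw [ht, inner_sub_left, inner_sub_left, inner_smul_left, inner_smul_left, hee, hfe]
      ring
    · rw [ht, inner_sub_left, inner_sub_left, inner_smul_left, inner_smul_left, hef, hff]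
      ring
  · rw [inner_sub_left, inner_sub_left, inner_smul_left, inner_smul_left, h.swap_zero hse,
      h.swap_zero hsf, mul_zero, mul_zero, sub_zero, sub_zero]
    exact hy

/-- a hyperbolic partner inside a nondegenerate subspace -/
theorem exists_partner (h : IsU σ B) (P : Submodule F (Fin n → F)) (hP : NDOn B P)
    (e : Fin n → F) (he : e ∈ P) (he0 : e ≠ 0) (hee : B e e = 0) :
    ∃ f ∈ P, B f f = 0 ∧ B e f = 1 := by
  obtain ⟨y, hyP, hy⟩ := hP e he he0
  have hey : B e y ≠ 0 := h.swap_ne hy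
  obtain ⟨l, hl⟩ := h.exists_norm_eq e y hee hey 0 (map_zero σ)
  obtain ⟨f₀, hf₀⟩ : ∃ f₀, f₀ = y + l • e := ⟨_, rfl⟩
  rw [← hf₀] at hl
  have hf₀P : f₀ ∈ P := by rw [hf₀]; exact P.add_mem hyP (P.smul_mem l he)
  have hef₀ : B e f₀ = B e y := by rw [hf₀, inner_add_smul_right, hee, mul_zero, add_zero]
  refine ⟨σ ((B e y)⁻¹) • f₀, P.smul_mem _ hf₀P, ?_, ?_⟩
  · rw [h.norm_smul, hl, mul_zero]
  · rw [inner_smul_right, h.inv, hef₀, inv_mul_cancel₀ hey]

/-- a vector of prescribed nonzero norm in a nonzero nondegenerate subspace -/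
theorem exists_norm_in [Finite F] (h : IsU σ B) (S : Submodule F (Fin n → F)) (hS : NDOn B S)
    (s₀ : Fin n → F) (hs₀ : s₀ ∈ S) (hs₀0 : s₀ ≠ 0) (ν : F) (hν0 : ν ≠ 0) (hν : σ ν = ν) :
    ∃ z ∈ S, B z z = ν := by
  obtain ⟨w, hwS, hww⟩ : ∃ w ∈ S, B w w ≠ 0 := by
    by_contra hcon
    push Not at hcon
    have hti := h.forall_eq_zero_of_forall_iso S hcon
    obtain ⟨x, hxS, hx⟩ := hS s₀ hs₀ hs₀0
    exact hx (hti x hxS s₀ hs₀)
  have hfix : σ (ν / B w w) = ν / B w w := by rw [map_div₀, hν, h.fix]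
  obtain ⟨c, hc⟩ := h.exists_nm (ν / B w w) (div_ne_zero hν0 hww) hfix
  refine ⟨c • w, S.smul_mem c hwS, ?_⟩
  rw [h.norm_smul, hc, div_mul_cancel₀ _ hww]

/-- a nonzero isotropic vector in a subspace of dimension at least two -/
theorem exists_iso_in [Finite F] (h : IsU σ B) (S : Submodule F (Fin n → F))
    (hS : 2 ≤ finrank F S) : ∃ e ∈ S, e ≠ 0 ∧ B e e = 0 := by
  obtain ⟨s, hs, hs0, -⟩ := exists_ne_zero_cut (B := B) S 0 (fun i => Fin.elim0 i) (by omega)
  obtain ⟨s', hs', hs'0, hp⟩ := exists_ne_zero_cut (B := B) S 1 ![s] (by omega)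
  have hperp : B s' s = 0 := by simpa using hp 0
  exact h.exists_iso_of S s s' hs hs' hs0 hs'0 hperp

/-- a vector of prescribed norm orthogonal to a non-isotropic vector and a further vector -/
theorem exists_norm_perp2 [Finite F] (h : IsU σ B) (P : Submodule F (Fin n → F)) (hP : NDOn B P)
    (h4 : 4 ≤ finrank F P) (x y : Fin n → F) (hx : x ∈ P) (hy : y ∈ P) (hxx : B x x ≠ 0)
    (ν : F) (hν0 : ν ≠ 0) (hν : σ ν = ν) : ∃ z ∈ P, B z x = 0 ∧ B z y = 0 ∧ B z z = ν := by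
  obtain ⟨y₁, hy₁⟩ : ∃ y₁, y₁ = y - (B y x / B x x) • x := ⟨_, rfl⟩
  have hy₁P : y₁ ∈ P := by rw [hy₁]; exact P.sub_mem hy (P.smul_mem _ hx)
  have hy₁x : B y₁ x = 0 := by
    rw [hy₁, inner_sub_left, inner_smul_left, div_mul_cancel₀ _ hxx, sub_self]
  have hP₁ := ndOn_cut_noniso h P hP x hx hxx
  have hy₁P₁ : y₁ ∈ cutS B P {x} :=
    ⟨hy₁P, fun t ht => by rw [Set.mem_singleton_iff] at ht; rw [ht]; exact hy₁x⟩
  have hzy : ∀ z, B z x = 0 → B z y₁ = 0 → B z y = 0 := by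
    intro z hzx hzy₁
    have e : y = y₁ + (B y x / B x x) • x := by rw [hy₁]; abel
    rw [e, inner_add_smul_right, hzy₁, hzx, mul_zero, add_zero]
  have tail : ∀ S : Submodule F (Fin n → F), NDOn B S →
      (∀ z ∈ S, z ∈ P ∧ B z x = 0 ∧ B z y₁ = 0) → (∃ s₀ ∈ S, s₀ ≠ 0) →
      ∃ z ∈ P, B z x = 0 ∧ B z y = 0 ∧ B z z = ν := by
    rintro S hS hprop ⟨s₀, hs₀, hs₀0⟩
    obtain ⟨z, hzS, hzz⟩ := exists_norm_in h S hS s₀ hs₀ hs₀0 ν hν0 hν
    obtain ⟨h1, h2, h3⟩ := hprop z hzS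
    exact ⟨z, h1, h2, hzy z h2 h3, hzz⟩
  by_cases h0 : y₁ = 0
  · apply tail (cutS B P {x}) hP₁
    · rintro z ⟨hzP, hz⟩
      exact ⟨hzP, hz x (Set.mem_singleton x), by rw [h0]; exact inner_zero_right z⟩
    · obtain ⟨z, hzP, hz0, hp⟩ := exists_ne_zero_cut (B := B) P 1 ![x] (by omega)
      have h1 : B z x = 0 := by simpa using hp 0
      exact ⟨z, ⟨hzP, fun t ht => by rw [Set.mem_singleton_iff] at ht; rw [ht]; exact h1⟩, hz0⟩
  · by_cases hiso : B y₁ y₁ = 0
    · obtain ⟨f, hfP₁, hff, hy₁f⟩ := exists_partner h (cutS B P {x}) hP₁ y₁ hy₁P₁ h0 hiso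
      apply tail (cutS B (cutS B P {x}) {y₁, f})
        (ndOn_cut_hyp h (cutS B P {x}) hP₁ y₁ f hy₁P₁ hfP₁ hiso hff hy₁f)
      · rintro z ⟨⟨hzP, hz⟩, hz'⟩
        exact ⟨hzP, hz x (Set.mem_singleton x), hz' y₁ (Set.mem_insert y₁ _)⟩
      · obtain ⟨z, hzP, hz0, hp⟩ := exists_ne_zero_cut (B := B) P 3 ![x, y₁, f] (by omega)
        have h1 : B z x = 0 := by simpa using hp 0
        have h2 : B z y₁ = 0 := by simpa using hp 1
        have h3 : B z f = 0 := by simpa using hp 2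
        refine ⟨z, ⟨⟨hzP, fun t ht => ?_⟩, fun t ht => ?_⟩, hz0⟩
        · rw [Set.mem_singleton_iff] at ht; rw [ht]; exact h1
        · rw [Set.mem_insert_iff, Set.mem_singleton_iff] at ht
          rcases ht with ht | ht
          · rw [ht]; exact h2
          · rw [ht]; exact h3
    · apply tail (cutS B (cutS B P {x}) {y₁}) (ndOn_cut_noniso h (cutS B P {x}) hP₁ y₁ hy₁P₁ hiso)
      · rintro z ⟨⟨hzP, hz⟩, hz'⟩
        exact ⟨hzP, hz x (Set.mem_singleton x), hz' y₁ (Set.mem_singleton y₁)⟩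
      · obtain ⟨z, hzP, hz0, hp⟩ := exists_ne_zero_cut (B := B) P 2 ![x, y₁] (by omega)
        have h1 : B z x = 0 := by simpa using hp 0
        have h2 : B z y₁ = 0 := by simpa using hp 1
        refine ⟨z, ⟨⟨hzP, fun t ht => ?_⟩, fun t ht => ?_⟩, hz0⟩
        · rw [Set.mem_singleton_iff] at ht; rw [ht]; exact h1
        · rw [Set.mem_singleton_iff] at ht; rw [ht]; exact h2

/-- an orthogonal decomposition into two nondegenerate subspaces -/
structure UPair (B : (Fin n → F) →ₗ[F] (Fin n → F) →ₛₗ[σ] F)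
    (U W : Submodule F (Fin n → F)) : Prop where
  orth : ∀ u ∈ U, ∀ w ∈ W, B u w = 0
  dec : ∀ x : Fin n → F, ∃ u ∈ U, ∃ w ∈ W, x = u + w
  ndU : NDOn B U
  ndW : NDOn B W

variable {U W : Submodule F (Fin n → F)}

theorem UPair.inter (hP : UPair B U W) {x : Fin n → F} (hxU : x ∈ U) (hxW : x ∈ W) : x = 0 := by
  by_contra hx0
  obtain ⟨y, hyU, hy⟩ := hP.ndU x hxU hx0
  exact hy (hP.orth y hyU x hxW)

theorem UPair.mem_right (hP : UPair B U W) {x : Fin n → F} (hx : ∀ u ∈ U, B u x = 0) :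
    x ∈ W := by
  obtain ⟨u, hu, w, hw, rfl⟩ := hP.dec x
  have hu0 : u = 0 := by
    by_contra hu0
    obtain ⟨y, hyU, hy⟩ := hP.ndU u hu hu0
    apply hy
    have := hx y hyU
    rw [inner_add_right, hP.orth y hyU w hw, add_zero] at this
    exact this
  rw [hu0, zero_add]
  exact hw

theorem UPair.finrank_add (hP : UPair B U W) : finrank F U + finrank F W = n := by
  have hc : IsCompl U W := by
    refine ⟨?_, ?_⟩
    · rw [Submodule.disjoint_def]
      intro x hxU hxW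
      exact hP.inter hxU hxW
    · rw [codisjoint_iff, Submodule.eq_top_iff']
      intro x
      obtain ⟨u, hu, w, hw, rfl⟩ := hP.dec x
      exact Submodule.add_mem_sup hu hw
  rw [Submodule.finrank_add_eq_of_isCompl hc, Module.finrank_fintype_fun_eq_card, Fintype.card_fin]

/-- enlarging `U` by a non-isotropic vector of `W` -/
theorem UPair.step (h : IsU σ B) (hP : UPair B U W) (z : Fin n → F) (hz : z ∈ W)
    (hzz : B z z ≠ 0) : UPair B (U ⊔ Submodule.span F {z}) (cutS B W {z}) := by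
  refine ⟨?_, ?_, ?_, ndOn_cut_noniso h W hP.ndW z hz hzz⟩
  · intro u' hu' w' hw'
    obtain ⟨u, hu, y, hy, rfl⟩ := Submodule.mem_sup.mp hu'
    obtain ⟨c, rfl⟩ := Submodule.mem_span_singleton.mp hy
    rw [inner_add_smul_left, hP.orth u hu w' hw'.1, h.swap_zero (hw'.2 z (Set.mem_singleton z)),
      mul_zero, add_zero]
  · intro x
    obtain ⟨u, hu, w, hw, rfl⟩ := hP.dec x
    refine ⟨u + (B w z / B z z) • z, Submodule.add_mem_sup hu
      (Submodule.smul_mem _ _ (Submodule.mem_span_singleton_self z)),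
      w - (B w z / B z z) • z, ⟨W.sub_mem hw (W.smul_mem _ hz), fun t ht => ?_⟩, by abel⟩
    rw [Set.mem_singleton_iff] at ht
    rw [ht, inner_sub_left, inner_smul_left, div_mul_cancel₀ _ hzz, sub_self]
  · intro s hs hs0
    obtain ⟨u, hu, y, hy, rfl⟩ := Submodule.mem_sup.mp hs
    obtain ⟨c, rfl⟩ := Submodule.mem_span_singleton.mp hy
    by_cases hu0 : u = 0
    · have hc0 : c ≠ 0 := by
        rintro rfl
        apply hs0
        rw [hu0, zero_smul, add_zero]
      refine ⟨z, Submodule.mem_sup_right (Submodule.mem_span_singleton_self z), ?_⟩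
      rw [hu0, zero_add, inner_smul_right]
      exact mul_ne_zero (h.sigma_ne_zero hc0) hzz
    · obtain ⟨y, hyU, hy⟩ := hP.ndU u hu hu0
      refine ⟨y, Submodule.mem_sup_left hyU, ?_⟩
      rw [inner_add_smul_right, hP.orth y hyU z hz, mul_zero, add_zero]
      exact hy

/-- the orthogonal complement of a nondegenerate subspace -/
theorem upair_perp (h : IsU σ B) (W : Submodule F (Fin n → F)) (hW : NDOn B W) :
    UPair B (cutS B ⊤ W) W := by
  obtain ⟨U, hU⟩ : ∃ U, U = cutS B ⊤ (W : Set (Fin n → F)) := ⟨_, rfl⟩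
  rw [← hU]
  have horth : ∀ u ∈ U, ∀ w ∈ W, B u w = 0 := by
    intro u hu w hw
    rw [hU] at hu
    exact hu.2 w hw
  have hdisj : U ⊓ W = ⊥ := by
    rw [eq_bot_iff]
    rintro x ⟨hxU, hxW⟩
    rw [Submodule.mem_bot]
    by_contra hx0
    obtain ⟨y, hyW, hy⟩ := hW x hxW hx0
    exact hy (h.swap_zero (horth x hxU y hyW))
  -- dimension count
  obtain ⟨k, hk⟩ : ∃ k, k = finrank F W := ⟨_, rfl⟩
  obtain ⟨b, -⟩ : ∃ b : Basis (Fin k) F W, b = Module.finBasisOfFinrankEq F W hk.symm := ⟨_, rfl⟩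
  obtain ⟨L, hL⟩ : ∃ L : (Fin n → F) →ₗ[F] (Fin k → F),
      L = LinearMap.pi (fun i => B.flip ((b i : W) : Fin n → F)) := ⟨_, rfl⟩
  have hkerle : LinearMap.ker L ≤ U := by
    intro y hy
    have hi : ∀ i, B y ((b i : W) : Fin n → F) = 0 := by
      intro i
      have h1 := congrFun (LinearMap.mem_ker.mp hy) i
      rw [hL] at h1
      simpa using h1
    have hall : ∀ w : W, ((w : W) : Fin n → F) ∈ LinearMap.ker (B y) := by
      intro w
      have hw : w ∈ Submodule.span F (Set.range b) := by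
        rw [b.span_eq]; exact Submodule.mem_top
      induction hw using Submodule.span_induction with
      | mem v hv =>
        obtain ⟨i, rfl⟩ := hv
        exact LinearMap.mem_ker.mpr (hi i)
      | zero => exact Submodule.zero_mem _
      | add a c _ _ ha hc => exact Submodule.add_mem _ ha hc
      | smul r a _ ha => exact Submodule.smul_mem _ r ha
    rw [hU]
    exact ⟨Submodule.mem_top, fun w hw => LinearMap.mem_ker.mp (hall ⟨w, hw⟩)⟩
  have hd1 := LinearMap.finrank_range_add_finrank_ker L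
  have hd2 : finrank F (LinearMap.range L) ≤ k := by
    have := Submodule.finrank_le (LinearMap.range L)
    rwa [Module.finrank_fintype_fun_eq_card, Fintype.card_fin] at this
  rw [Module.finrank_fintype_fun_eq_card, Fintype.card_fin] at hd1
  have hd3 := Submodule.finrank_mono hkerle
  have hd4 := Submodule.finrank_sup_add_finrank_inf_eq U W
  rw [hdisj, finrank_bot, add_zero] at hd4
  have hd5 : finrank F ↥(U ⊔ W) ≤ n := by
    have := Submodule.finrank_le (U ⊔ W)
    rwa [Module.finrank_fintype_fun_eq_card, Fintype.card_fin] at this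
  have htop : U ⊔ W = ⊤ := by
    apply Submodule.eq_top_of_finrank_eq
    rw [Module.finrank_fintype_fun_eq_card, Fintype.card_fin]
    omega
  have hdec : ∀ x : Fin n → F, ∃ u ∈ U, ∃ w ∈ W, x = u + w := by
    intro x
    have hx : x ∈ U ⊔ W := by rw [htop]; exact Submodule.mem_top
    obtain ⟨u, hu, w, hw, rfl⟩ := Submodule.mem_sup.mp hx
    exact ⟨u, hu, w, hw, rfl⟩
  refine ⟨horth, hdec, ?_, hW⟩
  intro u hu hu0
  obtain ⟨x, hx⟩ := h.nd u hu0
  obtain ⟨a, ha, c, hc, rfl⟩ := hdec x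
  refine ⟨a, ha, ?_⟩
  rw [inner_add_left, h.swap_zero (horth u hu c hc), add_zero] at hx
  exact hx

end geo

end Cfsg.Agent.Lib.Helper13.UND
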