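import Mathlib
import Cfsg.Agent.Lib.Helper13.SUMax
import Cfsg.Agent.Lib.Helper13.UNondeg

/-!
# Stabilisers of nondegenerate subspaces in `SU_n(q)`

The stabiliser of a nonzero nondegenerate subspace `W` with `2 dim W < n` is maximal in
`SU_n(q)` (for `n ≥ 13`; the argument needs `dim W^⊥ ≥ 4`).  The proof follows the transvection
method of `SUMax`: the set `X` of isotropic vectors all of whose transvections lie in the
overgroup `M` contains the isotropic vectors of `W` and of `U = W^⊥`; a mixed vector is found,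
improved to one with non-isotropic `W`-part, and then `U` is enlarged step by step.
-/

set_option autoImplicit false

namespace Cfsg.Agent.Lib.Helper13.SUND

open Matrix Module Cfsg.Agent.Lib.Helper6 Cfsg.Agent.S0779 Cfsg.Agent.S0781
open Cfsg.Agent.Lib.Helper6.SUG Cfsg.Agent.Lib.Helper13 Cfsg.Agent.Lib.Helper13.UND

section sund
variable {F : Type*} [Field F] [Fintype F] {q n : ℕ}

local notation "hh" => Cfsg.hermForm n F q

/-- the standard Hermitian form as a sesquilinear map, linear in the first argument -/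
noncomputable def hB (n : ℕ) (hF : Fintype.card F = q ^ 2) :
    (Fin n → F) →ₗ[F] (Fin n → F) →ₛₗ[conjQ hF] F :=
  LinearMap.mk₂'ₛₗ (RingHom.id F) (conjQ hF) (fun x y => Cfsg.hermForm n F q x y)
    (fun x y z => herm_add_left x y z)
    (fun c x y => by rw [herm_smul_left]; rfl)
    (fun x y z => herm_add_right hF x y z)
    (fun c x y => by rw [herm_smul_right]; rfl)

theorem hB_apply (hF : Fintype.card F = q ^ 2) (x y : Fin n → F) :
    hB n hF x y = hh x y := rfl

theorem hB_isU (hF : Fintype.card F = q ^ 2) : IsU (conjQ hF) (hB n hF) where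
  ne_id := conjQ_ne_id hF
  inv := conjQ_conjQ hF
  herm := fun v w => by
    rw [hB_apply, hB_apply, conjQ_apply, herm_conj hF]
  nd := fun v hv => by
    obtain ⟨y, hy⟩ := exists_herm_ne_zero hF v hv
    refine ⟨y, ?_⟩
    rw [hB_apply]
    exact fun h0 => hy (herm_swap_zero hF h0)

/-- two vectors of a nondegenerate subspace of dimension at least four with the same nonzero norm
are conjugate under the transvections centred in that subspace -/
theorem relOn_of_norm_eq (hF : Fintype.card F = q ^ 2) (P : Submodule F (Fin n → F))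
    (hP : NDOn (hB n hF) P) (h4 : 4 ≤ finrank F P) (x y : Fin n → F) (hx : x ∈ P) (hy : y ∈ P)
    (hxx : hh x x ≠ 0) (hyy : hh y y = hh x x) : RelOn P q x y := by
  have hIU := hB_isU (n := n) hF
  have hfix : conjQ hF ((hh x x)⁻¹) = (hh x x)⁻¹ := by
    rw [conjQ_apply, inv_pow, herm_conj hF]
  obtain ⟨l, hl⟩ := hIU.exists_nm (hh x x)⁻¹ (inv_ne_zero hxx) hfix
  rw [conjQ_apply] at hl
  have hl0 : l ≠ 0 := by
    rintro rfl
    rw [zero_mul] at hl
    exact inv_ne_zero hxx hl.symm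
  have hx1 : hh (l • x) (l • x) = 1 := by
    rw [herm_smul_left, herm_smul_right, ← mul_assoc, hl, inv_mul_cancel₀ hxx]
  have hy1 : hh (l • y) (l • y) = 1 := by
    rw [herm_smul_left, herm_smul_right, ← mul_assoc, hl, hyy, inv_mul_cancel₀ hxx]
  have hx1' : (hB n hF) (l • x) (l • x) ≠ 0 := by
    rw [hB_apply, hx1]
    exact one_ne_zero
  obtain ⟨z, hzP, hzx, hzy, hzz⟩ := exists_norm_perp2 hIU P hP h4 (l • x) (l • y)
    (P.smul_mem l hx) (P.smul_mem l hy) hx1' 1 one_ne_zero (map_one _)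
  have hzx0 : hh z (l • x) = 0 := hzx
  have hzy0 : hh z (l • y) = 0 := hzy
  have hzx' : hh (l • x) z = 0 := herm_swap_zero hF hzx0
  have hzy' : hh (l • y) z = 0 := herm_swap_zero hF hzy0
  have hzz' : hh z z = 1 := hzz
  have e10 : (1 : F) * 1 ^ q + 0 * 0 ^ q = 1 := by
    rw [one_pow, zero_pow (q_pos hF).ne']; ring
  have e01 : (0 : F) * 0 ^ q + 1 * 1 ^ q = 1 := by
    rw [one_pow, zero_pow (q_pos hF).ne']; ring
  have r1 := rel_orthonormal hF P (l • x) z (P.smul_mem l hx) hzP hx1 hzz' hzx' 1 0 0 1 e10 e01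
  have r2 := rel_orthonormal hF P (l • y) z (P.smul_mem l hy) hzP hy1 hzz' hzy' 1 0 0 1 e10 e01
  simp only [one_smul, zero_smul, add_zero, zero_add] at r1 r2
  obtain ⟨t, ht, hte⟩ := r1.trans r2.symm
  refine ⟨t, ht, ?_⟩
  rw [av_smul] at hte
  exact smul_right_injective _ hl0 hte

theorem suGL_mem_of_TTon {M : Subgroup (GL (Fin n) F)} (P : Submodule F (Fin n → F))
    (hX : ∀ x ∈ P, hh x x = 0 → SuX q M x) : ∀ t ∈ TTon P q, suGL n F q t ∈ M := by
  intro t ht
  have hle : TTon P q ≤ M.comap (suGL n F q) := by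
    unfold TTon
    rw [Subgroup.closure_le]
    rintro A ⟨v, c, hvP, hvv, hA⟩
    exact (hX v hvP hvv).2 A c hA
  exact hle ht

/-- enlarging a nondegenerate subspace all of whose isotropic vectors are in `X` by a
perpendicular non-isotropic vector, given one mixed member of `X` -/
theorem und_extend (hF : Fintype.card F = q ^ 2) {M : Subgroup (GL (Fin n) F)}
    (P : Submodule F (Fin n → F)) (hP : NDOn (hB n hF) P) (h4 : 4 ≤ finrank F P)
    (hX : ∀ x ∈ P, hh x x = 0 → SuX q M x) (b bP z : Fin n → F) (hb : SuX q M b)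
    (hbP : bP ∈ P) (hbe : b = bP + z) (hz : ∀ d ∈ P, hh z d = 0) (hzz : hh z z ≠ 0) :
    ∀ x ∈ P ⊔ Submodule.span F {z}, hh x x = 0 → SuX q M x := by
  intro x hx hxx
  obtain ⟨xP, hxP, y, hy, rfl⟩ := Submodule.mem_sup.mp hx
  obtain ⟨l, rfl⟩ := Submodule.mem_span_singleton.mp hy
  have hdz : ∀ d ∈ P, hh d z = 0 := fun d hd => herm_swap_zero hF (hz d hd)
  by_cases hl : l = 0
  · have e : xP + l • z = xP := by rw [hl, zero_smul, add_zero]
    rw [e] at hxx ⊢
    exact hX xP hxP hxx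
  · have hbb := hb.1
    rw [hbe] at hbb
    simp only [herm_add_left, herm_add_right hF, hdz bP hbP, hz bP hbP, add_zero, zero_add] at hbb
    have hbPn : hh bP bP = -hh z z := by linear_combination hbb
    obtain ⟨x', hx'⟩ : ∃ x', x' = l⁻¹ • xP := ⟨_, rfl⟩
    have hx'P : x' ∈ P := by rw [hx']; exact P.smul_mem _ hxP
    have e1 : xP + l • z = l • (x' + z) := by
      rw [hx', smul_add, smul_smul, mul_inv_cancel₀ hl, one_smul]
    have hiso' : hh (x' + z) (x' + z) = 0 := by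
      have h1 := hxx
      rw [e1, herm_smul_left, herm_smul_right] at h1
      rcases mul_eq_zero.mp h1 with h3 | h3
      · exact absurd h3 hl
      · rcases mul_eq_zero.mp h3 with h4 | h4
        · exact absurd h4 (pow_ne_zero _ hl)
        · exact h4
    have hx'n : hh x' x' = -hh z z := by
      have h1 := hiso'
      simp only [herm_add_left, herm_add_right hF, hdz x' hx'P, hz x' hx'P, add_zero,
        zero_add] at h1
      linear_combination h1
    have hrel : RelOn P q bP x' := relOn_of_norm_eq hF P hP h4 bP x' hbP hx'P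
      (by rw [hbPn]; exact neg_ne_zero.mpr hzz) (by rw [hx'n, hbPn])
    obtain ⟨t, ht, hte⟩ := hrel
    have htM := suGL_mem_of_TTon P hX t ht
    have htz : av t z = z := TTon_fix ht z hz
    have h1 := hb.map t htM
    rw [hbe, av_add, hte, htz] at h1
    rw [e1]
    exact h1.smul l

/-- the closure argument: once a mixed member of `X` with non-isotropic `W`-part exists, all
isotropic vectors are in `X` -/
theorem und_closure_all (hF : Fintype.card F = q ^ 2) {M : Subgroup (GL (Fin n) F)} :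
    ∀ (d : ℕ) (U W : Submodule F (Fin n → F)), finrank F W = d → UPair (hB n hF) U W →
      4 ≤ finrank F U → (∀ x ∈ U, hh x x = 0 → SuX q M x) →
      (∀ x ∈ W, hh x x = 0 → SuX q M x) →
      (W ≠ ⊥ → ∃ b bU z : Fin n → F, SuX q M b ∧ bU ∈ U ∧ z ∈ W ∧ b = bU + z ∧ hh z z ≠ 0) →
      ∀ x, hh x x = 0 → SuX q M x := by
  have hIU := hB_isU (n := n) hF
  intro d
  induction d using Nat.strong_induction_on with
  | _ d ih =>
    intro U W hd hP h4 hXU hXW hmix x hxx
    by_cases hW0 : W = ⊥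
    · obtain ⟨u, hu, w, hw, rfl⟩ := hP.dec x
      rw [hW0, Submodule.mem_bot] at hw
      rw [hw, add_zero] at hxx ⊢
      exact hXU u hu hxx
    · obtain ⟨b, bU, z, hb, hbU, hzW, hbe, hzz⟩ := hmix hW0
      have hzU : ∀ u ∈ U, hh z u = 0 := by
        intro u hu
        have h0 : hh u z = 0 := hP.orth u hu z hzW
        exact herm_swap_zero hF h0
      have hXU' := und_extend hF U hP.ndU h4 hXU b bU z hb hbU hbe hzU hzz
      have hzzB : (hB n hF) z z ≠ 0 := by
        rw [hB_apply]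
        exact hzz
      have hP' := hP.step hIU z hzW hzzB
      have hlt : cutS (hB n hF) W {z} < W := by
        rw [SetLike.lt_iff_le_and_exists]
        refine ⟨cutS_le W {z}, z, hzW, ?_⟩
        intro hzc
        exact hzzB (hzc.2 z (Set.mem_singleton z))
      have hdlt : finrank F ↥(cutS (hB n hF) W {z}) < d := by
        rw [← hd]
        exact Submodule.finrank_lt_finrank_of_lt hlt
      have h4' : 4 ≤ finrank F ↥(U ⊔ Submodule.span F {z}) :=
        le_trans h4 (Submodule.finrank_mono le_sup_left)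
      have hXW' : ∀ x ∈ cutS (hB n hF) W {z}, hh x x = 0 → SuX q M x :=
        fun x hx hxx => hXW x (cutS_le W {z} hx) hxx
      refine ih _ hdlt (U ⊔ Submodule.span F {z}) (cutS (hB n hF) W {z}) rfl hP' h4' hXU' hXW' ?_
        x hxx
      intro hW'0
      obtain ⟨s₀, hs₀, hs₀0⟩ := (Submodule.ne_bot_iff _).mp hW'0
      have hν : conjQ hF (-(hh z z)) = -(hh z z) := by
        rw [conjQ_apply, neg_pow_q hF, herm_conj hF]
      obtain ⟨z', hz', hz'n⟩ := exists_norm_in hIU _ hP'.ndW s₀ hs₀ hs₀0 (-(hh z z))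
        (neg_ne_zero.mpr hzz) hν
      have hz'n' : hh z' z' = -(hh z z) := hz'n
      have hz'z : hh z' z = 0 := hz'.2 z (Set.mem_singleton z)
      have hzz' : hh z z' = 0 := herm_swap_zero hF hz'z
      refine ⟨z + z', z, z', ?_, Submodule.mem_sup_right (Submodule.mem_span_singleton_self z),
        hz', rfl, ?_⟩
      · apply hXW (z + z') (W.add_mem hzW hz'.1)
        rw [herm_add_left, herm_add_right hF, herm_add_right hF, hz'z, hzz', hz'n']
        ring
      · rw [hz'n']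
        exact neg_ne_zero.mpr hzz

/-- adding to a member `a` of `X` a vector `v` of `U` perpendicular to a partner `u₁ ∈ U` of `a` -/
theorem und_hstepU (hF : Fintype.card F = q ^ 2) {M : Subgroup (GL (Fin n) F)}
    {U W : Submodule F (Fin n → F)} (hP : UPair (hB n hF) U W)
    (hHM : Cfsg.Geo.subspaceStabilizer W ⊓
      (Cfsg.GU n F q ⊓ Cfsg.Geo.specialLinear (Fin n) F) ≤ M)
    (a u₁ v : Fin n → F) (haX : SuX q M a) (hu₁X : SuX q M u₁) (hu₁U : u₁ ∈ U) (hvU : v ∈ U)
    (hau₁ : hh a u₁ = 1) (hv : hh v u₁ = 0) (hiso : hh (a + v) (a + v) = 0) :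
    SuX q M (a + v) := by
  have hu₁u₁ : hh u₁ u₁ = 0 := hu₁X.1
  have hu₁v : hh u₁ v = 0 := herm_swap_zero hF hv
  obtain ⟨c, hc⟩ := exists_trace (conjQ hF) (conjQ_ne_id hF) (conjQ_conjQ hF) (hh v v)
    (herm_conj hF v v)
  rw [conjQ_apply] at hc
  have hWU : ∀ x ∈ W, ∀ u ∈ U, hh x u = 0 := by
    intro x hx u hu
    have h0 : hh u x = 0 := hP.orth u hu x hx
    exact herm_swap_zero hF h0
  have hρM : suGL n F q (eich hF u₁ v c hu₁u₁ hu₁v hc) ∈ M := by
    apply hHM
    refine ⟨?_, suGL_mem _⟩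
    apply mem_subspaceStabilizer_of_forall
    intro x hx
    rw [suGL_mulVec, av_eich, hWU x hx u₁ hu₁U, hWU x hx v hvU, zero_smul, zero_smul, add_zero,
      sub_zero]
    exact hx
  have h1 := haX.map _ hρM
  rw [av_eich, hau₁, one_smul] at h1
  have e : a + (v - c • u₁) - hh a v • u₁ + (c + hh a v) • u₁ = a + v := by
    rw [add_smul]; abel
  have h2 : hh (a + (v - c • u₁) - hh a v • u₁) u₁ ≠ 0 := by
    rw [herm_sub_left', herm_add_left, herm_sub_left', herm_smul_left, herm_smul_left, hau₁,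
      hv, hu₁u₁]
    simp
  have h3 := h1.rule hF hu₁X h2 (c + hh a v) (by rw [e]; exact hiso)
  rwa [e] at h3

/-- improving a mixed member of `X` to one whose `W`-part is not isotropic -/
theorem und_improve (hF : Fintype.card F = q ^ 2) {M : Subgroup (GL (Fin n) F)}
    {U W : Submodule F (Fin n → F)} (hP : UPair (hB n hF) U W) (h3 : 3 ≤ finrank F U)
    (hHM : Cfsg.Geo.subspaceStabilizer W ⊓
      (Cfsg.GU n F q ⊓ Cfsg.Geo.specialLinear (Fin n) F) ≤ M)
    (hXU : ∀ x ∈ U, hh x x = 0 → SuX q M x) (hXW : ∀ x ∈ W, hh x x = 0 → SuX q M x)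
    (a : Fin n → F) (haX : SuX q M a) (haU : a ∉ U) (haW : a ∉ W) :
    ∃ b bU z : Fin n → F, SuX q M b ∧ bU ∈ U ∧ z ∈ W ∧ b = bU + z ∧ hh z z ≠ 0 := by
  have hIU := hB_isU (n := n) hF
  obtain ⟨aU, haUU, aW, haWW, hae⟩ := hP.dec a
  have horth : ∀ u ∈ U, ∀ w ∈ W, hh u w = 0 := fun u hu w hw => hP.orth u hu w hw
  have horth' : ∀ w ∈ W, ∀ u ∈ U, hh w u = 0 := fun w hw u hu =>
    herm_swap_zero hF (horth u hu w hw)
  by_cases hn0 : hh aW aW = 0
  swap
  · exact ⟨a, aU, aW, haX, haUU, haWW, hae, hn0⟩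
  have haU0 : aU ≠ 0 := by
    intro h0
    apply haW
    rw [hae, h0, zero_add]
    exact haWW
  have haW0 : aW ≠ 0 := by
    intro h0
    apply haU
    rw [hae, h0, add_zero]
    exact haUU
  have haa : hh aU aU = 0 := by
    have h1 := haX.1
    rw [hae] at h1
    simp only [herm_add_left, herm_add_right hF, horth aU haUU aW haWW, horth' aW haWW aU haUU,
      hn0, add_zero] at h1
    exact h1
  obtain ⟨c, hcW, hcc0, hac0⟩ := exists_partner hIU W hP.ndW aW haWW haW0 hn0
  obtain ⟨u₁, hu₁U, hu₁u₁0, hau₁0⟩ := exists_partner hIU U hP.ndU aU haUU haU0 haa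
  have hcc : hh c c = 0 := hcc0
  have hac : hh aW c = 1 := hac0
  have hca : hh c aW = 1 := by rw [← herm_conj hF, hac, one_pow]
  have hu₁u₁ : hh u₁ u₁ = 0 := hu₁u₁0
  have hau₁ : hh aU u₁ = 1 := hau₁0
  have hu₁a : hh u₁ aU = 1 := by rw [← herm_conj hF, hau₁, one_pow]
  obtain ⟨κ, hκ0, hκ⟩ := exists_trace_zero hF
  obtain ⟨e₀, he₀⟩ := hIU.exists_tr_ne
  rw [conjQ_apply] at he₀
  have he₀0 : e₀ ≠ 0 := by
    intro h0
    apply he₀
    rw [h0, zero_pow (q_pos hF).ne', add_zero]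
  obtain ⟨μ, hμ⟩ : ∃ μ : F, μ = e₀ / κ := ⟨_, rfl⟩
  have hμκ : μ * κ = e₀ := by rw [hμ, div_mul_cancel₀ _ hκ0]
  have hμκq : μ ^ q * κ ^ q = e₀ ^ q := by rw [← mul_pow, hμκ]
  have hμ0 : μ ≠ 0 := by rw [hμ]; exact div_ne_zero he₀0 hκ0
  have hμq0 : μ ^ q ≠ 0 := pow_ne_zero _ hμ0
  obtain ⟨β, hβ⟩ : ∃ β : F, β = κ ^ q / μ - κ := ⟨_, rfl⟩
  have hβq : β ^ q = κ / μ ^ q - κ ^ q := by
    rw [hβ, sub_pow_q hF, div_pow, pow_q_q hF]
  -- the correcting vector `r`
  obtain ⟨r, hrU, hraU, hru₁, hrr⟩ : ∃ r ∈ U, hh r aU = 0 ∧ hh r u₁ = 0 ∧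
      hh r r = -(β + β ^ q) := by
    by_cases hν0 : -(β + β ^ q) = 0
    · exact ⟨0, U.zero_mem, herm_zero_left _, herm_zero_left _, by
        rw [hν0]; exact herm_zero_left _⟩
    · have hS := ndOn_cut_hyp hIU U hP.ndU aU u₁ haUU hu₁U haa hu₁u₁0 hau₁0
      obtain ⟨s₀, hs₀U, hs₀0, hs₀p⟩ :=
        exists_ne_zero_cut (B := hB n hF) U 2 ![aU, u₁] (by omega)
      have hs₀S : s₀ ∈ cutS (hB n hF) U {aU, u₁} := by
        refine ⟨hs₀U, fun t ht => ?_⟩
        rw [Set.mem_insert_iff, Set.mem_singleton_iff] at ht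
        rcases ht with ht | ht
        · rw [ht]; simpa using hs₀p 0
        · rw [ht]; simpa using hs₀p 1
      have hν : conjQ hF (-(β + β ^ q)) = -(β + β ^ q) := by
        rw [conjQ_apply, neg_pow_q hF, add_pow_q hF, pow_q_q hF]
        ring
      obtain ⟨r, hrS, hrr⟩ := exists_norm_in hIU _ hS s₀ hs₀S hs₀0 _ hν0 hν
      exact ⟨r, hrS.1, hrS.2 aU (Set.mem_insert aU _),
        hrS.2 u₁ (Set.mem_insert_of_mem aU (Set.mem_singleton u₁)), hrr⟩
  have haUr : hh aU r = 0 := herm_swap_zero hF hraU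
  have hu₁r : hh u₁ r = 0 := herm_swap_zero hF hru₁
  -- first move: the transvection centred at `c`
  have hac' : hh a c = 1 := by
    rw [hae, herm_add_left, horth aU haUU c hcW, hac, zero_add]
  have ha''X : SuX q M (a + κ • c) := by
    have h1 := haX.map (SUG.tv hF c κ hcc hκ) ((hXW c hcW hcc).2 _ _ rfl)
    rwa [av_tv, hac', mul_one] at h1
  -- second move
  have hvU : β • u₁ + r ∈ U := U.add_mem (U.smul_mem β hu₁U) hrU
  have h_au₁ : hh (a + κ • c) u₁ = 1 := by
    rw [hae, herm_add_left, herm_add_left, herm_smul_left, hau₁, horth' aW haWW u₁ hu₁U,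
      horth' c hcW u₁ hu₁U]
    ring
  have h_vu₁ : hh (β • u₁ + r) u₁ = 0 := by
    rw [herm_add_left, herm_smul_left, hu₁u₁, hru₁]
    ring
  have h_iso : hh (a + κ • c + (β • u₁ + r)) (a + κ • c + (β • u₁ + r)) = 0 := by
    rw [hae]
    simp only [herm_add_left, herm_add_right hF, herm_smul_left, herm_smul_right, haa, hau₁, hu₁a,
      hu₁u₁, hraU, haUr, hru₁, hu₁r, hrr, hn0, hac, hca, hcc,
      horth aU haUU aW haWW, horth aU haUU c hcW, horth u₁ hu₁U aW haWW, horth u₁ hu₁U c hcW,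
      horth r hrU aW haWW, horth r hrU c hcW, horth' aW haWW aU haUU, horth' aW haWW u₁ hu₁U,
      horth' aW haWW r hrU, horth' c hcW aU haUU, horth' c hcW u₁ hu₁U, horth' c hcW r hrU]
    linear_combination hκ
  obtain ⟨a', ha'⟩ : ∃ a', a' = a + κ • c + (β • u₁ + r) := ⟨_, rfl⟩
  have ha'X : SuX q M a' := by
    rw [ha']
    exact und_hstepU hF hP hHM (a + κ • c) u₁ (β • u₁ + r) ha''X (hXU u₁ hu₁U hu₁u₁) hu₁U hvU
      h_au₁ h_vu₁ h_iso
  have hζ : hh a a' = κ ^ q + β ^ q := by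
    rw [ha', hae]
    simp only [herm_add_left, herm_add_right hF, herm_smul_left, herm_smul_right, haa, hau₁, hu₁a,
      hu₁u₁, hraU, haUr, hru₁, hu₁r, hrr, hn0, hac, hca, hcc,
      horth aU haUU aW haWW, horth aU haUU c hcW, horth u₁ hu₁U aW haWW, horth u₁ hu₁U c hcW,
      horth r hrU aW haWW, horth r hrU c hcW, horth' aW haWW aU haUU, horth' aW haWW u₁ hu₁U,
      horth' aW haWW r hrU, horth' c hcW aU haUU, horth' c hcW u₁ hu₁U, horth' c hcW r hrU]
    ring
  have hζ' : hh a a' = κ / μ ^ q := by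
    rw [hζ, hβq]
    ring
  have hζ0 : hh a a' ≠ 0 := by
    rw [hζ']
    exact div_ne_zero hκ0 hμq0
  have hba : hh a' a = (hh a a') ^ q := (herm_conj hF a a').symm
  have h_iso2 : hh (a + μ • a') (a + μ • a') = 0 := by
    rw [herm_add_left, herm_add_right hF, herm_add_right hF, herm_smul_left, herm_smul_left,
      herm_smul_right, herm_smul_right, haX.1, ha'X.1, hba, hζ', div_pow, pow_q_q hF]
    have e1 : μ ^ q * (κ / μ ^ q) = κ := by field_simp
    have e2 : μ * (κ ^ q / μ) = κ ^ q := by field_simp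
    linear_combination e1 + e2 + hκ
  have hbX := haX.rule hF ha'X hζ0 μ h_iso2
  have hzz : hh (aW + μ • (aW + κ • c)) (aW + μ • (aW + κ • c)) = e₀ + e₀ ^ q := by
    simp only [herm_add_left, herm_add_right hF, herm_smul_left, herm_smul_right, hn0, hac, hca,
      hcc]
    linear_combination hμκ + hμκq + (μ * μ ^ q) * hκ
  refine ⟨a + μ • a', aU + μ • (aU + (β • u₁ + r)), aW + μ • (aW + κ • c), hbX,
    U.add_mem haUU (U.smul_mem μ (U.add_mem haUU hvU)),
    W.add_mem haWW (W.smul_mem μ (W.add_mem haWW (W.smul_mem κ hcW))), ?_, ?_⟩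
  · rw [ha', hae]
    module
  · rw [hzz]
    exact he₀

/-- if the image of one isotropic vector of `U` lies in `S` and images of non-perpendicular
isotropic vectors lie in `S` together, then all of `U` is mapped into `S` -/
theorem maps_into_of_iso (hF : Fintype.card F = q ^ 2) (U S : Submodule F (Fin n → F))
    (hU : NDOn (hB n hF) U) (γ : ↥(Cfsg.SU n F q)) (e₀ : Fin n → F) (he₀U : e₀ ∈ U)
    (he₀0 : e₀ ≠ 0) (he₀e₀ : hh e₀ e₀ = 0) (hside : av γ e₀ ∈ S)
    (hsame : ∀ u ∈ U, ∀ u' ∈ U, hh u u = 0 → hh u' u' = 0 → hh u u' ≠ 0 → av γ u ∈ S →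
      av γ u' ∈ S) : ∀ x ∈ U, av γ x ∈ S := by
  have hIU := hB_isU (n := n) hF
  have hiso : ∀ u ∈ U, hh u u = 0 → av γ u ∈ S := by
    intro u hu huu
    by_cases hu0 : u = 0
    · have h0 : av γ (0 : Fin n → F) = 0 := by
        unfold av
        exact Matrix.mulVec_zero _
      rw [hu0, h0]
      exact S.zero_mem
    · by_cases hp : hh e₀ u = 0
      · obtain ⟨a', ha'U, ha'a'0, ha'e0, ha'u0⟩ :=
          hIU.exists_conn U hU e₀ u he₀U hu he₀0 hu0 he₀e₀ hp
        have ha'a' : hh a' a' = 0 := ha'a'0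
        have ha'e : hh a' e₀ ≠ 0 := ha'e0
        have ha'u : hh a' u ≠ 0 := ha'u0
        have h1 : hh e₀ a' ≠ 0 := fun h0 => ha'e (herm_swap_zero hF h0)
        have h2 := hsame e₀ he₀U a' ha'U he₀e₀ ha'a' h1 hside
        exact hsame a' ha'U u hu ha'a' huu ha'u h2
      · exact hsame e₀ he₀U u hu he₀e₀ huu hp hside
  intro x hx
  obtain ⟨x₁, hx₁, x₂, hx₂, h1, h2, rfl⟩ := hIU.exists_iso_sum U hU e₀ he₀U he₀0 he₀e₀ x hx
  rw [av_add]
  exact S.add_mem (hiso x₁ hx₁ h1) (hiso x₂ hx₂ h2)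

/-- a mixed member of `X` -/
theorem und_exists_mixed (hF : Fintype.card F = q ^ 2) {M : Subgroup (GL (Fin n) F)}
    {U W : Submodule F (Fin n → F)} (hP : UPair (hB n hF) U W) (h2 : 2 ≤ finrank F U)
    (hlt : finrank F W < finrank F U) (hXU : ∀ x ∈ U, hh x x = 0 → SuX q M x)
    (γ : ↥(Cfsg.SU n F q)) (hγ : suGL n F q γ ∈ M) (x₀ : Fin n → F) (hx₀ : x₀ ∈ U)
    (hγx₀ : av γ x₀ ∉ U) : ∃ a, SuX q M a ∧ a ∉ U ∧ a ∉ W := by
  have hIU := hB_isU (n := n) hF
  by_contra hcon
  push Not at hcon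
  obtain ⟨e₀, he₀U, he₀0, he₀e₀0⟩ := exists_iso_in hIU U h2
  have he₀e₀ : hh e₀ e₀ = 0 := he₀e₀0
  have himg : ∀ u ∈ U, hh u u = 0 → av γ u ∈ U ∨ av γ u ∈ W := by
    intro u hu huu
    by_cases h1 : av γ u ∈ U
    · exact Or.inl h1
    · exact Or.inr (hcon _ ((hXU u hu huu).map γ hγ) h1)
  have horth : ∀ u ∈ U, ∀ w ∈ W, hh u w = 0 := fun u hu w hw => hP.orth u hu w hw
  have hsameU : ∀ u ∈ U, ∀ u' ∈ U, hh u u = 0 → hh u' u' = 0 → hh u u' ≠ 0 → av γ u ∈ U →
      av γ u' ∈ U := by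
    intro u hu u' hu' huu hu'u' hne hin
    rcases himg u' hu' hu'u' with h1 | h1
    · exact h1
    · exfalso
      apply hne
      rw [← herm_av γ]
      exact horth _ hin _ h1
  have hsameW : ∀ u ∈ U, ∀ u' ∈ U, hh u u = 0 → hh u' u' = 0 → hh u u' ≠ 0 → av γ u ∈ W →
      av γ u' ∈ W := by
    intro u hu u' hu' huu hu'u' hne hin
    rcases himg u' hu' hu'u' with h1 | h1
    · exfalso
      apply hne
      rw [← herm_av γ]
      exact herm_swap_zero hF (horth _ h1 _ hin)
    · exact h1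
  rcases himg e₀ he₀U he₀e₀ with hside | hside
  · exact hγx₀ (maps_into_of_iso hF U U hP.ndU γ e₀ he₀U he₀0 he₀e₀ hside hsameU x₀ hx₀)
  · have hall := maps_into_of_iso hF U W hP.ndU γ e₀ he₀U he₀0 he₀e₀ hside hsameW
    have hle : U ≤ W.map (Matrix.toLin' ((γ⁻¹ : ↥(Cfsg.SU n F q)).1.1)) := by
      intro u hu
      refine ⟨av γ u, hall u hu, ?_⟩
      rw [Matrix.toLin'_apply]
      exact av_inv_av γ u
    have h1 := Submodule.finrank_mono hle
    have h2 := Submodule.finrank_map_le (Matrix.toLin' ((γ⁻¹ : ↥(Cfsg.SU n F q)).1.1)) W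
    omega

/-- **The stabiliser of a nonzero nondegenerate subspace `W` with `2 dim W < n` is maximal in
`SU_n(q)`, `n ≥ 13`.** -/
theorem su_nondeg_stabilizer_maximal (hF : Fintype.card F = q ^ 2) (hn : 13 ≤ n)
    (W : Submodule F (Fin n → F)) (hW0 : W ≠ ⊥)
    (hW : Cfsg.Geo.IsNondegenerateOn (Cfsg.hermForm n F q) W)
    (hdim : 2 * Module.finrank F W < n) :
    Cfsg.Geo.IsMaximalIn (Cfsg.GU n F q ⊓ Cfsg.Geo.specialLinear (Fin n) F)
      (Cfsg.Geo.subspaceStabilizer W ⊓ (Cfsg.GU n F q ⊓ Cfsg.Geo.specialLinear (Fin n) F)) := by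
  have hIU := hB_isU (n := n) hF
  have hWnd : NDOn (hB n hF) W := fun s hs hs0 => (hW s hs hs0).1
  obtain ⟨U, hUdef⟩ : ∃ U, U = cutS (hB n hF) ⊤ (W : Set (Fin n → F)) := ⟨_, rfl⟩
  have hP : UPair (hB n hF) U W := by
    rw [hUdef]
    exact upair_perp hIU W hWnd
  have hfr := hP.finrank_add
  have hUW : finrank F W < finrank F U := by omega
  have h7 : 7 ≤ finrank F U := by omega
  have horth : ∀ u ∈ U, ∀ w ∈ W, hh u w = 0 := fun u hu w hw => hP.orth u hu w hw
  have horth' : ∀ w ∈ W, ∀ u ∈ U, hh w u = 0 := fun w hw u hu =>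
    herm_swap_zero hF (horth u hu w hw)
  obtain ⟨w₀, hw₀W, hw₀0⟩ := (Submodule.ne_bot_iff W).mp hW0
  obtain ⟨k₀, hk₀0, hk₀⟩ := exists_trace_zero hF
  constructor
  · rw [SetLike.lt_iff_le_and_exists]
    refine ⟨inf_le_right, ?_⟩
    obtain ⟨x₁, hx₁W, hx₁w₀0⟩ := hWnd w₀ hw₀W hw₀0
    have hx₁w₀ : hh x₁ w₀ ≠ 0 := hx₁w₀0
    obtain ⟨e, heU, he0, hee0⟩ := exists_iso_in hIU U (by omega)
    obtain ⟨f, hfU, hff0, hef0⟩ := exists_partner hIU U hP.ndU e heU he0 hee0
    have hee : hh e e = 0 := hee0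
    have hff : hh f f = 0 := hff0
    have hef : hh e f = 1 := hef0
    have hfe : hh f e = 1 := by rw [← herm_conj hF, hef, one_pow]
    have hfix : conjQ hF (-(hh w₀ w₀)) = -(hh w₀ w₀) := by
      rw [conjQ_apply, neg_pow_q hF, herm_conj hF]
    obtain ⟨lam, hlam⟩ := hIU.exists_tr _ hfix
    rw [conjQ_apply] at hlam
    obtain ⟨a, hadef⟩ : ∃ a, a = e + lam • f + w₀ := ⟨_, rfl⟩
    have haa : hh a a = 0 := by
      rw [hadef]
      simp only [herm_add_left, herm_add_right hF, herm_smul_left, herm_smul_right, hee, hff, hef,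
        hfe, horth e heU w₀ hw₀W, horth f hfU w₀ hw₀W, horth' w₀ hw₀W e heU, horth' w₀ hw₀W f hfU]
      linear_combination hlam
    have hx₁a : hh x₁ a = hh x₁ w₀ := by
      rw [hadef, herm_add_right hF, herm_add_right hF, herm_smul_right, horth' x₁ hx₁W e heU,
        horth' x₁ hx₁W f hfU]
      ring
    refine ⟨suGL n F q (SUG.tv hF a k₀ haa hk₀), suGL_mem _, ?_⟩
    rintro ⟨hs, -⟩
    have h1 := (hs x₁).mp hx₁W
    change av (SUG.tv hF a k₀ haa hk₀) x₁ ∈ W at h1
    rw [av_tv] at h1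
    have h2 := W.sub_mem h1 hx₁W
    rw [add_sub_cancel_left] at h2
    have h3 : a ∈ W := by
      have hne : k₀ * hh x₁ a ≠ 0 := by
        rw [hx₁a]
        exact mul_ne_zero hk₀0 hx₁w₀
      have := W.smul_mem (k₀ * hh x₁ a)⁻¹ h2
      rwa [smul_smul, inv_mul_cancel₀ hne, one_smul] at this
    have h4 : e + lam • f ∈ W := by
      have := W.sub_mem h3 hw₀W
      rwa [hadef, add_sub_cancel_right] at this
    have h5 : e + lam • f = 0 := hP.inter (U.add_mem heU (U.smul_mem lam hfU)) h4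
    have h6 : hh (e + lam • f) f = 1 := by
      rw [herm_add_left, herm_smul_left, hef, hff]
      ring
    rw [h5, herm_zero_left] at h6
    exact zero_ne_one h6
  · intro M hHM hMS
    by_cases hMH : M ≤ Cfsg.Geo.subspaceStabilizer W ⊓
        (Cfsg.GU n F q ⊓ Cfsg.Geo.specialLinear (Fin n) F)
    · left
      exact le_antisymm hMH hHM
    · right
      apply le_antisymm hMS
      obtain ⟨g, hgM, hgH⟩ := SetLike.not_le_iff_exists.mp hMH
      have hgW : g ∉ Cfsg.Geo.subspaceStabilizer W := fun h => hgH ⟨h, hMS hgM⟩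
      obtain ⟨g', rfl⟩ := exists_suGL_eq g (hMS hgM)
      have hXU : ∀ x ∈ U, hh x x = 0 → SuX q M x := by
        intro a haU haa
        refine ⟨haa, fun A c hA => hHM ⟨?_, suGL_mem A⟩⟩
        apply mem_subspaceStabilizer_of_forall
        intro x hx
        rw [suGL_mulVec]
        change ((A : Matrix.SpecialLinearGroup (Fin n) F) : Matrix (Fin n) (Fin n) F) *ᵥ x ∈ W
        rw [hA, transvection_mulVec, horth' x hx a haU, mul_zero, zero_smul, add_zero]
        exact hx
      have hXW : ∀ x ∈ W, hh x x = 0 → SuX q M x := by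
        intro a haW haa
        refine ⟨haa, fun A c hA => hHM ⟨?_, suGL_mem A⟩⟩
        apply mem_subspaceStabilizer_of_forall
        intro x hx
        rw [suGL_mulVec]
        change ((A : Matrix.SpecialLinearGroup (Fin n) F) : Matrix (Fin n) (Fin n) F) *ᵥ x ∈ W
        rw [hA, transvection_mulVec]
        exact W.add_mem hx (W.smul_mem _ haW)
      have hγM : suGL n F q g'⁻¹ ∈ M := by
        rw [map_inv]
        exact M.inv_mem hgM
      obtain ⟨x₀, hx₀U, hx₀⟩ : ∃ x₀ ∈ U, av g'⁻¹ x₀ ∉ U := by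
        by_contra hcon
        push Not at hcon
        apply hgW
        apply mem_subspaceStabilizer_of_forall
        intro x hx
        rw [suGL_mulVec]
        apply hP.mem_right
        intro u hu
        have h1 : hh u (av g' x) = hh (av g'⁻¹ u) x := by
          rw [← herm_av g'⁻¹ u (av g' x), av_inv_av]
        have h2 : hh u (av g' x) = 0 := by
          rw [h1]
          exact horth _ (hcon u hu) x hx
        exact h2
      obtain ⟨a, haX, haU, haW⟩ :=
        und_exists_mixed hF hP (by omega) hUW hXU g'⁻¹ hγM x₀ hx₀U hx₀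
      have hmix := und_improve hF hP (by omega) hHM hXU hXW a haX haU haW
      have hall := und_closure_all hF (finrank F W) U W rfl hP (by omega) hXU hXW
        (fun _ => hmix)
      exact suGL_le_of_forall hF (by omega) (by omega) M hall

end sund

end Cfsg.Agent.Lib.Helper13.SUND
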