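import Mathlib
import Cfsg.Agent.Lib.Helper15.S5670T4Defs
import Cfsg.Agent.Lib.Helper6.SUSimple

/-!
# S5670 FO-T4 pieces T4-BASIC, T4-IW, T4-ISOALL (helper13)
-/

set_option autoImplicit false
set_option linter.unusedSectionVars false
set_option linter.unusedVariables false

namespace Cfsg.Agent.Lib.Helper13.S5670T4A

open Matrix Module
open Cfsg.Agent.Lib.Helper6 Cfsg.Agent.Lib.Helper6.SUG Cfsg.Agent.Lib.Helper13 Cfsg.Agent.S0779 Cfsg.Agent.S0781
open Cfsg.Agent.Lib.Helper15.S5670T4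

variable {F : Type*} [Field F] [Fintype F] {a b n q : ℕ}
variable {tp : (Fin a → F) → (Fin b → F) → (Fin n → F)} {M : Subgroup (GL (Fin n) F)}

local notation "hU" => Cfsg.hermForm a F q
local notation "hW" => Cfsg.hermForm b F q
local notation "hV" => Cfsg.hermForm n F q

theorem tp_zero_left (hT : TP q tp) (w : Fin b → F) : tp 0 w = 0 := by
  have := hT.smul_left 0 0 w
  simpa using this

theorem tp_zero_right (hT : TP q tp) (u : Fin a → F) : tp u 0 = 0 := by
  have := hT.smul_right 0 u 0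
  simpa using this

/-- T4-BASIC -/
theorem inI_map (hK : KronIn q M tp) (u : Fin a → F) (A : ↥(Cfsg.SU a F q))
    (h : InI q M tp u) : InI q M tp (av A u) := by
  intro k hk
  obtain ⟨g, hgM, hg⟩ := hK.left A
  have := (h k hk).map g hgM
  rwa [hg] at this

/-- T4-BASIC -/
theorem inI_smul (hT : TP q tp) (u : Fin a → F) (c : F) (h : InI q M tp u) : InI q M tp (c • u) := by
  intro k hk
  rw [hT.smul_left]
  exact (h k hk).smul c

/-- T4-IW -/
theorem inI_of_one (hF : Fintype.card F = q ^ 2) (hb : 3 ≤ b) (hT : TP q tp) (hK : KronIn q M tp)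
    (u : Fin a → F) (k₀ : Fin b → F) (hk0 : k₀ ≠ 0) (hk : hW k₀ k₀ = 0) (h : SuX q M (tp u k₀)) :
    InI q M tp u := by
  intro k hkk
  by_cases hk' : k = 0
  · rw [hk', tp_zero_right hT]
    exact SuX.zero M
  · obtain ⟨t, -, ht⟩ := rel_iso hF hb k₀ k hk0 hk' hk hkk
    obtain ⟨g, hgM, hg⟩ := hK.right t
    have := h.map g hgM
    rwa [hg, ht] at this

/-- one step: from an isotropic `e` to a non-orthogonal isotropic `u` -/
theorem iso_step (hF : Fintype.card F = q ^ 2) (P : (Fin a → F) → Prop)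
    (hmap : ∀ (u : Fin a → F) (A : ↥(Cfsg.SU a F q)), P u → P (av A u))
    (hsmul : ∀ (u : Fin a → F) (c : F), P u → P (c • u))
    (e u : Fin a → F) (he : hU e e = 0) (hu : hU u u = 0) (heu : hU e u ≠ 0) (hP : P e) : P u := by
  obtain ⟨k, hk0, hkq⟩ := exists_trace_zero hF
  -- scale `u` so that `h(e, l u) = k`
  set l : F := (k / hU e u) ^ q with hl
  have hlq : l ^ q = k / hU e u := by rw [hl, pow_q_q hF]
  have hl0 : l ≠ 0 := by
    rw [hl]
    exact pow_ne_zero _ (div_ne_zero hk0 heu)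
  have h1 : hU e (l • u) = k := by
    rw [herm_smul_right, hlq, div_mul_cancel₀ _ heu]
  have h2 : hU (l • u) (l • u) = 0 := by
    rw [herm_smul_left, herm_smul_right, hu, mul_zero, mul_zero]
  obtain ⟨t, -, ht⟩ := rel_iso_step hF e (l • u) he h2 k h1 hk0 hkq
  have h3 : P (l • u) := by
    rw [← ht]
    exact hmap e t hP
  have h4 := hsmul _ l⁻¹ h3
  rwa [smul_smul, inv_mul_cancel₀ hl0, one_smul] at h4

/-- T4-ISOALL -/
theorem iso_all (hF : Fintype.card F = q ^ 2) (ha : 2 ≤ a) (P : (Fin a → F) → Prop)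
    (hmap : ∀ (u : Fin a → F) (A : ↥(Cfsg.SU a F q)), P u → P (av A u))
    (hsmul : ∀ (u : Fin a → F) (c : F), P u → P (c • u))
    (e : Fin a → F) (he0 : e ≠ 0) (he : hU e e = 0) (hP : P e) : ∀ u, hU u u = 0 → P u := by
  intro u hu
  by_cases hu0 : u = 0
  · have := hsmul e 0 hP
    rwa [zero_smul, ← hu0] at this
  by_cases heu : hU e u = 0
  · obtain ⟨y, hyy, hey, hyu⟩ := exists_iso_nonperp hF e u he0 hu0 he hu heu
    exact iso_step hF P hmap hsmul y u hyy hu hyu (iso_step hF P hmap hsmul e y he hyy hey hP)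
  · exact iso_step hF P hmap hsmul e u he hu heu hP

end Cfsg.Agent.Lib.Helper13.S5670T4A
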