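import Mathlib
import Cfsg.Agent.Lib.Helper15.S5670T4Defs
import Cfsg.Agent.Lib.Helper6.SUSimple
import Cfsg.Agent.Lib.Helper13.S5670T4A

/-!
# S5670 FO-T4 pieces T4-J, T4-CORE (helper13)

`inJ_of_pair_of` takes the statement of T4-SLOT (for the swapped pair) as a hypothesis.
-/

set_option autoImplicit false
set_option linter.unusedSectionVars false
set_option linter.unusedVariables false

namespace Cfsg.Agent.Lib.Helper13.S5670T4B

open Matrix Module
open Cfsg.Agent.Lib.Helper6 Cfsg.Agent.Lib.Helper6.SUG Cfsg.Agent.Lib.Helper13 Cfsg.Agent.S0779 Cfsg.Agent.S0781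
open Cfsg.Agent.Lib.Helper15.S5670T4 Cfsg.Agent.Lib.Helper13.S5670T4A

variable {F : Type*} [Field F] [Fintype F] {a b n q : ℕ}
variable {tp : (Fin a → F) → (Fin b → F) → (Fin n → F)} {M : Subgroup (GL (Fin n) F)}

local notation "hU" => Cfsg.hermForm a F q
local notation "hW" => Cfsg.hermForm b F q
local notation "hV" => Cfsg.hermForm n F q

/-- a non-zero isotropic vector of the standard hermitian space of dimension `≥ 2` -/
theorem exists_iso_ne_zero (hF : Fintype.card F = q ^ 2) (hb : 2 ≤ b) :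
    ∃ z : Fin b → F, z ≠ 0 ∧ hW z z = 0 := by
  classical
  obtain ⟨θ, hθ⟩ := exists_norm_any hF (-1 : F) (by rw [neg_pow_q hF, one_pow])
  let i0 : Fin b := ⟨0, by omega⟩
  let i1 : Fin b := ⟨1, by omega⟩
  have h01 : i0 ≠ i1 := by
    intro h
    have := congrArg Fin.val h
    simp [i0, i1] at this
  refine ⟨Pi.single i0 1 + θ • Pi.single i1 1, ?_, ?_⟩
  · intro h
    have := congrFun h i0
    simp [Pi.single_eq_of_ne h01] at this
  · rw [herm_add_right hF, herm_smul_right, herm_single_right hF, herm_single_right hF]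
    simp only [Pi.add_apply, Pi.smul_apply, Pi.single_eq_same, Pi.single_eq_of_ne h01, Pi.single_eq_of_ne h01.symm,
      smul_eq_mul, mul_zero, mul_one, add_zero, zero_add]
    linear_combination hθ

/-- an isotropic vector `z` with `h(z, w)` a prescribed non-zero value -/
theorem exists_iso_herm_eq (hF : Fintype.card F = q ^ 2) (hb : 2 ≤ b) (w : Fin b → F) (hw : w ≠ 0) (k : F) :
    ∃ z : Fin b → F, hW z z = 0 ∧ hW z w = k := by
  obtain ⟨z₀, hz00, hz0⟩ := exists_iso_ne_zero (F := F) (q := q) hF hb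
  have key : ∃ z₁ : Fin b → F, hW z₁ z₁ = 0 ∧ hW z₁ w ≠ 0 := by
    by_cases h0 : hW z₀ w = 0
    · obtain ⟨y₁, hy₁⟩ := exists_herm_ne_zero hF z₀ hz00
      obtain ⟨y₂, hy₂⟩ : ∃ y₂, hW y₂ w ≠ 0 := by
        obtain ⟨y, hy⟩ := exists_herm_ne_zero hF w hw
        exact ⟨y, fun h => hy (herm_swap_zero hF h)⟩
      obtain ⟨y', hy'1, hy'2⟩ : ∃ y', hW z₀ y' ≠ 0 ∧ hW y' w ≠ 0 := by
        by_cases h1 : hW y₁ w = 0
        · by_cases h2 : hW z₀ y₂ = 0
          · refine ⟨y₁ + y₂, ?_, ?_⟩
            · rw [herm_add_right hF, h2, add_zero]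
              exact hy₁
            · rw [herm_add_left, h1, zero_add]
              exact hy₂
          · exact ⟨y₂, h2, hy₂⟩
        · exact ⟨y₁, hy₁, h1⟩
      obtain ⟨l, hl⟩ := exists_iso_partner hF z₀ y' hz0 hy'1
      refine ⟨y' + l • z₀, hl, ?_⟩
      rw [herm_add_left, herm_smul_left, h0, mul_zero, add_zero]
      exact hy'2
    · exact ⟨z₀, hz0, h0⟩
  obtain ⟨z₁, h1, h2⟩ := key
  refine ⟨(k / hW z₁ w) • z₁, ?_, ?_⟩
  · rw [herm_smul_left, herm_smul_right, h1, mul_zero, mul_zero]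
  · rw [herm_smul_left, div_mul_cancel₀ _ h2]

/-- T4-J, with T4-SLOT for the pair `(f, e)` as a hypothesis -/
theorem inJ_of_pair_of (hF : Fintype.card F = q ^ 2) (hb : 3 ≤ b) (hT : TP q tp) (e f : Fin a → F)
    (he : hU e e = 0) (hf : hU f f = 0) (hef : hU e f = 1)
    (hIe : InI q M tp e) (hIf : InI q M tp f)
    (hslot : ∀ (z₀ : Fin b → F), z₀ ≠ 0 → hW z₀ z₀ = 0 → ∀ w' : Fin b → F,
      hW z₀ w' + (hW z₀ w') ^ q = 0 → SuX q M (tp f z₀ + tp e w')) : InJ q M tp e := by
  intro w
  by_cases hw : w = 0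
  · rw [hw, tp_zero_right hT]
    exact SuX.zero M
  obtain ⟨k, hk0, hkq⟩ := exists_trace_zero hF
  obtain ⟨z', hz'1, hz'2⟩ := exists_iso_herm_eq (F := F) (q := q) hF (by omega) w hw k
  have hz'0 : z' ≠ 0 := by
    intro h
    rw [h, herm_zero_left] at hz'2
    exact hk0 hz'2.symm
  have h1 : SuX q M (tp f z' + tp e w) := by
    apply hslot z' hz'0 hz'1 w
    rw [hz'2, hkq, add_neg_cancel]
  have h2 : SuX q M (tp f z') := hIf z' hz'1
  have hwz : hW w z' = k ^ q := by rw [← hz'2, herm_conj hF]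
  have hab : hV (tp f z' + tp e w) (tp f z') ≠ 0 := by
    rw [herm_add_left, hT.herm, hT.herm, hf, zero_mul, zero_add, hef, one_mul, hwz]
    exact pow_ne_zero _ hk0
  have e1 : tp f z' + tp e w + (-1 : F) • tp f z' = tp e w := by
    rw [neg_one_smul]
    abel
  have h3 := SuX.rule hF h1 h2 hab (-1) (by
    rw [e1, hT.herm, he, zero_mul])
  rwa [e1] at h3

/-- T4-CORE -/
theorem core (hF : Fintype.card F = q ^ 2) (hT : TP q tp) (e f : Fin a → F)
    (he : hU e e = 0) (hf : hU f f = 0) (hef : hU e f = 1)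
    (hJe : InJ q M tp e) (hJf : InJ q M tp f) (w w' : Fin b → F)
    (hiso : hV (tp e w + tp f w') (tp e w + tp f w') = 0) : SuX q M (tp e w + tp f w') := by
  have hfe : hU f e = 1 := by rw [← herm_conj hF, hef, one_pow]
  by_cases h0 : hW w w' = 0
  · by_cases hw : w = 0
    · rw [hw, tp_zero_right hT, zero_add]
      exact hJf w'
    · obtain ⟨k, hk0, hkq⟩ := exists_trace_zero hF
      -- `w''` with `h(w, w'') = k`
      obtain ⟨y, hy⟩ := exists_herm_ne_zero hF w hw
      set l : F := (k / hW w y) ^ q with hl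
      have hlq : l ^ q = k / hW w y := by rw [hl, pow_q_q hF]
      have hww'' : hW w (l • y) = k := by
        rw [herm_smul_right, hlq, div_mul_cancel₀ _ hy]
      have hab1 : hV (tp e w) (tp f (l • y)) ≠ 0 := by
        rw [hT.herm, hef, one_mul, hww'']
        exact hk0
      have s1 : SuX q M (tp e w + (1 : F) • tp f (l • y)) := by
        apply SuX.rule hF (hJe w) (hJf (l • y)) hab1 1
        rw [one_smul, herm_add_left, herm_add_right hF, herm_add_right hF, hT.herm, hT.herm, hT.herm, hT.herm, he, hf,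
          hef, hfe, ← herm_conj hF w (l • y), hww'', hkq]
        ring
      rw [one_smul] at s1
      have hab2 : hV (tp e w + tp f (l • y)) (tp f (w' - l • y)) ≠ 0 := by
        rw [herm_add_left, hT.herm, hT.herm, hf, zero_mul, add_zero, hef, one_mul, herm_sub_right hF, h0, hww'', zero_sub]
        exact neg_ne_zero.mpr hk0
      have e1 : tp e w + tp f (l • y) + (1 : F) • tp f (w' - l • y) = tp e w + tp f w' := by
        rw [one_smul, add_assoc, ← hT.add_right, add_sub_cancel]
      have s2 := SuX.rule hF s1 (hJf (w' - l • y)) hab2 1 (by rw [e1]; exact hiso)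
      rwa [e1] at s2
  · have hab : hV (tp e w) (tp f w') ≠ 0 := by
      rw [hT.herm, hef, one_mul]
      exact h0
    have := SuX.rule hF (hJe w) (hJf w') hab 1 (by rw [one_smul]; exact hiso)
    rwa [one_smul] at this

end Cfsg.Agent.Lib.Helper13.S5670T4B
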