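import Mathlib
import Cfsg.Agent.Lib.Helper15.S5670T4Defs
import Cfsg.Agent.Lib.Helper6.SUSimple
import Cfsg.Agent.Lib.Helper6.SURoot4
import Cfsg.Agent.Lib.Helper13.SubfSU
import Cfsg.Agent.Lib.Helper13.S5670T4A
import Cfsg.Agent.Lib.Helper13.S5670T4B

/-!
# S5670 FO-T4 piece T4-CONV3 (helper13): from a non-isotropic `u` to an isotropic one, `q ≥ 3`
-/

set_option autoImplicit false
set_option linter.unusedSectionVars false
set_option linter.unusedVariables false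

namespace Cfsg.Agent.Lib.Helper13.S5670T4C

open Matrix Module
open Cfsg.Agent.Lib.Helper6 Cfsg.Agent.Lib.Helper6.SUG Cfsg.Agent.Lib.Helper13 Cfsg.Agent.S0779 Cfsg.Agent.S0781
open Cfsg.Agent.Lib.Helper15.S5670T4 Cfsg.Agent.Lib.Helper13.S5670T4A Cfsg.Agent.Lib.Helper13.S5670T4B

variable {F : Type*} [Field F] [Fintype F] {a b n q : ℕ}
variable {tp : (Fin a → F) → (Fin b → F) → (Fin n → F)} {M : Subgroup (GL (Fin n) F)}

local notation "hU" => Cfsg.hermForm a F q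
local notation "hW" => Cfsg.hermForm b F q
local notation "hV" => Cfsg.hermForm n F q

/-- an element of the fixed field other than `0` and `1` (`q ≥ 3`) -/
theorem exists_fixed_ne (hF : Fintype.card F = q ^ 2) (hq : 3 ≤ q) : ∃ s : F, s ^ q = s ∧ s ≠ 0 ∧ s ≠ 1 := by
  classical
  have hcard := Cfsg.Agent.Lib.Helper6.SURoot.card_fixK hF
  have : Fintype (Cfsg.Agent.Lib.Helper6.SURoot.fixK hF) := Fintype.ofFinite _
  rw [Nat.card_eq_fintype_card] at hcard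
  have h3 : 2 < Fintype.card (Cfsg.Agent.Lib.Helper6.SURoot.fixK hF) := by omega
  obtain ⟨x, y, z, hxy, hxz, hyz⟩ := Fintype.two_lt_card_iff.1 h3
  have hmem : ∀ t : Cfsg.Agent.Lib.Helper6.SURoot.fixK hF, (t : F) ^ q = (t : F) := fun t =>
    (Cfsg.Agent.Lib.Helper6.SURoot.mem_fixK hF _).1 t.2
  have hne : ∀ t t' : Cfsg.Agent.Lib.Helper6.SURoot.fixK hF, t ≠ t' → (t : F) ≠ (t' : F) := fun t t' h h' =>
    h (Subtype.ext h')
  by_cases hx : (x : F) ≠ 0 ∧ (x : F) ≠ 1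
  · exact ⟨x, hmem x, hx.1, hx.2⟩
  by_cases hy : (y : F) ≠ 0 ∧ (y : F) ≠ 1
  · exact ⟨y, hmem y, hy.1, hy.2⟩
  refine ⟨z, hmem z, ?_, ?_⟩
  · intro hz
    have h1 := hne x z hxz
    have h2 := hne y z hyz
    have h3 := hne x y hxy
    rw [hz] at h1 h2
    have hx1 : (x : F) = 1 := by
      by_contra h
      exact hx ⟨h1, h⟩
    have hy1 : (y : F) = 1 := by
      by_contra h
      exact hy ⟨h2, h⟩
    exact h3 (hx1.trans hy1.symm)
  · intro hz
    have h1 := hne x z hxz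
    have h2 := hne y z hyz
    have h3 := hne x y hxy
    rw [hz] at h1 h2
    have hx1 : (x : F) = 0 := by
      by_contra h
      exact hx ⟨h, h1⟩
    have hy1 : (y : F) = 0 := by
      by_contra h
      exact hy ⟨h, h2⟩
    exact h3 (hx1.trans hy1.symm)

/-- the product of three commuting transvections with centres on a totally isotropic line -/
theorem three_tv (hF : Fintype.card F = q ^ 2) (U₀ E : Fin n → F) (hUU : hV U₀ U₀ = 0) (hUE : hV U₀ E = 0)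
    (hEE : hV E E = 0) (ε s r : F) (hε : ε ^ q = -ε) (hs : s ^ q = s) (hr : r ^ q = r)
    (h0 : hV U₀ U₀ = 0) (h1 : hV (U₀ + ε • E) (U₀ + ε • E) = 0) (h2 : hV (U₀ + (ε * s) • E) (U₀ + (ε * s) • E) = 0)
    (hγ0 : (ε * (1 - s) * r) ^ q = -(ε * (1 - s) * r)) (hγ1 : (ε * s * r) ^ q = -(ε * s * r))
    (hγ2 : (-(ε * r)) ^ q = -(-(ε * r))) (hγ : (-(ε ^ 3 * s * (1 - s) * r)) ^ q = -(-(ε ^ 3 * s * (1 - s) * r))) :
    SUG.tv hF U₀ (ε * (1 - s) * r) h0 hγ0 * SUG.tv hF (U₀ + ε • E) (ε * s * r) h1 hγ1 *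
      SUG.tv hF (U₀ + (ε * s) • E) (-(ε * r)) h2 hγ2 = SUG.tv hF E (-(ε ^ 3 * s * (1 - s) * r)) hEE hγ := by
  have hEU : hV E U₀ = 0 := herm_swap_zero hF hUE
  have hεs : (ε * s) ^ q = -(ε * s) := by rw [mul_pow, hε, hs]; ring
  apply ext_av
  intro y
  rw [av_mul, av_mul, av_tv, av_tv, av_tv, av_tv]
  simp only [herm_add_left, herm_add_right hF, herm_smul_left, herm_smul_right, hUU, hUE, hEU, hEE, hε, hεs,
    mul_zero, add_zero, zero_add]
  module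

/-- T4-CONV3 -/
theorem conv_of_three_le (hF : Fintype.card F = q ^ 2) (hq : 3 ≤ q) (ha : 2 ≤ a) (hT : TP q tp)
    (hK : KronIn q M tp) (u : Fin a → F) (hu : hU u u ≠ 0) (k₀ : Fin b → F) (hk : hW k₀ k₀ = 0)
    (hX : SuX q M (tp u k₀)) : ∃ e : Fin a → F, e ≠ 0 ∧ hU e e = 0 ∧ SuX q M (tp e k₀) := by
  have hu0 : u ≠ 0 := by
    intro h
    rw [h, herm_zero_left] at hu
    exact hu rfl
  obtain ⟨e', he'e', he'u⟩ := exists_iso_herm_eq (F := F) (q := q) hF ha u hu0 1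
  have hue' : hU u e' = 1 := by rw [← herm_conj hF, he'u, one_pow]
  have he'0 : e' ≠ 0 := by
    intro h
    rw [h, herm_zero_left] at he'u
    exact zero_ne_one he'u
  obtain ⟨ε, hε0, hε⟩ := exists_trace_zero hF
  obtain ⟨s, hs, hs0, hs1⟩ := exists_fixed_ne hF hq
  -- the three centres
  have hXc : ∀ c : F, c ^ q = -c → SuX q M (tp (u + c • e') k₀) := by
    intro c hc
    obtain ⟨g, hgM, hg⟩ := hK.left (SUG.tv hF e' c he'e' hc)
    have := hX.map g hgM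
    rwa [hg, av_tv, hue', mul_one] at this
  have hεs : (ε * s) ^ q = -(ε * s) := by rw [mul_pow, hε, hs]; ring
  have hX1 := hXc ε hε
  have hX2 := hXc (ε * s) hεs
  rw [hT.add_left, hT.smul_left] at hX1 hX2
  have hUU : hV (tp u k₀) (tp u k₀) = 0 := hX.1
  have hUE : hV (tp u k₀) (tp e' k₀) = 0 := by rw [hT.herm, hk, mul_zero]
  have hEE : hV (tp e' k₀) (tp e' k₀) = 0 := by rw [hT.herm, hk, mul_zero]
  refine ⟨e', he'0, he'e', ?_⟩
  apply SuX.of_tv hF hEE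
  intro c hc
  -- the parameter `r`
  have hD : ε ^ 3 * s * (1 - s) ≠ 0 :=
    mul_ne_zero (mul_ne_zero (pow_ne_zero _ hε0) hs0) (sub_ne_zero.mpr (Ne.symm hs1))
  set r : F := -(c / (ε ^ 3 * s * (1 - s))) with hr
  have hDq : (ε ^ 3 * s * (1 - s)) ^ q = -(ε ^ 3 * s * (1 - s)) := by
    rw [mul_pow, mul_pow, ← pow_mul, mul_comm 3 q, pow_mul, hε, hs, sub_pow_q hF, one_pow, hs]
    ring
  have hrq : r ^ q = r := by
    rw [hr, neg_pow_q hF, div_pow, hc, hDq, neg_div_neg_eq]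
  have hcr : c = -(ε ^ 3 * s * (1 - s) * r) := by
    rw [hr]
    field_simp
  have hγ0 : (ε * (1 - s) * r) ^ q = -(ε * (1 - s) * r) := by
    rw [mul_pow, mul_pow, hε, sub_pow_q hF, one_pow, hs, hrq]
    ring
  have hγ1 : (ε * s * r) ^ q = -(ε * s * r) := by
    rw [mul_pow, mul_pow, hε, hs, hrq]
    ring
  have hγ2 : (-(ε * r)) ^ q = -(-(ε * r)) := by
    rw [neg_pow_q hF, mul_pow, hε, hrq]
    ring
  have hγ : (-(ε ^ 3 * s * (1 - s) * r)) ^ q = -(-(ε ^ 3 * s * (1 - s) * r)) := by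
    rw [← hcr]
    exact hc
  have key := three_tv hF (tp u k₀) (tp e' k₀) hUU hUE hEE ε s r hε hs hrq hUU hX1.1 hX2.1 hγ0 hγ1 hγ2 hγ
  have e1 : SUG.tv hF (tp e' k₀) c hEE hc = SUG.tv hF (tp e' k₀) (-(ε ^ 3 * s * (1 - s) * r)) hEE hγ := by
    apply ext_av
    intro y
    rw [av_tv, av_tv, ← hcr]
  rw [e1, ← key, map_mul, map_mul]
  exact M.mul_mem (M.mul_mem (hX.2 _ _ rfl) (hX1.2 _ _ rfl)) (hX2.2 _ _ rfl)

end Cfsg.Agent.Lib.Helper13.S5670T4C
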