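import Mathlib
import Cfsg.Agent.Lib.Helper13.UOmDefs

/-!
# The unitary transvections lie in `N(K) ∩ Ω`
-/

set_option autoImplicit false
set_option linter.unusedSectionVars false
set_option linter.unusedVariables false

namespace Cfsg.Agent.Lib.Helper13

open Matrix Module QuadraticMap Cfsg.Agent.Lib.Helper6 Cfsg.Agent.Lib.Helper13.OND

section foh
universe u
variable {F : Type u} [Field F] {ι : Type} [Fintype ι] [DecidableEq ι]
variable {Q : QuadraticForm F (ι → F)} {δ : Matrix ι ι F} {τ ν : F}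

/-- a matrix commuting with `δ` normalises `K = F[δ]` -/
theorem mem_normalizer_of_comm (K : Subalgebra F (Matrix ι ι F))
    (hKδ : ∀ k : Matrix ι ι F, k ∈ K ↔ ∃ a b : F, k = a • (1 : Matrix ι ι F) + b • δ)
    (g : GL ι F) (hc : (g : Matrix ι ι F) * δ = δ * (g : Matrix ι ι F)) :
    g ∈ Cfsg.Geo.subalgebraNormalizer K := by
  have h1 : (g : Matrix ι ι F) * ((g⁻¹ : GL ι F) : Matrix ι ι F) = 1 := by
    rw [← Units.val_mul, mul_inv_cancel, Units.val_one]
  have h2 : ((g⁻¹ : GL ι F) : Matrix ι ι F) * (g : Matrix ι ι F) = 1 := by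
    rw [← Units.val_mul, inv_mul_cancel, Units.val_one]
  have hconj : ∀ a b : F, (g : Matrix ι ι F) * (a • (1 : Matrix ι ι F) + b • δ) *
      ((g⁻¹ : GL ι F) : Matrix ι ι F) = a • (1 : Matrix ι ι F) + b • δ := by
    intro a b
    rw [Matrix.mul_add, Matrix.mul_smul, Matrix.mul_smul, Matrix.mul_one, hc, Matrix.add_mul,
      Matrix.smul_mul, Matrix.smul_mul, h1, Matrix.mul_assoc, h1, Matrix.mul_one]
  intro k
  constructor
  · intro hk
    obtain ⟨a, b, rfl⟩ := (hKδ k).mp hk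
    rw [hconj]
    exact (hKδ _).mpr ⟨a, b, rfl⟩
  · intro hk
    obtain ⟨a, b, hab⟩ := (hKδ _).mp hk
    have h3 : k = ((g⁻¹ : GL ι F) : Matrix ι ι F) *
        ((g : Matrix ι ι F) * k * ((g⁻¹ : GL ι F) : Matrix ι ι F)) * (g : Matrix ι ι F) := by
      rw [Matrix.mul_assoc, Matrix.mul_assoc, h2, Matrix.mul_one, ← Matrix.mul_assoc, h2,
        Matrix.one_mul]
    have h4 : ((g⁻¹ : GL ι F) : Matrix ι ι F) * (a • (1 : Matrix ι ι F) + b • δ) *
        (g : Matrix ι ι F) = a • (1 : Matrix ι ι F) + b • δ := by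
      have h5 := hconj a b
      calc ((g⁻¹ : GL ι F) : Matrix ι ι F) * (a • (1 : Matrix ι ι F) + b • δ) * (g : Matrix ι ι F)
          = ((g⁻¹ : GL ι F) : Matrix ι ι F) * ((g : Matrix ι ι F) *
              (a • (1 : Matrix ι ι F) + b • δ) * ((g⁻¹ : GL ι F) : Matrix ι ι F)) *
              (g : Matrix ι ι F) := by rw [h5]
        _ = a • (1 : Matrix ι ι F) + b • δ := by
            rw [Matrix.mul_assoc, Matrix.mul_assoc, h2, Matrix.mul_one, ← Matrix.mul_assoc, h2,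
              Matrix.one_mul]
    rw [h3, hab, h4]
    exact (hKδ _).mpr ⟨a, b, rfl⟩

/-- FO-H: the unitary transvections lie in `N(K) ∩ Ω` -/
theorem utv_mem_H [Fintype F] (hU : UStr Q δ τ ν) (hQ : (polarBilin Q).Nondegenerate)
    (h5 : 5 ≤ Fintype.card ι) (K : Subalgebra F (Matrix ι ι F))
    (hKδ : ∀ k : Matrix ι ι F, k ∈ K ↔ ∃ a b : F, k = a • (1 : Matrix ι ι F) + b • δ)
    (y : ι → F) (hy : Q y = 0) (t : F) :
    ((utv hU y hy t : ↥(Cfsg.isometryGroup F ⇑Q)) : GL ι F) ∈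
      Cfsg.Geo.subalgebraNormalizer K ⊓ Cfsg.Geo.omegaGL ⇑Q := by
  refine Subgroup.mem_inf.mpr ⟨?_, ?_⟩
  · apply mem_normalizer_of_comm K hKδ
    apply Matrix.toLin'.injective
    apply LinearMap.ext
    intro z
    rw [Matrix.toLin'_apply, Matrix.toLin'_apply, ← mulVec_mulVec, ← mulVec_mulVec]
    exact gact_utv_delta hU y hy t z
  · rw [mem_omegaGL_iff]
    exact ⟨utv hU y hy t, siegIso_mem_Omega Q hQ h5 _ _ _ _, rfl⟩

end foh

end Cfsg.Agent.Lib.Helper13
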