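import Mathlib
import Cfsg.Agent.Lib.Helper13.UOmDefs
import Cfsg.Agent.Lib.Helper13.S5700FOG0
import Cfsg.Agent.Lib.Helper13.S5700FOH
import Cfsg.Agent.Lib.Helper13.S5700FOIV
import Cfsg.Agent.Lib.Helper12.S5700FOI
import Cfsg.Agent.Lib.Helper24.S5700FOII
import Cfsg.Agent.Lib.Helper24.S5700FOV
import Cfsg.Agent.Lib.Helper3.S5700FOIII
import Cfsg.Agent.Lib.Helper3.S5700FOSTRICT
import Cfsg.Agent.Lib.Helper27.S5700FOSTRUCT
import Cfsg.Agent.Lib.Helper27.S5700FONORM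

/-!
# S5700: assembly (type `GU_{n/2}(q)` in `Ω^±_n(q)`)

The pieces: FO-G0, FO-H, FO-IV (helper13), FO-I (helper12), FO-II, FO-V (helper24),
FO-III, FO-STRICT (helper3), FO-STRUCT, FO-NORM (helper27).
-/

set_option autoImplicit false
set_option linter.unusedSectionVars false
set_option linter.unusedVariables false

namespace Cfsg.Agent.Lib.Helper13.S5700Main

open Matrix Module QuadraticMap Cfsg.Agent.Lib.Helper6 Cfsg.Agent.Lib.Helper13
open Cfsg.Agent.Lib.Helper13.OND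

universe u
variable {F : Type u} [Field F] [Fintype F] {ι : Type} [Fintype ι] [DecidableEq ι]
variable {Q : QuadraticForm F (ι → F)} {δ : Matrix ι ι F} {τ ν : F} {M : Subgroup (GL ι F)}

/-- core assembly -/
theorem omega_le_of_start (hU : UStr Q δ τ ν) (hQ : (polarBilin Q).Nondegenerate)
    (hn : 14 ≤ Fintype.card ι) (hM : ∀ y, Q y = 0 → SIn Q M y (δ *ᵥ y))
    (x : ι → F) (hx : Q x = 0) (hx0 : x ≠ 0) (w : ι → F) (hw : w ∈ Lsub M x hx)
    (hwK : w ∉ Kl δ x) : Cfsg.Geo.omegaGL ⇑Q ≤ M := by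
  have hfull : KPerp Q δ x ≤ Lsub M x hx := by
    by_cases hwδ : polar (⇑Q) (δ *ᵥ x) w = 0
    · have hwP : w ∈ KPerp Q δ x := mem_KPerp.mpr ⟨(mem_Lsub.mp hw).2.1, hwδ⟩
      exact Cfsg.Agent.Lib.Helper12.S5700I.irr_step hU hQ hn hM x hx0 hx w hw hwP hwK
    · have hX := Cfsg.Agent.Lib.Helper24.S5700FOII.full_step hU hQ hn hM x hx0 hx w hw hwδ
      intro z hz
      have hxz : polar (⇑Q) x z = 0 := (mem_KPerp.mp hz).1
      refine ⟨hx, hxz, fun t hx' hxt => hX.2 (t • z) hx' hxt⟩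
  have hirr : ∀ (v : ι → F) (hv : Q v = 0), v ≠ 0 → ∀ w ∈ Lsub M v hv, w ∈ KPerp Q δ v →
      w ∉ Kl δ v → KPerp Q δ v ≤ Lsub M v hv :=
    fun v hv hv0 w hw hwP hwK =>
      Cfsg.Agent.Lib.Helper12.S5700I.irr_step hU hQ hn hM v hv0 hv w hw hwP hwK
  have hfs : ∀ (v : ι → F) (hv : Q v = 0), v ≠ 0 → ∀ w ∈ Lsub M v hv,
      polar (⇑Q) (δ *ᵥ v) w ≠ 0 → OrX Q M v :=
    fun v hv hv0 w hw hwδ =>
      Cfsg.Agent.Lib.Helper24.S5700FOII.full_step hU hQ hn hM v hv0 hv w hw hwδ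
  have hall := propagate hU hQ hn hM hirr x hx0 hx hfull
  apply omegaGL_le_of_forall hQ (by omega)
  intro z hz
  by_cases hz0 : z = 0
  · rw [hz0]
    exact OrX.zero
  · exact Cfsg.Agent.Lib.Helper24.S5700FOV.escape hU hQ hn hM hfs hall z hz0 hz

/-- the abstract theorem -/
theorem ustr_maximal (hU : UStr Q δ τ ν) (hQ : (polarBilin Q).Nondegenerate)
    (hn : 14 ≤ Fintype.card ι) (K : Subalgebra F (Matrix ι ι F))
    (hKδ : ∀ k : Matrix ι ι F, k ∈ K ↔ ∃ a b : F, k = a • (1 : Matrix ι ι F) + b • δ) :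
    Cfsg.Geo.IsMaximalIn (Cfsg.Geo.omegaGL ⇑Q)
      (Cfsg.Geo.subalgebraNormalizer K ⊓ Cfsg.Geo.omegaGL ⇑Q) := by
  refine ⟨lt_of_le_of_ne inf_le_right ?_, ?_⟩
  · intro heq
    obtain ⟨g, hgΩ, hgN⟩ :=
      Cfsg.Agent.Lib.Helper3.S5700FOSTRICT.exists_not_normalizer hU hQ hn K hKδ
    apply hgN
    have h1 : g ∈ Cfsg.Geo.subalgebraNormalizer K ⊓ Cfsg.Geo.omegaGL ⇑Q := by
      rw [heq]
      exact hgΩ
    exact h1.1
  · intro M hHM hMS
    by_cases hMH : M ≤ Cfsg.Geo.subalgebraNormalizer K ⊓ Cfsg.Geo.omegaGL ⇑Q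
    · exact Or.inl (le_antisymm hMH hHM)
    right
    refine le_antisymm hMS ?_
    obtain ⟨g, hgM, hgH⟩ := SetLike.not_le_iff_exists.mp hMH
    have hgΩ := hMS hgM
    have hgN : g ∉ Cfsg.Geo.subalgebraNormalizer K := fun hk => hgH ⟨hk, hgΩ⟩
    obtain ⟨g', -, hg'⟩ := (mem_omegaGL_iff Q g).mp hgΩ
    have hM : ∀ y, Q y = 0 → SIn Q M y (δ *ᵥ y) := by
      intro y hy
      refine ⟨hy, hU.polar_self_delta hy, fun t hy' hyt => ?_⟩
      exact hHM (utv_mem_H hU hQ (by omega) K hKδ y hy t)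
    have hg : ¬ ∃ a b : F, ((g' : GL ι F) : Matrix ι ι F) * δ *
        (((g' : GL ι F)⁻¹ : GL ι F) : Matrix ι ι F) = a • (1 : Matrix ι ι F) + b • δ := by
      rintro ⟨a, b, hab⟩
      apply hgN
      rw [← hg']
      exact Cfsg.Agent.Lib.Helper27.S5700FONORM.mem_normalizer_of_conj hU K hKδ (g' : GL ι F) a b hab
    obtain ⟨x, hx, w, hx0, hw, hwK⟩ :=
      Cfsg.Agent.Lib.Helper3.S5700FOIII.exists_start hU hQ hn hM g' (by rw [hg']; exact hgM) hg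
    exact omega_le_of_start hU hQ hn hM x hx hx0 w hw hwK

end Cfsg.Agent.Lib.Helper13.S5700Main
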