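import Mathlib
import Cfsg.Prelude.Def_GeometricClasses
import Cfsg.Agent.Lib.Helper25.SpinDefs
import Cfsg.Agent.Lib.Helper25.SpinL1a
import Cfsg.Agent.Lib.Helper25.SpinL1b
import Cfsg.Agent.Lib.Helper25.SpinL1c

/-!
# S5707 layer L2a (helper13): the forms `B0`, `Q0`, `formG`
-/

set_option autoImplicit false
set_option linter.unusedSectionVars false
set_option linter.unusedVariables false

namespace Cfsg.Agent.Lib.Helper13.S5707L2a

open Matrix Cfsg.Agent.Lib.Helper25.Spin

variable {F : Type*} [Field F]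

variable {S : Type} [Fintype S] [DecidableEq S]

theorem fin2_cases (i : Fin 2) : i = 0 ∨ i = 1 := by
  revert i
  decide

theorem rev_eq_zero_iff (i : Fin 2) : Fin.rev i = 0 ↔ i = 1 := by
  revert i
  decide

theorem rev_eq_one_iff (i : Fin 2) : Fin.rev i = 1 ↔ i = 0 := by
  revert i
  decide

theorem rev_ne_self (i : Fin 2) : Fin.rev i ≠ i := by
  revert i
  decide

/-- FORM-B -/
theorem cpl_cpl (x : S → Fin 2) : cpl (cpl x) = x := by
  funext s
  simp only [cpl, Fin.rev_rev]

/-- FORM-B -/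
theorem cpl_ne_self [Nonempty S] (x : S → Fin 2) : cpl x ≠ x := by
  intro h
  obtain ⟨s⟩ := ‹Nonempty S›
  have := congrFun h s
  exact rev_ne_self (x s) this

/-- `cpl` as an equivalence -/
def cplEquiv : (S → Fin 2) ≃ (S → Fin 2) := ⟨cpl, cpl, cpl_cpl, cpl_cpl⟩

theorem cplEquiv_apply (x : S → Fin 2) : cplEquiv x = cpl x := rfl

theorem flp_flp (s : S) (x : S → Fin 2) : flp s (flp s x) = x := by
  funext s'
  by_cases h : s' = s
  · subst h
    simp [flp]
  · simp [flp, Function.update_of_ne h]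

theorem flp_apply_self (s : S) (x : S → Fin 2) : flp s x s = Fin.rev (x s) := by
  simp [flp]

theorem flp_apply_ne (s : S) (x : S → Fin 2) {s' : S} (h : s' ≠ s) : flp s x s' = x s' := by
  simp [flp, Function.update_of_ne h]

theorem flp_cpl (s : S) (x : S → Fin 2) : flp s (cpl x) = cpl (flp s x) := by
  funext s'
  by_cases h : s' = s
  · subst h
    simp [flp, cpl]
  · simp [flp, cpl, Function.update_of_ne h]

/-- `flp s` as an equivalence -/
def flpEquiv (s : S) : (S → Fin 2) ≃ (S → Fin 2) := ⟨flp s, flp s, flp_flp s, flp_flp s⟩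

theorem flpEquiv_apply (s : S) (x : S → Fin 2) : flpEquiv s x = flp s x := rfl

/-- FORM-B -/
theorem B0_isBilinear : Cfsg.Geo.IsBilinearForm (B0 (F := F) (S := S)) := by
  refine ⟨?_, ?_, ?_, ?_⟩
  · intro x y v
    simp only [B0, Pi.add_apply, add_mul, Finset.sum_add_distrib]
  · intro c x v
    simp only [B0, Pi.smul_apply, smul_eq_mul, Finset.mul_sum, mul_assoc]
  · intro v x y
    simp only [B0, Pi.add_apply, mul_add, Finset.sum_add_distrib]
  · intro c v x
    simp only [B0, Pi.smul_apply, smul_eq_mul, Finset.mul_sum]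
    apply Finset.sum_congr rfl
    intro z _
    ring

/-- FORM-B -/
theorem B0_symm (v w : (S → Fin 2) → F) : B0 v w = B0 w v := by
  unfold B0
  rw [← Equiv.sum_comp cplEquiv (fun y => w y * v (cpl y))]
  apply Finset.sum_congr rfl
  intro x _
  rw [cplEquiv_apply, cpl_cpl, mul_comm]

/-- FORM-B -/
theorem B0_single_single (x y : S → Fin 2) (a b : F) :
    B0 (Pi.single x a) (Pi.single y b) = if y = cpl x then a * b else 0 := by
  unfold B0
  rw [Finset.sum_eq_single x]
  · rw [Pi.single_eq_same]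
    by_cases h : y = cpl x
    · rw [if_pos h, h, Pi.single_eq_same]
    · rw [if_neg h, Pi.single_eq_of_ne (fun h' => h h'.symm), mul_zero]
  · intro z _ hz
    rw [Pi.single_eq_of_ne hz, zero_mul]
  · intro h
    exact absurd (Finset.mem_univ x) h

/-- FORM-B: `formG` with the standard `2 × 2` Gram matrix is `B0` -/
theorem formG_J2 (v w : (S → Fin 2) → F) : formG (J2 (F := F)) v w = B0 v w := by
  unfold formG B0
  apply Finset.sum_congr rfl
  intro a _
  have hprod : ∀ b : S → Fin 2, (∏ i, J2 (F := F) (a i) (b i)) = if b = cpl a then 1 else 0 := by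
    intro b
    simp only [J2]
    rw [Finset.prod_boole]
    by_cases h : b = cpl a
    · rw [if_pos h, if_pos]
      intro i _
      rw [h]
      rfl
    · rw [if_neg h, if_neg]
      intro h'
      apply h
      funext i
      exact h' i (Finset.mem_univ i)
  rw [Finset.sum_eq_single (cpl a)]
  · rw [hprod, if_pos rfl, mul_one]
  · intro b _ hb
    rw [hprod, if_neg hb, mul_zero, zero_mul]
  · intro h
    exact absurd (Finset.mem_univ _) h

/-- FORM-Q -/
theorem polar_Q0 (s0 : S) (v w : (S → Fin 2) → F) :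
    QuadraticMap.polar (Q0 (F := F) s0) v w = B0 v w := by
  have key : ∑ x : S → Fin 2, (if x s0 = 0 then w x * v (cpl x) else 0) =
      ∑ y : S → Fin 2, (if y s0 = 1 then v y * w (cpl y) else 0) := by
    rw [← Equiv.sum_comp cplEquiv (fun y : S → Fin 2 => if y s0 = 1 then v y * w (cpl y) else 0)]
    apply Finset.sum_congr rfl
    intro x _
    rw [cplEquiv_apply, cpl_cpl]
    have h1 : cpl x s0 = 1 ↔ x s0 = 0 := rev_eq_one_iff (x s0)
    by_cases h : x s0 = 0
    · rw [if_pos h, if_pos (h1.2 h), mul_comm]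
    · rw [if_neg h, if_neg (fun h' => h (h1.1 h'))]
  unfold QuadraticMap.polar
  have e1 : Q0 (F := F) s0 (v + w) - Q0 s0 v - Q0 s0 w =
      ∑ x : S → Fin 2, ((if x s0 = 0 then v x * w (cpl x) else 0) + (if x s0 = 0 then w x * v (cpl x) else 0)) := by
    unfold Q0
    rw [← Finset.sum_sub_distrib, ← Finset.sum_sub_distrib]
    apply Finset.sum_congr rfl
    intro x _
    by_cases h : x s0 = 0
    · simp only [if_pos h, Pi.add_apply]
      ring
    · simp only [if_neg h]
      ring
  rw [e1, Finset.sum_add_distrib, key, ← Finset.sum_add_distrib]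
  unfold B0
  apply Finset.sum_congr rfl
  intro x _
  rcases fin2_cases (x s0) with h | h
  · rw [if_pos h, if_neg (by rw [h]; decide), add_zero]
  · rw [if_neg (by rw [h]; decide), if_pos h, zero_add]

/-- FORM-Q -/
theorem Q0_smul (s0 : S) (c : F) (v : (S → Fin 2) → F) : Q0 s0 (c • v) = c ^ 2 * Q0 s0 v := by
  unfold Q0
  rw [Finset.mul_sum]
  apply Finset.sum_congr rfl
  intro x _
  by_cases h : x s0 = 0
  · simp only [if_pos h, Pi.smul_apply, smul_eq_mul]
    ring
  · simp only [if_neg h, mul_zero]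

/-- FORM-Q -/
theorem Q0_single (s0 : S) (x : S → Fin 2) (a : F) : Q0 s0 (Pi.single x a) = 0 := by
  have : Nonempty S := ⟨s0⟩
  unfold Q0
  apply Finset.sum_eq_zero
  intro z _
  by_cases h : z s0 = 0
  · rw [if_pos h]
    by_cases hz : z = x
    · subst hz
      rw [Pi.single_eq_of_ne (cpl_ne_self z), mul_zero]
    · rw [Pi.single_eq_of_ne hz, zero_mul]
  · rw [if_neg h]

/-- the action of `X_s` -/
theorem Xop_mulVec_apply (s : S) (v : (S → Fin 2) → F) (x : S → Fin 2) :
    (Xop (F := F) s *ᵥ v) x = if x s = 0 then v (flp s x) else 0 := by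
  have hent : ∀ y : S → Fin 2, Xop (F := F) s x y = if y s = 1 ∧ x = flp s y then 1 else 0 := by
    intro y
    have h := congrFun (Xop_mulVec_single (F := F) s y 1) x
    rw [Matrix.mulVec_single_one] at h
    change Xop (F := F) s x y = _ at h
    rw [h]
    by_cases h1 : y s = 1
    · rw [if_pos h1]
      by_cases h2 : x = flp s y
      · rw [if_pos ⟨h1, h2⟩, h2, Pi.single_eq_same]
      · rw [if_neg (fun h' => h2 h'.2), Pi.single_eq_of_ne h2]
    · rw [if_neg h1, if_neg (fun h' => h1 h'.1)]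
      rfl
  rw [Matrix.mulVec, dotProduct]
  rw [Finset.sum_eq_single (flp s x)]
  · rw [hent, flp_flp, flp_apply_self]
    by_cases h : x s = 0
    · rw [if_pos h, if_pos ⟨(rev_eq_one_iff _).2 h, rfl⟩, one_mul]
    · rw [if_neg h, if_neg (fun h' => h ((rev_eq_one_iff _).1 h'.1)), zero_mul]
  · intro y _ hy
    rw [hent, if_neg, zero_mul]
    intro h'
    apply hy
    rw [h'.2, flp_flp]
  · intro h
    exact absurd (Finset.mem_univ _) h

/-- the action of `Y_s` -/
theorem Yop_mulVec_apply (s : S) (v : (S → Fin 2) → F) (x : S → Fin 2) :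
    (Yop (F := F) s *ᵥ v) x = if x s = 1 then v (flp s x) else 0 := by
  have hent : ∀ y : S → Fin 2, Yop (F := F) s x y = if y s = 0 ∧ x = flp s y then 1 else 0 := by
    intro y
    have h := congrFun (Yop_mulVec_single (F := F) s y 1) x
    rw [Matrix.mulVec_single_one] at h
    change Yop (F := F) s x y = _ at h
    rw [h]
    by_cases h1 : y s = 0
    · rw [if_pos h1]
      by_cases h2 : x = flp s y
      · rw [if_pos ⟨h1, h2⟩, h2, Pi.single_eq_same]
      · rw [if_neg (fun h' => h2 h'.2), Pi.single_eq_of_ne h2]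
    · rw [if_neg h1, if_neg (fun h' => h1 h'.1)]
      rfl
  rw [Matrix.mulVec, dotProduct]
  rw [Finset.sum_eq_single (flp s x)]
  · rw [hent, flp_flp, flp_apply_self]
    by_cases h : x s = 1
    · rw [if_pos h, if_pos ⟨(rev_eq_zero_iff _).2 h, rfl⟩, one_mul]
    · rw [if_neg h, if_neg (fun h' => h ((rev_eq_zero_iff _).1 h'.1)), zero_mul]
  · intro y _ hy
    rw [hent, if_neg, zero_mul]
    intro h'
    apply hy
    rw [h'.2, flp_flp]
  · intro h
    exact absurd (Finset.mem_univ _) h

/-- FORM-ADJ: `X_s` is self-adjoint for `B0` -/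
theorem B0_Xop (s : S) (v w : (S → Fin 2) → F) : B0 (Xop s *ᵥ v) w = B0 v (Xop s *ᵥ w) := by
  unfold B0
  rw [← Equiv.sum_comp (flpEquiv s) (fun x => (Xop s *ᵥ v) x * w (cpl x))]
  apply Finset.sum_congr rfl
  intro y _
  rw [flpEquiv_apply, Xop_mulVec_apply, Xop_mulVec_apply, flp_flp, flp_apply_self, flp_cpl]
  have h1 : Fin.rev (y s) = 0 ↔ y s = 1 := rev_eq_zero_iff (y s)
  have h2 : cpl y s = 0 ↔ y s = 1 := rev_eq_zero_iff (y s)
  by_cases h : y s = 1
  · rw [if_pos (h1.2 h), if_pos (h2.2 h)]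
  · rw [if_neg (fun h' => h (h1.1 h')), if_neg (fun h' => h (h2.1 h')), zero_mul, mul_zero]

/-- FORM-ADJ: `Y_s` is self-adjoint for `B0` -/
theorem B0_Yop (s : S) (v w : (S → Fin 2) → F) : B0 (Yop s *ᵥ v) w = B0 v (Yop s *ᵥ w) := by
  unfold B0
  rw [← Equiv.sum_comp (flpEquiv s) (fun x => (Yop s *ᵥ v) x * w (cpl x))]
  apply Finset.sum_congr rfl
  intro y _
  rw [flpEquiv_apply, Yop_mulVec_apply, Yop_mulVec_apply, flp_flp, flp_apply_self, flp_cpl]
  have h1 : Fin.rev (y s) = 1 ↔ y s = 0 := rev_eq_one_iff (y s)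
  have h2 : cpl y s = 1 ↔ y s = 0 := rev_eq_one_iff (y s)
  by_cases h : y s = 0
  · rw [if_pos (h1.2 h), if_pos (h2.2 h)]
  · rw [if_neg (fun h' => h (h1.1 h')), if_neg (fun h' => h (h2.1 h')), zero_mul, mul_zero]

section general

variable {m : ℕ}

/-- FORM-G: `formG G` is the form with Gram matrix `pureMat (fun _ => G)` -/
theorem formG_eq (G : Matrix (Fin m) (Fin m) F) (x y : (S → Fin m) → F) :
    formG G x y = x ⬝ᵥ (pureMat (fun _ : S => G) *ᵥ y) := by
  unfold formG
  simp only [dotProduct, Matrix.mulVec, pureMat, Finset.mul_sum, mul_assoc]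

/-- FORM-G: change of basis by a pure tensor. -/
theorem formG_pureMat (G b : Matrix (Fin m) (Fin m) F) (x y : (S → Fin m) → F) :
    formG G (pureMat (fun _ : S => b) *ᵥ x) (pureMat (fun _ : S => b) *ᵥ y) = formG (bᵀ * G * b) x y := by
  rw [formG_eq, formG_eq, Matrix.mulVec_mulVec, ← Matrix.vecMul_transpose, ← Matrix.dotProduct_mulVec,
    Matrix.mulVec_mulVec, pureMat_transpose, pureMat_mul, pureMat_mul]
  simp only [mul_assoc]

/-- the action of a permutation of the sites -/
theorem permMat_mulVec_apply (σ : Equiv.Perm S) (x : (S → Fin m) → F) (a : S → Fin m) :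
    ((permMat σ : Matrix (S → Fin m) (S → Fin m) F) *ᵥ x) a = x (a ∘ σ) := by
  simp only [Matrix.mulVec, dotProduct, permMat, ite_mul, one_mul, zero_mul, Finset.sum_ite_eq', Finset.mem_univ,
    if_true]

/-- composition with a permutation of the sites, as an equivalence -/
def compEquiv (σ : Equiv.Perm S) : (S → Fin m) ≃ (S → Fin m) where
  toFun a := a ∘ σ
  invFun a := a ∘ σ.symm
  left_inv a := by
    funext s
    simp
  right_inv a := by
    funext s
    simp

theorem compEquiv_apply (σ : Equiv.Perm S) (a : S → Fin m) : compEquiv σ a = a ∘ σ := rfl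

/-- FORM-G: `formG G` is invariant under permutations of the sites -/
theorem formG_permMat (G : Matrix (Fin m) (Fin m) F) (σ : Equiv.Perm S) (x y : (S → Fin m) → F) :
    formG G ((permMat σ : Matrix (S → Fin m) (S → Fin m) F) *ᵥ x)
      ((permMat σ : Matrix (S → Fin m) (S → Fin m) F) *ᵥ y) = formG G x y := by
  unfold formG
  rw [← Equiv.sum_comp (compEquiv σ) (fun a => ∑ b, x a * (∏ i, G (a i) (b i)) * y b)]
  apply Finset.sum_congr rfl
  intro a _
  rw [← Equiv.sum_comp (compEquiv σ) (fun b => x (compEquiv σ a) * (∏ i, G (compEquiv σ a i) (b i)) * y b)]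
  apply Finset.sum_congr rfl
  intro b _
  rw [permMat_mulVec_apply, permMat_mulVec_apply, compEquiv_apply, compEquiv_apply]
  congr 2
  exact (Equiv.prod_comp σ (fun i => G (a i) (b i))).symm

/-- FORM-G -/
theorem formG_smul (c : F) (G : Matrix (Fin m) (Fin m) F) (x y : (S → Fin m) → F) :
    formG (c • G) x y = c ^ Fintype.card S * formG G x y := by
  unfold formG
  rw [Finset.mul_sum]
  apply Finset.sum_congr rfl
  intro a _
  rw [Finset.mul_sum]
  apply Finset.sum_congr rfl
  intro b _
  have : (∏ i, (c • G) (a i) (b i)) = c ^ Fintype.card S * ∏ i, G (a i) (b i) := by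
    simp only [Matrix.smul_apply, smul_eq_mul]
    rw [Finset.prod_mul_distrib, Finset.prod_const, Finset.card_univ]
  rw [this]
  ring

end general

end Cfsg.Agent.Lib.Helper13.S5707L2a
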