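import Mathlib
import Cfsg.Prelude.Def_GeometricClasses
import Cfsg.Agent.Lib.Helper25.SpinDefs
import Cfsg.Agent.Lib.Helper25.SpinL1a
import Cfsg.Agent.Lib.Helper25.SpinL1b
import Cfsg.Agent.Lib.Helper25.SpinL1c
import Cfsg.Agent.Lib.Helper13.S5707L2a

/-!
# S5707 layer L2b (helper13): uniqueness of `Q0` and the isometry criterion
-/

set_option autoImplicit false
set_option linter.unusedSectionVars false
set_option linter.unusedVariables false

namespace Cfsg.Agent.Lib.Helper13.S5707L2b

open Matrix Cfsg.Agent.Lib.Helper25.Spin Cfsg.Agent.Lib.Helper13.S5707L2a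

variable {F : Type*} [Field F]

variable {S : Type} [Fintype S] [DecidableEq S]

/-- FORM-Q -/
theorem Q0_single_add_single (s0 : S) (x y : S → Fin 2) (hy : y ≠ cpl x) :
    Q0 (F := F) s0 (Pi.single x 1 + Pi.single y 1) = 0 := by
  have h := polar_Q0 (F := F) s0 (Pi.single x 1) (Pi.single y 1)
  unfold QuadraticMap.polar at h
  rw [Q0_single, Q0_single, sub_zero, sub_zero, B0_single_single, if_neg hy] at h
  exact h

/-- a function with zero polar form vanishing on the scaled basis vectors vanishes -/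
theorem eq_zero_of_polar_zero {ι : Type} [Fintype ι] [DecidableEq ι] (D : (ι → F) → F)
    (hpolar : ∀ v w, D (v + w) = D v + D w) (hsingle : ∀ (x : ι) (a : F), D (Pi.single x a) = 0) :
    ∀ v, D v = 0 := by
  have h0 : D 0 = 0 := by
    have := hpolar 0 0
    rw [add_zero] at this
    linear_combination -this
  have hsum : ∀ (s : Finset ι) (v : ι → F), D (∑ x ∈ s, Pi.single x (v x)) = 0 := by
    intro s v
    induction s using Finset.induction_on with
    | empty => rw [Finset.sum_empty]; exact h0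
    | insert a s ha ih =>
      rw [Finset.sum_insert ha, hpolar, hsingle, ih, add_zero]
  intro v
  have := hsum Finset.univ v
  rwa [Finset.univ_sum_single] at this

/-- FORM-UNIQ -/
theorem eq_smul_Q0 (s0 : S) (Q' : ((S → Fin 2) → F) → F) (c : F)
    (hpolar : ∀ v w, QuadraticMap.polar Q' v w = c * B0 v w)
    (hsingle : ∀ (x : S → Fin 2) (a : F), Q' (Pi.single x a) = 0) :
    ∀ v, Q' v = c * Q0 s0 v := by
  have key := eq_zero_of_polar_zero (fun v => Q' v - c * Q0 (F := F) s0 v) ?_ ?_
  · intro v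
    have := key v
    linear_combination this
  · intro v w
    have h1 := hpolar v w
    have h2 := polar_Q0 (F := F) s0 v w
    unfold QuadraticMap.polar at h1 h2
    linear_combination h1 - c * h2
  · intro x a
    rw [hsingle, Q0_single, mul_zero, sub_zero]

/-- FORM-ISO: isometry criterion -/
theorem mem_isometryGroup_of (s0 : S) (g : GL (S → Fin 2) F)
    (hB : ∀ v w, B0 ((g : Matrix (S → Fin 2) (S → Fin 2) F) *ᵥ v) ((g : Matrix (S → Fin 2) (S → Fin 2) F) *ᵥ w) = B0 v w)
    (hQ : ∀ (x : S → Fin 2) (a : F), Q0 s0 ((g : Matrix (S → Fin 2) (S → Fin 2) F) *ᵥ Pi.single x a) = 0) :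
    g ∈ Cfsg.isometryGroup F (Q0 (F := F) s0) := by
  have key := eq_smul_Q0 (F := F) s0 (fun v => Q0 s0 ((g : Matrix (S → Fin 2) (S → Fin 2) F) *ᵥ v)) 1 ?_ hQ
  · intro u v
    change Q0 s0 ((g : Matrix (S → Fin 2) (S → Fin 2) F) *ᵥ u) = Q0 s0 u
    have := key u
    simp only [one_mul] at this
    exact this
  · intro v w
    have h := polar_Q0 (F := F) s0 ((g : Matrix (S → Fin 2) (S → Fin 2) F) *ᵥ v)
      ((g : Matrix (S → Fin 2) (S → Fin 2) F) *ᵥ w)
    unfold QuadraticMap.polar at h ⊢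
    simp only
    rw [Matrix.mulVec_add, h, hB, one_mul]

/-- FORM-ISO: isometries of `Q0` preserve its polar form `B0` -/
theorem B0_of_mem_isometryGroup (s0 : S) (g : GL (S → Fin 2) F)
    (hg : g ∈ Cfsg.isometryGroup F (Q0 (F := F) s0)) (v w : (S → Fin 2) → F) :
    B0 ((g : Matrix (S → Fin 2) (S → Fin 2) F) *ᵥ v) ((g : Matrix (S → Fin 2) (S → Fin 2) F) *ᵥ w) = B0 v w := by
  have hg' : ∀ u : (S → Fin 2) → F, Q0 s0 ((g : Matrix (S → Fin 2) (S → Fin 2) F) *ᵥ u) = Q0 s0 u := fun u => hg u u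
  rw [← polar_Q0 (F := F) s0, ← polar_Q0 (F := F) s0]
  unfold QuadraticMap.polar
  rw [← Matrix.mulVec_add, hg', hg', hg']

/-- FORM-ISO -/
theorem isometryGroup_smul {ι : Type} [Fintype ι] [DecidableEq ι] (Q Q' : (ι → F) → F) (c : F) (hc : c ≠ 0)
    (h : ∀ v, Q' v = c * Q v) : Cfsg.isometryGroup F Q' = Cfsg.isometryGroup F Q := by
  ext g
  constructor
  · intro hg u v
    have := hg u v
    change Q' _ = Q' _ at this
    rw [h, h] at this
    exact mul_left_cancel₀ hc this
  · intro hg u v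
    have := hg u v
    change Q _ = Q _ at this
    change Q' _ = Q' _
    rw [h, h, this]

end Cfsg.Agent.Lib.Helper13.S5707L2b
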