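import Mathlib

/-!
# Block matrices `mk A a b c` in `Matrix (Fin (n+2)) (Fin (n+2)) (ZMod 2)`

`mk A a b c` has rows `(1, c, a)`, `(0, 1, 0)`, `(0, b, A)`: the shape of the elements commuting
with the transvection `1 + E₀₁`.
-/

set_option autoImplicit false
set_option linter.unusedSimpArgs false

namespace Cfsg.Agent.Lib.Helper13.SL2T

open Matrix

variable {n : ℕ}

theorem zmod2_add_self (t : ZMod 2) : t + t = 0 := by revert t; decide

theorem zmod2_cases (t : ZMod 2) : t = 0 ∨ t = 1 := by revert t; decide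

theorem zmod2_eq_one_of_ne_zero {t : ZMod 2} (h : t ≠ 0) : t = 1 := by
  rcases zmod2_cases t with h' | h'
  · exact absurd h' h
  · exact h'

theorem fun_add_self {ι : Type*} (a : ι → ZMod 2) : a + a = 0 :=
  funext fun i => zmod2_add_self (a i)

/-- a row `(x, y, v)` -/
def row3 (x y : ZMod 2) (v : Fin n → ZMod 2) : Fin (n + 2) → ZMod 2 := Fin.cons x (Fin.cons y v)

/-- the block matrix with rows `(1, c, a)`, `(0, 1, 0)`, `(0, b, A)` -/
def mk (A : Matrix (Fin n) (Fin n) (ZMod 2)) (a b : Fin n → ZMod 2) (c : ZMod 2) :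
    Matrix (Fin (n + 2)) (Fin (n + 2)) (ZMod 2) :=
  Matrix.of (Fin.cons (row3 1 c a) (Fin.cons (row3 0 1 0) (fun i => row3 0 (b i) (A i))))

section entries
variable (A : Matrix (Fin n) (Fin n) (ZMod 2)) (a b : Fin n → ZMod 2) (c : ZMod 2)

@[simp] theorem mk_zero_zero : mk A a b c 0 0 = 1 := rfl
@[simp] theorem mk_zero_one : mk A a b c 0 1 = c := rfl
@[simp] theorem mk_zero_succ (j : Fin n) : mk A a b c 0 j.succ.succ = a j := rfl
@[simp] theorem mk_one_zero : mk A a b c 1 0 = 0 := rfl
@[simp] theorem mk_one_one : mk A a b c 1 1 = 1 := rfl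
@[simp] theorem mk_one_succ (j : Fin n) : mk A a b c 1 j.succ.succ = 0 := rfl
@[simp] theorem mk_succ_zero (i : Fin n) : mk A a b c i.succ.succ 0 = 0 := rfl
@[simp] theorem mk_succ_one (i : Fin n) : mk A a b c i.succ.succ 1 = b i := rfl
@[simp] theorem mk_succ_succ (i j : Fin n) : mk A a b c i.succ.succ j.succ.succ = A i j := rfl

end entries

theorem one_eq_succ_zero : (1 : Fin (n + 2)) = Fin.succ 0 := rfl

theorem zero_ne_ss (j : Fin n) : (0 : Fin (n + 2)) ≠ j.succ.succ := (Fin.succ_ne_zero _).symm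

theorem ss_ne_zero (j : Fin n) : j.succ.succ ≠ (0 : Fin (n + 2)) := Fin.succ_ne_zero _

theorem one_ne_ss (j : Fin n) : (1 : Fin (n + 2)) ≠ j.succ.succ := by
  rw [one_eq_succ_zero]
  intro h
  exact (Fin.succ_ne_zero j).symm (Fin.succ_injective _ h)

theorem ss_ne_one (j : Fin n) : j.succ.succ ≠ (1 : Fin (n + 2)) := (one_ne_ss j).symm

theorem zero_ne_one2 : (0 : Fin (n + 2)) ≠ 1 := by
  rw [one_eq_succ_zero]
  exact (Fin.succ_ne_zero _).symm

theorem one_ne_zero2 : (1 : Fin (n + 2)) ≠ 0 := zero_ne_one2.symm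

theorem ext3 {M M' : Matrix (Fin (n + 2)) (Fin (n + 2)) (ZMod 2)}
    (h00 : M 0 0 = M' 0 0) (h01 : M 0 1 = M' 0 1)
    (h0s : ∀ j : Fin n, M 0 j.succ.succ = M' 0 j.succ.succ)
    (h10 : M 1 0 = M' 1 0)
    (h11 : M 1 1 = M' 1 1)
    (h1s : ∀ j : Fin n, M 1 j.succ.succ = M' 1 j.succ.succ)
    (hs0 : ∀ i : Fin n, M i.succ.succ 0 = M' i.succ.succ 0)
    (hs1 : ∀ i : Fin n, M i.succ.succ 1 = M' i.succ.succ 1)
    (hss : ∀ i j : Fin n, M i.succ.succ j.succ.succ = M' i.succ.succ j.succ.succ) : M = M' := by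
  ext i j
  induction i using Fin.cases with
  | zero =>
    induction j using Fin.cases with
    | zero => exact h00
    | succ j =>
      induction j using Fin.cases with
      | zero => exact h01
      | succ j => exact h0s j
  | succ i =>
    induction i using Fin.cases with
    | zero =>
      induction j using Fin.cases with
      | zero => exact h10
      | succ j =>
        induction j using Fin.cases with
        | zero => exact h11
        | succ j => exact h1s j
    | succ i =>
      induction j using Fin.cases with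
      | zero => exact hs0 i
      | succ j =>
        induction j using Fin.cases with
        | zero => exact hs1 i
        | succ j => exact hss i j

theorem mul_apply3 (M M' : Matrix (Fin (n + 2)) (Fin (n + 2)) (ZMod 2)) (i j : Fin (n + 2)) :
    (M * M') i j = M i 0 * M' 0 j + (M i 1 * M' 1 j
      + ∑ l : Fin n, M i l.succ.succ * M' l.succ.succ j) := by
  rw [Matrix.mul_apply, Fin.sum_univ_succ, Fin.sum_univ_succ]
  rfl

theorem mk_mul_mk (A A' : Matrix (Fin n) (Fin n) (ZMod 2)) (a b a' b' : Fin n → ZMod 2)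
    (c c' : ZMod 2) :
    mk A a b c * mk A' a' b' c'
      = mk (A * A') (a' + a ᵥ* A') (b + A *ᵥ b') (c + c' + a ⬝ᵥ b') := by
  apply ext3
  · rw [mul_apply3]; simp
  · rw [mul_apply3]; simp [dotProduct]; ring
  · intro j; rw [mul_apply3]; simp [Matrix.vecMul, dotProduct]
  · rw [mul_apply3]; simp
  · rw [mul_apply3]; simp
  · intro j; rw [mul_apply3]; simp
  · intro i; rw [mul_apply3]; simp
  · intro i; rw [mul_apply3]; simp [Matrix.mulVec, dotProduct]
  · intro i j; rw [mul_apply3]; simp [Matrix.mul_apply]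

theorem mk_one : mk (1 : Matrix (Fin n) (Fin n) (ZMod 2)) 0 0 0 = 1 := by
  apply ext3
  · simp
  · simp [Matrix.one_apply, zero_ne_ss, ss_ne_zero, one_ne_ss, ss_ne_one, zero_ne_one2, one_ne_zero2]
  · intro j; simp [Matrix.one_apply, zero_ne_ss, ss_ne_zero, one_ne_ss, ss_ne_one, zero_ne_one2, one_ne_zero2]
  · simp [Matrix.one_apply, zero_ne_ss, ss_ne_zero, one_ne_ss, ss_ne_one, zero_ne_one2, one_ne_zero2]
  · simp
  · intro j; simp [Matrix.one_apply, zero_ne_ss, ss_ne_zero, one_ne_ss, ss_ne_one, zero_ne_one2, one_ne_zero2]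
  · intro i; simp [Matrix.one_apply, zero_ne_ss, ss_ne_zero, one_ne_ss, ss_ne_one, zero_ne_one2, one_ne_zero2]
  · intro i; simp [Matrix.one_apply, zero_ne_ss, ss_ne_zero, one_ne_ss, ss_ne_one, zero_ne_one2, one_ne_zero2]
  · intro i j; simp [Matrix.one_apply]

theorem mk_inj {A A' : Matrix (Fin n) (Fin n) (ZMod 2)} {a b a' b' : Fin n → ZMod 2}
    {c c' : ZMod 2} (h : mk A a b c = mk A' a' b' c') : A = A' ∧ a = a' ∧ b = b' ∧ c = c' := by
  refine ⟨?_, ?_, ?_, ?_⟩
  · ext i j
    have := congrFun (congrFun h i.succ.succ) j.succ.succ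
    simpa using this
  · ext j
    have := congrFun (congrFun h 0) j.succ.succ
    simpa using this
  · ext i
    have := congrFun (congrFun h i.succ.succ) 1
    simpa using this
  · have := congrFun (congrFun h 0) 1
    simpa using this

/-- products in the unipotent radical -/
theorem mk_one_mul_mk_one (a b a' b' : Fin n → ZMod 2) (c c' : ZMod 2) :
    mk 1 a b c * mk 1 a' b' c' = mk 1 (a' + a) (b + b') (c + c' + a ⬝ᵥ b') := by
  rw [mk_mul_mk, Matrix.mul_one, Matrix.vecMul_one, Matrix.one_mulVec]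

theorem transvection_eq_mk :
    Matrix.transvection (0 : Fin (n + 2)) 1 (1 : ZMod 2) = mk 1 0 0 1 := by
  rw [Matrix.transvection]
  apply ext3
  · simp [Matrix.one_apply, Matrix.single_apply, zero_ne_ss, ss_ne_zero, one_ne_ss, ss_ne_one, zero_ne_one2, one_ne_zero2]
  · simp [Matrix.one_apply, Matrix.single_apply, zero_ne_ss, ss_ne_zero, one_ne_ss, ss_ne_one, zero_ne_one2, one_ne_zero2]
  · intro j; simp [Matrix.one_apply, Matrix.single_apply, zero_ne_ss, ss_ne_zero, one_ne_ss, ss_ne_one, zero_ne_one2, one_ne_zero2]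
  · simp [Matrix.one_apply, Matrix.single_apply, zero_ne_ss, ss_ne_zero, one_ne_ss, ss_ne_one, zero_ne_one2, one_ne_zero2]
  · simp [Matrix.one_apply, Matrix.single_apply, zero_ne_ss, ss_ne_zero, one_ne_ss, ss_ne_one, zero_ne_one2, one_ne_zero2]
  · intro j; simp [Matrix.one_apply, Matrix.single_apply, zero_ne_ss, ss_ne_zero, one_ne_ss, ss_ne_one, zero_ne_one2, one_ne_zero2]
  · intro i; simp [Matrix.one_apply, Matrix.single_apply, zero_ne_ss, ss_ne_zero, one_ne_ss, ss_ne_one, zero_ne_one2, one_ne_zero2]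
  · intro i; simp [Matrix.one_apply, Matrix.single_apply, zero_ne_ss, ss_ne_zero, one_ne_ss, ss_ne_one, zero_ne_one2, one_ne_zero2]
  · intro i j; simp [Matrix.one_apply, Matrix.single_apply, zero_ne_ss, ss_ne_zero, one_ne_ss, ss_ne_one, zero_ne_one2, one_ne_zero2]

/-- a matrix whose first column is `e₀` and second row is `e₁` is of the form `mk` -/
theorem eq_mk_of_col_row (g : Matrix (Fin (n + 2)) (Fin (n + 2)) (ZMod 2))
    (h00 : g 0 0 = 1) (h10 : g 1 0 = 0) (hs0 : ∀ i : Fin n, g i.succ.succ 0 = 0)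
    (h11 : g 1 1 = 1) (h1s : ∀ j : Fin n, g 1 j.succ.succ = 0) :
    g = mk (Matrix.of fun i j => g i.succ.succ j.succ.succ) (fun j => g 0 j.succ.succ)
      (fun i => g i.succ.succ 1) (g 0 1) := by
  apply ext3
  · exact h00
  · rfl
  · intro j; rfl
  · exact h10
  · exact h11
  · intro j; exact h1s j
  · intro i; exact hs0 i
  · intro i; rfl
  · intro i j; rfl


/-! ### products with unipotent elements, entrywise -/

section mulentries
variable (g : Matrix (Fin (n + 2)) (Fin (n + 2)) (ZMod 2)) (a b : Fin n → ZMod 2) (c : ZMod 2)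

theorem mul_mk_one_apply_zero (i : Fin (n + 2)) : (g * mk 1 a b c) i 0 = g i 0 := by
  rw [mul_apply3]; simp

theorem mul_mk_one_apply_one (i : Fin (n + 2)) :
    (g * mk 1 a b c) i 1 = g i 0 * c + (g i 1 + ∑ l : Fin n, g i l.succ.succ * b l) := by
  rw [mul_apply3]; simp

theorem mul_mk_one_apply_succ (i : Fin (n + 2)) (j : Fin n) :
    (g * mk 1 a b c) i j.succ.succ = g i 0 * a j + g i j.succ.succ := by
  rw [mul_apply3]; simp [Matrix.one_apply]

theorem mk_one_mul_apply_zero (j : Fin (n + 2)) :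
    (mk 1 a b c * g) 0 j = g 0 j + (c * g 1 j + ∑ l : Fin n, a l * g l.succ.succ j) := by
  rw [mul_apply3]; simp

theorem mk_one_mul_apply_one (j : Fin (n + 2)) : (mk 1 a b c * g) 1 j = g 1 j := by
  rw [mul_apply3]; simp

theorem mk_one_mul_apply_succ (i : Fin n) (j : Fin (n + 2)) :
    (mk 1 a b c * g) i.succ.succ j = b i * g 1 j + g i.succ.succ j := by
  rw [mul_apply3]; simp [Matrix.one_apply]

end mulentries

theorem det_ne_one_of_col_zero (g : Matrix (Fin (n + 2)) (Fin (n + 2)) (ZMod 2))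
    (h00 : g 0 0 = 0) (h10 : g 1 0 = 0) (hs0 : ∀ i : Fin n, g i.succ.succ 0 = 0) : g.det ≠ 1 := by
  have h : g.det = 0 := by
    apply Matrix.det_eq_zero_of_column_eq_zero 0
    intro i
    induction i using Fin.cases with
    | zero => exact h00
    | succ i =>
      induction i using Fin.cases with
      | zero => exact h10
      | succ i => exact hs0 i
  rw [h]
  exact zero_ne_one

theorem det_ne_one_of_row_zero (g : Matrix (Fin (n + 2)) (Fin (n + 2)) (ZMod 2))
    (h10 : g 1 0 = 0) (h11 : g 1 1 = 0) (h1s : ∀ j : Fin n, g 1 j.succ.succ = 0) : g.det ≠ 1 := by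
  have h : g.det = 0 := by
    apply Matrix.det_eq_zero_of_row_eq_zero 1
    intro j
    induction j using Fin.cases with
    | zero => exact h10
    | succ j =>
      induction j using Fin.cases with
      | zero => exact h11
      | succ j => exact h1s j
  rw [h]
  exact zero_ne_one

/-- a determinant-one matrix commuting with a non-trivial transvection with centre `e₀` has first
column `e₀` -/
theorem col_of_commute (g : Matrix (Fin (n + 2)) (Fin (n + 2)) (ZMod 2)) (hdet : g.det = 1)
    (a : Fin n → ZMod 2) (c : ZMod 2) (hne : a ≠ 0 ∨ c ≠ 0)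
    (h : g * mk 1 a 0 c = mk 1 a 0 c * g) :
    g 0 0 = 1 ∧ g 1 0 = 0 ∧ ∀ i : Fin n, g i.succ.succ 0 = 0 := by
  have e1 : g 1 0 * c = 0 := by
    have e := congrFun (congrFun h 1) 1
    rw [mul_mk_one_apply_one, mk_one_mul_apply_one] at e
    simp only [Pi.zero_apply, mul_zero, Finset.sum_const_zero, add_zero] at e
    linear_combination e
  have e2 : ∀ i : Fin n, g i.succ.succ 0 * c = 0 := by
    intro i
    have e := congrFun (congrFun h i.succ.succ) 1
    rw [mul_mk_one_apply_one, mk_one_mul_apply_succ] at e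
    simp only [Pi.zero_apply, mul_zero, Finset.sum_const_zero, add_zero, zero_mul, zero_add] at e
    linear_combination e
  have e3 : ∀ j : Fin n, g 1 0 * a j = 0 := by
    intro j
    have e := congrFun (congrFun h 1) j.succ.succ
    rw [mul_mk_one_apply_succ, mk_one_mul_apply_one] at e
    linear_combination e
  have e4 : ∀ i j : Fin n, g i.succ.succ 0 * a j = 0 := by
    intro i j
    have e := congrFun (congrFun h i.succ.succ) j.succ.succ
    rw [mul_mk_one_apply_succ, mk_one_mul_apply_succ] at e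
    simp only [Pi.zero_apply, zero_mul, zero_add] at e
    linear_combination e
  have h10 : g 1 0 = 0 ∧ ∀ i : Fin n, g i.succ.succ 0 = 0 := by
    rcases hne with ha | hc
    · obtain ⟨j, hj⟩ := Function.ne_iff.1 ha
      have hj1 : a j = 1 := zmod2_eq_one_of_ne_zero hj
      refine ⟨?_, fun i => ?_⟩
      · have := e3 j
        rwa [hj1, mul_one] at this
      · have := e4 i j
        rwa [hj1, mul_one] at this
    · have hc1 : c = 1 := zmod2_eq_one_of_ne_zero hc
      refine ⟨?_, fun i => ?_⟩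
      · rwa [hc1, mul_one] at e1
      · have := e2 i
        rwa [hc1, mul_one] at this
  refine ⟨?_, h10.1, h10.2⟩
  by_contra h00
  have h00' : g 0 0 = 0 := by
    rcases zmod2_cases (g 0 0) with h' | h'
    · exact h'
    · exact absurd h' h00
  exact det_ne_one_of_col_zero g h00' h10.1 h10.2 hdet

/-- a determinant-one matrix commuting with a non-trivial transvection with axis `x₁ = 0` has
second row `e₁` -/
theorem row_of_commute (g : Matrix (Fin (n + 2)) (Fin (n + 2)) (ZMod 2)) (hdet : g.det = 1)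
    (b : Fin n → ZMod 2) (c : ZMod 2) (hne : b ≠ 0 ∨ c ≠ 0)
    (h : g * mk 1 0 b c = mk 1 0 b c * g) :
    g 1 1 = 1 ∧ g 1 0 = 0 ∧ ∀ j : Fin n, g 1 j.succ.succ = 0 := by
  have e1 : c * g 1 0 = 0 := by
    have e := congrFun (congrFun h 0) 0
    rw [mul_mk_one_apply_zero, mk_one_mul_apply_zero] at e
    simp only [Pi.zero_apply, zero_mul, Finset.sum_const_zero, add_zero] at e
    linear_combination -e
  have e2 : ∀ j : Fin n, c * g 1 j.succ.succ = 0 := by
    intro j
    have e := congrFun (congrFun h 0) j.succ.succ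
    rw [mul_mk_one_apply_succ, mk_one_mul_apply_zero] at e
    simp only [Pi.zero_apply, zero_mul, Finset.sum_const_zero, add_zero, mul_zero, zero_add] at e
    linear_combination -e
  have e3 : ∀ i : Fin n, b i * g 1 0 = 0 := by
    intro i
    have e := congrFun (congrFun h i.succ.succ) 0
    rw [mul_mk_one_apply_zero, mk_one_mul_apply_succ] at e
    linear_combination -e
  have e4 : ∀ i j : Fin n, b i * g 1 j.succ.succ = 0 := by
    intro i j
    have e := congrFun (congrFun h i.succ.succ) j.succ.succ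
    rw [mul_mk_one_apply_succ, mk_one_mul_apply_succ] at e
    simp only [Pi.zero_apply, mul_zero, zero_add] at e
    linear_combination -e
  have h10 : g 1 0 = 0 ∧ ∀ j : Fin n, g 1 j.succ.succ = 0 := by
    rcases hne with hb | hc
    · obtain ⟨i, hi⟩ := Function.ne_iff.1 hb
      have hi1 : b i = 1 := zmod2_eq_one_of_ne_zero hi
      refine ⟨?_, fun j => ?_⟩
      · have := e3 i
        rwa [hi1, one_mul] at this
      · have := e4 i j
        rwa [hi1, one_mul] at this
    · have hc1 : c = 1 := zmod2_eq_one_of_ne_zero hc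
      refine ⟨?_, fun j => ?_⟩
      · rwa [hc1, one_mul] at e1
      · have := e2 j
        rwa [hc1, one_mul] at this
  refine ⟨?_, h10.1, h10.2⟩
  by_contra h11
  have h11' : g 1 1 = 0 := by
    rcases zmod2_cases (g 1 1) with h' | h'
    · exact h'
    · exact absurd h' h11
  exact det_ne_one_of_row_zero g h10.1 h11' h10.2 hdet

/-- the determinant-one matrices commuting with the transvection `1 + E₀₁` -/
theorem commute_transv_iff (g : Matrix (Fin (n + 2)) (Fin (n + 2)) (ZMod 2)) (hdet : g.det = 1) :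
    g * mk 1 0 0 1 = mk 1 0 0 1 * g ↔ ∃ A a b c, g = mk A a b c := by
  constructor
  · intro h
    obtain ⟨h00, h10, hs0⟩ := col_of_commute g hdet 0 1 (Or.inr one_ne_zero) h
    obtain ⟨h11, -, h1s⟩ := row_of_commute g hdet 0 1 (Or.inr one_ne_zero) h
    exact ⟨_, _, _, _, eq_mk_of_col_row g h00 h10 hs0 h11 h1s⟩
  · rintro ⟨A, a, b, c, rfl⟩
    rw [mk_mul_mk, mk_mul_mk]
    simp [add_comm]

end Cfsg.Agent.Lib.Helper13.SL2T
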