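import Mathlib
import Cfsg.Prelude.Def_MonsterType
import Cfsg.Agent.Lib.Helper13.SLTransvMat
import Cfsg.Agent.Lib.Helper1.Cores
import Cfsg.Agent.Lib.Helper1.Frattini
import Cfsg.Agent.Lib.Helper12.Generation
import Cfsg.Agent.S5423

/-!
# The centralizer of a transvection in `SL_{n+2}(2)`

Group-level facts on top of the block matrices `mk A a b c`.
-/

set_option autoImplicit false
set_option linter.unusedSimpArgs false
open scoped MatrixGroups

namespace Cfsg.Agent.Lib.Helper13.SL2T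

open Matrix
open scoped commutatorElement

/-! ### general lemmas -/

/-- criterion for a finite group to be extraspecial of exponent dividing four -/
theorem isExtraspecial_two_of {P : Type*} [Group P] [Finite P] (z : P) (hz1 : z ≠ 1)
    (hzc : ∀ x : P, x * z = z * x)
    (hsq : ∀ x : P, x * x = 1 ∨ x * x = z)
    (hcomm : ∀ x y : P, x * y = y * x ∨ x * y = z * (y * x))
    (hcent : ∀ y : P, (∀ x : P, x * y = y * x) → y = 1 ∨ y = z)
    (hex : ∃ a b : P, a * b = z * (b * a)) :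
    Cfsg.IsExtraspecial 2 P ∧ Subgroup.center P = Subgroup.zpowers z := by
  have : Fact (Nat.Prime 2) := ⟨Nat.prime_two⟩
  have hzz : z * z = 1 := by
    rcases hsq z with h | h
    · exact h
    · exfalso
      apply hz1
      calc z = z⁻¹ * (z * z) := by group
        _ = z⁻¹ * z := by rw [h]
        _ = 1 := by group
  have hP : IsPGroup 2 P := by
    intro x
    refine ⟨2, ?_⟩
    have h4 : x ^ 2 ^ 2 = (x * x) * (x * x) := by
      rw [show (2 : ℕ) ^ 2 = 2 * 2 by norm_num, pow_mul, pow_two, pow_two]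
    rw [h4]
    rcases hsq x with h | h
    · rw [h, one_mul]
    · rw [h, hzz]
  have hcenter : Subgroup.center P = Subgroup.zpowers z := by
    ext y
    rw [Subgroup.mem_center_iff]
    constructor
    · intro hy
      rcases hcent y (fun x => hy x) with h | h
      · rw [h]; exact Subgroup.one_mem _
      · rw [h]; exact Subgroup.mem_zpowers z
    · intro hy x
      obtain ⟨k, rfl⟩ := Subgroup.mem_zpowers_iff.1 hy
      have hc : Commute x z := hzc x
      exact (hc.zpow_right k).eq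
  have horder : orderOf z = 2 := orderOf_eq_prime (by rw [pow_two]; exact hzz) hz1
  have hcard : Nat.card (Subgroup.center P) = 2 := by
    rw [hcenter, Nat.card_zpowers, horder]
  have hcomm_le : commutator P ≤ Subgroup.center P := by
    rw [commutator_def, Subgroup.commutator_le]
    intro a _ b _
    rw [hcenter, commutatorElement_def]
    rcases hcomm a b with h | h
    · have h' : a * b * a⁻¹ * b⁻¹ = 1 := by rw [h]; group
      rw [h']; exact Subgroup.one_mem _
    · have h' : a * b * a⁻¹ * b⁻¹ = z := by rw [h]; group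
      rw [h']; exact Subgroup.mem_zpowers z
  have hz_comm : z ∈ commutator P := by
    obtain ⟨a, b, hab⟩ := hex
    have h' : ⁅a, b⁆ = z := by rw [commutatorElement_def, hab]; group
    rw [← h', commutator_def]
    exact Subgroup.commutator_mem_commutator (Subgroup.mem_top _) (Subgroup.mem_top _)
  have hcomm_eq : commutator P = Subgroup.center P :=
    le_antisymm hcomm_le (by rw [hcenter]; exact Subgroup.zpowers_le.2 hz_comm)
  have hfrat : frattini P = Subgroup.center P := by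
    apply le_antisymm
    · apply Cfsg.Agent.Lib.Helper1.frattini_le_of_commutator_le_of_pow_mem (p := 2) _ hcomm_le
      intro x
      rw [hcenter, pow_two]
      rcases hsq x with h | h
      · rw [h]; exact Subgroup.one_mem _
      · rw [h]; exact Subgroup.mem_zpowers z
    · rw [← hcomm_eq]
      exact Cfsg.Agent.Lib.Helper1.IsPGroup.commutator_le_frattini hP
  exact ⟨⟨⟨hP, hfrat, hcomm_eq⟩, hcard⟩, hcenter⟩

/-- `GL_n(2)` has no non-trivial normal `2`-subgroup -/
theorem gl_no_normal_two (n : ℕ) (R : Subgroup (GL (Fin n) (ZMod 2))) (hR : R.Normal)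
    (hp : IsPGroup 2 R) : R = ⊥ := by
  have hc : ∀ a b : Multiplicative (Fin n → ZMod 2), a * b = b * a := fun a b => mul_comm a b
  have h2 : ∀ a : Multiplicative (Fin n → ZMod 2), a * a = 1 := by
    intro a
    show Multiplicative.ofAdd (Multiplicative.toAdd a + Multiplicative.toAdd a) = 1
    rw [fun_add_self]
    rfl
  have hcard : Nat.card (Multiplicative (Fin n → ZMod 2)) = 2 ^ n := by
    rw [Nat.card_congr Multiplicative.toAdd, Nat.card_eq_fintype_card, Fintype.card_fun,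
      ZMod.card, Fintype.card_fin]
  obtain ⟨e⟩ := Cfsg.Agent.S5423.mulAut_equiv_GL hc h2 n hcard
  have h := Cfsg.Agent.S5423.mulAut_normal_two_subgroup_trivial hc h2 (R.comap e.toMonoidHom)
    (hR.comap _) (hp.comap_of_injective e.toMonoidHom e.injective)
  rw [← Subgroup.map_comap_eq_self_of_surjective (f := e.toMonoidHom) e.surjective R, h,
    Subgroup.map_bot]

theorem sl_toGL_bijective (n : ℕ) :
    Function.Bijective (Matrix.SpecialLinearGroup.toGL :
      Matrix.SpecialLinearGroup (Fin n) (ZMod 2) → GL (Fin n) (ZMod 2)) := by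
  refine ⟨Matrix.SpecialLinearGroup.toGL_injective, ?_⟩
  intro γ
  have hdet : (γ : Matrix (Fin n) (Fin n) (ZMod 2)).det = 1 := by
    have h1 : Matrix.GeneralLinearGroup.det γ = 1 := Subsingleton.elim _ _
    have h2 := congrArg Units.val h1
    rw [Matrix.GeneralLinearGroup.val_det_apply, Units.val_one] at h2
    exact h2
  obtain ⟨s, hs⟩ : ∃ s : Matrix.SpecialLinearGroup (Fin n) (ZMod 2),
      (s : Matrix (Fin n) (Fin n) (ZMod 2)) = γ := ⟨⟨γ, hdet⟩, rfl⟩
  exact ⟨s, Units.ext hs⟩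

theorem det_eq_one_of_mul_eq_one {m : ℕ} (M M' : Matrix (Fin m) (Fin m) (ZMod 2))
    (h : M * M' = 1) : M.det = 1 := by
  have h1 := congrArg Matrix.det h
  rw [Matrix.det_mul, Matrix.det_one] at h1
  apply zmod2_eq_one_of_ne_zero
  intro h0
  rw [h0, zero_mul] at h1
  exact zero_ne_one h1

/-! ### the group and its elements -/

/-- the group `SL_{n+2}(2)` -/
abbrev SLG (n : ℕ) := Matrix.SpecialLinearGroup (Fin (n + 2)) (ZMod 2)

variable {n : ℕ}

/-- elements of the unipotent radical -/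
def qel (a b : Fin n → ZMod 2) (c : ZMod 2) : SLG n :=
  ⟨mk 1 a b c, det_eq_one_of_mul_eq_one _ (mk 1 a b (c + a ⬝ᵥ b)) (by
    rw [mk_one_mul_mk_one, fun_add_self, fun_add_self]
    have h : c + (c + a ⬝ᵥ b) + a ⬝ᵥ b = 0 := by
      linear_combination zmod2_add_self c + zmod2_add_self (a ⬝ᵥ b)
    rw [h, mk_one])⟩

theorem qel_val (a b : Fin n → ZMod 2) (c : ZMod 2) : (qel a b c).1 = mk 1 a b c := rfl

theorem qel_mul (a b a' b' : Fin n → ZMod 2) (c c' : ZMod 2) :
    qel a b c * qel a' b' c' = qel (a' + a) (b + b') (c + c' + a ⬝ᵥ b') :=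
  Subtype.ext (mk_one_mul_mk_one a b a' b' c c')

theorem qel_zero : qel (0 : Fin n → ZMod 2) 0 0 = 1 := Subtype.ext mk_one

theorem qel_inj {a b a' b' : Fin n → ZMod 2} {c c' : ZMod 2} (h : qel a b c = qel a' b' c') :
    a = a' ∧ b = b' ∧ c = c' :=
  (mk_inj (congrArg Subtype.val h)).2

theorem eq_qel_of_val {g : SLG n} {a b : Fin n → ZMod 2} {c : ZMod 2} (h : g.1 = mk 1 a b c) :
    g = qel a b c := Subtype.ext h

/-- the transvection -/
def zel : SLG n := qel 0 0 1

/-- the Levi complement -/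
def kHom (n : ℕ) : GL (Fin n) (ZMod 2) →* SLG n where
  toFun A := ⟨mk (A : Matrix (Fin n) (Fin n) (ZMod 2)) 0 0 0,
    det_eq_one_of_mul_eq_one _
      (mk ((A⁻¹ : GL (Fin n) (ZMod 2)) : Matrix (Fin n) (Fin n) (ZMod 2)) 0 0 0) (by
      rw [mk_mul_mk]
      have h : (A : Matrix (Fin n) (Fin n) (ZMod 2))
          * ((A⁻¹ : GL (Fin n) (ZMod 2)) : Matrix (Fin n) (Fin n) (ZMod 2)) = 1 := by
        rw [← Units.val_mul, mul_inv_cancel, Units.val_one]
      rw [h]
      simp [mk_one])⟩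
  map_one' := Subtype.ext (by
    show mk ((1 : GL (Fin n) (ZMod 2)) : Matrix (Fin n) (Fin n) (ZMod 2)) 0 0 0 = 1
    rw [Units.val_one, mk_one])
  map_mul' A B := Subtype.ext (by
    show mk ((A * B : GL (Fin n) (ZMod 2)) : Matrix (Fin n) (Fin n) (ZMod 2)) 0 0 0
      = mk (A : Matrix (Fin n) (Fin n) (ZMod 2)) 0 0 0 * mk (B : Matrix (Fin n) (Fin n) (ZMod 2)) 0 0 0
    rw [mk_mul_mk, Units.val_mul]
    simp)

theorem kHom_val (A : GL (Fin n) (ZMod 2)) :
    (kHom n A).1 = mk (A : Matrix (Fin n) (Fin n) (ZMod 2)) 0 0 0 := rfl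

theorem kHom_injective : Function.Injective (kHom n) := by
  intro A B h
  have h1 := congrArg Subtype.val h
  rw [kHom_val, kHom_val] at h1
  exact Units.ext (mk_inj h1).1

/-- the centralizer of the transvection -/
def Cz (n : ℕ) : Subgroup (SLG n) := Subgroup.centralizer ({zel} : Set (SLG n))

theorem mem_Cz_iff (g : SLG n) : g ∈ Cz n ↔ ∃ A a b c, g.1 = mk A a b c := by
  rw [Cz, Subgroup.mem_centralizer_singleton_iff, ← commute_transv_iff g.1 g.2]
  constructor
  · intro h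
    exact congrArg Subtype.val h
  · intro h
    exact Subtype.ext h

theorem qel_mem_Cz (a b : Fin n → ZMod 2) (c : ZMod 2) : qel a b c ∈ Cz n :=
  (mem_Cz_iff _).2 ⟨1, a, b, c, rfl⟩

theorem kHom_mem_Cz (A : GL (Fin n) (ZMod 2)) : kHom n A ∈ Cz n :=
  (mem_Cz_iff _).2 ⟨_, 0, 0, 0, rfl⟩

/-- the middle block -/
def piM (g : SLG n) : Matrix (Fin n) (Fin n) (ZMod 2) :=
  Matrix.of fun i j => g.1 i.succ.succ j.succ.succ

theorem piM_of_eq {g : SLG n} {A : Matrix (Fin n) (Fin n) (ZMod 2)} {a b : Fin n → ZMod 2}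
    {c : ZMod 2} (h : g.1 = mk A a b c) : piM g = A := by
  ext i j
  show g.1 i.succ.succ j.succ.succ = A i j
  rw [h]
  rfl

/-- the projection of the centralizer onto its Levi factor, as a map to matrices -/
def piHom (n : ℕ) : ↥(Cz n) →* Matrix (Fin n) (Fin n) (ZMod 2) where
  toFun g := piM g.1
  map_one' := by
    show piM (1 : SLG n) = 1
    exact piM_of_eq (show (1 : SLG n).1 = mk 1 0 0 0 from mk_one.symm)
  map_mul' g h := by
    obtain ⟨A, a, b, c, hg⟩ := (mem_Cz_iff g.1).1 g.2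
    obtain ⟨A', a', b', c', hh⟩ := (mem_Cz_iff h.1).1 h.2
    have hgh : (g.1 * h.1 : SLG n).1 = mk (A * A') (a' + a ᵥ* A') (b + A *ᵥ b')
        (c + c' + a ⬝ᵥ b') := by
      show g.1.1 * h.1.1 = _
      rw [hg, hh, mk_mul_mk]
    show piM (g.1 * h.1) = piM g.1 * piM h.1
    rw [piM_of_eq hgh, piM_of_eq hg, piM_of_eq hh]

/-- the projection of the centralizer onto `GL_n(2)` -/
def piU (n : ℕ) : ↥(Cz n) →* GL (Fin n) (ZMod 2) := (piHom n).toHomUnits

theorem piU_val (g : ↥(Cz n)) : ((piU n g : GL (Fin n) (ZMod 2)) : Matrix (Fin n) (Fin n) (ZMod 2))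
    = piM g.1 := rfl

theorem piU_kHom (A : GL (Fin n) (ZMod 2)) : piU n ⟨kHom n A, kHom_mem_Cz A⟩ = A := by
  apply Units.ext
  rw [piU_val]
  exact piM_of_eq (kHom_val A)

theorem piU_surjective : Function.Surjective (piU n) := fun A => ⟨_, piU_kHom A⟩

/-- the unipotent radical -/
def Q0 (n : ℕ) : Subgroup (SLG n) := ((piU n).ker).map (Cz n).subtype

theorem mem_Q0_iff (g : SLG n) : g ∈ Q0 n ↔ ∃ a b c, g.1 = mk 1 a b c := by
  constructor
  · intro hg
    obtain ⟨g', hg', rfl⟩ := Subgroup.mem_map.1 hg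
    obtain ⟨A, a, b, c, h⟩ := (mem_Cz_iff g'.1).1 g'.2
    have h1 : piM g'.1 = 1 := by
      have h2 := congrArg Units.val (MonoidHom.mem_ker.1 hg')
      rw [piU_val, Units.val_one] at h2
      exact h2
    rw [piM_of_eq h] at h1
    subst h1
    exact ⟨a, b, c, h⟩
  · rintro ⟨a, b, c, h⟩
    have hC : g ∈ Cz n := (mem_Cz_iff g).2 ⟨1, a, b, c, h⟩
    refine Subgroup.mem_map.2 ⟨⟨g, hC⟩, ?_, rfl⟩
    rw [MonoidHom.mem_ker]
    apply Units.ext
    rw [piU_val, Units.val_one]
    exact piM_of_eq h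

theorem mem_Q0_iff' (g : SLG n) : g ∈ Q0 n ↔ ∃ a b c, g = qel a b c := by
  rw [mem_Q0_iff]
  constructor
  · rintro ⟨a, b, c, h⟩
    exact ⟨a, b, c, eq_qel_of_val h⟩
  · rintro ⟨a, b, c, rfl⟩
    exact ⟨a, b, c, rfl⟩

theorem qel_mem_Q0 (a b : Fin n → ZMod 2) (c : ZMod 2) : qel a b c ∈ Q0 n :=
  (mem_Q0_iff' _).2 ⟨a, b, c, rfl⟩

theorem Q0_le_Cz : Q0 n ≤ Cz n := Subgroup.map_subtype_le _

theorem conj_mem_Q0 {g h : SLG n} (hg : g ∈ Cz n) (hh : h ∈ Q0 n) : g * h * g⁻¹ ∈ Q0 n := by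
  obtain ⟨h', hh', rfl⟩ := Subgroup.mem_map.1 hh
  have hn : ((piU n).ker).Normal := inferInstance
  have h1 : (⟨g, hg⟩ : ↥(Cz n)) * h' * (⟨g, hg⟩ : ↥(Cz n))⁻¹ ∈ (piU n).ker :=
    hn.conj_mem h' hh' ⟨g, hg⟩
  have h2 := Subgroup.mem_map_of_mem (Cz n).subtype h1
  rw [map_mul, map_mul, map_inv] at h2
  exact h2

/-- parametrisation of the unipotent radical -/
def qfun (n : ℕ) (p : (Fin n → ZMod 2) × (Fin n → ZMod 2) × ZMod 2) : ↥(Q0 n) :=
  ⟨qel p.1 p.2.1 p.2.2, qel_mem_Q0 _ _ _⟩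

theorem qfun_bijective : Function.Bijective (qfun n) := by
  constructor
  · intro p p' h
    have h1 := qel_inj (congrArg Subtype.val h)
    exact Prod.ext h1.1 (Prod.ext h1.2.1 h1.2.2)
  · intro x
    obtain ⟨a, b, c, h⟩ := (mem_Q0_iff' x.1).1 x.2
    exact ⟨(a, b, c), Subtype.ext h.symm⟩

theorem card_fun_zmod2 (n : ℕ) : Nat.card (Fin n → ZMod 2) = 2 ^ n := by
  rw [Nat.card_eq_fintype_card, Fintype.card_fun, ZMod.card, Fintype.card_fin]

theorem card_Q0 : Nat.card ↥(Q0 n) = 2 ^ (2 * n + 1) := by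
  have h1 : Nat.card ((Fin n → ZMod 2) × (Fin n → ZMod 2) × ZMod 2) = Nat.card ↥(Q0 n) :=
    Nat.card_eq_of_bijective (qfun n) qfun_bijective
  rw [← h1, Nat.card_prod, Nat.card_prod, card_fun_zmod2, Nat.card_zmod]
  ring

theorem isPGroup_Q0 : IsPGroup 2 ↥(Q0 n) := IsPGroup.of_card card_Q0

theorem zel_mem_Q0 : (zel : SLG n) ∈ Q0 n := qel_mem_Q0 _ _ _

theorem zel_ne_one : (zel : SLG n) ≠ 1 := by
  intro h
  rw [zel, ← qel_zero] at h
  exact one_ne_zero (qel_inj h).2.2

theorem zel_mul_self : (zel : SLG n) * zel = 1 := by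
  have h : (1 : ZMod 2) + 1 + (0 : Fin n → ZMod 2) ⬝ᵥ 0 = 0 := by
    rw [dotProduct_zero, add_zero]
    exact zmod2_add_self 1
  rw [zel, qel_mul, h, add_zero]
  exact qel_zero

theorem orderOf_zel : orderOf (zel : SLG n) = 2 :=
  orderOf_eq_prime (by rw [pow_two]; exact zel_mul_self) zel_ne_one

/-- multiplying by the transvection -/
theorem zel_mul_qel (a b : Fin n → ZMod 2) (c : ZMod 2) : zel * qel a b c = qel a b (1 + c) := by
  rw [zel, qel_mul]
  simp only [add_zero, zero_add, zero_dotProduct, dotProduct_zero]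

theorem qel_mul_zel (a b : Fin n → ZMod 2) (c : ZMod 2) : qel a b c * zel = qel a b (1 + c) := by
  rw [zel, qel_mul]
  simp only [add_zero, zero_add, zero_dotProduct, dotProduct_zero]
  rw [add_comm c 1]

end Cfsg.Agent.Lib.Helper13.SL2T
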