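import Mathlib
import Cfsg.Agent.Lib.Helper13.SLTransvGrp

/-!
# The centralizer of a transvection in `SL_{n+2}(2)`: main structural facts
-/

set_option autoImplicit false
set_option linter.unusedSimpArgs false
open scoped MatrixGroups

namespace Cfsg.Agent.Lib.Helper13.SL2T

open Matrix
open scoped commutatorElement

variable {n : ℕ}

/-! ### the unipotent radical is extraspecial -/

theorem Q0_extraspecial (hn : 1 ≤ n) :
    Cfsg.IsExtraspecial 2 ↥(Q0 n) ∧
      Subgroup.center ↥(Q0 n) = Subgroup.zpowers (⟨zel, zel_mem_Q0⟩ : ↥(Q0 n)) := by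
  apply isExtraspecial_two_of (⟨zel, zel_mem_Q0⟩ : ↥(Q0 n))
  · intro h
    exact zel_ne_one (congrArg Subtype.val h)
  · intro x
    obtain ⟨a, b, c, hx⟩ := (mem_Q0_iff' x.1).1 x.2
    apply Subtype.ext
    show x.1 * zel = zel * x.1
    rw [hx, qel_mul_zel, zel_mul_qel]
  · intro x
    obtain ⟨a, b, c, hx⟩ := (mem_Q0_iff' x.1).1 x.2
    have hsq : x.1 * x.1 = qel 0 0 (a ⬝ᵥ b) := by
      rw [hx, qel_mul]
      simp only [fun_add_self, zmod2_add_self, zero_add]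
    rcases zmod2_cases (a ⬝ᵥ b) with h | h
    · left
      apply Subtype.ext
      show x.1 * x.1 = 1
      rw [hsq, h]
      exact qel_zero
    · right
      apply Subtype.ext
      show x.1 * x.1 = zel
      rw [hsq, h]
      rfl
  · intro x y
    obtain ⟨a, b, c, hx⟩ := (mem_Q0_iff' x.1).1 x.2
    obtain ⟨a', b', c', hy⟩ := (mem_Q0_iff' y.1).1 y.2
    have hxy : x.1 * y.1 = qel (a' + a) (b + b') (c + c' + a ⬝ᵥ b') := by
      rw [hx, hy, qel_mul]
    have hyx : y.1 * x.1 = qel (a' + a) (b + b') (c + c' + a' ⬝ᵥ b) := by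
      rw [hx, hy, qel_mul, add_comm a a', add_comm b' b, add_comm c' c]
    rcases zmod2_cases (a ⬝ᵥ b' + a' ⬝ᵥ b) with h | h
    · left
      apply Subtype.ext
      show x.1 * y.1 = y.1 * x.1
      rw [hxy, hyx]
      have h' : a ⬝ᵥ b' = a' ⬝ᵥ b := by
        linear_combination h - zmod2_add_self (a' ⬝ᵥ b)
      rw [h']
    · right
      apply Subtype.ext
      show x.1 * y.1 = zel * (y.1 * x.1)
      rw [hxy, hyx, zel_mul_qel]
      have h' : c + c' + a ⬝ᵥ b' = 1 + (c + c' + a' ⬝ᵥ b) := by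
        linear_combination h - zmod2_add_self (a' ⬝ᵥ b)
      rw [h']
  · intro y hy
    obtain ⟨a', b', c', hy'⟩ := (mem_Q0_iff' y.1).1 y.2
    have key : ∀ a b : Fin n → ZMod 2, a ⬝ᵥ b' = a' ⬝ᵥ b := by
      intro a b
      have h : qel a b 0 * y.1 = y.1 * qel a b 0 :=
        congrArg Subtype.val (hy ⟨qel a b 0, qel_mem_Q0 _ _ _⟩)
      rw [hy', qel_mul, qel_mul] at h
      have h3 := (qel_inj h).2.2
      linear_combination h3
    have hb' : b' = 0 := by
      ext j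
      have h := key (Pi.single j 1) 0
      rw [single_one_dotProduct, dotProduct_zero] at h
      exact h
    have ha' : a' = 0 := by
      ext j
      have h := key 0 (Pi.single j 1)
      rw [zero_dotProduct, dotProduct_single_one] at h
      exact h.symm
    rcases zmod2_cases c' with h | h
    · left
      apply Subtype.ext
      show y.1 = 1
      rw [hy', ha', hb', h]
      exact qel_zero
    · right
      apply Subtype.ext
      show y.1 = zel
      rw [hy', ha', hb', h]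
      rfl
  · obtain ⟨j⟩ : Nonempty (Fin n) := ⟨⟨0, hn⟩⟩
    refine ⟨⟨qel (Pi.single j 1) 0 0, qel_mem_Q0 _ _ _⟩,
      ⟨qel 0 (Pi.single j 1) 0, qel_mem_Q0 _ _ _⟩, ?_⟩
    apply Subtype.ext
    show qel (Pi.single j 1) 0 0 * qel 0 (Pi.single j 1) 0
      = zel * (qel 0 (Pi.single j 1) 0 * qel (Pi.single j 1) 0 0)
    rw [qel_mul, qel_mul, zel_mul_qel]
    simp only [zero_add, add_zero, dotProduct_zero, zero_dotProduct, single_one_dotProduct,
      Pi.single_eq_same]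

/-! ### two elementary abelian subgroups -/

/-- transvections with centre `e₀` -/
def E1 (n : ℕ) : Subgroup (SLG n) where
  carrier := {g | ∃ a c, g = qel a 0 c}
  mul_mem' := by
    rintro _ _ ⟨a, c, rfl⟩ ⟨a', c', rfl⟩
    exact ⟨a' + a, c + c' + a ⬝ᵥ 0, by rw [qel_mul, add_zero]⟩
  one_mem' := ⟨0, 0, qel_zero.symm⟩
  inv_mem' := by
    rintro _ ⟨a, c, rfl⟩
    refine ⟨a, c, ?_⟩
    apply inv_eq_of_mul_eq_one_right
    rw [qel_mul]
    simp only [fun_add_self, add_zero, dotProduct_zero, zmod2_add_self]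
    exact qel_zero

/-- transvections with axis `x₁ = 0` -/
def E2 (n : ℕ) : Subgroup (SLG n) where
  carrier := {g | ∃ b c, g = qel 0 b c}
  mul_mem' := by
    rintro _ _ ⟨b, c, rfl⟩ ⟨b', c', rfl⟩
    exact ⟨b + b', c + c' + 0 ⬝ᵥ b', by rw [qel_mul, add_zero]⟩
  one_mem' := ⟨0, 0, qel_zero.symm⟩
  inv_mem' := by
    rintro _ ⟨b, c, rfl⟩
    refine ⟨b, c, ?_⟩
    apply inv_eq_of_mul_eq_one_right
    rw [qel_mul]
    simp only [fun_add_self, add_zero, zero_dotProduct, zmod2_add_self]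
    exact qel_zero

theorem E1_le_Q0 : E1 n ≤ Q0 n := by
  rintro _ ⟨a, c, rfl⟩
  exact qel_mem_Q0 _ _ _

theorem E2_le_Q0 : E2 n ≤ Q0 n := by
  rintro _ ⟨b, c, rfl⟩
  exact qel_mem_Q0 _ _ _

theorem E1_comm : ∀ x ∈ E1 n, ∀ y ∈ E1 n, x * y = y * x := by
  rintro _ ⟨a, c, rfl⟩ _ ⟨a', c', rfl⟩
  rw [qel_mul, qel_mul, add_comm a' a, add_comm c' c, dotProduct_zero, dotProduct_zero]

theorem E2_comm : ∀ x ∈ E2 n, ∀ y ∈ E2 n, x * y = y * x := by
  rintro _ ⟨b, c, rfl⟩ _ ⟨b', c', rfl⟩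
  rw [qel_mul, qel_mul, add_comm b' b, add_comm c' c, zero_dotProduct, zero_dotProduct]

theorem E1_exp : ∀ x ∈ E1 n, x ^ 2 = 1 := by
  rintro _ ⟨a, c, rfl⟩
  rw [pow_two, qel_mul]
  simp only [fun_add_self, add_zero, dotProduct_zero, zmod2_add_self]
  exact qel_zero

theorem E2_exp : ∀ x ∈ E2 n, x ^ 2 = 1 := by
  rintro _ ⟨b, c, rfl⟩
  rw [pow_two, qel_mul]
  simp only [fun_add_self, add_zero, zero_dotProduct, zmod2_add_self]
  exact qel_zero

theorem card_E1 : Nat.card ↥(E1 n) = 2 ^ (n + 1) := by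
  have hbij : Function.Bijective (fun p : (Fin n → ZMod 2) × ZMod 2 =>
      (⟨qel p.1 0 p.2, ⟨p.1, p.2, rfl⟩⟩ : ↥(E1 n))) := by
    constructor
    · intro p p' h
      have h1 := qel_inj (congrArg Subtype.val h)
      exact Prod.ext h1.1 h1.2.2
    · rintro ⟨_, a, c, rfl⟩
      exact ⟨(a, c), rfl⟩
  rw [← Nat.card_eq_of_bijective _ hbij, Nat.card_prod, card_fun_zmod2, Nat.card_zmod]
  ring

theorem card_E2 : Nat.card ↥(E2 n) = 2 ^ (n + 1) := by
  have hbij : Function.Bijective (fun p : (Fin n → ZMod 2) × ZMod 2 =>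
      (⟨qel 0 p.1 p.2, ⟨p.1, p.2, rfl⟩⟩ : ↥(E2 n))) := by
    constructor
    · intro p p' h
      have h1 := qel_inj (congrArg Subtype.val h)
      exact Prod.ext h1.2.1 h1.2.2
    · rintro ⟨_, b, c, rfl⟩
      exact ⟨(b, c), rfl⟩
  rw [← Nat.card_eq_of_bijective _ hbij, Nat.card_prod, card_fun_zmod2, Nat.card_zmod]
  ring

theorem E1_elementary : Cfsg.IsElementaryAbelian 2 (E1 n) := by
  refine ⟨⟨⟨fun x y => ?_⟩⟩, E1_exp⟩
  exact Subtype.ext (E1_comm x.1 x.2 y.1 y.2)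

/-! ### stabilizers of `e₀` and of the functional `x₁` -/

/-- stabilizer of the column vector `e₀` -/
def S0 (n : ℕ) : Subgroup (SLG n) where
  carrier := {g | g.1 *ᵥ Pi.single 0 1 = Pi.single 0 1}
  mul_mem' := by
    intro g h hg hh
    show (g.1 * h.1) *ᵥ Pi.single 0 1 = Pi.single 0 1
    have hg' : g.1 *ᵥ Pi.single 0 1 = Pi.single 0 1 := hg
    have hh' : h.1 *ᵥ Pi.single 0 1 = Pi.single 0 1 := hh
    rw [← Matrix.mulVec_mulVec, hh', hg']
  one_mem' := by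
    show (1 : Matrix (Fin (n + 2)) (Fin (n + 2)) (ZMod 2)) *ᵥ Pi.single 0 1 = Pi.single 0 1
    exact Matrix.one_mulVec _
  inv_mem' := by
    intro g hg
    have hg' : g.1 *ᵥ Pi.single 0 1 = Pi.single 0 1 := hg
    show (g⁻¹).1 *ᵥ Pi.single 0 1 = Pi.single 0 1
    have h1 : (g⁻¹).1 *ᵥ (g.1 *ᵥ Pi.single 0 1) = Pi.single 0 1 := by
      rw [Matrix.mulVec_mulVec]
      have h2 : (g⁻¹).1 * g.1 = 1 := by
        have h3 : (g⁻¹ * g).1 = (1 : SLG n).1 := by rw [inv_mul_cancel]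
        exact h3
      rw [h2, Matrix.one_mulVec]
    rwa [hg'] at h1

/-- stabilizer of the row vector `e₁` -/
def S1 (n : ℕ) : Subgroup (SLG n) where
  carrier := {g | Pi.single 1 1 ᵥ* g.1 = Pi.single 1 1}
  mul_mem' := by
    intro g h hg hh
    show Pi.single 1 1 ᵥ* (g.1 * h.1) = Pi.single 1 1
    have hg' : Pi.single 1 1 ᵥ* g.1 = Pi.single 1 1 := hg
    have hh' : Pi.single 1 1 ᵥ* h.1 = Pi.single 1 1 := hh
    rw [← Matrix.vecMul_vecMul, hg', hh']
  one_mem' := by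
    show Pi.single 1 1 ᵥ* (1 : Matrix (Fin (n + 2)) (Fin (n + 2)) (ZMod 2)) = Pi.single 1 1
    exact Matrix.vecMul_one _
  inv_mem' := by
    intro g hg
    have hg' : Pi.single 1 1 ᵥ* g.1 = Pi.single 1 1 := hg
    show Pi.single 1 1 ᵥ* (g⁻¹).1 = Pi.single 1 1
    have h1 : (Pi.single 1 1 ᵥ* g.1) ᵥ* (g⁻¹).1 = Pi.single 1 1 := by
      rw [Matrix.vecMul_vecMul]
      have h2 : g.1 * (g⁻¹).1 = 1 := by
        have h3 : (g * g⁻¹).1 = (1 : SLG n).1 := by rw [mul_inv_cancel]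
        exact h3
      rw [h2, Matrix.vecMul_one]
    rwa [hg'] at h1

theorem mem_S0_of {g : SLG n} (h00 : g.1 0 0 = 1) (h10 : g.1 1 0 = 0)
    (hs0 : ∀ i : Fin n, g.1 i.succ.succ 0 = 0) : g ∈ S0 n := by
  show g.1 *ᵥ Pi.single 0 1 = Pi.single 0 1
  rw [Matrix.mulVec_single_one]
  funext i
  rw [Matrix.col_apply]
  induction i using Fin.cases with
  | zero => rw [h00, Pi.single_eq_same]
  | succ i =>
    induction i using Fin.cases with
    | zero =>
      rw [Pi.single_eq_of_ne (Fin.succ_ne_zero _)]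
      exact h10
    | succ i => rw [hs0 i, Pi.single_eq_of_ne (Fin.succ_ne_zero _)]

theorem of_mem_S0 {g : SLG n} (hg : g ∈ S0 n) :
    g.1 0 0 = 1 ∧ g.1 1 0 = 0 ∧ ∀ i : Fin n, g.1 i.succ.succ 0 = 0 := by
  have hg' : g.1 *ᵥ Pi.single 0 1 = Pi.single 0 1 := hg
  rw [Matrix.mulVec_single_one] at hg'
  refine ⟨?_, ?_, fun i => ?_⟩
  · have h := congrFun hg' 0
    rwa [Matrix.col_apply, Pi.single_eq_same] at h
  · have h := congrFun hg' 1
    rwa [Matrix.col_apply, Pi.single_eq_of_ne one_ne_zero2] at h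
  · have h := congrFun hg' i.succ.succ
    rwa [Matrix.col_apply, Pi.single_eq_of_ne (ss_ne_zero i)] at h

theorem mem_S1_of {g : SLG n} (h11 : g.1 1 1 = 1) (h10 : g.1 1 0 = 0)
    (h1s : ∀ j : Fin n, g.1 1 j.succ.succ = 0) : g ∈ S1 n := by
  show Pi.single 1 1 ᵥ* g.1 = Pi.single 1 1
  rw [Matrix.single_one_vecMul]
  funext j
  rw [Matrix.row_apply]
  induction j using Fin.cases with
  | zero => rw [Pi.single_eq_of_ne zero_ne_one2]; exact h10
  | succ j =>
    induction j using Fin.cases with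
    | zero =>
      have h : (Pi.single (1 : Fin (n + 2)) (1 : ZMod 2) : Fin (n + 2) → ZMod 2) (Fin.succ 0)
          = 1 := by
        rw [← one_eq_succ_zero]
        exact Pi.single_eq_same _ _
      rw [h]
      exact h11
    | succ j => rw [h1s j, Pi.single_eq_of_ne (ss_ne_one j)]

theorem of_mem_S1 {g : SLG n} (hg : g ∈ S1 n) :
    g.1 1 1 = 1 ∧ g.1 1 0 = 0 ∧ ∀ j : Fin n, g.1 1 j.succ.succ = 0 := by
  have hg' : Pi.single 1 1 ᵥ* g.1 = Pi.single 1 1 := hg
  rw [Matrix.single_one_vecMul] at hg'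
  refine ⟨?_, ?_, fun j => ?_⟩
  · have h := congrFun hg' 1
    rwa [Matrix.row_apply, Pi.single_eq_same] at h
  · have h := congrFun hg' 0
    rwa [Matrix.row_apply, Pi.single_eq_of_ne zero_ne_one2] at h
  · have h := congrFun hg' j.succ.succ
    rwa [Matrix.row_apply, Pi.single_eq_of_ne (ss_ne_one j)] at h

theorem S0_inf_S1_le : S0 n ⊓ S1 n ≤ Cz n := by
  intro g hg
  obtain ⟨h00, h10, hs0⟩ := of_mem_S0 hg.1
  obtain ⟨h11, -, h1s⟩ := of_mem_S1 hg.2
  exact (mem_Cz_iff g).2 ⟨_, _, _, _, eq_mk_of_col_row g.1 h00 h10 hs0 h11 h1s⟩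

theorem centralizer_E1_le {e : SLG n} (he : e ∈ E1 n) (he1 : e ≠ 1) :
    Subgroup.centralizer ({e} : Set (SLG n)) ≤ S0 n := by
  obtain ⟨a, c, rfl⟩ := he
  have hne : a ≠ 0 ∨ c ≠ 0 := by
    by_contra hcon
    push Not at hcon
    apply he1
    rw [hcon.1, hcon.2]
    exact qel_zero
  intro g hg
  rw [Subgroup.mem_centralizer_singleton_iff] at hg
  have hg' : g.1 * mk 1 a 0 c = mk 1 a 0 c * g.1 := congrArg Subtype.val hg
  obtain ⟨h00, h10, hs0⟩ := col_of_commute g.1 g.2 a c hne hg'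
  exact mem_S0_of h00 h10 hs0

theorem centralizer_E2_le {e : SLG n} (he : e ∈ E2 n) (he1 : e ≠ 1) :
    Subgroup.centralizer ({e} : Set (SLG n)) ≤ S1 n := by
  obtain ⟨b, c, rfl⟩ := he
  have hne : b ≠ 0 ∨ c ≠ 0 := by
    by_contra hcon
    push Not at hcon
    apply he1
    rw [hcon.1, hcon.2]
    exact qel_zero
  intro g hg
  rw [Subgroup.mem_centralizer_singleton_iff] at hg
  have hg' : g.1 * mk 1 0 b c = mk 1 0 b c * g.1 := congrArg Subtype.val hg
  obtain ⟨h11, h10, h1s⟩ := row_of_commute g.1 g.2 b c hne hg'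
  exact mem_S1_of h11 h10 h1s

end Cfsg.Agent.Lib.Helper13.SL2T
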