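import Mathlib
import Cfsg.Agent.Lib.Helper13.SLTransvMain

/-!
# The centralizer of a transvection in `SL_{n+2}(2)`: `O_2`, complement, largeness
-/

set_option autoImplicit false
set_option linter.unusedSimpArgs false
open scoped MatrixGroups

namespace Cfsg.Agent.Lib.Helper13.SL2T

open Matrix
open scoped commutatorElement

variable {n : ℕ}

/-! ### the centralizer of the unipotent radical -/

theorem centralizer_Q0 : Subgroup.centralizer (Q0 n : Set (SLG n)) = Subgroup.zpowers zel := by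
  apply le_antisymm
  · intro g hg
    rw [Subgroup.mem_centralizer_iff] at hg
    have hgC : g ∈ Cz n := by
      rw [Cz, Subgroup.mem_centralizer_singleton_iff]
      exact (hg zel zel_mem_Q0).symm
    obtain ⟨A, a, b, c, hgm⟩ := (mem_Cz_iff g).1 hgC
    have key : ∀ a' b' : Fin n → ZMod 2,
        a + a' ᵥ* A = a' + a ∧ b' + b = b + A *ᵥ b' ∧ a' ⬝ᵥ b = a ⬝ᵥ b' := by
      intro a' b'
      have h := congrArg Subtype.val (hg (qel a' b' 0) (qel_mem_Q0 _ _ _))
      have h' : mk 1 a' b' 0 * g.1 = g.1 * mk 1 a' b' 0 := h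
      rw [hgm, mk_mul_mk, mk_mul_mk] at h'
      obtain ⟨-, h2, h3, h4⟩ := mk_inj h'
      rw [Matrix.vecMul_one] at h2
      rw [Matrix.one_mulVec] at h3
      refine ⟨h2, h3, ?_⟩
      linear_combination h4
    have hA : A = 1 := by
      ext i j
      have h := congrFun (key 0 (Pi.single j 1)).2.1 i
      rw [Matrix.mulVec_single_one] at h
      simp only [Pi.add_apply, Matrix.col_apply] at h
      rw [Matrix.one_apply]
      have h' : A i j = (Pi.single j (1 : ZMod 2) : Fin n → ZMod 2) i := by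
        linear_combination -h
      rw [h', Pi.single_apply]
    have ha : a = 0 := by
      ext j
      have h := (key 0 (Pi.single j 1)).2.2
      rw [zero_dotProduct, dotProduct_single_one] at h
      exact h.symm
    have hb : b = 0 := by
      ext j
      have h := (key (Pi.single j 1) 0).2.2
      rw [single_one_dotProduct, dotProduct_zero] at h
      exact h
    have hgq : g = qel 0 0 c := by
      apply Subtype.ext
      rw [hgm, hA, ha, hb]
      rfl
    rcases zmod2_cases c with h | h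
    · rw [hgq, h, qel_zero]
      exact Subgroup.one_mem _
    · rw [hgq, h]
      exact Subgroup.mem_zpowers zel
  · rw [Subgroup.zpowers_le, Subgroup.mem_centralizer_iff]
    intro h hh
    obtain ⟨a, b, c, rfl⟩ := (mem_Q0_iff' h).1 hh
    rw [qel_mul_zel, zel_mul_qel]

theorem card_zpowers_zel : Nat.card ↥(Subgroup.zpowers (zel : SLG n)) = 2 := by
  rw [Nat.card_zpowers, orderOf_zel]

/-! ### odd order subgroups normalized by the unipotent radical -/

theorem odd_normalized_trivial (hn : 1 ≤ n) (K : Subgroup (SLG n)) (hodd : Odd (Nat.card K))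
    (hQK : Q0 n ≤ Subgroup.normalizer (K : Set (SLG n))) : K = ⊥ := by
  have : Fact (Nat.Prime 2) := ⟨Nat.prime_two⟩
  have hpK : ¬ 2 ∣ Nat.card K := by
    intro h
    exact (Nat.not_even_iff_odd.2 hodd) (even_iff_two_dvd.2 h)
  have hlt : 2 < 2 ^ (n + 1) := by
    calc 2 = 2 ^ 1 := (pow_one 2).symm
      _ < 2 ^ (n + 1) := Nat.pow_lt_pow_right (by norm_num) (by omega)
  -- `K` fixes `e₀`
  have h0 : K ≤ S0 n := by
    have h1 : K ≤ Cfsg.Agent.Lib.Helper12.genC (E1 n) K :=
      Cfsg.Agent.Lib.Helper12.le_genC_of_card (p := 2) E1_comm E1_exp (E1_le_Q0.trans hQK) hpK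
        (by rw [card_E1]; exact hlt)
    refine h1.trans ?_
    rw [Cfsg.Agent.Lib.Helper12.genC]
    apply iSup_le
    intro e
    exact inf_le_right.trans (centralizer_E1_le e.2.1 e.2.2)
  -- `K` fixes the functional `x₁`
  have h1 : K ≤ S1 n := by
    have h1 : K ≤ Cfsg.Agent.Lib.Helper12.genC (E2 n) K :=
      Cfsg.Agent.Lib.Helper12.le_genC_of_card (p := 2) E2_comm E2_exp (E2_le_Q0.trans hQK) hpK
        (by rw [card_E2]; exact hlt)
    refine h1.trans ?_
    rw [Cfsg.Agent.Lib.Helper12.genC]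
    apply iSup_le
    intro e
    exact inf_le_right.trans (centralizer_E2_le e.2.1 e.2.2)
  have hKC : K ≤ Cz n := (le_inf h0 h1).trans S0_inf_S1_le
  -- `K` and `Q0` have coprime orders
  have hcop : Nat.Coprime (Nat.card K) (Nat.card ↥(Q0 n)) := by
    rw [card_Q0]
    exact Nat.Coprime.pow_right _ (Nat.coprime_two_right.2 hodd)
  have hinf : K ⊓ Q0 n = ⊥ := Subgroup.inf_eq_bot_of_coprime hcop
  -- so `K` centralizes `Q0`
  have hKZ : K ≤ Subgroup.zpowers (zel : SLG n) := by
    rw [← centralizer_Q0]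
    intro k hk
    rw [Subgroup.mem_centralizer_iff]
    intro q hq
    have hq' : q ∈ Subgroup.normalizer (K : Set (SLG n)) := hQK hq
    have h2 : q * k⁻¹ * q⁻¹ ∈ K := (Subgroup.mem_normalizer_iff.1 hq' k⁻¹).1 (K.inv_mem hk)
    have h3 : k * q * k⁻¹ ∈ Q0 n := conj_mem_Q0 (hKC hk) hq
    have h4 : k * q * k⁻¹ * q⁻¹ ∈ K ⊓ Q0 n := by
      refine ⟨?_, (Q0 n).mul_mem h3 ((Q0 n).inv_mem hq)⟩
      have e : k * q * k⁻¹ * q⁻¹ = k * (q * k⁻¹ * q⁻¹) := by group
      rw [e]
      exact K.mul_mem hk h2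
    rw [hinf, Subgroup.mem_bot] at h4
    calc q * k = (k * q * k⁻¹ * q⁻¹)⁻¹ * (k * q) := by group
      _ = k * q := by rw [h4, inv_one, one_mul]
  have hdvd : Nat.card K ∣ 2 := by
    have h := Subgroup.card_dvd_of_le hKZ
    rwa [card_zpowers_zel] at h
  have hcard : Nat.card K = 1 := by
    rcases (Nat.dvd_prime Nat.prime_two).1 hdvd with h | h
    · exact h
    · exfalso
      rw [h] at hodd
      exact (by decide : ¬ Odd 2) hodd
  exact Subgroup.card_eq_one.1 hcard

/-! ### `O_2` of the centralizer -/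

theorem pCore_Cz_eq : (Cfsg.pCore 2 ↥(Cz n)).map (Cz n).subtype = Q0 n := by
  have : Fact (Nat.Prime 2) := ⟨Nat.prime_two⟩
  have hker : Cfsg.pCore 2 ↥(Cz n) = (piU n).ker := by
    apply le_antisymm
    · intro x hx
      have hN := Cfsg.Agent.Lib.Helper1.pCore_normal (G := ↥(Cz n)) 2
      have hR : ((Cfsg.pCore 2 ↥(Cz n)).map (piU n)).Normal := hN.map (piU n) piU_surjective
      have hp : IsPGroup 2 ↥((Cfsg.pCore 2 ↥(Cz n)).map (piU n)) :=
        (Cfsg.Agent.Lib.Helper1.pCore_isPGroup 2).map (piU n)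
      have hbot := gl_no_normal_two n _ hR hp
      have hx' : piU n x ∈ (Cfsg.pCore 2 ↥(Cz n)).map (piU n) := Subgroup.mem_map_of_mem _ hx
      rw [hbot, Subgroup.mem_bot] at hx'
      exact MonoidHom.mem_ker.2 hx'
    · apply Cfsg.Agent.Lib.Helper1.le_pCore inferInstance
      have hcard : Nat.card ↥((piU n).ker) = 2 ^ (2 * n + 1) := by
        rw [← card_Q0 (n := n), Q0]
        exact (Subgroup.card_map_of_injective (Subgroup.subtype_injective _)).symm
      exact IsPGroup.of_card hcard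
  rw [hker]
  rfl

/-! ### the complement -/

/-- the Levi complement -/
def K0 (n : ℕ) : Subgroup (SLG n) := (kHom n).range

theorem K0_le_Cz : K0 n ≤ Cz n := by
  rintro _ ⟨A, rfl⟩
  exact kHom_mem_Cz A

theorem Q0_inf_K0 : Q0 n ⊓ K0 n = ⊥ := by
  rw [eq_bot_iff]
  rintro g ⟨hgQ, A, rfl⟩
  obtain ⟨a, b, c, h⟩ := (mem_Q0_iff _).1 hgQ
  rw [kHom_val] at h
  obtain ⟨hA, -, -, -⟩ := mk_inj h
  rw [Subgroup.mem_bot]
  apply Subtype.ext
  rw [kHom_val, hA]
  exact mk_one

theorem Q0_sup_K0 : Q0 n ⊔ K0 n = Cz n := by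
  apply le_antisymm
  · exact sup_le Q0_le_Cz K0_le_Cz
  · intro g hg
    have hk : kHom n (piU n ⟨g, hg⟩) ∈ Cz n := kHom_mem_Cz _
    have hker : (⟨g, hg⟩ : ↥(Cz n)) * (⟨kHom n (piU n ⟨g, hg⟩), hk⟩ : ↥(Cz n))⁻¹ ∈ (piU n).ker := by
      rw [MonoidHom.mem_ker, map_mul, map_inv, piU_kHom, mul_inv_cancel]
    have h1 := Subgroup.mem_map_of_mem (Cz n).subtype hker
    rw [map_mul, map_inv] at h1
    have h2 : g * (kHom n (piU n ⟨g, hg⟩))⁻¹ ∈ Q0 n := h1
    have e : g = g * (kHom n (piU n ⟨g, hg⟩))⁻¹ * kHom n (piU n ⟨g, hg⟩) := by group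
    rw [e]
    exact Subgroup.mul_mem_sup h2 ⟨_, rfl⟩

theorem K0_equiv : Nonempty (↥(K0 n) ≃* Matrix.SpecialLinearGroup (Fin n) (ZMod 2)) :=
  ⟨((MulEquiv.ofBijective Matrix.SpecialLinearGroup.toGL (sl_toGL_bijective n)).trans
    (MonoidHom.ofInjective kHom_injective)).symm⟩

/-! ### largeness -/

theorem Q0_large (hn : 1 ≤ n) : Cfsg.IsLargeExtraspecial (Q0 n) := by
  obtain ⟨hES, hcenter⟩ := Q0_extraspecial hn
  have hcmap : (Subgroup.center ↥(Q0 n)).map (Q0 n).subtype = Subgroup.zpowers (zel : SLG n) := by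
    rw [hcenter, MonoidHom.map_zpowers]
    rfl
  refine ⟨hES, ?_, ?_, fun K hodd hQK => odd_normalized_trivial hn K hodd hQK⟩
  · rw [hcmap, centralizer_Q0]
  · rw [hcmap]
    intro g hg
    rw [Subgroup.mem_centralizer_iff] at hg
    have hgC : g ∈ Cz n := by
      rw [Cz, Subgroup.mem_centralizer_singleton_iff]
      exact (hg zel (Subgroup.mem_zpowers zel)).symm
    rw [Subgroup.mem_normalizer_iff]
    intro h
    constructor
    · intro hh
      exact conj_mem_Q0 hgC hh
    · intro hh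
      have h1 := conj_mem_Q0 ((Cz n).inv_mem hgC) hh
      have e : g⁻¹ * (g * h * g⁻¹) * g⁻¹⁻¹ = h := by group
      rwa [e] at h1

end Cfsg.Agent.Lib.Helper13.SL2T
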