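import Mathlib
import Cfsg.Agent.Lib.Helper13.SchurUpperCore

/-!
Upper bound for the Schur multiplier of the alternating groups of degree `6` and `7`
(helper13): the kernel of every finite stem extension is a quotient of `ZMod 6`.
-/

set_option autoImplicit false

open Cfsg

namespace Cfsg.Agent.Lib.Helper13.SchurUpper

open Equiv

section D8

variable (n : ℕ) [NeZero n]

/-- the even permutation `(0 1 2 3)(4 5)` -/
def rhoP : Perm (Fin n) := swap 0 1 * swap 1 2 * swap 2 3 * swap 4 5

/-- the even permutation `(1 3)(4 5)` -/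
def sP : Perm (Fin n) := swap 1 3 * swap 4 5

/-- a copy of the dihedral group of order `8` -/
def d8Fun : DihedralGroup 4 → Perm (Fin n)
  | DihedralGroup.r i => rhoP n ^ i.val
  | DihedralGroup.sr i => sP n * rhoP n ^ i.val

end D8

theorem d8Fun_mul6 : ∀ a b : DihedralGroup 4, d8Fun 6 (a * b) = d8Fun 6 a * d8Fun 6 b := by
  decide

theorem d8Fun_mul7 : ∀ a b : DihedralGroup 4, d8Fun 7 (a * b) = d8Fun 7 a * d8Fun 7 b := by
  decide

theorem d8Fun_ne6 : d8Fun 6 (DihedralGroup.r 1) * d8Fun 6 (DihedralGroup.sr 0) ≠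
    d8Fun 6 (DihedralGroup.sr 0) * d8Fun 6 (DihedralGroup.r 1) := by
  decide

theorem d8Fun_ne7 : d8Fun 7 (DihedralGroup.r 1) * d8Fun 7 (DihedralGroup.sr 0) ≠
    d8Fun 7 (DihedralGroup.sr 0) * d8Fun 7 (DihedralGroup.r 1) := by
  decide

theorem sign_rho6 : Perm.sign (rhoP 6) = 1 := by decide
theorem sign_rho7 : Perm.sign (rhoP 7) = 1 := by decide
theorem sign_s6 : Perm.sign (sP 6) = 1 := by decide
theorem sign_s7 : Perm.sign (sP 7) = 1 := by decide

theorem exists_noncomm_in_two_subgroup (n : ℕ) [NeZero n]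
    (hmul : ∀ a b : DihedralGroup 4, d8Fun n (a * b) = d8Fun n a * d8Fun n b)
    (hne : d8Fun n (DihedralGroup.r 1) * d8Fun n (DihedralGroup.sr 0) ≠
      d8Fun n (DihedralGroup.sr 0) * d8Fun n (DihedralGroup.r 1))
    (hρ : Perm.sign (rhoP n) = 1) (hs : Perm.sign (sP n) = 1) :
    ∃ (P : Subgroup (alternatingGroup (Fin n))) (x y : alternatingGroup (Fin n)),
      IsPGroup 2 P ∧ x ∈ P ∧ y ∈ P ∧ x * y ≠ y * x := by
  let φ : DihedralGroup 4 →* Perm (Fin n) := MonoidHom.mk' (d8Fun n) hmul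
  have hmem : ∀ a, φ a ∈ alternatingGroup (Fin n) := by
    intro a
    rw [Equiv.Perm.mem_alternatingGroup]
    show Perm.sign (d8Fun n a) = 1
    cases a with
    | r i =>
      show Perm.sign (rhoP n ^ i.val) = 1
      rw [map_pow, hρ, one_pow]
    | sr i =>
      show Perm.sign (sP n * rhoP n ^ i.val) = 1
      rw [map_mul, map_pow, hρ, hs, one_pow, one_mul]
  let φ' : DihedralGroup 4 →* alternatingGroup (Fin n) :=
    φ.codRestrict (alternatingGroup (Fin n)) hmem
  have hD8 : IsPGroup 2 (DihedralGroup 4) :=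
    IsPGroup.of_card (n := 3) (DihedralGroup.nat_card.trans (by norm_num))
  have hP : IsPGroup 2 φ'.range :=
    hD8.of_surjective φ'.rangeRestrict φ'.rangeRestrict_surjective
  refine ⟨φ'.range, φ' (DihedralGroup.r 1), φ' (DihedralGroup.sr 0), hP, ⟨_, rfl⟩, ⟨_, rfl⟩, ?_⟩
  intro h
  exact hne (congrArg Subtype.val h)

/-- every finite stem extension of `A_6` or `A_7` has kernel a quotient of `ZMod 6` -/
theorem upper_alt (n : ℕ) (hn : n = 6 ∨ n = 7) (Γ : Type) [Group Γ] [Finite Γ]
    (σ : Γ →* alternatingGroup (Fin n)) (hσ : IsStemExtension σ) :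
    ∃ π : Multiplicative (ZMod 6) →* σ.ker, Function.Surjective π := by
  rcases hn with rfl | rfl
  · have hc : Nat.card (alternatingGroup (Fin 6)) = 360 := by
      rw [nat_card_alternatingGroup, Nat.card_eq_fintype_card, Fintype.card_fin]
      decide
    exact upper_six 45 40 (hc.trans (by norm_num)) (by norm_num) (hc.trans (by norm_num))
      (by norm_num)
      (fun p hp h2 h3 => by rw [hc]; exact not_sq_dvd 360 (Or.inl rfl) p hp h2 h3)
      (exists_noncomm_in_two_subgroup 6 d8Fun_mul6 d8Fun_ne6 sign_rho6 sign_s6) σ hσ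
  · have hc : Nat.card (alternatingGroup (Fin 7)) = 2520 := by
      rw [nat_card_alternatingGroup, Nat.card_eq_fintype_card, Fintype.card_fin]
      decide
    exact upper_six 315 280 (hc.trans (by norm_num)) (by norm_num) (hc.trans (by norm_num))
      (by norm_num)
      (fun p hp h2 h3 => by rw [hc]; exact not_sq_dvd 2520 (Or.inr (Or.inl rfl)) p hp h2 h3)
      (exists_noncomm_in_two_subgroup 7 d8Fun_mul7 d8Fun_ne7 sign_rho7 sign_s7) σ hσ

end Cfsg.Agent.Lib.Helper13.SchurUpper
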