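import Mathlib
import Cfsg.Agent.S0261
import Cfsg.Agent.Lib.Helper3.CardSL
import Cfsg.Agent.Lib.Helper13.SchurUpperCore

/-!
Upper bound for the Schur multiplier of `SL(2, 9)` (helper13): the kernel of every finite
stem extension is a quotient of `ZMod 3`.
-/

set_option autoImplicit false

open Cfsg

namespace Cfsg.Agent.Lib.Helper13.SchurUpper

universe u

/-- every finite stem extension of `SL(2, 9)` has kernel a quotient of `ZMod 3` -/
theorem upper_sl2_9 {F : Type u} [Field F] [Fintype F] (hF : Fintype.card F = 9)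
    (Γ : Type u) [Group Γ] [Finite Γ]
    (σ : Γ →* Matrix.SpecialLinearGroup (Fin 2) F) (hσ : IsStemExtension σ) :
    ∃ π : Multiplicative (ZMod 3) →* σ.ker, Function.Surjective π := by
  classical
  haveI : Finite (Matrix.SpecialLinearGroup (Fin 2) F) := Finite.of_surjective σ hσ.1
  have hc : Nat.card (Matrix.SpecialLinearGroup (Fin 2) F) = 720 := by
    have h := Cfsg.Agent.Lib.Helper3.CardSL.card_SL2 (F := F)
    rw [hF] at h
    exact h.trans (by norm_num)
  have hodd : Odd (Fintype.card F) := by
    rw [hF]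
    exact ⟨4, by norm_num⟩
  exact upper_three 80 (hc.trans (by norm_num)) (by norm_num)
    (fun p hp h2 h3 => by rw [hc]; exact not_sq_dvd 720 (Or.inr (Or.inr rfl)) p hp h2 h3)
    (fun T => by
      obtain ⟨k, _, hk⟩ := Cfsg.Agent.S0261.result hodd T
      exact ⟨k, hk⟩) σ hσ

end Cfsg.Agent.Lib.Helper13.SchurUpper
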