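import Mathlib
import Cfsg.Prelude.Def_Perm

/-!
# Orders of the one-dimensional affine and semi-affine groups of a finite field (helper13)

For a finite field `F`: `|AGL₁(F)| = |F| (|F| - 1)` and `|AΓL₁(F)| = |Aut F| |F| (|F| - 1)`;
`|Aut (GaloisField p n)| = n`.  Numerals for `GF(8)` and `GF(32)`.
-/

set_option autoImplicit false

namespace Cfsg.Agent.Lib.Helper13.SemiaffineCard

variable {F : Type*} [Field F]

/-- the permutation `x ↦ a * φ x + b` -/
def semiPerm (a : Fˣ) (b : F) (φ : F ≃+* F) : Equiv.Perm F :=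
  φ.toEquiv.trans ((Units.mulLeft a).trans (Equiv.addRight b))

theorem semiPerm_apply (a : Fˣ) (b : F) (φ : F ≃+* F) (x : F) :
    semiPerm a b φ x = (a : F) * φ x + b := rfl

theorem semiPerm_mem (a : Fˣ) (b : F) (φ : F ≃+* F) : semiPerm a b φ ∈ Cfsg.semiaffineGroup F :=
  ⟨a, b, φ, fun x => semiPerm_apply a b φ x⟩

theorem affPerm_mem (a : Fˣ) (b : F) : semiPerm a b (RingEquiv.refl F) ∈ Cfsg.affineGroup F :=
  ⟨a, b, fun x => semiPerm_apply a b (RingEquiv.refl F) x⟩

theorem semiPerm_injective {a a' : Fˣ} {b b' : F} {φ φ' : F ≃+* F}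
    (h : semiPerm a b φ = semiPerm a' b' φ') : a = a' ∧ b = b' ∧ φ = φ' := by
  have h0 := congrArg (fun σ : Equiv.Perm F => σ 0) h
  simp only [semiPerm_apply, map_zero, mul_zero, zero_add] at h0
  have h1 := congrArg (fun σ : Equiv.Perm F => σ 1) h
  simp only [semiPerm_apply, map_one, mul_one] at h1
  rw [h0] at h1
  have ha : a = a' := Units.ext (add_right_cancel h1)
  refine ⟨ha, h0, ?_⟩
  apply RingEquiv.ext
  intro x
  have hx := congrArg (fun σ : Equiv.Perm F => σ x) h
  simp only [semiPerm_apply] at hx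
  rw [h0, ha] at hx
  have := add_right_cancel hx
  exact mul_left_cancel₀ a'.ne_zero this

/-- the parametrization of `AΓL₁(F)` by triples -/
noncomputable def semiEquiv (F : Type*) [Field F] :
    (Fˣ × F × (F ≃+* F)) ≃ ↥(Cfsg.semiaffineGroup F) :=
  Equiv.ofBijective (fun t => ⟨semiPerm t.1 t.2.1 t.2.2, semiPerm_mem _ _ _⟩) (by
    constructor
    · rintro ⟨a, b, φ⟩ ⟨a', b', φ'⟩ h
      have h' : semiPerm a b φ = semiPerm a' b' φ' := congrArg Subtype.val h
      obtain ⟨h1, h2, h3⟩ := semiPerm_injective h'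
      rw [h1, h2, h3]
    · rintro ⟨σ, a, b, φ, hσ⟩
      refine ⟨(a, b, φ), ?_⟩
      apply Subtype.ext
      apply Equiv.ext
      intro x
      exact (hσ x).symm)

/-- the parametrization of `AGL₁(F)` by pairs -/
noncomputable def affEquiv (F : Type*) [Field F] : (Fˣ × F) ≃ ↥(Cfsg.affineGroup F) :=
  Equiv.ofBijective (fun t => ⟨semiPerm t.1 t.2 (RingEquiv.refl F), affPerm_mem _ _⟩) (by
    constructor
    · rintro ⟨a, b⟩ ⟨a', b'⟩ h
      have h' : semiPerm a b (RingEquiv.refl F) = semiPerm a' b' (RingEquiv.refl F) :=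
        congrArg Subtype.val h
      obtain ⟨h1, h2, -⟩ := semiPerm_injective h'
      rw [h1, h2]
    · rintro ⟨σ, a, b, hσ⟩
      refine ⟨(a, b), ?_⟩
      apply Subtype.ext
      apply Equiv.ext
      intro x
      exact (hσ x).symm)

theorem card_affineGroup (F : Type*) [Field F] [Finite F] :
    Nat.card ↥(Cfsg.affineGroup F) = Nat.card F * (Nat.card F - 1) := by
  rw [← Nat.card_congr (affEquiv F), Nat.card_prod, Nat.card_units, mul_comm]

theorem card_semiaffineGroup (F : Type*) [Field F] [Finite F] :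
    Nat.card ↥(Cfsg.semiaffineGroup F) =
      Nat.card (F ≃+* F) * (Nat.card F * (Nat.card F - 1)) := by
  rw [← Nat.card_congr (semiEquiv F), Nat.card_prod, Nat.card_prod, Nat.card_units]
  ring

/-- ring automorphisms of a field of characteristic `p` are `ZMod p`-algebra automorphisms -/
noncomputable def ringAutEquivAlgAut (p : ℕ) [Fact p.Prime] (K : Type*) [Field K] [Algebra (ZMod p) K] :
    (K ≃+* K) ≃ (K ≃ₐ[ZMod p] K) where
  toFun φ := AlgEquiv.ofRingEquiv (f := φ) (fun x => by
    have h : (φ : K →+* K).comp (algebraMap (ZMod p) K) = algebraMap (ZMod p) K :=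
      Subsingleton.elim _ _
    exact RingHom.congr_fun h x)
  invFun ψ := ψ.toRingEquiv
  left_inv φ := by
    apply RingEquiv.ext
    intro x
    rfl
  right_inv ψ := by
    apply AlgEquiv.ext
    intro x
    rfl

theorem card_ringAut_galoisField (p : ℕ) [Fact p.Prime] (n : ℕ) (hn : n ≠ 0) :
    Nat.card (GaloisField p n ≃+* GaloisField p n) = n := by
  rw [Nat.card_congr (ringAutEquivAlgAut p (GaloisField p n)),
    IsGalois.card_aut_eq_finrank, GaloisField.finrank p hn]

theorem card_semiaffineGroup_galoisField (p : ℕ) [Fact p.Prime] (n : ℕ) (hn : n ≠ 0) :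
    Nat.card ↥(Cfsg.semiaffineGroup (GaloisField p n)) = n * (p ^ n * (p ^ n - 1)) := by
  rw [card_semiaffineGroup, card_ringAut_galoisField p n hn, GaloisField.card p n hn]

theorem card_affineGroup_galoisField (p : ℕ) [Fact p.Prime] (n : ℕ) (hn : n ≠ 0) :
    Nat.card ↥(Cfsg.affineGroup (GaloisField p n)) = p ^ n * (p ^ n - 1) := by
  rw [card_affineGroup, GaloisField.card p n hn]

theorem card_semiaffineGroup_GF8 : Nat.card ↥(Cfsg.semiaffineGroup (GaloisField 2 3)) = 168 := by
  rw [card_semiaffineGroup_galoisField 2 3 (by norm_num)]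
  norm_num

theorem card_affineGroup_GF8 : Nat.card ↥(Cfsg.affineGroup (GaloisField 2 3)) = 56 := by
  rw [card_affineGroup_galoisField 2 3 (by norm_num)]
  norm_num

theorem card_semiaffineGroup_GF32 : Nat.card ↥(Cfsg.semiaffineGroup (GaloisField 2 5)) = 4960 := by
  rw [card_semiaffineGroup_galoisField 2 5 (by norm_num)]
  norm_num

end Cfsg.Agent.Lib.Helper13.SemiaffineCard
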