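import Mathlib
import Cfsg.Prelude.Def_Perm

/-!
# Transport of the affine and semi-affine groups along a ring isomorphism (helper13)

`semiaffineCongr (e : R ≃+* R') : ↥(Cfsg.semiaffineGroup R) ≃* ↥(Cfsg.semiaffineGroup R')` and
`affineCongr e`, both induced by `e.toEquiv.permCongrHom`.
-/

set_option autoImplicit false

namespace Cfsg.Agent.Lib.Helper13.SemiaffineCongr

variable {R R' : Type*} [Ring R] [Ring R']

theorem permCongr_apply' (e : R ≃+* R') (σ : Equiv.Perm R) (y : R') :
    e.toEquiv.permCongr σ y = e (σ (e.symm y)) := rfl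

theorem permCongr_mem_semiaffine (e : R ≃+* R') {σ : Equiv.Perm R}
    (hσ : σ ∈ Cfsg.semiaffineGroup R) : e.toEquiv.permCongr σ ∈ Cfsg.semiaffineGroup R' := by
  obtain ⟨a, b, φ, h⟩ := hσ
  refine ⟨Units.map (e : R →* R') a, e b, e.symm.trans (φ.trans e), fun y => ?_⟩
  rw [permCongr_apply', h, map_add, map_mul]
  rfl

theorem permCongr_mem_affine (e : R ≃+* R') {σ : Equiv.Perm R}
    (hσ : σ ∈ Cfsg.affineGroup R) : e.toEquiv.permCongr σ ∈ Cfsg.affineGroup R' := by
  obtain ⟨a, b, h⟩ := hσ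
  refine ⟨Units.map (e : R →* R') a, e b, fun y => ?_⟩
  rw [permCongr_apply', h, map_add, map_mul, RingEquiv.apply_symm_apply]
  rfl

theorem permCongr_symm_cancel (e : R ≃+* R') (τ : Equiv.Perm R') :
    e.toEquiv.permCongr (e.symm.toEquiv.permCongr τ) = τ := by
  apply Equiv.ext
  intro y
  rw [permCongr_apply', permCongr_apply']
  simp

theorem map_semiaffineGroup (e : R ≃+* R') :
    (Cfsg.semiaffineGroup R).map (e.toEquiv.permCongrHom : Equiv.Perm R ≃* Equiv.Perm R').toMonoidHom =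
      Cfsg.semiaffineGroup R' := by
  ext τ
  constructor
  · rintro ⟨σ, hσ, rfl⟩
    exact permCongr_mem_semiaffine e hσ
  · intro hτ
    exact ⟨e.symm.toEquiv.permCongr τ, permCongr_mem_semiaffine e.symm hτ, permCongr_symm_cancel e τ⟩

theorem map_affineGroup (e : R ≃+* R') :
    (Cfsg.affineGroup R).map (e.toEquiv.permCongrHom : Equiv.Perm R ≃* Equiv.Perm R').toMonoidHom =
      Cfsg.affineGroup R' := by
  ext τ
  constructor
  · rintro ⟨σ, hσ, rfl⟩
    exact permCongr_mem_affine e hσ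
  · intro hτ
    exact ⟨e.symm.toEquiv.permCongr τ, permCongr_mem_affine e.symm hτ, permCongr_symm_cancel e τ⟩

/-- transport of `AΓL₁` along a ring isomorphism -/
noncomputable def semiaffineCongr (e : R ≃+* R') :
    ↥(Cfsg.semiaffineGroup R) ≃* ↥(Cfsg.semiaffineGroup R') :=
  ((e.toEquiv.permCongrHom : Equiv.Perm R ≃* Equiv.Perm R').subgroupMap (Cfsg.semiaffineGroup R)).trans
    (MulEquiv.subgroupCongr (map_semiaffineGroup e))

/-- transport of `AGL₁` along a ring isomorphism -/
noncomputable def affineCongr (e : R ≃+* R') :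
    ↥(Cfsg.affineGroup R) ≃* ↥(Cfsg.affineGroup R') :=
  ((e.toEquiv.permCongrHom : Equiv.Perm R ≃* Equiv.Perm R').subgroupMap (Cfsg.affineGroup R)).trans
    (MulEquiv.subgroupCongr (map_affineGroup e))

theorem semiaffineCongr_apply (e : R ≃+* R') (σ : ↥(Cfsg.semiaffineGroup R)) (y : R') :
    ((semiaffineCongr e σ : ↥(Cfsg.semiaffineGroup R')) : Equiv.Perm R') y = e ((σ : Equiv.Perm R) (e.symm y)) :=
  rfl

theorem affineCongr_apply (e : R ≃+* R') (σ : ↥(Cfsg.affineGroup R)) (y : R') :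
    ((affineCongr e σ : ↥(Cfsg.affineGroup R')) : Equiv.Perm R') y = e ((σ : Equiv.Perm R) (e.symm y)) :=
  rfl

/-- a subgroup of `Perm R` inside `AΓL₁(R)` is carried into `AΓL₁(R')` -/
theorem exists_hom_of_le (e : R ≃+* R') {G : Type*} [Group G] (f : G →* Equiv.Perm R)
    (hf : ∀ g, f g ∈ Cfsg.semiaffineGroup R) (hinj : Function.Injective f) :
    ∃ f' : G →* ↥(Cfsg.semiaffineGroup R'), Function.Injective f' := by
  refine ⟨(semiaffineCongr e).toMonoidHom.comp (f.codRestrict (Cfsg.semiaffineGroup R) hf), ?_⟩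
  intro x y hxy
  have h1 := (semiaffineCongr e).injective hxy
  have h2 : f x = f y := congrArg Subtype.val h1
  exact hinj h2

end Cfsg.Agent.Lib.Helper13.SemiaffineCongr
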