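import Mathlib
import Cfsg.Prelude.Def_GeometricClasses
import Cfsg.Agent.Lib.Helper13.SpDecomp
import Cfsg.Agent.Lib.Helper13.SpMax
import Cfsg.Agent.H5.SpCorA

/-!
SpCor P7 (skeleton notes/SpCorSkel_helper27): the symplectic group (degree at least four, odd characteristic)
normalises no irreducible 2-subgroup `R` of the general linear group.

If `r ∈ R` and `f (r v) v = 0` then the commutator of `r` with the transvection of centre `v` lies in `R` and is
unipotent, hence trivial, so `r v` is a multiple of `v`.  Therefore the lines `⟨r v₀⟩`, `r ∈ R`, are pairwise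
non-orthogonal, and with the transvections their union is closed under addition: it is an invariant subspace, hence
everything, although `v₀` has orthogonal vectors outside its line.
-/

set_option autoImplicit false
set_option linter.unusedSectionVars false
set_option linter.unusedVariables false

namespace Cfsg.Agent.Lib.Helper13.SpCorP7

open Matrix Module Cfsg Cfsg.Geo
open Cfsg.Agent.Lib.Helper13 (sympTransvGL sympTransvGL_mulVec sympTransvGL_mem)
open Cfsg.Agent.Lib.Helper6 (sympForm_add_left sympForm_add_right sympForm_smul_left sympForm_smul_right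
  sympForm_self sympForm_swap sympForm_zero_left sympForm_zero_right)

theorem cube_zero {S : Type*} [Ring S] (A B : S) (hA : A * A = 0) (hB : B * B = 0) (hAB : A * B = 0) :
    (A - B) ^ 3 = 0 := by
  have h2 : (A - B) * (A - B) = -(B * A) := by
    rw [sub_mul, mul_sub, mul_sub, hA, hB, hAB]
    abel
  rw [pow_succ, pow_two, h2, neg_mul, mul_sub, mul_assoc, hA, mul_zero, mul_assoc, hAB, mul_zero, sub_zero, neg_zero]

/-- a unipotent element of 2-power order is trivial in odd characteristic -/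
theorem eq_one_of_unipotent {S : Type*} [Ring S] (p : ℕ) [Fact p.Prime] [CharP S p] (hp : 3 ≤ p) (x : S)
    (hN : (x - 1) ^ 3 = 0) (j : ℕ) (hx : x ^ (2 ^ j) = 1) : x = 1 := by
  have hNp : (x - 1) ^ p = 0 := by
    have : p = 3 + (p - 3) := by omega
    rw [this, pow_add, hN, zero_mul]
  have hxp : x ^ p = 1 := by
    have h1 : x = (x - 1) + 1 := by abel
    rw [h1, add_pow_char_of_commute p (Commute.one_right _), hNp, one_pow, zero_add]
  have hcop : Nat.Coprime p (2 ^ j) := by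
    apply Nat.Coprime.pow_right
    rw [Nat.coprime_comm, Nat.coprime_primes Nat.prime_two (Fact.out : p.Prime)]
    omega
  exact (pow_eq_one_iff_of_coprime hcop).mp ⟨hxp, hx⟩

variable {F : Type*} [Field F] [Fintype F] {m : ℕ}

local notation "ff" => Cfsg.sympForm m F
local notation "V" => (Fin m ⊕ Fin m → F)
local notation "MM" => Matrix (Fin m ⊕ Fin m) (Fin m ⊕ Fin m) F

theorem mat_ext (M N : MM) (h : ∀ y, M *ᵥ y = N *ᵥ y) : M = N := by
  apply Matrix.toLin'.injective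
  apply LinearMap.ext
  intro y
  rw [Matrix.toLin'_apply, Matrix.toLin'_apply, h]

theorem exists_char (hodd : Odd (Fintype.card F)) : ∃ p : ℕ, p.Prime ∧ CharP F p ∧ 3 ≤ p := by
  obtain ⟨p, hp⟩ := CharP.exists F
  have hpp : p.Prime := by
    rcases CharP.char_is_prime_or_zero F p with h | h
    · exact h
    · exfalso
      subst h
      have hc0 := Nat.cast_card_eq_zero F
      rw [CharP.cast_eq_zero_iff F 0] at hc0
      have h0 := Nat.eq_zero_of_zero_dvd hc0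
      exact Fintype.card_ne_zero h0
  refine ⟨p, hpp, hp, ?_⟩
  have h2 := hpp.two_le
  rcases Nat.lt_or_ge p 3 with h | h
  · exfalso
    have hp2 : p = 2 := by omega
    subst hp2
    have hc0 := Nat.cast_card_eq_zero F
    rw [CharP.cast_eq_zero_iff F 2] at hc0
    obtain ⟨k, hk⟩ := hodd
    omega
  · exact h

/-- the key step: `f (r v) v = 0` forces `r v ∈ ⟨v⟩` -/
theorem eigen_of_orth (hodd : Odd (Fintype.card F)) (R : Subgroup (GL (Fin m ⊕ Fin m) F)) (hR : IsPGroup 2 R)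
    (hle : Cfsg.spGL m F ≤ subgroupNormalizer R) (r : GL (Fin m ⊕ Fin m) F) (hr : r ∈ R) (v : V)
    (h : ff ((r : MM) *ᵥ v) v = 0) : ∃ c : F, (r : MM) *ᵥ v = c • v := by
  classical
  by_cases hv : v = 0
  · exact ⟨0, by rw [hv, Matrix.mulVec_zero, smul_zero]⟩
  obtain ⟨p, hpp, hcp, hp3⟩ := exists_char hodd
  have : Fact p.Prime := ⟨hpp⟩
  have : Nonempty (Fin m ⊕ Fin m) := by
    by_contra hcon
    rw [not_nonempty_iff] at hcon
    exact hv (Subsingleton.elim _ _)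
  obtain ⟨t, ht⟩ : ∃ t : GL (Fin m ⊕ Fin m) F, t = sympTransvGL v 1 := ⟨_, rfl⟩
  have htv : ∀ y, (t : MM) *ᵥ y = y + ff y v • v := by
    intro y
    rw [ht, sympTransvGL_mulVec, one_mul]
  have htR : t * r * t⁻¹ ∈ R :=
    ((Subgroup.mem_set_normalizer_iff.mp (hle (ht ▸ sympTransvGL_mem v 1))) r).mp hr
  have hxR : (t * r * t⁻¹ * r⁻¹) ∈ R := by
    exact R.mul_mem htR (R.inv_mem hr)
  -- matrices
  obtain ⟨A, hA⟩ : ∃ A : MM, A = (t : MM) - 1 := ⟨_, rfl⟩
  have hAv : ∀ y, A *ᵥ y = ff y v • v := by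
    intro y
    rw [hA, Matrix.sub_mulVec, htv, Matrix.one_mulVec, add_sub_cancel_left]
  have hA2 : A * A = 0 := by
    apply mat_ext
    intro y
    rw [← Matrix.mulVec_mulVec, hAv y, Matrix.mulVec_smul, hAv v, sympForm_self, zero_smul, smul_zero,
      Matrix.zero_mulVec]
  have hArA : A * (r : MM) * A = 0 := by
    apply mat_ext
    intro y
    rw [← Matrix.mulVec_mulVec, ← Matrix.mulVec_mulVec, hAv y, Matrix.mulVec_smul, Matrix.mulVec_smul,
      hAv ((r : MM) *ᵥ v), h, zero_smul, smul_zero, Matrix.zero_mulVec]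
  have hT : (t : MM) = 1 + A := by rw [hA]; abel
  have hrr : (r : MM) * ((r⁻¹ : GL (Fin m ⊕ Fin m) F) : MM) = 1 := by
    rw [← Units.val_mul, mul_inv_cancel, Units.val_one]
  have hrr' : ((r⁻¹ : GL (Fin m ⊕ Fin m) F) : MM) * (r : MM) = 1 := by
    rw [← Units.val_mul, inv_mul_cancel, Units.val_one]
  have hTi : ((t⁻¹ : GL (Fin m ⊕ Fin m) F) : MM) = 1 - A := by
    have h1 : (t : MM) * (1 - A) = 1 := by
      rw [hT, add_mul, one_mul, mul_sub, mul_one, hA2]
      abel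
    calc ((t⁻¹ : GL (Fin m ⊕ Fin m) F) : MM) = ((t⁻¹ : GL (Fin m ⊕ Fin m) F) : MM) * ((t : MM) * (1 - A)) := by
          rw [h1, mul_one]
      _ = 1 - A := by rw [← mul_assoc, ← Units.val_mul, inv_mul_cancel, Units.val_one, one_mul]
  obtain ⟨B, hB⟩ : ∃ B : MM, B = (r : MM) * A * ((r⁻¹ : GL (Fin m ⊕ Fin m) F) : MM) := ⟨_, rfl⟩
  have hB2 : B * B = 0 := by
    rw [hB]
    calc (r : MM) * A * ((r⁻¹ : GL (Fin m ⊕ Fin m) F) : MM) * ((r : MM) * A * ((r⁻¹ : GL (Fin m ⊕ Fin m) F) : MM))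
        = (r : MM) * A * (((r⁻¹ : GL (Fin m ⊕ Fin m) F) : MM) * (r : MM)) * A * ((r⁻¹ : GL (Fin m ⊕ Fin m) F) : MM) := by
          simp only [mul_assoc]
      _ = 0 := by rw [hrr', mul_one, mul_assoc (r : MM), hA2, mul_zero, zero_mul]
  have hAB : A * B = 0 := by
    rw [hB, ← mul_assoc, ← mul_assoc, hArA, zero_mul]
  have hX : (((t * r * t⁻¹ * r⁻¹) : GL (Fin m ⊕ Fin m) F) : MM) = 1 + (A - B) := by
    rw [Units.val_mul, Units.val_mul, Units.val_mul, hTi, hT]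
    calc (1 + A) * (r : MM) * (1 - A) * ((r⁻¹ : GL (Fin m ⊕ Fin m) F) : MM)
        = (1 + A) * ((r : MM) * ((r⁻¹ : GL (Fin m ⊕ Fin m) F) : MM)
            - (r : MM) * A * ((r⁻¹ : GL (Fin m ⊕ Fin m) F) : MM)) := by
          simp only [mul_sub, sub_mul, mul_one, mul_assoc]
      _ = 1 + (A - B) := by
          rw [hrr, ← hB, add_mul, one_mul, mul_sub, mul_one, hAB]
          abel
  obtain ⟨j, hj⟩ := hR ⟨(t * r * t⁻¹ * r⁻¹), hxR⟩
  have hj' : (((t * r * t⁻¹ * r⁻¹) : GL (Fin m ⊕ Fin m) F) : MM) ^ (2 ^ j) = 1 := by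
    have := congrArg (fun g : R => ((g : GL (Fin m ⊕ Fin m) F) : MM)) hj
    simpa using this
  have hone : (((t * r * t⁻¹ * r⁻¹) : GL (Fin m ⊕ Fin m) F) : MM) = 1 := by
    apply eq_one_of_unipotent p hp3 _ _ j hj'
    rw [hX, add_sub_cancel_left]
    exact cube_zero A B hA2 hB2 hAB
  have hcomm : t * r = r * t := by
    have h1 : t * r * t⁻¹ * r⁻¹ = 1 := by
      apply Units.ext
      rw [hone, Units.val_one]
    exact mul_inv_eq_iff_eq_mul.mp (mul_inv_eq_one.mp h1)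
  obtain ⟨y, hy⟩ : ∃ y, ff y v ≠ 0 := by
    by_contra hcon
    push Not at hcon
    exact hv (Cfsg.H5.SpCor.eq_zero_of_forall_left v hcon)
  have h1 := congrArg (fun g : GL (Fin m ⊕ Fin m) F => (g : MM) *ᵥ y) hcomm
  simp only [Units.val_mul, ← Matrix.mulVec_mulVec] at h1
  rw [htv, htv, Matrix.mulVec_add, Matrix.mulVec_smul] at h1
  have h2 := add_left_cancel h1
  refine ⟨ff ((r : MM) *ᵥ y) v / ff y v, ?_⟩
  rw [div_eq_inv_mul, mul_smul, h2, smul_smul, inv_mul_cancel₀ hy, one_smul]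

theorem not_sp_le_subgroupNormalizer (hm : 2 ≤ m) (R : Subgroup (GL (Fin m ⊕ Fin m) F)) (k : ℕ)
    (hR : IsSymplecticTypeGroup 2 R) (hirr : ActsAbsolutelyIrreducibly (matrixSet R))
    (hodd : Odd (Fintype.card F)) (hcard : Nat.card R = 2 ^ (1 + 2 * k)) :
    ¬ Cfsg.spGL m F ≤ subgroupNormalizer R := by
  classical
  intro hle
  have star := eigen_of_orth hodd R hR.pGroup hle
  obtain ⟨v₀, hv₀⟩ : ∃ v₀ : V, v₀ = Pi.single (Sum.inl ⟨0, by omega⟩) 1 := ⟨_, rfl⟩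
  obtain ⟨w₀, hw₀⟩ : ∃ w₀ : V, w₀ = Pi.single (Sum.inl ⟨1, by omega⟩) 1 := ⟨_, rfl⟩
  have hne01 : (Sum.inl ⟨1, by omega⟩ : Fin m ⊕ Fin m) ≠ Sum.inl ⟨0, by omega⟩ := by
    intro h
    simpa using congrArg Fin.val (Sum.inl.inj h)
  have hortho : ff w₀ v₀ = 0 := by
    rw [hw₀, hv₀]
    unfold Cfsg.sympForm
    rw [single_dotProduct, one_mul, Matrix.mulVec_single_one]
    simp [Matrix.J, Matrix.fromBlocks]
  -- the union of the lines `⟨r v₀⟩`
  let W : Submodule F V :=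
    { carrier := {w | ∃ r ∈ R, ∃ c : F, w = c • ((r : MM) *ᵥ v₀)}
      zero_mem' := ⟨1, R.one_mem, 0, by rw [zero_smul]⟩
      smul_mem' := by
        rintro a w ⟨r, hr, c, rfl⟩
        exact ⟨r, hr, a * c, by rw [smul_smul]⟩
      add_mem' := by
        rintro w₁ w₂ ⟨r₁, hr₁, c₁, rfl⟩ ⟨r₂, hr₂, c₂, rfl⟩
        by_cases hc₁ : c₁ = 0
        · exact ⟨r₂, hr₂, c₂, by rw [hc₁, zero_smul, zero_add]⟩
        by_cases hc₂ : c₂ = 0
        · exact ⟨r₁, hr₁, c₁, by rw [hc₂, zero_smul, add_zero]⟩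
        obtain ⟨u₁, hu₁⟩ : ∃ u₁ : V, u₁ = (r₁ : MM) *ᵥ v₀ := ⟨_, rfl⟩
        obtain ⟨u₂, hu₂⟩ : ∃ u₂ : V, u₂ = (r₂ : MM) *ᵥ v₀ := ⟨_, rfl⟩
        rw [← hu₁, ← hu₂]
        have hrel : ((r₂ * r₁⁻¹ : GL (Fin m ⊕ Fin m) F) : MM) *ᵥ u₁ = u₂ := by
          rw [hu₁, hu₂, Matrix.mulVec_mulVec, ← Units.val_mul, inv_mul_cancel_right]
        have hr21 : r₂ * r₁⁻¹ ∈ R := R.mul_mem hr₂ (R.inv_mem hr₁)
        by_cases hzero : ff u₂ u₁ = 0
        · obtain ⟨c, hc⟩ := star (r₂ * r₁⁻¹) hr21 u₁ (by rw [hrel]; exact hzero)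
          rw [hrel] at hc
          exact ⟨r₁, hr₁, c₁ + c₂ * c, by rw [hc, ← hu₁, add_smul, mul_smul]⟩
        · -- the transvection with centre `u₁` moving `c₂ u₂` to `c₁ u₁ + c₂ u₂`
          obtain ⟨t, ht⟩ : ∃ t : GL (Fin m ⊕ Fin m) F, t = sympTransvGL u₁ (c₁ / (c₂ * ff u₂ u₁)) := ⟨_, rfl⟩
          have htv : ∀ y, (t : MM) *ᵥ y = y + (c₁ / (c₂ * ff u₂ u₁) * ff y u₁) • u₁ := by
            intro y
            rw [ht, sympTransvGL_mulVec]
          have htu₁ : (t : MM) *ᵥ u₁ = u₁ := by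
            rw [htv, sympForm_self, mul_zero, zero_smul, add_zero]
          have htiu₁ : ((t⁻¹ : GL (Fin m ⊕ Fin m) F) : MM) *ᵥ u₁ = u₁ := by
            conv_lhs => rw [← htu₁]
            rw [Matrix.mulVec_mulVec, ← Units.val_mul, inv_mul_cancel, Units.val_one, Matrix.one_mulVec]
          have htR : t * (r₂ * r₁⁻¹) * t⁻¹ ∈ R :=
            ((Subgroup.mem_set_normalizer_iff.mp (hle (ht ▸ sympTransvGL_mem _ _))) _).mp hr21
          refine ⟨t * (r₂ * r₁⁻¹) * t⁻¹ * r₁, R.mul_mem htR hr₁, c₂, ?_⟩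
          have h1 : ((t * (r₂ * r₁⁻¹) * t⁻¹ * r₁ : GL (Fin m ⊕ Fin m) F) : MM) *ᵥ v₀ = (t : MM) *ᵥ u₂ := by
            rw [Units.val_mul, ← Matrix.mulVec_mulVec, ← hu₁, Units.val_mul, ← Matrix.mulVec_mulVec, htiu₁,
              Units.val_mul, ← Matrix.mulVec_mulVec, hrel]
          rw [h1, htv, smul_add, smul_smul, add_comm]
          congr 1
          have : c₂ * (c₁ / (c₂ * ff u₂ u₁) * ff u₂ u₁) = c₁ := by
            field_simp
          rw [this] }
  have hWinv : ∀ s ∈ matrixSet R, W.map (Matrix.toLin' s) ≤ W := by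
    rintro s ⟨g, hg, rfl⟩ x ⟨w, ⟨r, hr, c, rfl⟩, rfl⟩
    refine ⟨g * r, R.mul_mem hg hr, c, ?_⟩
    rw [Matrix.toLin'_apply, Matrix.mulVec_smul, Matrix.mulVec_mulVec, Units.val_mul]
  have hv₀W : v₀ ∈ W := ⟨1, R.one_mem, 1, by rw [Units.val_one, Matrix.one_mulVec, one_smul]⟩
  have hv₀ne : v₀ ≠ 0 := by
    intro h
    have := congrFun h (Sum.inl ⟨0, by omega⟩)
    rw [hv₀, Pi.single_eq_same] at this
    exact one_ne_zero this
  rcases hirr.1 W hWinv with hbot | htop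
  · exact hv₀ne ((Submodule.mem_bot F).mp (hbot ▸ hv₀W))
  have hw₀W : w₀ ∈ W := htop ▸ Submodule.mem_top
  obtain ⟨r, hr, c, hc⟩ := hw₀W
  have hw1 : w₀ (Sum.inl ⟨1, by omega⟩) = 1 := by rw [hw₀, Pi.single_eq_same]
  have hc0 : c ≠ 0 := by
    rintro rfl
    rw [zero_smul] at hc
    rw [hc] at hw1
    exact zero_ne_one hw1
  have h1 : ff ((r : MM) *ᵥ v₀) v₀ = 0 := by
    have h2 : ff w₀ v₀ = c * ff ((r : MM) *ᵥ v₀) v₀ := by rw [hc, sympForm_smul_left]
    rw [hortho] at h2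
    rcases mul_eq_zero.mp h2.symm with h | h
    · exact absurd h hc0
    · exact h
  obtain ⟨d, hd⟩ := star r hr v₀ h1
  rw [hd, smul_smul] at hc
  rw [hc, hv₀, Pi.smul_apply, Pi.single_eq_of_ne hne01, smul_zero] at hw1
  exact zero_ne_one hw1

end Cfsg.Agent.Lib.Helper13.SpCorP7
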