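import Mathlib
import Cfsg.Agent.S0776
import Cfsg.Agent.Lib.Helper13.SpMax2

/-!
# `Sp_k ≀ S_t` is maximal in `Sp_{kt}` (unless `k = 2 = q`)

Transvection closure: for an overgroup `M` of the stabiliser `H` of an orthogonal decomposition
into nondegenerate blocks, the set `X` of directions of the transvections of `M` contains all
blocks, is `M`-invariant, closed under scalars and under `a ↦ a + l b` for non-orthogonal
`a, b ∈ X`.  If `M ≠ H` then `X` contains a vector with two nonzero components; using the block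
swaps of `H` one gets all vectors with two nonzero components, then by induction everything.
-/

set_option autoImplicit false

namespace Cfsg.Agent.Lib.Helper13

open Matrix Module Cfsg.Agent.Lib.Helper6

section spdm
variable {m : ℕ} {F : Type*} [Field F]

local notation "ff" => Cfsg.sympForm m F
local notation "BB" => Cfsg.Agent.Lib.Helper15.stdSymp m F

/-- the geometric data of an orthogonal decomposition into nondegenerate blocks -/
structure SpBlocks {t : ℕ} (D U : Fin t → Submodule F (Fin m ⊕ Fin m → F)) : Prop where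
  hU : ∀ i y, y ∈ U i ↔ ∀ w ∈ D i, Cfsg.sympForm m F w y = 0
  hc : ∀ i, IsCompl (D i) (U i)
  hDU : ∀ i j, i ≠ j → D j ≤ U i
  hnd : ∀ i, ∀ w ∈ D i, w ≠ 0 → ∃ x ∈ D i, Cfsg.sympForm m F w x ≠ 0
  hglobal : ∀ y, (∀ j, ∀ z ∈ D j, Cfsg.sympForm m F y z = 0) → y = 0
  hb : ∀ l, ∀ c ∈ D l, c ≠ 0 → ∃ b ∈ D l, b ≠ 0 ∧ b ≠ c ∧ Cfsg.sympForm m F c b = 0
  htop : ⨆ j, D j = ⊤

/-- all vectors with nonzero components exactly in the blocks `i`, `l` satisfy `X` -/
def SpR {t : ℕ} (D : Fin t → Submodule F (Fin m ⊕ Fin m → F))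
    (X : (Fin m ⊕ Fin m → F) → Prop) (i l : Fin t) : Prop :=
  ∀ c ∈ D i, ∀ c' ∈ D l, c ≠ 0 → c' ≠ 0 → X (c + c')

variable {t : ℕ} {D U : Fin t → Submodule F (Fin m ⊕ Fin m → F)}

theorem SpBlocks.hUD (hS : SpBlocks D U) (i : Fin t) (y : Fin m ⊕ Fin m → F) (hy : y ∈ U i)
    (w : Fin m ⊕ Fin m → F) (hw : w ∈ D i) : ff y w = 0 := by
  rw [sympForm_swap, (hS.hU i y).mp hy w hw, neg_zero]

theorem SpBlocks.hDUf (hS : SpBlocks D U) (i : Fin t) (w : Fin m ⊕ Fin m → F) (hw : w ∈ D i)
    (y : Fin m ⊕ Fin m → F) (hy : y ∈ U i) : ff w y = 0 := (hS.hU i y).mp hy w hw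

theorem SpBlocks.hdec (hS : SpBlocks D U) (i : Fin t) (x : Fin m ⊕ Fin m → F) :
    ∃ u ∈ D i, ∃ y ∈ U i, u + y = x := by
  have : x ∈ D i ⊔ U i := by rw [(hS.hc i).sup_eq_top]; exact Submodule.mem_top
  exact Submodule.mem_sup.mp this

theorem SpBlocks.hinter (hS : SpBlocks D U) (i : Fin t) (x : Fin m ⊕ Fin m → F) (h1 : x ∈ D i)
    (h2 : x ∈ U i) : x = 0 :=
  (Submodule.disjoint_def.mp (hS.hc i).disjoint) x h1 h2

/-- a vector with a nonzero component in a block and a nonzero component outside lies in no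
block -/
theorem SpBlocks.hmix (hS : SpBlocks D U) (i : Fin t) (u : Fin m ⊕ Fin m → F) (hu : u ∈ D i)
    (y : Fin m ⊕ Fin m → F) (hy : y ∈ U i) (hu0 : u ≠ 0) (hy0 : y ≠ 0) (j : Fin t) :
    u + y ∉ D j := by
  intro hmem
  by_cases hji : j = i
  · rw [hji] at hmem
    have h1 := (D i).sub_mem hmem hu
    rw [add_sub_cancel_left] at h1
    exact hy0 (hS.hinter i y h1 hy)
  · have h1 : u + y ∈ U i := hS.hDU i j (Ne.symm hji) hmem
    have h2 := (U i).sub_mem h1 hy
    rw [add_sub_cancel_right] at h2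
    exact hu0 (hS.hinter i u hu h2)

/-- **The combinatorial closure lemma.** -/
theorem SpBlocks.closure_all (hS : SpBlocks D U) (i₀ : Fin t)
    (X : (Fin m ⊕ Fin m → F) → Prop)
    (hXD : ∀ i, ∀ x ∈ D i, X x)
    (hrule : ∀ a b, X a → X b → ff a b ≠ 0 → ∀ l : F, X (a + l • b))
    (hsmul : ∀ a, X a → ∀ l : F, X (l • a))
    (hswap : ∀ i j, i ≠ j → ∃ g : Matrix (Fin m ⊕ Fin m) (Fin m ⊕ Fin m) F,
      (∀ a, X a → X (g *ᵥ a)) ∧ (∀ c ∈ D j, ∃ c' ∈ D i, g *ᵥ c' = c) ∧
      ∀ l, l ≠ i → l ≠ j → ∀ c ∈ D l, g *ᵥ c = c)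
    (hmixed : ∃ i, ∃ u ∈ D i, ∃ y ∈ U i, u ≠ 0 ∧ y ≠ 0 ∧ X (u + y)) :
    ∀ x, X x := by
  classical
  have stepD : ∀ i u z y, u ∈ D i → z ∈ D i → y ∈ U i → X (u + y) → ff u z ≠ 0 →
      X (z + y) := by
    intro i u z y hu hz hy hX huz
    have hb : X (z - u) := hXD i _ ((D i).sub_mem hz hu)
    have hne : ff (u + y) (z - u) ≠ 0 := by
      rw [sympForm_add_left, sympForm_sub_right, sympForm_sub_right, sympForm_self,
        hS.hUD i y hy z hz, hS.hUD i y hy u hu]
      simpa using huz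
    have h3 := hrule _ _ hX hb hne 1
    have e : u + y + (1 : F) • (z - u) = z + y := by rw [one_smul]; abel
    rwa [e] at h3
  have moveD : ∀ i u u' y, u ∈ D i → u' ∈ D i → u ≠ 0 → u' ≠ 0 → y ∈ U i → X (u + y) →
      X (u' + y) := by
    intro i u u' y hu hu' hu0 hu'0 hy hX
    obtain ⟨z, hz, huz, hzu'⟩ := exists_link (D i) (hS.hnd i) u u' hu hu' hu0 hu'0
    exact stepD i z u' y hz hu' hy (stepD i u z y hu hz hy hX huz) hzu'
  -- a two-component vector
  obtain ⟨i₁, l₁, hil₁, hR₁⟩ : ∃ i l, i ≠ l ∧ SpR D X i l := by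
    obtain ⟨i, u, hu, y, hy, hu0, hy0, hX⟩ := hmixed
    obtain ⟨l, z, hz, hyz⟩ : ∃ l, ∃ z ∈ D l, ff y z ≠ 0 := by
      by_contra hcon
      push Not at hcon
      exact hy0 (hS.hglobal y hcon)
    have hli : l ≠ i := by
      rintro rfl
      exact hyz (hS.hUD l y hy z hz)
    obtain ⟨v, hv, r, hr, hvr⟩ := hS.hdec l y
    have hv0 : v ≠ 0 := by
      rintro rfl
      rw [zero_add] at hvr
      rw [← hvr] at hyz
      exact hyz (hS.hUD l r hr z hz)
    have hrUi : r ∈ U i := by
      have : r = y - v := by rw [← hvr]; abel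
      rw [this]
      exact (U i).sub_mem hy (hS.hDU i l (Ne.symm hli) hv)
    obtain ⟨bi, hbi, hubi⟩ := hS.hnd i u hu hu0
    have hbi0 : bi ≠ 0 := by
      rintro rfl
      exact hubi (sympForm_zero_right u)
    obtain ⟨bl, hbl, hbl0, hblne, hvb⟩ := hS.hb l (-v) ((D l).neg_mem hv) (neg_ne_zero.mpr hv0)
    have hvbl : ff v bl = 0 := by
      rw [sympForm_neg_left] at hvb
      exact neg_eq_zero.mp hvb
    -- the negative, then move the two components
    have hneg := hsmul _ hX (-1)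
    have e1 : (-1 : F) • (u + y) = -u + (-v + -r) := by
      rw [← hvr, neg_one_smul]; abel
    rw [e1] at hneg
    have h1 := moveD i (-u) bi (-v + -r) ((D i).neg_mem hu) hbi (neg_ne_zero.mpr hu0) hbi0
      ((U i).add_mem ((U i).neg_mem (hS.hDU i l (Ne.symm hli) hv)) ((U i).neg_mem hrUi)) hneg
    have e2 : bi + (-v + -r) = -v + (bi + -r) := by abel
    rw [e2] at h1
    have h2 := moveD l (-v) bl (bi + -r) ((D l).neg_mem hv) hbl (neg_ne_zero.mpr hv0) hbl0
      ((U l).add_mem (hS.hDU l i hli hbi) ((U l).neg_mem hr)) h1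
    -- combine
    have f1 : ff u bl = 0 := hS.hDUf i u hu bl (hS.hDU i l (Ne.symm hli) hbl)
    have f2 : ff u r = 0 := hS.hDUf i u hu r hrUi
    have f3 : ff v bi = 0 := hS.hDUf l v hv bi (hS.hDU l i hli hbi)
    have f4 : ff v r = 0 := hS.hDUf l v hv r hr
    have f5 : ff r bl = 0 := hS.hUD l r hr bl hbl
    have f6 : ff r bi = 0 := hS.hUD i r hrUi bi hbi
    have hne : ff (u + (v + r)) (bl + (bi + -r)) ≠ 0 := by
      have : ff (u + (v + r)) (bl + (bi + -r)) = ff u bi := by
        simp only [sympForm_add_left, sympForm_add_right, sympForm_neg_right, sympForm_self, f1, f2,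
          f3, f4, f5, f6, hvbl]
        ring
      rw [this]
      exact hubi
    have hX' : X (u + (v + r)) := by rw [hvr]; exact hX
    have h3 := hrule _ _ hX' h2 hne 1
    have e3 : u + (v + r) + (1 : F) • (bl + (bi + -r)) = (u + bi) + (v + bl) := by
      rw [one_smul]; abel
    rw [e3] at h3
    have hc0 : u + bi ≠ 0 := by
      intro h
      have : ff u (u + bi) = ff u bi := by rw [sympForm_add_right, sympForm_self, zero_add]
      rw [h, sympForm_zero_right] at this
      exact hubi this.symm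
    have hc'0 : v + bl ≠ 0 := by
      intro h
      exact hblne (eq_neg_of_add_eq_zero_right h)
    have hcD : u + bi ∈ D i := (D i).add_mem hu hbi
    have hc'D : v + bl ∈ D l := (D l).add_mem hv hbl
    refine ⟨i, l, Ne.symm hli, ?_⟩
    intro c hc c' hc' hc0' hc'0'
    have h4 := moveD i (u + bi) c (v + bl) hcD hc hc0 hc0' (hS.hDU i l (Ne.symm hli) hc'D) h3
    rw [add_comm] at h4
    have h5 := moveD l (v + bl) c' c hc'D hc' hc'0 hc'0' (hS.hDU l i hli hc) h4
    rwa [add_comm] at h5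
  -- moving the indices
  have hRsymm : ∀ i l, SpR D X i l → SpR D X l i := by
    intro i l hR c hc c' hc' hc0 hc'0
    rw [add_comm]
    exact hR c' hc' c hc hc'0 hc0
  have hRmove : ∀ i l j, i ≠ l → j ≠ l → SpR D X i l → SpR D X j l := by
    intro i l j hil hjl hR
    by_cases hij : i = j
    · rw [← hij]; exact hR
    · obtain ⟨g, hgX, hgsurj, hgfix⟩ := hswap i j hij
      intro c hc c' hc' hc0 hc'0
      obtain ⟨c₀, hc₀, hgc₀⟩ := hgsurj c hc
      have hc₀0 : c₀ ≠ 0 := by
        rintro rfl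
        rw [mulVec_zero] at hgc₀
        exact hc0 hgc₀.symm
      have := hgX _ (hR c₀ hc₀ c' hc' hc₀0 hc'0)
      rwa [mulVec_add, hgc₀, hgfix l (Ne.symm hil) (Ne.symm hjl) c' hc'] at this
  have hRmove2 : ∀ i l j, i ≠ l → i ≠ j → SpR D X i l → SpR D X i j := by
    intro i l j hil hij hR
    exact hRsymm _ _ (hRmove l i j (Ne.symm hil) (Ne.symm hij) (hRsymm _ _ hR))
  have hRall : ∀ i l, i ≠ l → SpR D X i l := by
    intro i l hil
    by_cases h1 : i = l₁
    · have h2 : SpR D X l₁ i₁ := hRsymm _ _ hR₁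
      rw [h1]
      rw [h1] at hil
      exact hRmove2 l₁ i₁ l (Ne.symm hil₁) hil h2
    · have h2 : SpR D X i l₁ := hRmove i₁ l₁ i hil₁ h1 hR₁
      exact hRmove2 i l₁ l h1 hil h2
  -- induction on the support
  have hQ : ∀ S : Finset (Fin t), ∀ x ∈ ⨆ j ∈ S, D j, X x := by
    intro S
    induction S using Finset.induction_on with
    | empty =>
      intro x hx
      have : x = 0 := by simpa using hx
      rw [this]
      exact hXD i₀ 0 (D i₀).zero_mem
    | insert l S hlS ih =>
      intro x hx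
      rw [Finset.iSup_insert] at hx
      obtain ⟨c, hc, y, hy, rfl⟩ := Submodule.mem_sup.mp hx
      by_cases hc0 : c = 0
      · rw [hc0, zero_add]
        exact ih y hy
      by_cases hy0 : y = 0
      · rw [hy0, add_zero]
        exact hXD l c hc
      obtain ⟨i, z, hz, hyz⟩ : ∃ i, ∃ z ∈ D i, ff y z ≠ 0 := by
        by_contra hcon
        push Not at hcon
        exact hy0 (hS.hglobal y hcon)
      have hVS : ∀ j, j ∉ S → (⨆ j ∈ S, D j) ≤ U j := by
        intro j hj
        apply iSup₂_le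
        intro j' hj'
        exact hS.hDU j j' (fun h => hj (h ▸ hj'))
      have hiS : i ∈ S := by
        by_contra hi
        exact hyz (hS.hUD i y (hVS i hi hy) z hz)
      have hil : i ≠ l := fun h => hlS (h ▸ hiS)
      have hz0 : z ≠ 0 := by
        rintro rfl
        exact hyz (sympForm_zero_right y)
      have hzS : z ∈ ⨆ j ∈ S, D j := (le_biSup D hiS) hz
      have ha : X (y - z) := ih _ (Submodule.sub_mem _ hy hzS)
      have hb : X (z + c) := hRall i l hil z hz c hc hz0 hc0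
      have hne : ff (y - z) (z + c) ≠ 0 := by
        rw [sympForm_sub_left, sympForm_add_right, sympForm_add_right, sympForm_self,
          hS.hUD l y (hVS l hlS hy) c hc, hS.hDUf i z hz c (hS.hDU i l hil hc)]
        simpa using hyz
      have h3 := hrule _ _ ha hb hne 1
      have e : y - z + (1 : F) • (z + c) = c + y := by rw [one_smul]; abel
      rwa [e] at h3
  intro x
  apply hQ Finset.univ x
  have e : (⨆ i ∈ (Finset.univ : Finset (Fin t)), D i) = ⨆ i, D i := by simp
  rw [e, hS.htop]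
  exact Submodule.mem_top

end spdm

end Cfsg.Agent.Lib.Helper13
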