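import Mathlib
import Cfsg.Agent.Lib.Helper13.SpDecompMax
import Cfsg.Agent.Lib.Helper13.OrthCharTwoMat

/-!
# `Sp_k ≀ S_t` is maximal in `Sp_{kt}`: block swaps and the group-theoretic part
-/

set_option autoImplicit false

namespace Cfsg.Agent.Lib.Helper13

open Matrix Module Cfsg.Agent.Lib.Helper6

section spdm2
variable {m : ℕ} {F : Type*} [Field F]

local notation "ff" => Cfsg.sympForm m F
local notation "BB" => Cfsg.Agent.Lib.Helper15.stdSymp m F

/-- in a nondegenerate block (not a plane over the field with two elements) every nonzero vector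
is orthogonal to a nonzero vector different from itself -/
theorem exists_orth_ne [Fintype F] {k : ℕ} (hex : ¬ (k = 2 ∧ Fintype.card F = 2))
    (W : Submodule F (Fin m ⊕ Fin m → F)) (hWk : finrank F W = k)
    (hnd : ∀ w ∈ W, w ≠ 0 → ∃ x ∈ W, ff w x ≠ 0) (c : Fin m ⊕ Fin m → F) (hc : c ∈ W)
    (hc0 : c ≠ 0) : ∃ b ∈ W, b ≠ 0 ∧ b ≠ c ∧ ff c b = 0 := by
  classical
  by_cases hq : ∃ μ : F, μ ≠ 0 ∧ μ ≠ 1
  · obtain ⟨μ, hμ0, hμ1⟩ := hq
    refine ⟨μ • c, W.smul_mem _ hc, smul_ne_zero hμ0 hc0, ?_, by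
      rw [sympForm_smul_right, sympForm_self, mul_zero]⟩
    intro h
    have : (μ - 1) • c = 0 := by rw [sub_smul, one_smul, h, sub_self]
    rcases smul_eq_zero.mp this with h1 | h1
    · exact hμ1 (sub_eq_zero.mp h1)
    · exact hc0 h1
  · push Not at hq
    have hcard : Fintype.card F = 2 := by
      have h1 : (Finset.univ : Finset F) ⊆ {0, 1} := by
        intro μ _
        by_cases h0 : μ = 0
        · rw [h0]; simp
        · rw [hq μ h0]; simp
      have h2 := Finset.card_le_card h1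
      have h3 : ({0, 1} : Finset F).card ≤ 2 := Finset.card_le_two
      have h4 : 1 < Fintype.card F := Fintype.one_lt_card
      rw [Finset.card_univ] at h2
      omega
    have hk2 : k ≠ 2 := fun h => hex ⟨h, hcard⟩
    obtain ⟨x, hxW, hcx⟩ := hnd c hc hc0
    have k1 := finrank_inf_ker_add_one W (BB c) x hxW hcx
    rw [hWk] at k1
    have hcK : c ∈ W ⊓ LinearMap.ker (BB c) :=
      Submodule.mem_inf.mpr ⟨hc, by rw [LinearMap.mem_ker]; exact sympForm_self c⟩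
    have hnle : ¬ (W ⊓ LinearMap.ker (BB c) ≤ Submodule.span F {c}) := by
      intro hle
      have h1 := Submodule.finrank_mono hle
      rw [finrank_span_singleton hc0] at h1
      have hpos : 0 < finrank F ↥(W ⊓ LinearMap.ker (BB c)) :=
        Module.finrank_pos_iff_exists_ne_zero.mpr
          ⟨⟨c, hcK⟩, fun h => hc0 (congrArg Subtype.val h)⟩
      omega
    obtain ⟨b, hbK, hbs⟩ := SetLike.not_le_iff_exists.mp hnle
    have hb := Submodule.mem_inf.mp hbK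
    refine ⟨b, hb.1, ?_, ?_, ?_⟩
    · rintro rfl
      exact hbs (Submodule.zero_mem _)
    · rintro rfl
      exact hbs (Submodule.mem_span_singleton_self _)
    · have := hb.2
      rwa [LinearMap.mem_ker] at this

/-- the block structure attached to a nondegenerate decomposition -/
theorem spBlocks_of_decomp [Fintype F] {t k : ℕ} (D : Fin t → Submodule F (Fin m ⊕ Fin m → F))
    (hD : Cfsg.Geo.IsNondegenerateMDecomposition (Cfsg.sympForm m F) k D)
    (hex : ¬ (k = 2 ∧ Fintype.card F = 2)) :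
    SpBlocks D (fun i => LinearMap.BilinForm.orthogonal BB (D i)) := by
  have hnd : ∀ i, ∀ w ∈ D i, w ≠ 0 → ∃ x ∈ D i, ff w x ≠ 0 :=
    fun i w hw hw0 => (hD.nondegenerate i w hw hw0).2
  refine ⟨fun i y => Iff.rfl, ?_, ?_, hnd, ?_, ?_, hD.decomp.iSup_eq_top⟩
  · intro i
    apply (LinearMap.BilinForm.isCompl_orthogonal_iff_disjoint stdSymp_isRefl).mpr
    rw [Submodule.disjoint_def]
    intro x hxW hxU
    by_contra hx0
    obtain ⟨y, hyW, hy⟩ := (hD.nondegenerate i x hxW hx0).1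
    exact hy (hxU y hyW)
  · intro i j hij y hy w hw
    exact hD.orthogonal i j hij w hw y hy
  · intro y hy
    by_contra hy0
    obtain ⟨x, hx⟩ := Cfsg.Agent.Lib.Helper2.exists_sympForm_ne_zero hy0
    apply hx
    have hxtop : x ∈ ⨆ j, D j := by rw [hD.decomp.iSup_eq_top]; exact Submodule.mem_top
    have : ff y x = 0 := by
      refine Submodule.iSup_induction D (motive := fun x => ff y x = 0) hxtop ?_ ?_ ?_
      · intro j z hz
        exact hy j z hz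
      · exact sympForm_zero_right y
      · intro a b ha hb
        rw [sympForm_add_right, ha, hb, add_zero]
    rw [sympForm_swap, this, neg_zero]
  · intro l c hc hc0
    exact exists_orth_ne hex (D l) (hD.decomp.finrank_eq l) (hnd l) c hc hc0

/-- the blocks have even dimension -/
theorem exists_half (W : Submodule F (Fin m ⊕ Fin m → F))
    (hnd : ∀ w ∈ W, w ≠ 0 → ∃ x ∈ W, ff w x ≠ 0) : ∃ r, finrank F W = 2 * r := by
  classical
  have hA : (LinearMap.BilinForm.restrict BB W).IsAlt := fun x => by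
    change ff (x : Fin m ⊕ Fin m → F) (x : Fin m ⊕ Fin m → F) = 0
    exact sympForm_self _
  obtain ⟨m', k', b, h1, h2, h3, h4⟩ :=
    Cfsg.Agent.S0752.result (LinearMap.BilinForm.restrict BB W) hA
  have hk' : k' = 0 := by
    by_contra hne
    have hpos : 0 < k' := Nat.pos_of_ne_zero hne
    have hb0 := b.ne_zero (Sum.inr ⟨0, hpos⟩)
    apply hb0
    by_contra hb0'
    have hb0'' : ((b (Sum.inr ⟨0, hpos⟩) : W) : Fin m ⊕ Fin m → F) ≠ 0 :=
      fun h => hb0' (Subtype.ext h)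
    obtain ⟨x, hxW, hx⟩ := hnd _ (b (Sum.inr ⟨0, hpos⟩)).2 hb0''
    exact hx (h4 ⟨0, hpos⟩ ⟨x, hxW⟩)
  subst hk'
  refine ⟨m', ?_⟩
  have := Module.finrank_eq_card_basis b
  simp only [Fintype.card_sum, Fintype.card_fin] at this
  omega

/-- isometries between the blocks -/
theorem exists_block_isometry (W W' : Submodule F (Fin m ⊕ Fin m → F))
    (hnd : ∀ w ∈ W, w ≠ 0 → ∃ x ∈ W, ff w x ≠ 0)
    (hnd' : ∀ w ∈ W', w ≠ 0 → ∃ x ∈ W', ff w x ≠ 0) (hfr : finrank F W = finrank F W') :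
    ∃ ψ : W ≃ₗ[F] W', ∀ x y : W,
      ff ((ψ x : W') : Fin m ⊕ Fin m → F) ((ψ y : W') : Fin m ⊕ Fin m → F) =
        ff (x : Fin m ⊕ Fin m → F) (y : Fin m ⊕ Fin m → F) := by
  obtain ⟨r, hr⟩ := exists_half W hnd
  have hr' : finrank F W' = 2 * r := by rw [← hfr, hr]
  have hA : (LinearMap.BilinForm.restrict BB W).IsAlt := fun x => by
    change ff (x : Fin m ⊕ Fin m → F) (x : Fin m ⊕ Fin m → F) = 0
    exact sympForm_self _
  have hA' : (LinearMap.BilinForm.restrict BB W').IsAlt := fun x => by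
    change ff (x : Fin m ⊕ Fin m → F) (x : Fin m ⊕ Fin m → F) = 0
    exact sympForm_self _
  have hN : ∀ u : W, (∀ v : W, LinearMap.BilinForm.restrict BB W u v = 0) → u = 0 := by
    intro u hu
    by_contra hu0
    obtain ⟨x, hxW, hx⟩ := hnd u u.2 (fun h => hu0 (Subtype.ext h))
    exact hx (hu ⟨x, hxW⟩)
  have hN' : ∀ u : W', (∀ v : W', LinearMap.BilinForm.restrict BB W' u v = 0) → u = 0 := by
    intro u hu
    by_contra hu0
    obtain ⟨x, hxW, hx⟩ := hnd' u u.2 (fun h => hu0 (Subtype.ext h))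
    exact hx (hu ⟨x, hxW⟩)
  obtain ⟨φ, hφ⟩ := Cfsg.Agent.S0776.exists_std (LinearMap.BilinForm.restrict BB W) hA hN r hr
  obtain ⟨φ', hφ'⟩ :=
    Cfsg.Agent.S0776.exists_std (LinearMap.BilinForm.restrict BB W') hA' hN' r hr'
  refine ⟨φ.trans φ'.symm, fun x y => ?_⟩
  have h1 := hφ' ((φ.trans φ'.symm) x) ((φ.trans φ'.symm) y)
  have h2 := hφ x y
  simp only [LinearEquiv.trans_apply, LinearEquiv.apply_symm_apply] at h1
  rw [h2] at h1
  exact h1.symm

/-- a matrix mapping every block into itself, together with its inverse, stabilises the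
decomposition -/
theorem mem_decompStab_of_forall {t : ℕ} (D : Fin t → Submodule F (Fin m ⊕ Fin m → F))
    (g : GL (Fin m ⊕ Fin m) F)
    (h1 : ∀ l, ∀ y ∈ D l, (g : Matrix (Fin m ⊕ Fin m) (Fin m ⊕ Fin m) F) *ᵥ y ∈ D l)
    (h2 : ∀ l, ∀ y ∈ D l,
      ((g⁻¹ : GL (Fin m ⊕ Fin m) F) : Matrix (Fin m ⊕ Fin m) (Fin m ⊕ Fin m) F) *ᵥ y ∈ D l) :
    g ∈ Cfsg.Geo.decompositionStabilizer D := by
  refine ⟨1, fun l => ?_⟩
  rw [Equiv.Perm.one_apply]
  apply le_antisymm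
  · rintro _ ⟨y, hy, rfl⟩
    rw [Matrix.toLin'_apply]
    exact h1 l y hy
  · intro c hc
    refine ⟨((g⁻¹ : GL (Fin m ⊕ Fin m) F) : Matrix (Fin m ⊕ Fin m) (Fin m ⊕ Fin m) F) *ᵥ c,
      h2 l c hc, ?_⟩
    rw [Matrix.toLin'_apply, mulVec_mulVec, ← Units.val_mul, mul_inv_cancel, Units.val_one,
      one_mulVec]

/-- the block swap attached to an isometry between two blocks -/
theorem exists_block_swap {t : ℕ} {D U : Fin t → Submodule F (Fin m ⊕ Fin m → F)}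
    (hS : SpBlocks D U) (i j : Fin t) (hij : i ≠ j) (ψ : D i ≃ₗ[F] D j)
    (hψ : ∀ x y : D i, ff ((ψ x : D j) : Fin m ⊕ Fin m → F) ((ψ y : D j) : Fin m ⊕ Fin m → F) =
      ff (x : Fin m ⊕ Fin m → F) (y : Fin m ⊕ Fin m → F)) :
    ∃ g : GL (Fin m ⊕ Fin m) F,
      g ∈ Cfsg.Geo.decompositionStabilizer D ⊓ Cfsg.spGL m F ∧
      (∀ c ∈ D j, ∃ c' ∈ D i,
        (g : Matrix (Fin m ⊕ Fin m) (Fin m ⊕ Fin m) F) *ᵥ c' = c) ∧
      ∀ l, l ≠ i → l ≠ j → ∀ c ∈ D l,
        (g : Matrix (Fin m ⊕ Fin m) (Fin m ⊕ Fin m) F) *ᵥ c = c := by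
  classical
  have hψ' : ∀ x y : D j,
      ff ((ψ.symm x : D i) : Fin m ⊕ Fin m → F) ((ψ.symm y : D i) : Fin m ⊕ Fin m → F) =
        ff (x : Fin m ⊕ Fin m → F) (y : Fin m ⊕ Fin m → F) := by
    intro x y
    have := hψ (ψ.symm x) (ψ.symm y)
    rw [LinearEquiv.apply_symm_apply, LinearEquiv.apply_symm_apply] at this
    exact this.symm
  obtain ⟨πi, hπiD, hπiU, hπiS⟩ : ∃ πi : (Fin m ⊕ Fin m → F) →ₗ[F] D i,
      (∀ y (hy : y ∈ D i), πi y = ⟨y, hy⟩) ∧ (∀ y, y ∈ U i → πi y = 0) ∧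
      (∀ x, x - ((πi x : D i) : Fin m ⊕ Fin m → F) ∈ U i) :=
    ⟨(D i).projectionOnto (U i) (hS.hc i),
      fun y hy => Submodule.projectionOnto_apply_of_mem_left (hS.hc i) hy,
      fun y hy => Submodule.projectionOnto_apply_of_mem_right (hS.hc i) hy,
      fun x => (Submodule.projectionOnto_apply_eq_zero_iff (hS.hc i)).mp (by
        rw [map_sub, Submodule.projectionOnto_apply_left, sub_self])⟩
  obtain ⟨πj, hπjD, hπjU, hπjS⟩ : ∃ πj : (Fin m ⊕ Fin m → F) →ₗ[F] D j,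
      (∀ y (hy : y ∈ D j), πj y = ⟨y, hy⟩) ∧ (∀ y, y ∈ U j → πj y = 0) ∧
      (∀ x, x - ((πj x : D j) : Fin m ⊕ Fin m → F) ∈ U j) :=
    ⟨(D j).projectionOnto (U j) (hS.hc j),
      fun y hy => Submodule.projectionOnto_apply_of_mem_left (hS.hc j) hy,
      fun y hy => Submodule.projectionOnto_apply_of_mem_right (hS.hc j) hy,
      fun x => (Submodule.projectionOnto_apply_eq_zero_iff (hS.hc j)).mp (by
        rw [map_sub, Submodule.projectionOnto_apply_left, sub_self])⟩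
  obtain ⟨h, hdef⟩ : ∃ h : (Fin m ⊕ Fin m → F) →ₗ[F] (Fin m ⊕ Fin m → F), ∀ x, h x =
      x + (((ψ (πi x) : D j) : Fin m ⊕ Fin m → F) - ((πi x : D i) : Fin m ⊕ Fin m → F)) +
        (((ψ.symm (πj x) : D i) : Fin m ⊕ Fin m → F) - ((πj x : D j) : Fin m ⊕ Fin m → F)) :=
    ⟨LinearMap.id + ((D j).subtype ∘ₗ ψ.toLinearMap - (D i).subtype) ∘ₗ πi +
      ((D i).subtype ∘ₗ ψ.symm.toLinearMap - (D j).subtype) ∘ₗ πj, fun x => rfl⟩
  have hDi : ∀ y (hy : y ∈ D i), h y = ((ψ ⟨y, hy⟩ : D j) : Fin m ⊕ Fin m → F) := by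
    intro y hy
    rw [hdef, hπiD y hy, hπjU y (hS.hDU j i (Ne.symm hij) hy), map_zero]
    simp
  have hDj : ∀ y (hy : y ∈ D j), h y = ((ψ.symm ⟨y, hy⟩ : D i) : Fin m ⊕ Fin m → F) := by
    intro y hy
    rw [hdef, hπjD y hy, hπiU y (hS.hDU i j hij hy), map_zero]
    simp
  have hfix : ∀ y, y ∈ U i → y ∈ U j → h y = y := by
    intro y hyi hyj
    rw [hdef, hπiU y hyi, hπjU y hyj, map_zero, map_zero]
    simp
  have hdec3 : ∀ x : Fin m ⊕ Fin m → F, ∃ a, ∃ _ : a ∈ D i, ∃ b, ∃ _ : b ∈ D j, ∃ r,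
      r ∈ U i ∧ r ∈ U j ∧ x = a + b + r := by
    intro x
    refine ⟨((πi x : D i) : Fin m ⊕ Fin m → F), (πi x).2, ((πj x : D j) : Fin m ⊕ Fin m → F),
      (πj x).2, x - ((πi x : D i) : Fin m ⊕ Fin m → F) - ((πj x : D j) : Fin m ⊕ Fin m → F),
      ?_, ?_, by abel⟩
    · exact (U i).sub_mem (hπiS x) (hS.hDU i j hij (πj x).2)
    · have : x - ((πi x : D i) : Fin m ⊕ Fin m → F) - ((πj x : D j) : Fin m ⊕ Fin m → F) =
          (x - ((πj x : D j) : Fin m ⊕ Fin m → F)) - ((πi x : D i) : Fin m ⊕ Fin m → F) := by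
        abel
      rw [this]
      exact (U j).sub_mem (hπjS x) (hS.hDU j i (Ne.symm hij) (πi x).2)
  have hval : ∀ a (ha : a ∈ D i) b (hb : b ∈ D j) r, r ∈ U i → r ∈ U j →
      h (a + b + r) = ((ψ ⟨a, ha⟩ : D j) : Fin m ⊕ Fin m → F) +
        ((ψ.symm ⟨b, hb⟩ : D i) : Fin m ⊕ Fin m → F) + r := by
    intro a ha b hb r hr1 hr2
    rw [map_add, map_add, hDi a ha, hDj b hb, hfix r hr1 hr2]
  have hinv : ∀ x, h (h x) = x := by
    intro x
    obtain ⟨a, ha, b, hb, r, hr1, hr2, rfl⟩ := hdec3 x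
    rw [hval a ha b hb r hr1 hr2]
    have e : ((ψ ⟨a, ha⟩ : D j) : Fin m ⊕ Fin m → F) +
        ((ψ.symm ⟨b, hb⟩ : D i) : Fin m ⊕ Fin m → F) + r =
        ((ψ.symm ⟨b, hb⟩ : D i) : Fin m ⊕ Fin m → F) +
        ((ψ ⟨a, ha⟩ : D j) : Fin m ⊕ Fin m → F) + r := by abel
    rw [e, hval _ (ψ.symm ⟨b, hb⟩).2 _ (ψ ⟨a, ha⟩).2 r hr1 hr2]
    simp only [Subtype.coe_eta, LinearEquiv.apply_symm_apply, LinearEquiv.symm_apply_apply]
    abel
  have horth3 : ∀ a a' b b' r r', a ∈ D i → a' ∈ D i → b ∈ D j → b' ∈ D j → r ∈ U i →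
      r ∈ U j → r' ∈ U i → r' ∈ U j →
      ff (a + b + r) (a' + b' + r') = ff a a' + ff b b' + ff r r' := by
    intro a a' b b' r r' ha ha' hb hb' hr1 hr2 hr1' hr2'
    have g1 : ff a b' = 0 := hS.hDUf i a ha b' (hS.hDU i j hij hb')
    have g2 : ff a r' = 0 := hS.hDUf i a ha r' hr1'
    have g3 : ff b a' = 0 := hS.hDUf j b hb a' (hS.hDU j i (Ne.symm hij) ha')
    have g4 : ff b r' = 0 := hS.hDUf j b hb r' hr2'
    have g5 : ff r a' = 0 := hS.hUD i r hr1 a' ha'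
    have g6 : ff r b' = 0 := hS.hUD j r hr2 b' hb'
    simp only [sympForm_add_left, sympForm_add_right, g1, g2, g3, g4, g5, g6]
    ring
  have hpres : ∀ x y, ff (h x) (h y) = ff x y := by
    intro x y
    obtain ⟨a, ha, b, hb, r, hr1, hr2, rfl⟩ := hdec3 x
    obtain ⟨a', ha', b', hb', r', hr1', hr2', rfl⟩ := hdec3 y
    rw [hval a ha b hb r hr1 hr2, hval a' ha' b' hb' r' hr1' hr2',
      add_comm ((ψ ⟨a, ha⟩ : D j) : Fin m ⊕ Fin m → F),
      add_comm ((ψ ⟨a', ha'⟩ : D j) : Fin m ⊕ Fin m → F),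
      horth3 _ _ _ _ r r' (ψ.symm ⟨b, hb⟩).2 (ψ.symm ⟨b', hb'⟩).2 (ψ ⟨a, ha⟩).2 (ψ ⟨a', ha'⟩).2
        hr1 hr2 hr1' hr2',
      horth3 a a' b b' r r' ha ha' hb hb' hr1 hr2 hr1' hr2', hψ, hψ']
    ring
  obtain ⟨g, hg⟩ : ∃ g : GL (Fin m ⊕ Fin m) F,
      ∀ x, (g : Matrix (Fin m ⊕ Fin m) (Fin m ⊕ Fin m) F) *ᵥ x = h x :=
    ⟨glEquiv.symm (LinearEquiv.ofInvolutive h hinv), fun x => by
      rw [glEquiv_symm_mulVec]; rfl⟩
  refine ⟨g, ⟨?_, ?_⟩, ?_, ?_⟩
  · refine ⟨Equiv.swap i j, fun l => ?_⟩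
    by_cases hli : l = i
    · rw [hli, Equiv.swap_apply_left]
      apply le_antisymm
      · rintro _ ⟨y, hy, rfl⟩
        rw [Matrix.toLin'_apply, hg, hDi y hy]
        exact (ψ ⟨y, hy⟩).2
      · intro c hc
        refine ⟨((ψ.symm ⟨c, hc⟩ : D i) : Fin m ⊕ Fin m → F), (ψ.symm ⟨c, hc⟩).2, ?_⟩
        rw [Matrix.toLin'_apply, hg, hDi _ (ψ.symm ⟨c, hc⟩).2]
        simp
    · by_cases hlj : l = j
      · rw [hlj, Equiv.swap_apply_right]
        apply le_antisymm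
        · rintro _ ⟨y, hy, rfl⟩
          rw [Matrix.toLin'_apply, hg, hDj y hy]
          exact (ψ.symm ⟨y, hy⟩).2
        · intro c hc
          refine ⟨((ψ ⟨c, hc⟩ : D j) : Fin m ⊕ Fin m → F), (ψ ⟨c, hc⟩).2, ?_⟩
          rw [Matrix.toLin'_apply, hg, hDj _ (ψ ⟨c, hc⟩).2]
          simp
      · rw [Equiv.swap_apply_of_ne_of_ne hli hlj]
        apply le_antisymm
        · rintro _ ⟨y, hy, rfl⟩
          rw [Matrix.toLin'_apply, hg,
            hfix y (hS.hDU i l (Ne.symm hli) hy) (hS.hDU j l (Ne.symm hlj) hy)]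
          exact hy
        · intro c hc
          refine ⟨c, hc, ?_⟩
          rw [Matrix.toLin'_apply, hg,
            hfix c (hS.hDU i l (Ne.symm hli) hc) (hS.hDU j l (Ne.symm hlj) hc)]
  · intro x y
    change ff ((g : Matrix (Fin m ⊕ Fin m) (Fin m ⊕ Fin m) F) *ᵥ x)
      ((g : Matrix (Fin m ⊕ Fin m) (Fin m ⊕ Fin m) F) *ᵥ y) = ff x y
    rw [hg, hg]
    exact hpres x y
  · intro c hc
    refine ⟨((ψ.symm ⟨c, hc⟩ : D i) : Fin m ⊕ Fin m → F), (ψ.symm ⟨c, hc⟩).2, ?_⟩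
    rw [hg, hDi _ (ψ.symm ⟨c, hc⟩).2]
    simp
  · intro l hli hlj c hc
    rw [hg, hfix c (hS.hDU i l (Ne.symm hli) hc) (hS.hDU j l (Ne.symm hlj) hc)]

/-- **The stabiliser of an orthogonal decomposition into nondegenerate blocks is maximal in the
symplectic group**, unless the blocks are planes over the field with two elements. -/
theorem sp_decomp_maximal [Fintype F] {t : ℕ} (k : ℕ)
    (D : Fin t → Submodule F (Fin m ⊕ Fin m → F))
    (hD : Cfsg.Geo.IsNondegenerateMDecomposition (Cfsg.sympForm m F) k D)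
    (hex : ¬ (k = 2 ∧ Fintype.card F = 2)) :
    Cfsg.Geo.IsMaximalIn (Cfsg.spGL m F)
      (Cfsg.Geo.decompositionStabilizer D ⊓ Cfsg.spGL m F) := by
  classical
  have hS := spBlocks_of_decomp D hD hex
  generalize (fun i => LinearMap.BilinForm.orthogonal BB (D i)) = U at hS
  have ht := hD.decomp.two_le
  have hkpos := hD.decomp.pos
  have hfr := hD.decomp.finrank_eq
  have hne0 : ∀ i, ∃ x ∈ D i, x ≠ 0 := by
    intro i
    have hpos : 0 < finrank F (D i) := by rw [hfr i]; exact hkpos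
    obtain ⟨⟨x, hx⟩, hx0⟩ := Module.finrank_pos_iff_exists_ne_zero.mp hpos
    exact ⟨x, hx, fun h => hx0 (Subtype.ext h)⟩
  obtain ⟨i₀, i₁, h01⟩ : ∃ i₀ i₁ : Fin t, i₀ ≠ i₁ :=
    ⟨⟨0, by omega⟩, ⟨1, by omega⟩, by simp [Fin.ext_iff]⟩
  have hinj : ∀ (k' : GL (Fin m ⊕ Fin m) F) (x : Fin m ⊕ Fin m → F),
      (k' : Matrix (Fin m ⊕ Fin m) (Fin m ⊕ Fin m) F) *ᵥ x = 0 → x = 0 := by
    intro k' x h
    have h1 : ((k'⁻¹ : GL (Fin m ⊕ Fin m) F) : Matrix (Fin m ⊕ Fin m) (Fin m ⊕ Fin m) F) *ᵥ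
        ((k' : Matrix (Fin m ⊕ Fin m) (Fin m ⊕ Fin m) F) *ᵥ x) = 0 := by
      rw [h, mulVec_zero]
    rwa [mulVec_mulVec, ← Units.val_mul, inv_mul_cancel, Units.val_one, one_mulVec] at h1
  constructor
  · rw [SetLike.lt_iff_le_and_exists]
    refine ⟨inf_le_right, ?_⟩
    obtain ⟨a₀, ha₀, ha₀0⟩ := hne0 i₀
    obtain ⟨a₁, ha₁, ha₁0⟩ := hne0 i₁
    obtain ⟨x, hx, hax⟩ := hS.hnd i₀ a₀ ha₀ ha₀0
    have hxa : ff x a₀ ≠ 0 := by
      rw [sympForm_swap]
      exact neg_ne_zero.mpr hax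
    refine ⟨sympTransvGL (a₀ + a₁) 1, sympTransvGL_mem _ _, ?_⟩
    rintro ⟨⟨σ, hσ⟩, -⟩
    have hmem : ((sympTransvGL (a₀ + a₁) 1 : GL (Fin m ⊕ Fin m) F) :
        Matrix (Fin m ⊕ Fin m) (Fin m ⊕ Fin m) F) *ᵥ x ∈ D (σ i₀) := by
      rw [← hσ i₀]
      exact ⟨x, hx, Matrix.toLin'_apply _ _⟩
    rw [sympTransvGL_mulVec, one_mul, sympForm_add_right,
      hS.hDUf i₀ x hx a₁ (hS.hDU i₀ i₁ h01 ha₁), add_zero, smul_add, ← add_assoc] at hmem
    refine hS.hmix i₀ (x + ff x a₀ • a₀) ((D i₀).add_mem hx ((D i₀).smul_mem _ ha₀))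
      (ff x a₀ • a₁) ((U i₀).smul_mem _ (hS.hDU i₀ i₁ h01 ha₁)) ?_ (smul_ne_zero hxa ha₁0)
      (σ i₀) hmem
    intro h0
    have : ff (x + ff x a₀ • a₀) a₀ = ff x a₀ := by
      rw [sympForm_add_left, sympForm_smul_left, sympForm_self, mul_zero, add_zero]
    rw [h0, sympForm_zero_left] at this
    exact hxa this.symm
  · intro M hHM hMS
    by_cases hMH : M ≤ Cfsg.Geo.decompositionStabilizer D ⊓ Cfsg.spGL m F
    · left
      exact le_antisymm hMH hHM
    · right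
      apply le_antisymm hMS
      obtain ⟨g₀, hgM, hgH⟩ := SetLike.not_le_iff_exists.mp hMH
      have hgD : g₀ ∉ Cfsg.Geo.decompositionStabilizer D := fun h => hgH ⟨h, hMS hgM⟩
      have hXD : ∀ i, ∀ x ∈ D i, SpX M x := by
        intro i x hx c
        apply hHM
        refine ⟨?_, sympTransvGL_mem x c⟩
        have key : ∀ c' : F, ∀ l, ∀ y ∈ D l, ((sympTransvGL x c' : GL (Fin m ⊕ Fin m) F) :
            Matrix (Fin m ⊕ Fin m) (Fin m ⊕ Fin m) F) *ᵥ y ∈ D l := by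
          intro c' l y hy
          rw [sympTransvGL_mulVec]
          by_cases hli : l = i
          · rw [hli] at hy ⊢
            exact (D i).add_mem hy ((D i).smul_mem _ hx)
          · rw [hS.hDUf l y hy x (hS.hDU l i hli hx), mul_zero, zero_smul, add_zero]
            exact hy
        apply mem_decompStab_of_forall D _ (key c)
        have hinv : (sympTransvGL x c)⁻¹ = sympTransvGL x (-c) := Units.ext rfl
        rw [hinv]
        exact key (-c)
      have hswap : ∀ i j, i ≠ j → ∃ g : Matrix (Fin m ⊕ Fin m) (Fin m ⊕ Fin m) F,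
          (∀ a, SpX M a → SpX M (g *ᵥ a)) ∧ (∀ c ∈ D j, ∃ c' ∈ D i, g *ᵥ c' = c) ∧
          ∀ l, l ≠ i → l ≠ j → ∀ c ∈ D l, g *ᵥ c = c := by
        intro i j hij
        obtain ⟨ψ, hψ⟩ := exists_block_isometry (D i) (D j) (hS.hnd i) (hS.hnd j)
          (by rw [hfr i, hfr j])
        obtain ⟨g, hgH', hsurj, hfix⟩ := exists_block_swap hS i j hij ψ hψ
        exact ⟨(g : Matrix (Fin m ⊕ Fin m) (Fin m ⊕ Fin m) F),
          fun a ha => ha.map hMS (hHM hgH'), hsurj, hfix⟩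
      have hmixed : ∃ i, ∃ u ∈ D i, ∃ y ∈ U i, u ≠ 0 ∧ y ≠ 0 ∧ SpX M (u + y) := by
        by_contra hcon
        push Not at hcon
        have hpure : ∀ a, SpX M a → a ≠ 0 → ∃ j, a ∈ D j := by
          intro a ha ha0
          obtain ⟨j, z, hz, haz⟩ : ∃ j, ∃ z ∈ D j, ff a z ≠ 0 := by
            by_contra h
            push Not at h
            exact ha0 (hS.hglobal a h)
          obtain ⟨u, hu, y, hy, rfl⟩ := hS.hdec j a
          have hu0 : u ≠ 0 := by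
            rintro rfl
            rw [zero_add] at haz
            exact haz (hS.hUD j y hy z hz)
          by_cases hy0 : y = 0
          · exact ⟨j, by rw [hy0, add_zero]; exact hu⟩
          · exact absurd ha (hcon j u hu y hy hu0 hy0)
        have hblock : ∀ k' ∈ M, ∀ i, ∃ j, ∀ x ∈ D i,
            (k' : Matrix (Fin m ⊕ Fin m) (Fin m ⊕ Fin m) F) *ᵥ x ∈ D j := by
          intro k' hk' i
          obtain ⟨x₀, hx₀, hx₀0⟩ := hne0 i
          have hkx₀0 : (k' : Matrix (Fin m ⊕ Fin m) (Fin m ⊕ Fin m) F) *ᵥ x₀ ≠ 0 :=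
            fun h => hx₀0 (hinj k' x₀ h)
          obtain ⟨j, hj⟩ := hpure _ ((hXD i x₀ hx₀).map hMS hk') hkx₀0
          refine ⟨j, fun x hx => ?_⟩
          by_cases hx0 : x = 0
          · rw [hx0, mulVec_zero]
            exact (D j).zero_mem
          have hkx0 : (k' : Matrix (Fin m ⊕ Fin m) (Fin m ⊕ Fin m) F) *ᵥ x ≠ 0 :=
            fun h => hx0 (hinj k' x h)
          obtain ⟨j', hj'⟩ := hpure _ ((hXD i x hx).map hMS hk') hkx0
          by_cases hjj : j' = j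
          · rw [← hjj]
            exact hj'
          · exfalso
            have hsum := (hXD i (x₀ + x) ((D i).add_mem hx₀ hx)).map hMS hk'
            rw [mulVec_add] at hsum
            exact hcon j _ hj _ (hS.hDU j j' (Ne.symm hjj) hj') hkx₀0 hkx0 hsum
        choose τ hτ using hblock g₀ hgM
        choose τ' hτ' using hblock g₀⁻¹ (M.inv_mem hgM)
        have hdisj : ∀ i j x, x ∈ D i → x ∈ D j → x ≠ 0 → i = j := by
          intro i j x hi hj hx0
          by_contra hne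
          exact hx0 (hS.hinter i x hi (hS.hDU i j hne hj))
        have hc1 : ∀ x, ((g₀⁻¹ : GL (Fin m ⊕ Fin m) F) :
            Matrix (Fin m ⊕ Fin m) (Fin m ⊕ Fin m) F) *ᵥ
            ((g₀ : Matrix (Fin m ⊕ Fin m) (Fin m ⊕ Fin m) F) *ᵥ x) = x := fun x => by
          rw [mulVec_mulVec, ← Units.val_mul, inv_mul_cancel, Units.val_one, one_mulVec]
        have hc2 : ∀ x, (g₀ : Matrix (Fin m ⊕ Fin m) (Fin m ⊕ Fin m) F) *ᵥ
            (((g₀⁻¹ : GL (Fin m ⊕ Fin m) F) :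
              Matrix (Fin m ⊕ Fin m) (Fin m ⊕ Fin m) F) *ᵥ x) = x := fun x => by
          rw [mulVec_mulVec, ← Units.val_mul, mul_inv_cancel, Units.val_one, one_mulVec]
        have hl : ∀ i, τ' (τ i) = i := by
          intro i
          obtain ⟨x₀, hx₀, hx₀0⟩ := hne0 i
          have h1 := hτ' (τ i) _ (hτ i x₀ hx₀)
          rw [hc1] at h1
          exact hdisj _ _ x₀ h1 hx₀ hx₀0
        have hr : ∀ j, τ (τ' j) = j := by
          intro j
          obtain ⟨x₀, hx₀, hx₀0⟩ := hne0 j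
          have h1 := hτ (τ' j) _ (hτ' j x₀ hx₀)
          rw [hc2] at h1
          exact hdisj _ _ x₀ h1 hx₀ hx₀0
        apply hgD
        refine ⟨⟨τ, τ', hl, hr⟩, fun i => ?_⟩
        change (D i).map (Matrix.toLin' (g₀ : Matrix (Fin m ⊕ Fin m) (Fin m ⊕ Fin m) F)) =
          D (τ i)
        apply le_antisymm
        · rintro _ ⟨y, hy, rfl⟩
          rw [Matrix.toLin'_apply]
          exact hτ i y hy
        · intro c hc
          refine ⟨((g₀⁻¹ : GL (Fin m ⊕ Fin m) F) :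
            Matrix (Fin m ⊕ Fin m) (Fin m ⊕ Fin m) F) *ᵥ c, ?_, ?_⟩
          · have := hτ' (τ i) c hc
            rwa [hl i] at this
          · rw [Matrix.toLin'_apply, hc2]
      exact spGL_le_of_transvections M (hS.closure_all i₀ (SpX M) hXD
        (fun a b ha hb hab l => SpX.rule hMS ha hb hab l) (fun a ha l => ha.smul l) hswap
        hmixed)

end spdm2

end Cfsg.Agent.Lib.Helper13
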