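import Mathlib
import Cfsg.Agent.Lib.Helper13.UOmDefs
import Cfsg.Agent.Lib.Helper13.SpTsPair
import Cfsg.Agent.Lib.Helper13.S5700FOH

/-!
# Unitary structures on a symplectic space: definitions

`f` is the standard alternating form on `F^(2m)` and `θ` a matrix with `θ² = Δ` (`Δ` a nonsquare,
`2 ≠ 0`) which is skew for `f`: `f (θ u) v = - f u (θ v)`.  Then `K = F[θ]` is a quadratic field,
`S u v = f (θ u) v` is a symmetric form, `φ v = f (θ v) v` is the norm of a `K`-Hermitian form and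
`(φ, θ)` is a unitary structure `UStr φ θ 0 (-Δ)` in the sense of `UOmDefs`.  For a `φ`-singular
`y` the unitary transvection `xu Δ θ y t = T_{y, -Δ t} T_{θ y, t}` is symplectic and commutes with `θ`.
-/

set_option autoImplicit false
set_option linter.unusedSectionVars false
set_option linter.unusedVariables false

namespace Cfsg.Agent.Lib.Helper13.SpU

open Matrix Module QuadraticMap Cfsg.Agent.Lib.Helper6 Cfsg.Agent.Lib.Helper13
open Cfsg.Agent.Lib.Helper13.STP

section defs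
universe u
variable {m : ℕ} {F : Type u} [Field F]

local notation "ff" => Cfsg.sympForm m F
local notation "VV" => (Fin m ⊕ Fin m → F)
local notation "MM" => Matrix (Fin m ⊕ Fin m) (Fin m ⊕ Fin m) F

/-- a quadratic field `F[θ]`, `θ² = Δ`, of matrices which are skew for the symplectic form -/
structure SUStr (θ : MM) (Δ : F) : Prop where
  skew : ∀ u v : VV, ff (θ *ᵥ u) v = - ff u (θ *ᵥ v)
  sq : θ * θ = Δ • (1 : MM)
  nsq : ∀ a : F, a ^ 2 ≠ Δ
  two : (2 : F) ≠ 0

/-- the bilinear map `(u, v) ↦ f (θ u) v` -/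
noncomputable def thetaB (θ : MM) : LinearMap.BilinMap F VV F :=
  LinearMap.mk₂ F (fun u v => ff (θ *ᵥ u) v)
    (fun u u' v => by rw [mulVec_add, sympForm_add_left])
    (fun c u v => by rw [mulVec_smul, sympForm_smul_left, smul_eq_mul])
    (fun u v v' => sympForm_add_right _ v v')
    (fun c u v => by rw [sympForm_smul_right, smul_eq_mul])

theorem thetaB_apply (θ : MM) (u v : VV) : thetaB θ u v = ff (θ *ᵥ u) v := rfl

/-- the Hermitian norm form `v ↦ f (θ v) v` -/
noncomputable def phiQF (θ : MM) : QuadraticForm F VV := (thetaB θ).toQuadraticMap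

theorem phiQF_apply (θ : MM) (v : VV) : phiQF θ v = ff (θ *ᵥ v) v := rfl

variable {θ : Matrix (Fin m ⊕ Fin m) (Fin m ⊕ Fin m) F} {Δ : F}

theorem SUStr.sym (hS : SUStr θ Δ) (u v : VV) : ff (θ *ᵥ u) v = ff (θ *ᵥ v) u := by
  rw [hS.skew u v, sympForm_swap u (θ *ᵥ v), neg_neg]

theorem SUStr.thth (hS : SUStr θ Δ) (x : VV) : θ *ᵥ (θ *ᵥ x) = Δ • x := by
  rw [mulVec_mulVec, hS.sq, smul_mulVec, one_mulVec]

theorem SUStr.ff_tt (hS : SUStr θ Δ) (u v : VV) : ff (θ *ᵥ u) (θ *ᵥ v) = -(Δ * ff u v) := by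
  rw [hS.skew, hS.thth, sympForm_smul_right]

theorem SUStr.delta_ne (hS : SUStr θ Δ) : Δ ≠ 0 := by
  intro h
  exact hS.nsq 0 (by rw [h]; ring)

theorem polar_phiQF (θ : MM) (u v : VV) :
    polar (⇑(phiQF θ)) u v = ff (θ *ᵥ u) v + ff (θ *ᵥ v) u := by
  unfold polar
  simp only [phiQF_apply, mulVec_add, sympForm_add_left, sympForm_add_right]
  ring

theorem SUStr.polar_phi (hS : SUStr θ Δ) (u v : VV) :
    polar (⇑(phiQF θ)) u v = 2 * ff (θ *ᵥ u) v := by
  rw [polar_phiQF, ← hS.sym u v]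
  ring

/-- the norm `x₂² - Δ x₁²` of a nonzero pair is nonzero -/
theorem SUStr.norm_ne (hS : SUStr θ Δ) {x₁ x₂ : F} (h : x₁ ≠ 0 ∨ x₂ ≠ 0) :
    x₂ ^ 2 - Δ * x₁ ^ 2 ≠ 0 := by
  intro h0
  by_cases h1 : x₁ = 0
  · rw [h1] at h0
    have h2 : x₂ ≠ 0 := by tauto
    apply h2
    have : x₂ ^ 2 = 0 := by linear_combination h0
    exact pow_eq_zero_iff (two_ne_zero) |>.mp this
  · apply hS.nsq (x₂ / x₁)
    field_simp
    linear_combination h0

/-- the unitary structure on the quadratic space `(V, φ)` -/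
theorem SUStr.ustr (hS : SUStr θ Δ) : UStr (phiQF θ) θ 0 (-Δ) where
  adj := by
    intro u v
    rw [hS.polar_phi, hS.polar_phi, hS.thth, sympForm_smul_left, hS.ff_tt]
    ring
  sq := by
    rw [hS.sq]
    simp
  sc := by
    intro v
    rw [phiQF_apply, phiQF_apply, hS.ff_tt]
    ring
  pol := by
    intro v
    rw [hS.polar_phi, sympForm_self]
    ring
  irr := by
    intro a h
    apply hS.nsq a
    linear_combination h

theorem SUStr.phi_nondeg (hS : SUStr θ Δ) : (polarBilin (phiQF θ)).Nondegenerate := by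
  have key : ∀ x : VV, (∀ y, polar (⇑(phiQF θ)) x y = 0) → x = 0 := by
    intro x hx
    have h1 : θ *ᵥ x = 0 := by
      apply Cfsg.Agent.Lib.Helper15.stdSymp_nondeg
      intro y
      have := hx y
      rw [hS.polar_phi] at this
      rw [Cfsg.Agent.Lib.Helper15.stdSymp_apply]
      exact (mul_eq_zero.mp this).resolve_left hS.two
    have h2 := hS.thth x
    rw [h1, mulVec_zero] at h2
    exact (smul_eq_zero.mp h2.symm).resolve_left hS.delta_ne
  constructor
  · intro x hx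
    exact key x (fun y => by simpa [polarBilin_apply_apply] using hx y)
  · intro y hy
    exact key y (fun x => by
      have := hy x
      rw [polarBilin_apply_apply, polar_comm] at this
      exact this)

theorem SUStr.mem_KPerp (hS : SUStr θ Δ) {x w : VV} :
    w ∈ KPerp (phiQF θ) θ x ↔ ff x w = 0 ∧ ff (θ *ᵥ x) w = 0 := by
  rw [Cfsg.Agent.Lib.Helper13.mem_KPerp, hS.polar_phi, hS.polar_phi, hS.thth, sympForm_smul_left]
  constructor
  · rintro ⟨h1, h2⟩
    have h1' := (mul_eq_zero.mp h1).resolve_left hS.two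
    have h2' := (mul_eq_zero.mp h2).resolve_left hS.two
    exact ⟨(mul_eq_zero.mp h2').resolve_left hS.delta_ne, h1'⟩
  · rintro ⟨h1, h2⟩
    rw [h1, h2]
    simp

/-! ### root elements -/

/-- `T_{a, -Δ t} T_{b, t}`: for `f a b = 0` it is `z ↦ z + t (f z b • b - Δ f z a • a)` -/
def rootP (Δ : F) (a b : VV) (t : F) : GL (Fin m ⊕ Fin m) F :=
  sympTransvGL a (-(Δ * t)) * sympTransvGL b t

/-- the unitary transvection at the singular vector `y` -/
def xu (Δ : F) (θ : MM) (y : VV) (t : F) : GL (Fin m ⊕ Fin m) F := rootP Δ y (θ *ᵥ y) t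

theorem rootP_mem (Δ : F) (a b : VV) (t : F) : rootP Δ a b t ∈ Cfsg.spGL m F :=
  (Cfsg.spGL m F).mul_mem (sympTransvGL_mem _ _) (sympTransvGL_mem _ _)

theorem xu_mem_sp (Δ : F) (θ : MM) (y : VV) (t : F) : xu Δ θ y t ∈ Cfsg.spGL m F :=
  rootP_mem Δ y _ t

theorem act_rootP (Δ : F) (a b : VV) (hab : ff a b = 0) (t : F) (z : VV) :
    act (rootP Δ a b t) z = z + (t * ff z b) • b - (Δ * t * ff z a) • a := by
  have hba : ff b a = 0 := by rw [sympForm_swap, hab, neg_zero]
  unfold rootP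
  rw [act_mul, act_transv, act_transv, sympForm_add_left, sympForm_smul_left, hba]
  module

theorem SUStr.ff_self_theta (hS : SUStr θ Δ) {y : VV} (hy : phiQF θ y = 0) :
    ff y (θ *ᵥ y) = 0 := by
  rw [sympForm_swap, ← phiQF_apply, hy, neg_zero]

theorem act_xu (hS : SUStr θ Δ) {y : VV} (hy : phiQF θ y = 0) (t : F) (z : VV) :
    act (xu Δ θ y t) z = z + (t * ff z (θ *ᵥ y)) • (θ *ᵥ y) - (Δ * t * ff z y) • y :=
  act_rootP Δ y _ (hS.ff_self_theta hy) t z

/-- conjugating a root element by a symplectic matrix -/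
theorem conj_rootP (Δ : F) (g : GL (Fin m ⊕ Fin m) F) (hg : g ∈ Cfsg.spGL m F) (a b : VV) (t : F) :
    g * rootP Δ a b t * g⁻¹ = rootP Δ (act g a) (act g b) t := by
  unfold rootP
  have : g * (sympTransvGL a (-(Δ * t)) * sympTransvGL b t) * g⁻¹ =
      (g * sympTransvGL a (-(Δ * t)) * g⁻¹) * (g * sympTransvGL b t * g⁻¹) := by group
  rw [this, conj_sympTransvGL g hg, conj_sympTransvGL g hg]
  rfl

/-- the unitary transvections commute with `θ` -/
theorem act_xu_theta (hS : SUStr θ Δ) {y : VV} (hy : phiQF θ y = 0) (t : F) (z : VV) :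
    act (xu Δ θ y t) (θ *ᵥ z) = θ *ᵥ (act (xu Δ θ y t) z) := by
  rw [act_xu hS hy, act_xu hS hy, mulVec_sub, mulVec_add, mulVec_smul, mulVec_smul, hS.thth,
    hS.ff_tt, hS.skew z y]
  module

/-- vectors orthogonal to the `K`-line of `y` are fixed -/
theorem act_xu_of_perp (hS : SUStr θ Δ) {y : VV} (hy : phiQF θ y = 0) (t : F) {z : VV}
    (h1 : ff z y = 0) (h2 : ff z (θ *ᵥ y) = 0) : act (xu Δ θ y t) z = z := by
  rw [act_xu hS hy, h1, h2]
  simp

/-- `f z (x z)` for a unitary transvection `x` -/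
theorem ff_act_xu (hS : SUStr θ Δ) {y : VV} (hy : phiQF θ y = 0) (t : F) (z : VV) :
    ff z (act (xu Δ θ y t) z) = t * (ff z (θ *ᵥ y) ^ 2 - Δ * ff z y ^ 2) := by
  rw [act_xu hS hy, sympForm_sub_right, sympForm_add_right, sympForm_smul_right,
    sympForm_smul_right, sympForm_self]
  ring

/-- the unitary transvections normalise `K = F[θ]` -/
theorem xu_mem_normalizer (hS : SUStr θ Δ) (K : Subalgebra F MM)
    (hKθ : ∀ k : MM, k ∈ K ↔ ∃ a b : F, k = a • (1 : MM) + b • θ)
    {y : VV} (hy : phiQF θ y = 0) (t : F) :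
    xu Δ θ y t ∈ Cfsg.Geo.subalgebraNormalizer K := by
  apply mem_normalizer_of_comm K hKθ
  apply Matrix.toLin'.injective
  apply LinearMap.ext
  intro z
  rw [Matrix.toLin'_apply, Matrix.toLin'_apply, ← mulVec_mulVec, ← mulVec_mulVec]
  exact act_xu_theta hS hy t z

/-- the involution `-1` on the hyperbolic plane `⟨p, p'⟩`, as a product of six transvections -/
def invW (p p' : VV) : GL (Fin m ⊕ Fin m) F :=
  (sympTransvGL p 1 * sympTransvGL p' ((ff p p')⁻¹ ^ 2) * sympTransvGL p 1) ^ 2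

theorem invW_mem (p p' : VV) : invW p p' ∈ Cfsg.spGL m F :=
  (Cfsg.spGL m F).pow_mem ((Cfsg.spGL m F).mul_mem ((Cfsg.spGL m F).mul_mem
    (sympTransvGL_mem _ _) (sympTransvGL_mem _ _)) (sympTransvGL_mem _ _)) 2

end defs

end Cfsg.Agent.Lib.Helper13.SpU
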