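import Mathlib
import Cfsg.Agent.Lib.Helper13.ZassB

/-!
Farm-out lemma (B) for helper28's S1666 (helper13): the parameters of a strongly regular graph
on `100` vertices of degree `22` are `(λ, μ) = (0, 6)` (integrality of eigenvalue multiplicities).
Also a general integrality statement `srg_trace_nat`.
-/

set_option autoImplicit false

namespace Cfsg.Agent.Lib.Helper13.Srg100

open Matrix Cfsg.Agent.Lib.Helper13.ZassB

/-- multiplication in the span of `1, A, J` (general `μ`) -/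
theorem lin_mul' {ι : Type*} [Fintype ι] [DecidableEq ι] (A J : Matrix ι ι ℝ) (c p μ k v : ℝ)
    (hAA : A * A = c • (1 : Matrix ι ι ℝ) + p • A + μ • J)
    (hAJ : A * J = k • J) (hJA : J * A = k • J) (hJJ : J * J = v • J)
    (a1 a2 a3 b1 b2 b3 : ℝ) :
    (a1 • (1 : Matrix ι ι ℝ) + a2 • A + a3 • J) * (b1 • (1 : Matrix ι ι ℝ) + b2 • A + b3 • J) =
      (a1 * b1 + a2 * b2 * c) • (1 : Matrix ι ι ℝ) + (a1 * b2 + a2 * b1 + a2 * b2 * p) • A +
      (a1 * b3 + a3 * b1 + μ * (a2 * b2) + a2 * b3 * k + a3 * b2 * k + a3 * b3 * v) • J := by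
  simp only [add_mul, mul_add, smul_mul_assoc, mul_smul_comm, one_mul, mul_one, hAA, hAJ, hJA,
    hJJ, smul_add, smul_smul]
  module

/-- integrality of the multiplicity of the eigenvalue `θ` of a strongly regular graph with
`A² = c + pA + μJ`, whose other eigenvalue on `1^⊥` is `τ` -/
theorem srg_trace_nat {ι : Type*} [Fintype ι] [DecidableEq ι] [Nonempty ι]
    (A : Matrix ι ι ℝ) (hA : A.IsSymm)
    (h01 : ∀ i j, A i j = 0 ∨ A i j = 1) (hdiag : ∀ i, A i i = 0) (c p μ θ τ : ℝ)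
    (hsq : A * A = c • (1 : Matrix ι ι ℝ) + p • A + μ • Matrix.of (fun _ _ => (1 : ℝ)))
    (hsum : θ + τ = p) (hprod : θ * τ = -c) (hne : θ ≠ τ) :
    ∃ N : ℕ, (-τ * ((Fintype.card ι : ℝ) - 1) - (c + μ)) = (N : ℝ) * (θ - τ) := by
  obtain ⟨J, hJ⟩ : ∃ J : Matrix ι ι ℝ, J = Matrix.of (fun _ _ => (1 : ℝ)) := ⟨_, rfl⟩
  rw [← hJ] at hsq
  obtain ⟨v, hv⟩ : ∃ v : ℝ, v = (Fintype.card ι : ℝ) := ⟨_, rfl⟩
  rw [← hv]
  have hv1 : 1 ≤ v := by
    rw [hv]
    exact_mod_cast Fintype.card_pos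
  have hJapp : ∀ i j, J i j = 1 := fun i j => by rw [hJ]; rfl
  obtain ⟨k, hk⟩ : ∃ k : ℝ, k = c + μ := ⟨_, rfl⟩
  have hrow : ∀ i, ∑ j, A i j = k := by
    intro i
    have h := congrFun (congrFun hsq i) i
    rw [Matrix.mul_apply] at h
    simp only [Matrix.add_apply, Matrix.smul_apply, Matrix.one_apply_eq, smul_eq_mul, hdiag,
      hJapp] at h
    have hsum' : ∑ j, A i j * A j i = ∑ j, A i j := by
      apply Finset.sum_congr rfl
      intro j _
      rw [hA.apply i j]
      rcases h01 i j with h0 | h1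
      · rw [h0]; ring
      · rw [h1]; ring
    rw [hsum'] at h
    rw [hk]
    linarith
  have hAJ : A * J = k • J := by
    ext i j
    rw [Matrix.mul_apply, Matrix.smul_apply, hJapp, smul_eq_mul, mul_one, ← hrow i]
    apply Finset.sum_congr rfl
    intro l _
    rw [hJapp, mul_one]
  have hJA : J * A = k • J := by
    ext i j
    rw [Matrix.mul_apply, Matrix.smul_apply, hJapp, smul_eq_mul, mul_one, ← hrow j]
    apply Finset.sum_congr rfl
    intro l _
    rw [hJapp, one_mul, hA.apply j l]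
  have hJJ : J * J = v • J := by
    ext i j
    rw [Matrix.mul_apply, Matrix.smul_apply, hJapp, smul_eq_mul, mul_one, hv]
    simp [hJapp]
  have hv4 : μ * v = k ^ 2 - p * k - c := by
    have h1 : (A * A) * J = (k ^ 2) • J := by
      rw [Matrix.mul_assoc, hAJ, Matrix.mul_smul, hAJ, smul_smul, ← pow_two]
    have h2 : (A * A) * J = (c + p * k + μ * v) • J := by
      rw [hsq, add_mul, add_mul, smul_mul_assoc, smul_mul_assoc, smul_mul_assoc, one_mul, hAJ,
        hJJ, smul_smul, smul_smul, ← add_smul, ← add_smul]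
    obtain ⟨i⟩ := ‹Nonempty ι›
    have h3 := congrFun (congrFun (h1.symm.trans h2) i) i
    simp only [Matrix.smul_apply, hJapp, smul_eq_mul, mul_one] at h3
    linarith
  obtain ⟨a1, ha1⟩ : ∃ a1 : ℝ, a1 = -(τ * v) := ⟨_, rfl⟩
  obtain ⟨a3, ha3⟩ : ∃ a3 : ℝ, a3 = -(k - τ) := ⟨_, rfl⟩
  obtain ⟨N, hN⟩ : ∃ N : Matrix ι ι ℝ, N = a1 • (1 : Matrix ι ι ℝ) + v • A + a3 • J := ⟨_, rfl⟩
  have hp : p = θ + τ := hsum.symm
  have hc : c = -(θ * τ) := by linarith
  have hNN : N * N = (v * (θ - τ)) • N := by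
    rw [hN, lin_mul' A J _ _ _ _ _ hsq hAJ hJA hJJ]
    have e1 : a1 * a1 + v * v * c = (v * (θ - τ)) * a1 := by
      rw [ha1, hc]; ring
    have e2 : a1 * v + v * a1 + v * v * p = (v * (θ - τ)) * v := by
      rw [ha1, hp]; ring
    have e3 : a1 * a3 + a3 * a1 + μ * (v * v) + v * a3 * k + a3 * v * k + a3 * a3 * v =
        (v * (θ - τ)) * a3 := by
      rw [ha1, ha3]
      rw [hp, hc] at hv4
      linear_combination v * hv4
    rw [e1, e2, e3]
    module
  have hθτ : θ - τ ≠ 0 := sub_ne_zero.mpr hne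
  have hv0 : v ≠ 0 := by positivity
  have hvθ : v * (θ - τ) ≠ 0 := mul_ne_zero hv0 hθτ
  have hE : ((1 / (v * (θ - τ))) • N) * ((1 / (v * (θ - τ))) • N) = (1 / (v * (θ - τ))) • N := by
    rw [smul_mul_assoc, mul_smul_comm, hNN, smul_smul, smul_smul]
    congr 1
    field_simp
  obtain ⟨m, hm⟩ := trace_idem_nat _ hE
  have htrA : A.trace = 0 := by
    simp [Matrix.trace, hdiag]
  have htrJ : J.trace = v := by
    rw [hv]
    simp [Matrix.trace, hJapp]
  have htr : ((1 / (v * (θ - τ))) • N).trace = (1 / (v * (θ - τ))) * (a1 * v + a3 * v) := by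
    rw [Matrix.trace_smul, hN, Matrix.trace_add, Matrix.trace_add, Matrix.trace_smul,
      Matrix.trace_smul, Matrix.trace_smul, htrA, htrJ, Matrix.trace_one, ← hv]
    simp only [smul_eq_mul]
    ring
  rw [htr] at hm
  refine ⟨m, ?_⟩
  rw [ha1, ha3] at hm
  field_simp at hm
  rw [← hk]
  linear_combination hm

theorem not_isSquare_14 : ¬ IsSquare 14 := by
  rintro ⟨r, hr⟩
  have h1 : r ≤ 3 := by nlinarith
  interval_cases r <;> omega

/-- FO (B) of S1666 -/
theorem srg_100_22_params {V : Type*} [Fintype V] [DecidableEq V] (Γ : SimpleGraph V)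
    [DecidableRel Γ.Adj] (l m : ℕ) (h : Γ.IsSRGWith 100 22 l m) : l = 0 ∧ m = 6 := by
  have hcard : Fintype.card V = 100 := h.card
  haveI : Nonempty V := by
    rw [← Fintype.card_pos_iff, hcard]; norm_num
  -- the parameter equation and the bound on `l`
  have hpar := SimpleGraph.IsSRGWith.param_eq Γ h (by norm_num)
  have hl : l ≤ 21 := by
    obtain ⟨v⟩ := ‹Nonempty V›
    have hdeg : Γ.degree v = 22 := h.regular v
    have hpos : 0 < Γ.degree v := by rw [hdeg]; norm_num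
    obtain ⟨w, hw⟩ := (Γ.degree_pos_iff_exists_adj v).mp hpos
    have h1 := hw.card_commonNeighbors_lt_degree
    rw [h.of_adj v w hw, hdeg] at h1
    omega
  have hcases : (l = 0 ∧ m = 6) ∨ (l = 7 ∧ m = 4) ∨ (l = 14 ∧ m = 2) ∨ (l = 21 ∧ m = 0) := by
    interval_cases l <;> omega
  -- the adjacency matrix
  obtain ⟨A, hAdef⟩ : ∃ A : Matrix V V ℝ, A = Γ.adjMatrix ℝ := ⟨_, rfl⟩
  have hA : A.IsSymm := by rw [hAdef]; exact Γ.isSymm_adjMatrix
  have h01 : ∀ i j, A i j = 0 ∨ A i j = 1 := by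
    intro i j
    rw [hAdef, SimpleGraph.adjMatrix_apply]
    split_ifs
    · right; rfl
    · left; rfl
  have hdiag : ∀ i, A i i = 0 := by
    intro i
    rw [hAdef, SimpleGraph.adjMatrix_apply, if_neg (Γ.irrefl)]
  have hcompl : Γᶜ.adjMatrix ℝ = Matrix.of (fun _ _ => (1 : ℝ)) - 1 - A := by
    ext i j
    simp only [hAdef, Matrix.sub_apply, SimpleGraph.adjMatrix_apply, Matrix.of_apply,
      Matrix.one_apply, SimpleGraph.compl_adj]
    by_cases hij : i = j
    · subst hij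
      simp
    · by_cases hadj : Γ.Adj i j
      · simp [hij, hadj]
      · simp [hij, hadj]
  have hsq : A * A = ((22 : ℝ) - m) • (1 : Matrix V V ℝ) + ((l : ℝ) - m) • A +
      (m : ℝ) • Matrix.of (fun _ _ => (1 : ℝ)) := by
    have h2 := h.matrix_eq (α := ℝ)
    rw [hcompl, ← hAdef, pow_two, ← Nat.cast_smul_eq_nsmul ℝ 22, ← Nat.cast_smul_eq_nsmul ℝ l,
      ← Nat.cast_smul_eq_nsmul ℝ m] at h2
    rw [h2]
    push_cast
    module
  rcases hcases with h0 | ⟨rfl, rfl⟩ | ⟨rfl, rfl⟩ | ⟨rfl, rfl⟩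
  · exact h0
  · -- (7, 4): eigenvalues 6, -3
    exfalso
    obtain ⟨N, hN⟩ := srg_trace_nat A hA h01 hdiag _ _ _ 6 (-3) hsq (by push_cast; norm_num)
      (by push_cast; norm_num) (by norm_num)
    rw [hcard] at hN
    push_cast at hN
    have h9 : (275 : ℝ) = ((9 * N : ℕ) : ℝ) := by push_cast; linarith
    have h9' : 275 = 9 * N := by exact_mod_cast h9
    omega
  · -- (14, 2): eigenvalues 6 ± 2√14
    exfalso
    obtain ⟨s, hs⟩ : ∃ s : ℝ, s = Real.sqrt ((14 : ℕ) : ℝ) := ⟨_, rfl⟩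
    have hss : s * s = 14 := by
      rw [hs, Real.mul_self_sqrt (by positivity)]
      norm_num
    have hspos : 0 < s := by
      rw [hs]; apply Real.sqrt_pos.mpr; norm_num
    obtain ⟨N, hN⟩ := srg_trace_nat A hA h01 hdiag _ _ _ (6 + 2 * s) (6 - 2 * s) hsq
      (by push_cast; ring) (by push_cast; linear_combination (-4 : ℝ) * hss)
      (by intro h; linarith)
    rw [hcard] at hN
    push_cast at hN
    -- hN : -(6 - 2s) * 99 - (20 + 2) = N * (4 s)
    have hkey : s * (198 - 4 * (N : ℝ)) = 616 := by linear_combination hN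
    have hfac : (198 - 4 * (N : ℝ)) ≠ 0 := by
      intro h0
      rw [h0, mul_zero] at hkey
      norm_num at hkey
    have hirr : Irrational (Real.sqrt ((14 : ℕ) : ℝ)) :=
      irrational_sqrt_natCast_iff.mpr not_isSquare_14
    unfold Irrational at hirr
    apply hirr
    refine ⟨616 / (198 - 4 * (N : ℚ)), ?_⟩
    rw [← hs]
    push_cast
    rw [div_eq_iff hfac]
    linarith
  · -- (21, 0): eigenvalues 22, -1
    exfalso
    obtain ⟨N, hN⟩ := srg_trace_nat A hA h01 hdiag _ _ _ 22 (-1) hsq (by push_cast; norm_num)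
      (by push_cast; norm_num) (by norm_num)
    rw [hcard] at hN
    push_cast at hN
    have h9 : (77 : ℝ) = ((23 * N : ℕ) : ℝ) := by push_cast; linarith
    have h9' : 77 = 23 * N := by exact_mod_cast h9
    omega

end Cfsg.Agent.Lib.Helper13.Srg100
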