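import Cfsg.Agent.Lib.Helper13.StCCBBMDefs

set_option autoImplicit false

/-! Piece [BM] of Steinberg's Theorem 10, PART B: the table and the certificate for `chevG2`. -/

namespace Cfsg.Agent.Lib.Helper14.StCC.B.Helper13

open Cfsg.Lie Cfsg.Agent.Lib.Helper8.Chev

set_option maxHeartbeats 0 in
/-- the vectors `(aco D (D.simple i) s)_i` for `chevG2` -/
def tabG2 : List (List ℤ) :=
  [[0, -1], [-3, 1], [-1, 0], [1, -1], [-2, 1], [3, -2], [-3, 2], [2, -1], [-1, 1], [1, 0], [3, -1],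
  [0, 1]]

set_option maxHeartbeats 0 in
/-- for every root `r` a few coroot vectors orthogonal to `r` -/
def certG2 : List (List (List ℤ)) :=
  [[[1, 0]], [[1, 3]], [[0, 1]], [[1, 1]], [[1, 2]], [[2, 3]], [[2, 3]], [[1, 2]], [[1, 1]], [[0, 1]],
  [[1, 3]], [[1, 0]]]

theorem checkTab_G2 : checkTab chevG2 tabG2 = true := by decide +kernel

theorem checkCert_G2 : checkCert chevG2.nroots tabG2 certG2 = true := by decide +kernel

end Cfsg.Agent.Lib.Helper14.StCC.B.Helper13

namespace Cfsg.Agent.Lib.Helper14.StCC.B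

open Cfsg.Lie Cfsg.Agent.Lib.Helper8.Chev

/-- [BM] for `G₂` alone (all that S2100 needs); this file imports no table of another type -/
theorem exists_perp_G2 {r s : ℕ} (hr : r < chevG2.nroots) (hs : s < chevG2.nroots) (h1 : s ≠ r)
    (h2 : s ≠ chevG2.neg r) :
    ∃ m : ℕ → ℤ, wt chevG2 m r = 0 ∧ wt chevG2 m s ≠ 0 ∧ -3 ≤ wt chevG2 m s ∧ wt chevG2 m s ≤ 3 :=
  Helper13.exists_perp_of_check validJ_G2.V Helper13.checkTab_G2 Helper13.checkCert_G2 hr hs h1 h2

end Cfsg.Agent.Lib.Helper14.StCC.B
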