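import Mathlib
import Cfsg.Prelude.Def_Classical
import Cfsg.Prelude.Def_Characters
import Cfsg.Agent.Lib.Helper2.BurnsidePQ

/-!
# The degenerate case `m = 1` of the plus-type orthogonal groups (helper13 library)

The isometry group of the hyperbolic plane `x * y` consists of monomial matrices, so its
commutator subgroup is commutative and `POmega` of it is the trivial group.
-/

set_option autoImplicit false

namespace Cfsg.Agent.Lib.Helper13.SteinbergPlusOne

open Matrix

section

variable {F : Type*} [Field F]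

/-- The index type of the hyperbolic plane. -/
abbrev I2 : Type := Fin 1 ⊕ Fin 1

theorem quad_apply (v : I2 → F) :
    Cfsg.quadFormPlus 1 F v = v (.inl 0) * v (.inr 0) := by
  simp [Cfsg.quadFormPlus]

theorem mulVec_apply2 (M : Matrix I2 I2 F) (v : I2 → F) (i : I2) :
    (M *ᵥ v) i = M i (.inl 0) * v (.inl 0) + M i (.inr 0) * v (.inr 0) := by
  simp [Matrix.mulVec, dotProduct, Fintype.sum_sum_type]

theorem mul_apply2 (M N : Matrix I2 I2 F) (i j : I2) :
    (M * N) i j = M i (.inl 0) * N (.inl 0) j + M i (.inr 0) * N (.inr 0) j := by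
  simp [Matrix.mul_apply, Fintype.sum_sum_type]

/-- The matrix of an isometry. -/
def mat (g : Cfsg.isometryGroup F (Cfsg.quadFormPlus 1 F)) : Matrix I2 I2 F :=
  ((g : GL I2 F) : Matrix I2 I2 F)

theorem mat_mul (g h : Cfsg.isometryGroup F (Cfsg.quadFormPlus 1 F)) :
    mat (g * h) = mat g * mat h := by
  simp [mat]

theorem mat_one : mat (1 : Cfsg.isometryGroup F (Cfsg.quadFormPlus 1 F)) = 1 := by
  simp [mat]

theorem mat_preserve (g : Cfsg.isometryGroup F (Cfsg.quadFormPlus 1 F)) (v : I2 → F) :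
    Cfsg.quadFormPlus 1 F (mat g *ᵥ v) = Cfsg.quadFormPlus 1 F v :=
  g.2 v v

theorem entries (g : Cfsg.isometryGroup F (Cfsg.quadFormPlus 1 F)) :
    mat g (.inl 0) (.inl 0) * mat g (.inr 0) (.inl 0) = 0 ∧
    mat g (.inl 0) (.inr 0) * mat g (.inr 0) (.inr 0) = 0 ∧
    mat g (.inl 0) (.inl 0) * mat g (.inr 0) (.inr 0) +
      mat g (.inl 0) (.inr 0) * mat g (.inr 0) (.inl 0) = 1 := by
  have h1 := mat_preserve g (Sum.elim (fun _ => 1) (fun _ => 0))
  have h2 := mat_preserve g (Sum.elim (fun _ => 0) (fun _ => 1))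
  have h3 := mat_preserve g (fun _ => 1)
  simp only [quad_apply, mulVec_apply2, Sum.elim_inl, Sum.elim_inr, mul_one, mul_zero, add_zero,
    zero_add] at h1 h2 h3
  refine ⟨h1, h2, ?_⟩
  linear_combination h3 - h1 - h2

open Classical in
/-- The sign of a monomial isometry: `1` on diagonal ones, `-1` on antidiagonal ones. -/
noncomputable def sgn : Cfsg.isometryGroup F (Cfsg.quadFormPlus 1 F) →* ℤˣ where
  toFun g := if mat g (.inr 0) (.inl 0) = 0 then 1 else -1
  map_one' := by simp [mat_one]
  map_mul' g h := by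
    obtain ⟨g1, g2, g3⟩ := entries g
    obtain ⟨h1, h2, h3⟩ := entries h
    rw [mat_mul, mul_apply2]
    by_cases hg : mat g (.inr 0) (.inl 0) = 0
    · by_cases hh : mat h (.inr 0) (.inl 0) = 0
      · simp [hg, hh]
      · have hd : mat g (.inr 0) (.inr 0) ≠ 0 := by
          intro h0
          rw [hg, h0] at g3
          simp at g3
        simp [hg, hh, hd]
    · have ha : mat g (.inl 0) (.inl 0) = 0 := by
        rcases mul_eq_zero.mp g1 with h0 | h0
        · exact h0
        · exact absurd h0 hg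
      by_cases hh : mat h (.inr 0) (.inl 0) = 0
      · have hah : mat h (.inl 0) (.inl 0) ≠ 0 := by
          intro h0
          rw [hh, h0] at h3
          simp at h3
        simp [hg, hh, hah]
      · have hah : mat h (.inl 0) (.inl 0) = 0 := by
          rcases mul_eq_zero.mp h1 with h0 | h0
          · exact h0
          · exact absurd h0 hh
        have hdg : mat g (.inr 0) (.inr 0) = 0 := by
          rw [ha] at g3
          have hb : mat g (.inl 0) (.inr 0) ≠ 0 := by
            intro h0
            rw [h0] at g3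
            simp at g3
          rcases mul_eq_zero.mp g2 with h0 | h0
          · exact absurd h0 hb
          · exact h0
        simp [hg, hh, hah, hdg]

theorem diag_of_mem_ker {g : Cfsg.isometryGroup F (Cfsg.quadFormPlus 1 F)}
    (hg : g ∈ (sgn (F := F)).ker) :
    mat g (.inr 0) (.inl 0) = 0 ∧ mat g (.inl 0) (.inr 0) = 0 := by
  obtain ⟨g1, g2, g3⟩ := entries g
  have hc : mat g (.inr 0) (.inl 0) = 0 := by
    by_contra hne
    have h1 : sgn (F := F) g = -1 := by
      simp [sgn, hne]
    rw [MonoidHom.mem_ker] at hg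
    rw [hg] at h1
    exact absurd h1 (by decide)
  refine ⟨hc, ?_⟩
  rw [hc] at g3
  have hd : mat g (.inr 0) (.inr 0) ≠ 0 := by
    intro h0
    rw [h0] at g3
    simp at g3
  rcases mul_eq_zero.mp g2 with h0 | h0
  · exact h0
  · exact absurd h0 hd

theorem omega_comm (x y : Cfsg.Omega F (Cfsg.quadFormPlus 1 F)) : x * y = y * x := by
  have hx : (x : Cfsg.isometryGroup F (Cfsg.quadFormPlus 1 F)) ∈ (sgn (F := F)).ker :=
    Abelianization.commutator_subset_ker sgn x.2
  have hy : (y : Cfsg.isometryGroup F (Cfsg.quadFormPlus 1 F)) ∈ (sgn (F := F)).ker :=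
    Abelianization.commutator_subset_ker sgn y.2
  obtain ⟨cx, bx⟩ := diag_of_mem_ker hx
  obtain ⟨cy, by'⟩ := diag_of_mem_ker hy
  have key : mat (x.1 * y.1) = mat (y.1 * x.1) := by
    rw [mat_mul, mat_mul]
    ext i j
    rw [mul_apply2, mul_apply2]
    rcases i with i | i <;> rcases j with j | j <;>
      (obtain rfl : i = 0 := Subsingleton.elim _ _
       obtain rfl : j = 0 := Subsingleton.elim _ _
       simp [bx, cx, by', cy, mul_comm])
  apply Subtype.ext
  apply Subtype.ext
  apply Units.ext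
  exact key

theorem pomega_eq_one (x : Cfsg.POmega F (Cfsg.quadFormPlus 1 F)) : x = 1 := by
  induction x using QuotientGroup.induction_on with
  | H g =>
    rw [QuotientGroup.eq_one_iff, Subgroup.mem_center_iff]
    intro h
    exact omega_comm h g

end

/-- The Steinberg character of the (trivial) group `POmega^+_2(q)`. -/
theorem steinberg_plus_one {F : Type*} [Field F] [Fintype F] (p : ℕ) [Fact p.Prime] [CharP F p] :
    ∃ χ : Cfsg.POmega F (Cfsg.quadFormPlus 1 F) → ℂ,
      Cfsg.IsIrrCharacter (Cfsg.POmega F (Cfsg.quadFormPlus 1 F)) χ ∧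
      ∀ P : Sylow p (Cfsg.POmega F (Cfsg.quadFormPlus 1 F)), χ 1 = Nat.card P ∧
        ∀ x : Cfsg.POmega F (Cfsg.quadFormPlus 1 F), x ∈ P → x ≠ 1 → χ x = 0 := by
  refine ⟨fun _ => 1, Cfsg.Agent.Lib.Helper2.isIrrCharacter_one, fun P => ⟨?_, ?_⟩⟩
  · have h1 : Nat.card P = 1 :=
      Nat.card_eq_one_iff_unique.mpr
        ⟨⟨fun a b => Subtype.ext ((pomega_eq_one a.1).trans (pomega_eq_one b.1).symm)⟩, ⟨1⟩⟩
    rw [h1]
    simp
  · intro x _ hx
    exact absurd (pomega_eq_one x) hx

end Cfsg.Agent.Lib.Helper13.SteinbergPlusOne
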