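import Mathlib

/-!
# Faithful irreducible modules over the field with two elements for `3^2 : D_8`

Hands-on computations with a representation `ρ` of a group `S` generated by elements
`a, b, r, s` subject to the relations of `3^2 : D_8`.
-/

set_option autoImplicit false
set_option linter.unusedSimpArgs false

namespace Cfsg.Agent.Lib.Helper13.T9D8

variable {S : Type*} [Group S] {M : Type*} [AddCommGroup M] [Module (ZMod 2) M]

/-! ### generalities on representations -/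

theorem rho_mul_apply (ρ : Representation (ZMod 2) S M) (g h : S) (m : M) :
    ρ (g * h) m = ρ g (ρ h m) := by
  rw [map_mul]; rfl

theorem rho_one_apply (ρ : Representation (ZMod 2) S M) (m : M) : ρ (1 : S) m = m := by
  rw [map_one]; rfl

theorem rho_comm (ρ : Representation (ZMod 2) S M) {g₁ g₂ g₃ g₄ : S} (h : g₁ * g₂ = g₃ * g₄)
    (m : M) : ρ g₁ (ρ g₂ m) = ρ g₃ (ρ g₄ m) := by
  rw [← rho_mul_apply, ← rho_mul_apply, h]

theorem rho_sq (ρ : Representation (ZMod 2) S M) (g : S) (m : M) :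
    ρ (g ^ 2) m = ρ g (ρ g m) := by
  rw [pow_two, rho_mul_apply]

theorem rho_injective (ρ : Representation (ZMod 2) S M) (g : S) : Function.Injective (ρ g) := by
  intro x y h
  have h2 := congrArg (ρ g⁻¹) h
  rwa [← rho_mul_apply, ← rho_mul_apply, inv_mul_cancel, rho_one_apply, rho_one_apply] at h2

theorem zmod2_cases' : ∀ x : ZMod 2, x = 0 ∨ x = 1 := by decide

theorem zmod2_add_cancel : ∀ p q : ZMod 2, p + q = p → q = 0 := by decide

theorem pow_four_eq (x : S) : x ^ 4 = x * (x * (x * x)) := by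
  rw [show (4 : ℕ) = 3 + 1 from rfl, pow_succ, pow_three, mul_assoc, mul_assoc]

theorem char2_eq_of_add_eq_zero {x y : M} (h : x + y = 0) : x = y := by
  calc x = x + (y + y) := by rw [ZModModule.add_self, add_zero]
    _ = (x + y) + y := by rw [add_assoc]
    _ = y := by rw [h, zero_add]

/-- an involution acting on a nonzero subspace (given by an additive predicate) of an
`𝔽₂`-space fixes a nonzero vector of it -/
theorem exists_fixed (ρ : Representation (ZMod 2) S M) (t : S) (ht : t * t = 1) (P : M → Prop)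
    (hadd : ∀ x y, P x → P y → P (x + y)) (hP : ∀ x, P x → P (ρ t x))
    (v₀ : M) (hv₀ : v₀ ≠ 0) (hPv : P v₀) : ∃ v : M, v ≠ 0 ∧ P v ∧ ρ t v = v := by
  by_cases h : ρ t v₀ = v₀
  · exact ⟨v₀, hv₀, hPv, h⟩
  · refine ⟨v₀ + ρ t v₀, ?_, hadd _ _ hPv (hP _ hPv), ?_⟩
    · intro h0
      exact h (char2_eq_of_add_eq_zero h0).symm
    · rw [map_add, ← rho_mul_apply, ht, rho_one_apply, add_comm]

/-- stability of a submodule under a finite group follows from stability under generators -/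
theorem stable_of_closure [Finite S] (ρ : Representation (ZMod 2) S M)
    (N : Submodule (ZMod 2) M) (T : Set S) (hT : Subgroup.closure T = (⊤ : Subgroup S))
    (h : ∀ t ∈ T, ∀ m ∈ N, ρ t m ∈ N) : ∀ g : S, ∀ m ∈ N, ρ g m ∈ N := by
  intro g
  have hg : g ∈ Subgroup.closure T := by rw [hT]; trivial
  refine Subgroup.closure_induction (p := fun g _ => ∀ m ∈ N, ρ g m ∈ N) ?_ ?_ ?_ ?_ hg
  · intro x hx
    exact h x hx
  · intro m hm
    rw [rho_one_apply]; exact hm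
  · intro x y _ _ hx hy m hm
    rw [rho_mul_apply]; exact hx _ (hy m hm)
  · intro x _ hx
    have hpow : ∀ n : ℕ, ∀ m ∈ N, ρ (x ^ n) m ∈ N := by
      intro n
      induction n with
      | zero => intro m hm; rw [pow_zero, rho_one_apply]; exact hm
      | succ n ih => intro m hm; rw [pow_succ, rho_mul_apply]; exact ih _ (hx m hm)
    have hxinv : x⁻¹ = x ^ (orderOf x - 1) := by
      have hpos := orderOf_pos x
      apply inv_eq_of_mul_eq_one_right
      rw [← pow_succ', Nat.sub_add_cancel hpos, pow_orderOf_eq_one]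
    rw [hxinv]; exact hpow _

theorem span_stable (f : M →ₗ[ZMod 2] M) (T : Set M)
    (h : ∀ t ∈ T, f t ∈ Submodule.span (ZMod 2) T) :
    ∀ m ∈ Submodule.span (ZMod 2) T, f m ∈ Submodule.span (ZMod 2) T := by
  intro m hm
  exact (Submodule.map_span_le f T _).2 h (Submodule.mem_map_of_mem hm)

/-! ### the norm operator of an element of order three -/

/-- `1 + x + x²` -/
def eop (ρ : Representation (ZMod 2) S M) (x : S) : M →ₗ[ZMod 2] M := 1 + ρ x + ρ (x ^ 2)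

theorem eop_apply (ρ : Representation (ZMod 2) S M) (x : S) (m : M) :
    eop ρ x m = m + ρ x m + ρ (x ^ 2) m := rfl

theorem eop_fixed (ρ : Representation (ZMod 2) S M) (x : S) (hx : x ^ 3 = 1) (m : M) :
    ρ x (eop ρ x m) = eop ρ x m := by
  have h3 : ρ x (ρ (x ^ 2) m) = m := by
    rw [← rho_mul_apply, show x * x ^ 2 = x ^ 3 by group, hx, rho_one_apply]
  rw [eop_apply, map_add, map_add, h3, ← rho_sq]
  abel

theorem eop_of_fixed (ρ : Representation (ZMod 2) S M) (x : S) (m : M) (h : ρ x m = m) :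
    eop ρ x m = m := by
  rw [eop_apply, rho_sq, h, h, ZModModule.add_self, zero_add]

theorem eop_conj (ρ : Representation (ZMod 2) S M) {g x y : S} (h : g * x * g⁻¹ = y) (m : M) :
    ρ g (eop ρ x m) = eop ρ y (ρ g m) := by
  have h1 : g * x = y * g := by rw [← h]; group
  have h2 : g * x ^ 2 = y ^ 2 * g := by
    rw [← h]
    simp only [pow_two, mul_assoc, inv_mul_cancel_left, inv_mul_cancel, mul_one]
  rw [eop_apply, eop_apply, map_add, map_add, rho_comm ρ h1, rho_comm ρ h2]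

theorem eop_sq (ρ : Representation (ZMod 2) S M) (x : S) (hx : x ^ 3 = 1) (m : M) :
    eop ρ (x ^ 2) m = eop ρ x m := by
  have h : (x ^ 2) ^ 2 = x := by
    calc (x ^ 2) ^ 2 = x ^ 3 * x := by group
      _ = x := by rw [hx, one_mul]
  rw [eop_apply, eop_apply, h]
  abel

/-! ### the relations of `3^2 : D_8` -/

/-- the defining relations -/
structure Rel (a b r s : S) : Prop where
  ha3 : a ^ 3 = 1
  hb3 : b ^ 3 = 1
  hab : a * b = b * a
  hr4 : r ^ 4 = 1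
  hs2 : s ^ 2 = 1
  hsr : s * r * s⁻¹ = r⁻¹
  hsa : s * a * s⁻¹ = a
  hsb : s * b * s⁻¹ = b⁻¹
  hra : r * a * r⁻¹ = b
  hrb : r * b * r⁻¹ = a⁻¹

namespace Rel

variable {a b r s : S} (R : Rel a b r s)
include R

theorem ainv : a⁻¹ = a ^ 2 :=
  inv_eq_of_mul_eq_one_right (by rw [show a * a ^ 2 = a ^ 3 by simp only [pow_two, pow_three, pow_four_eq, mul_assoc]]; exact R.ha3)

theorem binv : b⁻¹ = b ^ 2 :=
  inv_eq_of_mul_eq_one_right (by rw [show b * b ^ 2 = b ^ 3 by simp only [pow_two, pow_three, pow_four_eq, mul_assoc]]; exact R.hb3)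

theorem rinv : r⁻¹ = r ^ 3 :=
  inv_eq_of_mul_eq_one_right (by rw [show r * r ^ 3 = r ^ 4 by simp only [pow_two, pow_three, pow_four_eq, mul_assoc]]; exact R.hr4)

theorem ss : s * s = 1 := by rw [← pow_two]; exact R.hs2

theorem zz : r ^ 2 * r ^ 2 = 1 := by rw [show r ^ 2 * r ^ 2 = r ^ 4 by simp only [pow_two, pow_three, pow_four_eq, mul_assoc]]; exact R.hr4

theorem a4 : a ^ 4 = a := by
  calc a ^ 4 = a ^ 3 * a := by simp only [pow_two, pow_three, pow_four_eq, mul_assoc]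
    _ = a := by rw [R.ha3, one_mul]

theorem b4 : b ^ 4 = b := by
  calc b ^ 4 = b ^ 3 * b := by simp only [pow_two, pow_three, pow_four_eq, mul_assoc]
    _ = b := by rw [R.hb3, one_mul]

/-- `b r = r a` -/
theorem i2 : b * r = r * a := by rw [← R.hra]; group

/-- `r b = a² r` -/
theorem rb : r * b = a ^ 2 * r := by rw [← R.ainv, ← R.hrb]; group

/-- `a r = r b²` -/
theorem i1 : a * r = r * b ^ 2 := by
  calc a * r = a ^ 4 * r := by rw [R.a4]
    _ = a ^ 2 * (a ^ 2 * r) := by simp only [pow_two, pow_three, pow_four_eq, mul_assoc]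
    _ = a ^ 2 * (r * b) := by rw [R.rb]
    _ = (a ^ 2 * r) * b := by simp only [pow_two, pow_three, pow_four_eq, mul_assoc]
    _ = (r * b) * b := by rw [R.rb]
    _ = r * b ^ 2 := by simp only [pow_two, pow_three, pow_four_eq, mul_assoc]

/-- `s a = a s` -/
theorem i3 : s * a = a * s := by
  calc s * a = (s * a * s⁻¹) * s := by group
    _ = a * s := by rw [R.hsa]

/-- `s b = b² s` -/
theorem i4 : s * b = b ^ 2 * s := by
  calc s * b = (s * b * s⁻¹) * s := by group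
    _ = b ^ 2 * s := by rw [R.hsb, R.binv]

/-- `s r = r³ s` -/
theorem i5 : s * r = r ^ 3 * s := by
  calc s * r = (s * r * s⁻¹) * s := by group
    _ = r ^ 3 * s := by rw [R.hsr, R.rinv]

/-- `r² b = b² r²` -/
theorem i6 : r ^ 2 * b = b ^ 2 * r ^ 2 := by
  calc r ^ 2 * b = r * (r * b) := by simp only [pow_two, pow_three, pow_four_eq, mul_assoc]
    _ = r * (a ^ 2 * r) := by rw [R.rb]
    _ = (r * a) * a * r := by simp only [pow_two, pow_three, pow_four_eq, mul_assoc]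
    _ = (b * r) * a * r := by rw [R.i2]
    _ = b * (r * a) * r := by simp only [pow_two, pow_three, pow_four_eq, mul_assoc]
    _ = b * (b * r) * r := by rw [R.i2]
    _ = b ^ 2 * r ^ 2 := by simp only [pow_two, pow_three, pow_four_eq, mul_assoc]

/-- `r² a = a² r²` -/
theorem j7 : r ^ 2 * a = a ^ 2 * r ^ 2 := by
  calc r ^ 2 * a = r * (r * a) := by simp only [pow_two, pow_three, pow_four_eq, mul_assoc]
    _ = r * (b * r) := by rw [R.i2]
    _ = (r * b) * r := by simp only [pow_two, pow_three, pow_four_eq, mul_assoc]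
    _ = (a ^ 2 * r) * r := by rw [R.rb]
    _ = a ^ 2 * r ^ 2 := by simp only [pow_two, pow_three, pow_four_eq, mul_assoc]

/-- `a r² = r² a²` -/
theorem i7 : a * r ^ 2 = r ^ 2 * a ^ 2 := by
  symm
  calc r ^ 2 * a ^ 2 = (r ^ 2 * a) * a := by simp only [pow_two, pow_three, pow_four_eq, mul_assoc]
    _ = (a ^ 2 * r ^ 2) * a := by rw [R.j7]
    _ = a ^ 2 * (r ^ 2 * a) := by simp only [pow_two, pow_three, pow_four_eq, mul_assoc]
    _ = a ^ 2 * (a ^ 2 * r ^ 2) := by rw [R.j7]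
    _ = a ^ 4 * r ^ 2 := by simp only [pow_two, pow_three, pow_four_eq, mul_assoc]
    _ = a * r ^ 2 := by rw [R.a4]

/-- `s r² = r² s` -/
theorem i8 : s * r ^ 2 = r ^ 2 * s := by
  calc s * r ^ 2 = (s * r) * r := by simp only [pow_two, pow_three, pow_four_eq, mul_assoc]
    _ = (r ^ 3 * s) * r := by rw [R.i5]
    _ = r ^ 3 * (s * r) := by simp only [pow_two, pow_three, pow_four_eq, mul_assoc]
    _ = r ^ 3 * (r ^ 3 * s) := by rw [R.i5]
    _ = r ^ 4 * r ^ 2 * s := by simp only [pow_two, pow_three, pow_four_eq, mul_assoc]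
    _ = r ^ 2 * s := by rw [R.hr4, one_mul]

/-- `b s = s b²` -/
theorem i10 : b * s = s * b ^ 2 := by
  calc b * s = b ^ 4 * s := by rw [R.b4]
    _ = b ^ 2 * (b ^ 2 * s) := by simp only [pow_two, pow_three, pow_four_eq, mul_assoc]
    _ = b ^ 2 * (s * b) := by rw [R.i4]
    _ = (b ^ 2 * s) * b := by simp only [pow_two, pow_three, pow_four_eq, mul_assoc]
    _ = (s * b) * b := by rw [R.i4]
    _ = s * b ^ 2 := by simp only [pow_two, pow_three, pow_four_eq, mul_assoc]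

/-- `(s r)² = 1` -/
theorem sr_sq : s * r * (s * r) = 1 := by
  have h : s * r = r⁻¹ * s := by
    calc s * r = (s * r * s⁻¹) * s := by group
      _ = r⁻¹ * s := by rw [R.hsr]
  calc s * r * (s * r) = s * r * (r⁻¹ * s) := by rw [← h]
    _ = s * s := by rw [← mul_assoc, mul_inv_cancel_right]
    _ = 1 := R.ss

/-- `s r` commutes with `r²` -/
theorem sr_z : s * r * r ^ 2 = r ^ 2 * (s * r) := by
  calc s * r * r ^ 2 = (s * r ^ 2) * r := by simp only [pow_two, mul_assoc]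
    _ = (r ^ 2 * s) * r := by rw [R.i8]
    _ = r ^ 2 * (s * r) := by rw [mul_assoc]

/-- `s r⁻¹ = r² (s r)` -/
theorem srinv : s * r⁻¹ = r ^ 2 * (s * r) := by
  calc s * r⁻¹ = s * r ^ 3 := by rw [R.rinv]
    _ = (s * r ^ 2) * r := by simp only [pow_two, pow_three, mul_assoc]
    _ = (r ^ 2 * s) * r := by rw [R.i8]
    _ = r ^ 2 * (s * r) := by rw [mul_assoc]

/-- the second system of generators -/
theorem twist : Rel (a * b) (a ^ 2 * b) r (s * r⁻¹) := by
  have hc : Commute a b := R.hab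
  have hsi : s⁻¹ = s := inv_eq_of_mul_eq_one_right R.ss
  have h1 : r⁻¹ * a * r = b⁻¹ := by
    have h : r⁻¹ * a⁻¹ * r = b := by
      rw [← R.hrb]; group
    calc r⁻¹ * a * r = (r⁻¹ * a⁻¹ * r)⁻¹ := by group
      _ = b⁻¹ := by rw [h]
  have h2 : r⁻¹ * b * r = a := by
    rw [← R.hra]; group
  have hA : s * r⁻¹ * a * (s * r⁻¹)⁻¹ = b := by
    calc s * r⁻¹ * a * (s * r⁻¹)⁻¹ = s * (r⁻¹ * a * r) * s⁻¹ := by group
      _ = s * b⁻¹ * s⁻¹ := by rw [h1]
      _ = (s * b * s⁻¹)⁻¹ := by group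
      _ = b := by rw [R.hsb, inv_inv]
  have hB : s * r⁻¹ * b * (s * r⁻¹)⁻¹ = a := by
    calc s * r⁻¹ * b * (s * r⁻¹)⁻¹ = s * (r⁻¹ * b * r) * s⁻¹ := by group
      _ = s * a * s⁻¹ := by rw [h2]
      _ = a := R.hsa
  have ha2a : a ^ 2 * a = 1 := by
    rw [← R.ha3]; simp only [pow_two, pow_three, mul_assoc]
  refine ⟨?_, ?_, ?_, R.hr4, ?_, ?_, ?_, ?_, ?_, ?_⟩
  · rw [hc.mul_pow, R.ha3, R.hb3, one_mul]
  · rw [(hc.pow_left 2).mul_pow, ← pow_mul, R.hb3, mul_one, pow_mul', R.ha3, one_pow]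
  · have c1 : Commute a (a ^ 2 * b) := ((Commute.refl a).pow_right 2).mul_right hc
    have c2 : Commute b (a ^ 2 * b) := (hc.symm.pow_right 2).mul_right (Commute.refl b)
    exact (c1.mul_left c2).eq
  · have h : s * r⁻¹ * s⁻¹ = r := by
      calc s * r⁻¹ * s⁻¹ = (s * r * s⁻¹)⁻¹ := by group
        _ = r := by rw [R.hsr, inv_inv]
    calc (s * r⁻¹) ^ 2 = (s * r⁻¹ * s) * r⁻¹ := by rw [pow_two]; simp only [mul_assoc]
      _ = (s * r⁻¹ * s⁻¹) * r⁻¹ := by rw [hsi]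
      _ = 1 := by rw [h, mul_inv_cancel]
  · calc s * r⁻¹ * r * (s * r⁻¹)⁻¹ = s * r * s⁻¹ := by group
      _ = r⁻¹ := R.hsr
  · calc s * r⁻¹ * (a * b) * (s * r⁻¹)⁻¹
        = (s * r⁻¹ * a * (s * r⁻¹)⁻¹) * (s * r⁻¹ * b * (s * r⁻¹)⁻¹) := conj_mul.symm
      _ = b * a := by rw [hA, hB]
      _ = a * b := R.hab.symm
  · have hinv : (a ^ 2 * b)⁻¹ = b ^ 2 * a := by
      apply inv_eq_of_mul_eq_one_right
      have e : a ^ 2 * b * (b ^ 2 * a) = a ^ 2 * b ^ 3 * a := by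
        simp only [pow_two, pow_three, mul_assoc]
      rw [e, R.hb3, mul_one, ha2a]
    calc s * r⁻¹ * (a ^ 2 * b) * (s * r⁻¹)⁻¹
        = (s * r⁻¹ * a * (s * r⁻¹)⁻¹) ^ 2 * (s * r⁻¹ * b * (s * r⁻¹)⁻¹) := by
          rw [conj_pow, conj_mul]
      _ = b ^ 2 * a := by rw [hA, hB]
      _ = (a ^ 2 * b)⁻¹ := hinv.symm
  · calc r * (a * b) * r⁻¹ = (r * a * r⁻¹) * (r * b * r⁻¹) := conj_mul.symm
      _ = b * a⁻¹ := by rw [R.hra, R.hrb]
      _ = b * a ^ 2 := by rw [R.ainv]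
      _ = a ^ 2 * b := (hc.pow_left 2).eq.symm
  · calc r * (a ^ 2 * b) * r⁻¹ = (r * a * r⁻¹) ^ 2 * (r * b * r⁻¹) := by
          rw [conj_pow, conj_mul]
      _ = b ^ 2 * a⁻¹ := by rw [R.hra, R.hrb]
      _ = b⁻¹ * a⁻¹ := by rw [R.binv]
      _ = (a * b)⁻¹ := by rw [mul_inv_rev]

end Rel

/-! ### the module -/

theorem zmod2_eq_of_add : ∀ p q : ZMod 2, p + q = 0 → p = q := by decide

theorem zmod2_add_add : ∀ p q : ZMod 2, p + q + q = p := by decide

/-- the action table of the generators on four vectors -/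
structure Tab (ρ : Representation (ZMod 2) S M) (a b r s : S) (v w p3 p4 : M) : Prop where
  a1 : ρ a v = v
  a2 : ρ a w = w
  a3 : ρ a p3 = p3 + p4
  a4 : ρ a p4 = p3
  b1 : ρ b v = w
  b2 : ρ b w = v + w
  b3 : ρ b p3 = p3
  b4 : ρ b p4 = p4
  r1 : ρ r v = p3
  r2 : ρ r w = p4
  r3 : ρ r p3 = v
  r4 : ρ r p4 = v + w
  s1 : ρ s v = v
  s2 : ρ s w = v + w
  s3 : ρ s p3 = p3
  s4 : ρ s p4 = p4

theorem tab_of_fixed {a b r s : S} (R : Rel a b r s) (ρ : Representation (ZMod 2) S M)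
    (h0 : ∀ m, ρ a m = m → ρ b m = m → m = 0) (v : M) (hav : ρ a v = v)
    (hzv : ρ (r ^ 2) v = v) (hsv : ρ s v = v) :
    Tab ρ a b r s v (ρ b v) (ρ r v) (ρ r (ρ b v)) := by
  have hab' : ∀ m, ρ a (ρ b m) = ρ b (ρ a m) := fun m => rho_comm ρ R.hab m
  have hab2 : ∀ m, ρ a (ρ (b ^ 2) m) = ρ (b ^ 2) (ρ a m) := fun m =>
    rho_comm ρ (Commute.pow_right (show Commute a b from R.hab) 2).eq m
  have hbb : ρ (b ^ 2) v = v + ρ b v := by
    have hfix : eop ρ b v = 0 := by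
      apply h0
      · rw [eop_apply, map_add, map_add, hab', hab2, hav]
      · exact eop_fixed ρ b R.hb3 v
    rw [eop_apply] at hfix
    exact (char2_eq_of_add_eq_zero hfix).symm
  have hbw : ρ b (ρ b v) = v + ρ b v := by rw [← rho_sq ρ b]; exact hbb
  have hb3v : ∀ m, ρ (b ^ 2) (ρ b m) = m := fun m => by
    rw [← rho_mul_apply, show b ^ 2 * b = b ^ 3 from (pow_succ b 2).symm, R.hb3, rho_one_apply]
  have hr3 : ∀ m, ρ (r ^ 3) m = ρ r (ρ (r ^ 2) m) := fun m => by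
    rw [← rho_mul_apply, show r * r ^ 2 = r ^ 3 from (pow_succ' r 2).symm]
  have hzw : ρ (r ^ 2) (ρ b v) = v + ρ b v := by
    rw [rho_comm ρ R.i6, hzv]; exact hbb
  have hsw : ρ s (ρ b v) = v + ρ b v := by
    rw [rho_comm ρ R.i4, hsv]; exact hbb
  refine ⟨hav, ?_, ?_, ?_, rfl, hbw, ?_, ?_, rfl, rfl, ?_, ?_, hsv, hsw, ?_, ?_⟩
  · rw [hab', hav]
  · rw [rho_comm ρ R.i1, hbb, map_add]
  · rw [rho_comm ρ R.i1, hb3v]
  · rw [rho_comm ρ R.i2, hav]
  · rw [rho_comm ρ R.i2, hab', hav]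
  · rw [← rho_sq ρ r]; exact hzv
  · rw [← rho_sq ρ r]; exact hzw
  · rw [rho_comm ρ R.i5, hsv, hr3, hzv]
  · rw [rho_comm ρ R.i5, hsw, hr3, map_add, hzv, hzw, ← add_assoc, ZModModule.add_self, zero_add]

theorem exists_vec [Nontrivial M] {a b r s : S} (R : Rel a b r s)
    (ρ : Representation (ZMod 2) S M) (hV : ∀ m, m = eop ρ a m + eop ρ b m) :
    ∃ v : M, v ≠ 0 ∧ ρ a v = v ∧ ρ (r ^ 2) v = v ∧ ρ s v = v := by
  obtain ⟨m₀, hm₀⟩ := exists_ne (0 : M)
  have h1 : ∃ v₀ : M, v₀ ≠ 0 ∧ ρ a v₀ = v₀ := by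
    by_cases h : eop ρ a m₀ = 0
    · refine ⟨ρ r (eop ρ b m₀), ?_, ?_⟩
      · intro h2
        have h3 : eop ρ b m₀ = 0 := rho_injective ρ r (by rw [h2, map_zero])
        apply hm₀
        rw [hV m₀, h, h3, add_zero]
      · rw [rho_comm ρ R.i1, rho_sq ρ b, eop_fixed ρ b R.hb3, eop_fixed ρ b R.hb3]
    · exact ⟨eop ρ a m₀, h, eop_fixed ρ a R.ha3 m₀⟩
  obtain ⟨v₀, hv₀, hav₀⟩ := h1
  obtain ⟨v₁, hv₁, hav₁, hzv₁⟩ := exists_fixed ρ (r ^ 2) R.zz (fun x => ρ a x = x)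
    (fun x y (hx : ρ a x = x) (hy : ρ a y = y) =>
      show ρ a (x + y) = x + y by rw [map_add, hx, hy])
    (fun x (hx : ρ a x = x) =>
      show ρ a (ρ (r ^ 2) x) = ρ (r ^ 2) x by rw [rho_comm ρ R.i7, rho_sq ρ a, hx, hx])
    v₀ hv₀ hav₀
  obtain ⟨v, hv, hv2, hsv⟩ := exists_fixed ρ s R.ss
    (fun x => ρ a x = x ∧ ρ (r ^ 2) x = x)
    (fun x y (hx : ρ a x = x ∧ ρ (r ^ 2) x = x) (hy : ρ a y = y ∧ ρ (r ^ 2) y = y) =>
      show ρ a (x + y) = x + y ∧ ρ (r ^ 2) (x + y) = x + y from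
        ⟨by rw [map_add, hx.1, hy.1], by rw [map_add, hx.2, hy.2]⟩)
    (fun x (hx : ρ a x = x ∧ ρ (r ^ 2) x = x) =>
      show ρ a (ρ s x) = ρ s x ∧ ρ (r ^ 2) (ρ s x) = ρ s x from
        ⟨by rw [← rho_comm ρ R.i3, hx.1], by rw [← rho_comm ρ R.i8, hx.2]⟩)
    v₁ hv₁ ⟨hav₁, hzv₁⟩
  exact ⟨v, hv, hv2.1, hv2.2, hsv⟩

/-- linear combinations of four vectors -/
def phi (v w p3 p4 : M) (c1 c2 c3 c4 : ZMod 2) : M := c1 • v + c2 • w + c3 • p3 + c4 • p4

theorem mem_span4 {v w p3 p4 m : M}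
    (h : m ∈ Submodule.span (ZMod 2) ({v, w, p3, p4} : Set M)) :
    ∃ c1 c2 c3 c4 : ZMod 2, m = phi v w p3 p4 c1 c2 c3 c4 := by
  rw [Submodule.mem_span_insert] at h
  obtain ⟨c1, z1, hz1, h1⟩ := h
  rw [Submodule.mem_span_insert] at hz1
  obtain ⟨c2, z2, hz2, h2⟩ := hz1
  rw [Submodule.mem_span_insert] at hz2
  obtain ⟨c3, z3, hz3, h3⟩ := hz2
  rw [Submodule.mem_span_singleton] at hz3
  obtain ⟨c4, h4⟩ := hz3
  refine ⟨c1, c2, c3, c4, ?_⟩
  rw [h1, h2, h3, ← h4]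
  unfold phi
  abel

theorem span4_stable (f : M →ₗ[ZMod 2] M) (v w p3 p4 : M)
    (h1 : f v ∈ Submodule.span (ZMod 2) ({v, w, p3, p4} : Set M))
    (h2 : f w ∈ Submodule.span (ZMod 2) ({v, w, p3, p4} : Set M))
    (h3 : f p3 ∈ Submodule.span (ZMod 2) ({v, w, p3, p4} : Set M))
    (h4 : f p4 ∈ Submodule.span (ZMod 2) ({v, w, p3, p4} : Set M)) :
    ∀ m ∈ Submodule.span (ZMod 2) ({v, w, p3, p4} : Set M),
      f m ∈ Submodule.span (ZMod 2) ({v, w, p3, p4} : Set M) := by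
  apply span_stable
  intro t ht
  simp only [Set.mem_insert_iff, Set.mem_singleton_iff] at ht
  rcases ht with h | h | h | h
  · rw [h]; exact h1
  · rw [h]; exact h2
  · rw [h]; exact h3
  · rw [h]; exact h4

namespace Tab

variable {ρ : Representation (ZMod 2) S M} {a b r s : S} {v w p3 p4 : M}
  (T : Tab ρ a b r s v w p3 p4)
include T

theorem phi_r (c1 c2 c3 c4 : ZMod 2) :
    ρ r (phi v w p3 p4 c1 c2 c3 c4) = phi v w p3 p4 (c3 + c4) c4 c1 c2 := by
  unfold phi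
  rw [map_add, map_add, map_add, map_smul, map_smul, map_smul, map_smul, T.r1, T.r2, T.r3, T.r4]
  simp only [smul_add, add_smul]
  abel

theorem phi_s (c1 c2 c3 c4 : ZMod 2) :
    ρ s (phi v w p3 p4 c1 c2 c3 c4) = phi v w p3 p4 (c1 + c2) c2 c3 c4 := by
  unfold phi
  rw [map_add, map_add, map_add, map_smul, map_smul, map_smul, map_smul, T.s1, T.s2, T.s3, T.s4]
  simp only [smul_add, add_smul]
  abel

theorem indep (h0 : ∀ m, ρ a m = m → ρ b m = m → m = 0) (hv : v ≠ 0) (c1 c2 c3 c4 : ZMod 2)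
    (h : phi v w p3 p4 c1 c2 c3 c4 = 0) : c1 = 0 ∧ c2 = 0 ∧ c3 = 0 ∧ c4 = 0 := by
  have LI1 : ∀ d1 d2 : ZMod 2, d1 • v + d2 • w = 0 → d1 = 0 ∧ d2 = 0 := by
    intro d1 d2 hd
    rcases zmod2_cases' d1 with h1 | h1 <;> rcases zmod2_cases' d2 with h2 | h2
    · exact ⟨h1, h2⟩
    · exfalso
      rw [h1, h2, zero_smul, one_smul, zero_add] at hd
      apply hv
      apply rho_injective ρ b
      rw [T.b1, hd, map_zero]
    · exfalso
      rw [h1, h2, zero_smul, one_smul, add_zero] at hd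
      exact hv hd
    · exfalso
      rw [h1, h2, one_smul, one_smul] at hd
      have hvw : v = w := char2_eq_of_add_eq_zero hd
      apply hv
      apply h0 v T.a1
      rw [T.b1]; exact hvw.symm
  have hx : c1 • v + c2 • w = c3 • p3 + c4 • p4 := by
    apply char2_eq_of_add_eq_zero
    have e : c1 • v + c2 • w + (c3 • p3 + c4 • p4) = phi v w p3 p4 c1 c2 c3 c4 := by
      unfold phi; abel
    rw [e, h]
  have hax : ρ a (c1 • v + c2 • w) = c1 • v + c2 • w := by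
    rw [map_add, map_smul, map_smul, T.a1, T.a2]
  have hbx : ρ b (c1 • v + c2 • w) = c1 • v + c2 • w := by
    rw [hx, map_add, map_smul, map_smul, T.b3, T.b4]
  have hx0 : c1 • v + c2 • w = 0 := h0 _ hax hbx
  have hy0 : c3 • p3 + c4 • p4 = 0 := by rw [← hx]; exact hx0
  have hy1 : ρ r (c3 • v + c4 • w) = ρ r 0 := by
    rw [map_add, map_smul, map_smul, T.r1, T.r2, map_zero]; exact hy0
  have hy2 := rho_injective ρ r hy1
  obtain ⟨e1, e2⟩ := LI1 c1 c2 hx0
  obtain ⟨e3, e4⟩ := LI1 c3 c4 hy2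
  exact ⟨e1, e2, e3, e4⟩

theorem phi_inj (h0 : ∀ m, ρ a m = m → ρ b m = m → m = 0) (hv : v ≠ 0)
    {c1 c2 c3 c4 d1 d2 d3 d4 : ZMod 2}
    (h : phi v w p3 p4 c1 c2 c3 c4 = phi v w p3 p4 d1 d2 d3 d4) :
    c1 = d1 ∧ c2 = d2 ∧ c3 = d3 ∧ c4 = d4 := by
  have h2 : phi v w p3 p4 (c1 + d1) (c2 + d2) (c3 + d3) (c4 + d4) = 0 := by
    have e : phi v w p3 p4 (c1 + d1) (c2 + d2) (c3 + d3) (c4 + d4)
        = phi v w p3 p4 c1 c2 c3 c4 + phi v w p3 p4 d1 d2 d3 d4 := by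
      unfold phi; simp only [add_smul]; abel
    rw [e, h, ZModModule.add_self]
  obtain ⟨e1, e2, e3, e4⟩ := T.indep h0 hv _ _ _ _ h2
  exact ⟨zmod2_eq_of_add _ _ e1, zmod2_eq_of_add _ _ e2, zmod2_eq_of_add _ _ e3,
    zmod2_eq_of_add _ _ e4⟩

end Tab

theorem card_of_tab [Finite S] {a b r s : S}
    (hgen : Subgroup.closure ({a, b, r, s} : Set S) = ⊤) (ρ : Representation (ZMod 2) S M)
    (hirr : ∀ N : Submodule (ZMod 2) M, (∀ g : S, ∀ m ∈ N, ρ g m ∈ N) → N = ⊥ ∨ N = ⊤)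
    (h0 : ∀ m, ρ a m = m → ρ b m = m → m = 0)
    {v w p3 p4 : M} (T : Tab ρ a b r s v w p3 p4) (hv : v ≠ 0) :
    Nat.card M = 16 ∧ Nat.card {m : M // ρ (r ^ 2) m = m ∧ ρ s m = m} = 4 ∧
      Nat.card {m : M // ρ (r ^ 2) m = m ∧ ρ (s * r) m = m} = 2 := by
  have hvN : v ∈ Submodule.span (ZMod 2) ({v, w, p3, p4} : Set M) :=
    Submodule.subset_span (by simp)
  have hwN : w ∈ Submodule.span (ZMod 2) ({v, w, p3, p4} : Set M) :=
    Submodule.subset_span (by simp)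
  have hp3N : p3 ∈ Submodule.span (ZMod 2) ({v, w, p3, p4} : Set M) :=
    Submodule.subset_span (by simp)
  have hp4N : p4 ∈ Submodule.span (ZMod 2) ({v, w, p3, p4} : Set M) :=
    Submodule.subset_span (by simp)
  have hvwN := Submodule.add_mem _ hvN hwN
  have hpN := Submodule.add_mem _ hp3N hp4N
  have hst_a := span4_stable (ρ a) v w p3 p4 (by rw [T.a1]; exact hvN) (by rw [T.a2]; exact hwN)
    (by rw [T.a3]; exact hpN) (by rw [T.a4]; exact hp3N)
  have hst_b := span4_stable (ρ b) v w p3 p4 (by rw [T.b1]; exact hwN) (by rw [T.b2]; exact hvwN)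
    (by rw [T.b3]; exact hp3N) (by rw [T.b4]; exact hp4N)
  have hst_r := span4_stable (ρ r) v w p3 p4 (by rw [T.r1]; exact hp3N) (by rw [T.r2]; exact hp4N)
    (by rw [T.r3]; exact hvN) (by rw [T.r4]; exact hvwN)
  have hst_s := span4_stable (ρ s) v w p3 p4 (by rw [T.s1]; exact hvN) (by rw [T.s2]; exact hvwN)
    (by rw [T.s3]; exact hp3N) (by rw [T.s4]; exact hp4N)
  have hst : ∀ g : S, ∀ m ∈ Submodule.span (ZMod 2) ({v, w, p3, p4} : Set M),
      ρ g m ∈ Submodule.span (ZMod 2) ({v, w, p3, p4} : Set M) := by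
    apply stable_of_closure ρ _ _ hgen
    intro t ht
    simp only [Set.mem_insert_iff, Set.mem_singleton_iff] at ht
    rcases ht with h | h | h | h
    · rw [h]; exact hst_a
    · rw [h]; exact hst_b
    · rw [h]; exact hst_r
    · rw [h]; exact hst_s
  have htop : Submodule.span (ZMod 2) ({v, w, p3, p4} : Set M) = ⊤ := by
    rcases hirr _ hst with h | h
    · exfalso
      apply hv
      rw [h] at hvN
      exact (Submodule.mem_bot _).1 hvN
    · exact h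
  have hsurj : ∀ m : M, ∃ c1 c2 c3 c4 : ZMod 2, m = phi v w p3 p4 c1 c2 c3 c4 := fun m =>
    mem_span4 (by rw [htop]; trivial)
  have hz : ∀ c1 c2 c3 c4 : ZMod 2, ρ (r ^ 2) (phi v w p3 p4 c1 c2 c3 c4)
      = phi v w p3 p4 (c1 + c2) c2 (c3 + c4) c4 := by
    intro c1 c2 c3 c4
    rw [rho_sq ρ r, T.phi_r, T.phi_r]
  have hsr : ∀ c1 c2 c3 c4 : ZMod 2, ρ (s * r) (phi v w p3 p4 c1 c2 c3 c4)
      = phi v w p3 p4 c3 c4 c1 c2 := by
    intro c1 c2 c3 c4
    rw [rho_mul_apply, T.phi_r, T.phi_s, zmod2_add_add]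
  have hcard : Nat.card M = 16 := by
    have hbij : Function.Bijective (fun c : ZMod 2 × ZMod 2 × ZMod 2 × ZMod 2 =>
        phi v w p3 p4 c.1 c.2.1 c.2.2.1 c.2.2.2) := by
      constructor
      · rintro ⟨c1, c2, c3, c4⟩ ⟨d1, d2, d3, d4⟩ h
        have h' : phi v w p3 p4 c1 c2 c3 c4 = phi v w p3 p4 d1 d2 d3 d4 := h
        obtain ⟨e1, e2, e3, e4⟩ := T.phi_inj h0 hv h'
        rw [e1, e2, e3, e4]
      · intro m
        obtain ⟨c1, c2, c3, c4, h⟩ := hsurj m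
        exact ⟨(c1, c2, c3, c4), h.symm⟩
    rw [← Nat.card_congr (Equiv.ofBijective _ hbij)]
    simp [Nat.card_prod, Nat.card_zmod]
  have h4 : Nat.card {m : M // ρ (r ^ 2) m = m ∧ ρ s m = m} = 4 := by
    have hmem : ∀ c : ZMod 2 × ZMod 2,
        ρ (r ^ 2) (phi v w p3 p4 c.1 0 c.2 0) = phi v w p3 p4 c.1 0 c.2 0 ∧
        ρ s (phi v w p3 p4 c.1 0 c.2 0) = phi v w p3 p4 c.1 0 c.2 0 := by
      intro c
      constructor
      · rw [hz, add_zero, add_zero]
      · rw [T.phi_s, add_zero]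
    have hbij : Function.Bijective (fun c : ZMod 2 × ZMod 2 =>
        (⟨phi v w p3 p4 c.1 0 c.2 0, hmem c⟩ : {m : M // ρ (r ^ 2) m = m ∧ ρ s m = m})) := by
      constructor
      · rintro ⟨c1, c3⟩ ⟨d1, d3⟩ h
        have h' : phi v w p3 p4 c1 0 c3 0 = phi v w p3 p4 d1 0 d3 0 := congrArg Subtype.val h
        obtain ⟨e1, -, e3, -⟩ := T.phi_inj h0 hv h'
        rw [e1, e3]
      · rintro ⟨m, hm1, hm2⟩
        obtain ⟨c1, c2, c3, c4, hm⟩ := hsurj m
        rw [hm, hz] at hm1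
        obtain ⟨e1, -, e3, -⟩ := T.phi_inj h0 hv hm1
        have e2 : c2 = 0 := zmod2_add_cancel _ _ e1
        have e4 : c4 = 0 := zmod2_add_cancel _ _ e3
        refine ⟨(c1, c3), ?_⟩
        apply Subtype.ext
        show phi v w p3 p4 c1 0 c3 0 = m
        rw [hm, e2, e4]
    rw [← Nat.card_congr (Equiv.ofBijective _ hbij)]
    simp [Nat.card_prod, Nat.card_zmod]
  have h2 : Nat.card {m : M // ρ (r ^ 2) m = m ∧ ρ (s * r) m = m} = 2 := by
    have hmem : ∀ c : ZMod 2,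
        ρ (r ^ 2) (phi v w p3 p4 c 0 c 0) = phi v w p3 p4 c 0 c 0 ∧
        ρ (s * r) (phi v w p3 p4 c 0 c 0) = phi v w p3 p4 c 0 c 0 := by
      intro c
      constructor
      · rw [hz, add_zero]
      · rw [hsr]
    have hbij : Function.Bijective (fun c : ZMod 2 =>
        (⟨phi v w p3 p4 c 0 c 0, hmem c⟩ :
          {m : M // ρ (r ^ 2) m = m ∧ ρ (s * r) m = m})) := by
      constructor
      · intro c d h
        have h' : phi v w p3 p4 c 0 c 0 = phi v w p3 p4 d 0 d 0 := congrArg Subtype.val h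
        exact (T.phi_inj h0 hv h').1
      · rintro ⟨m, hm1, hm2⟩
        obtain ⟨c1, c2, c3, c4, hm⟩ := hsurj m
        rw [hm, hz] at hm1
        rw [hm, hsr] at hm2
        obtain ⟨e1, -, e3, -⟩ := T.phi_inj h0 hv hm1
        obtain ⟨f1, -, -, -⟩ := T.phi_inj h0 hv hm2
        have e2 : c2 = 0 := zmod2_add_cancel _ _ e1
        have e4 : c4 = 0 := zmod2_add_cancel _ _ e3
        refine ⟨c1, ?_⟩
        apply Subtype.ext
        show phi v w p3 p4 c1 0 c1 0 = m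
        rw [hm, e2, e4, f1]
    rw [← Nat.card_congr (Equiv.ofBijective _ hbij)]
    simp [Nat.card_zmod]
  exact ⟨hcard, h4, h2⟩

/-- the module is determined when it is the sum of the fixed spaces of `a` and `b` -/
theorem module_main [Finite S] [Nontrivial M] {a b r s : S} (R : Rel a b r s)
    (hgen : Subgroup.closure ({a, b, r, s} : Set S) = ⊤) (ρ : Representation (ZMod 2) S M)
    (hirr : ∀ N : Submodule (ZMod 2) M, (∀ g : S, ∀ m ∈ N, ρ g m ∈ N) → N = ⊥ ∨ N = ⊤)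
    (hV : ∀ m, m = eop ρ a m + eop ρ b m)
    (h0 : ∀ m, ρ a m = m → ρ b m = m → m = 0) :
    Nat.card M = 16 ∧ Nat.card {m : M // ρ (r ^ 2) m = m ∧ ρ s m = m} = 4 ∧
      Nat.card {m : M // ρ (r ^ 2) m = m ∧ ρ (s * r) m = m} = 2 := by
  obtain ⟨v, hv, hav, hzv, hsv⟩ := exists_vec R ρ hV
  exact card_of_tab hgen ρ hirr h0 (tab_of_fixed R ρ h0 v hav hzv hsv) hv

/-- either the module is the sum of the fixed spaces of `a` and `b`, or of those of `a b`
and `a² b` -/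
theorem dichotomy [Finite S] {a b r s : S} (R : Rel a b r s)
    (hgen : Subgroup.closure ({a, b, r, s} : Set S) = ⊤) (ρ : Representation (ZMod 2) S M)
    (hirr : ∀ N : Submodule (ZMod 2) M, (∀ g : S, ∀ m ∈ N, ρ g m ∈ N) → N = ⊥ ∨ N = ⊤)
    (h0 : ∀ m, ρ a m = m → ρ b m = m → m = 0) :
    (∀ m, m = eop ρ a m + eop ρ b m) ∨
      (∀ m, m = eop ρ (a * b) m + eop ρ (a ^ 2 * b) m) := by
  have hba : b * a * b⁻¹ = a := by rw [← R.hab]; exact mul_inv_cancel_right a b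
  have hab' : a * b * a⁻¹ = b := by rw [R.hab]; exact mul_inv_cancel_right b a
  have ca_a : ∀ m, ρ a (eop ρ a m) = eop ρ a (ρ a m) := fun m =>
    eop_conj ρ (mul_inv_cancel_right a a) m
  have ca_b : ∀ m, ρ a (eop ρ b m) = eop ρ b (ρ a m) := fun m => eop_conj ρ hab' m
  have cb_a : ∀ m, ρ b (eop ρ a m) = eop ρ a (ρ b m) := fun m => eop_conj ρ hba m
  have cb_b : ∀ m, ρ b (eop ρ b m) = eop ρ b (ρ b m) := fun m =>
    eop_conj ρ (mul_inv_cancel_right b b) m
  have cr_a : ∀ m, ρ r (eop ρ a m) = eop ρ b (ρ r m) := fun m => eop_conj ρ R.hra m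
  have cr_b : ∀ m, ρ r (eop ρ b m) = eop ρ a (ρ r m) := fun m => by
    rw [eop_conj ρ R.hrb m, R.ainv, eop_sq ρ a R.ha3]
  have cs_a : ∀ m, ρ s (eop ρ a m) = eop ρ a (ρ s m) := fun m => eop_conj ρ R.hsa m
  have cs_b : ∀ m, ρ s (eop ρ b m) = eop ρ b (ρ s m) := fun m => by
    rw [eop_conj ρ R.hsb m, R.binv, eop_sq ρ b R.hb3]
  have hab0 : ∀ m, eop ρ a (eop ρ b m) = 0 := fun m => by
    apply h0
    · exact eop_fixed ρ a R.ha3 _
    · rw [cb_a, eop_fixed ρ b R.hb3]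
  have hba0 : ∀ m, eop ρ b (eop ρ a m) = 0 := fun m => by
    apply h0
    · rw [ca_b, eop_fixed ρ a R.ha3]
    · exact eop_fixed ρ b R.hb3 _
  have haa0 : ∀ m, eop ρ a (eop ρ a m) = eop ρ a m := fun m =>
    eop_of_fixed ρ a _ (eop_fixed ρ a R.ha3 m)
  have hbb0 : ∀ m, eop ρ b (eop ρ b m) = eop ρ b m := fun m =>
    eop_of_fixed ρ b _ (eop_fixed ρ b R.hb3 m)
  have hst_a : ∀ m ∈ LinearMap.ker (eop ρ a + eop ρ b),
      ρ a m ∈ LinearMap.ker (eop ρ a + eop ρ b) := by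
    intro m hm
    rw [LinearMap.mem_ker, LinearMap.add_apply] at hm ⊢
    rw [← ca_a, ← ca_b, ← (ρ a).map_add, hm, map_zero]
  have hst_b : ∀ m ∈ LinearMap.ker (eop ρ a + eop ρ b),
      ρ b m ∈ LinearMap.ker (eop ρ a + eop ρ b) := by
    intro m hm
    rw [LinearMap.mem_ker, LinearMap.add_apply] at hm ⊢
    rw [← cb_a, ← cb_b, ← (ρ b).map_add, hm, map_zero]
  have hst_r : ∀ m ∈ LinearMap.ker (eop ρ a + eop ρ b),
      ρ r m ∈ LinearMap.ker (eop ρ a + eop ρ b) := by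
    intro m hm
    rw [LinearMap.mem_ker, LinearMap.add_apply] at hm ⊢
    rw [← cr_b, ← cr_a, ← (ρ r).map_add, add_comm, hm, map_zero]
  have hst_s : ∀ m ∈ LinearMap.ker (eop ρ a + eop ρ b),
      ρ s m ∈ LinearMap.ker (eop ρ a + eop ρ b) := by
    intro m hm
    rw [LinearMap.mem_ker, LinearMap.add_apply] at hm ⊢
    rw [← cs_a, ← cs_b, ← (ρ s).map_add, hm, map_zero]
  have hst : ∀ g : S, ∀ m ∈ LinearMap.ker (eop ρ a + eop ρ b),
      ρ g m ∈ LinearMap.ker (eop ρ a + eop ρ b) := by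
    apply stable_of_closure ρ _ _ hgen
    intro t ht
    simp only [Set.mem_insert_iff, Set.mem_singleton_iff] at ht
    rcases ht with h | h | h | h
    · rw [h]; exact hst_a
    · rw [h]; exact hst_b
    · rw [h]; exact hst_r
    · rw [h]; exact hst_s
  rcases hirr _ hst with hK | hK
  · left
    intro m
    have hx : eop ρ a (m + (eop ρ a m + eop ρ b m))
        + eop ρ b (m + (eop ρ a m + eop ρ b m)) = 0 := by
      rw [map_add, map_add, map_add, map_add, haa0, hab0, hba0, hbb0, add_zero, zero_add,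
        ZModModule.add_self, ZModModule.add_self, add_zero]
    have hx2 : m + (eop ρ a m + eop ρ b m) ∈ LinearMap.ker (eop ρ a + eop ρ b) := by
      rw [LinearMap.mem_ker, LinearMap.add_apply]; exact hx
    rw [hK, Submodule.mem_bot] at hx2
    exact char2_eq_of_add_eq_zero hx2
  · right
    have hP0 : ∀ m, eop ρ a m + eop ρ b m = 0 := by
      intro m
      have hm : m ∈ LinearMap.ker (eop ρ a + eop ρ b) := by rw [hK]; trivial
      rw [LinearMap.mem_ker, LinearMap.add_apply] at hm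
      exact hm
    have hea : ∀ m, eop ρ a m = 0 := by
      intro m
      have heq : eop ρ a m = eop ρ b m := char2_eq_of_add_eq_zero (hP0 m)
      apply h0
      · exact eop_fixed ρ a R.ha3 m
      · rw [heq]; exact eop_fixed ρ b R.hb3 m
    have heb : ∀ m, eop ρ b m = 0 := by
      intro m
      have heq : eop ρ a m = eop ρ b m := char2_eq_of_add_eq_zero (hP0 m)
      rw [← heq]; exact hea m
    have hA0 : ∀ x, x = ρ a x + ρ (a ^ 2) x := by
      intro x
      have h := hea x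
      rw [eop_apply, add_assoc] at h
      exact char2_eq_of_add_eq_zero h
    have hB0 : ∀ x, x = ρ b x + ρ (b ^ 2) x := by
      intro x
      have h := heb x
      rw [eop_apply, add_assoc] at h
      exact char2_eq_of_add_eq_zero h
    intro m
    have hc : Commute a b := R.hab
    have e1 : (a * b) ^ 2 = a ^ 2 * b ^ 2 := hc.mul_pow 2
    have e2 : (a ^ 2 * b) ^ 2 = a * b ^ 2 := by
      rw [(hc.pow_left 2).mul_pow, ← pow_mul, show 2 * 2 = 4 from rfl, R.a4]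
    have t1 : ρ (a * b) m = ρ a (ρ b m) := rho_mul_apply ρ a b m
    have t2 : ρ ((a * b) ^ 2) m = ρ (a ^ 2) (ρ (b ^ 2) m) := by rw [e1, rho_mul_apply]
    have t3 : ρ (a ^ 2 * b) m = ρ (a ^ 2) (ρ b m) := rho_mul_apply ρ (a ^ 2) b m
    have t4 : ρ ((a ^ 2 * b) ^ 2) m = ρ a (ρ (b ^ 2) m) := by rw [e2, rho_mul_apply]
    rw [eop_apply, eop_apply, t1, t2, t3, t4]
    have key : m = ρ a (ρ b m) + ρ a (ρ (b ^ 2) m)
        + (ρ (a ^ 2) (ρ b m) + ρ (a ^ 2) (ρ (b ^ 2) m)) := by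
      calc m = ρ a m + ρ (a ^ 2) m := hA0 m
        _ = ρ a (ρ b m + ρ (b ^ 2) m) + ρ (a ^ 2) (ρ b m + ρ (b ^ 2) m) := by rw [← hB0 m]
        _ = _ := by rw [map_add, map_add]
    have rearr : ∀ P Q R' T : M,
        (m + P + Q) + (m + R' + T) = (m + m) + (P + T + (R' + Q)) := by
      intro P Q R' T; abel
    rw [rearr, ZModModule.add_self, zero_add]
    exact key

end Cfsg.Agent.Lib.Helper13.T9D8
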