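import Mathlib
import Cfsg.Agent.Lib.Helper13.T9D8Mod

/-!
# The group `3^2 : D_8`: generators, relations, and its four-subgroups
-/

set_option autoImplicit false
set_option linter.unusedSimpArgs false

namespace Cfsg.Agent.Lib.Helper13.T9D8

/-! ### facts on the dihedral group of order eight -/

theorem d4_class : ∀ x y : DihedralGroup 4, x * x = 1 → y * y = 1 → (x * y) * (x * y) = 1 →
    x ≠ 1 → y ≠ 1 → x ≠ y →
    (x = DihedralGroup.r 2 ∨ y = DihedralGroup.r 2 ∨ x * y = DihedralGroup.r 2) ∧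
    ((x = DihedralGroup.sr 0 ∨ y = DihedralGroup.sr 0 ∨ x * y = DihedralGroup.sr 0) ∨
      (x = DihedralGroup.sr 1 ∨ y = DihedralGroup.sr 1 ∨ x * y = DihedralGroup.sr 1)) := by
  decide

theorem d4_gen : ∀ d : DihedralGroup 4, ∃ l : Fin 2, ∃ k : Fin 4,
    d = DihedralGroup.sr 0 ^ (l : ℕ) * DihedralGroup.r 1 ^ (k : ℕ) := by
  decide

/-! ### counting -/

theorem exists_ne_two {α : Type*} [Finite α] (h : 2 < Nat.card α) (p q : α) :
    ∃ x : α, x ≠ p ∧ x ≠ q := by
  classical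
  by_contra hcon
  push Not at hcon
  have := Fintype.ofFinite α
  have h1 : Fintype.card α ≤ 2 := by
    calc Fintype.card α = (Finset.univ : Finset α).card := rfl
      _ ≤ ({p, q} : Finset α).card := Finset.card_le_card (fun x _ => by
          by_cases hx : x = p
          · simp [hx]
          · simp [hcon x hx])
      _ ≤ 2 := Finset.card_le_two
  rw [Nat.card_eq_fintype_card] at h
  omega

theorem ncard_four {α : Type*} [Finite α] {p q u w : α} (h1 : p ≠ q) (h2 : p ≠ u) (h3 : p ≠ w)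
    (h4 : q ≠ u) (h5 : q ≠ w) (h6 : u ≠ w) : ({p, q, u, w} : Set α).ncard = 4 := by
  have e1 : ({u, w} : Set α).ncard = 2 := Set.ncard_pair h6
  have e2 : ({q, u, w} : Set α).ncard = 3 := by
    rw [Set.ncard_insert_of_notMem (by simp [h4, h5]) (Set.toFinite _), e1]
  rw [Set.ncard_insert_of_notMem (by simp [h1, h2, h3]) (Set.toFinite _), e2]

/-! ### four-groups -/

theorem klein {S : Type*} [Group S] [Finite S] (z t : S) (hzz : z * z = 1) (htt : t * t = 1)
    (hzt : t * z = z * t) (hz1 : z ≠ 1) (ht1 : t ≠ 1) (hne : t ≠ z) :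
    ∃ B : Subgroup S, (∀ x, x ∈ B ↔ x = 1 ∨ x = z ∨ x = t ∨ x = z * t) ∧ Nat.card B = 4 := by
  have hz' : ∀ x, z * (z * x) = x := fun x => by rw [← mul_assoc, hzz, one_mul]
  have ht' : ∀ x, t * (t * x) = x := fun x => by rw [← mul_assoc, htt, one_mul]
  have hzt' : ∀ x, t * (z * x) = z * (t * x) := fun x => by rw [← mul_assoc, hzt, mul_assoc]
  have hzi : z⁻¹ = z := inv_eq_of_mul_eq_one_right hzz
  have hti : t⁻¹ = t := inv_eq_of_mul_eq_one_right htt
  obtain ⟨B, hB⟩ : ∃ B : Subgroup S, ∀ x, x ∈ B ↔ x = 1 ∨ x = z ∨ x = t ∨ x = z * t := by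
    refine ⟨{ carrier := {x | x = 1 ∨ x = z ∨ x = t ∨ x = z * t}
              one_mem' := Or.inl rfl
              mul_mem' := ?_
              inv_mem' := ?_ }, fun x => Iff.rfl⟩
    · rintro x y (hx | hx | hx | hx) (hy | hy | hy | hy) <;> rw [hx, hy] <;>
        simp [mul_assoc, hzz, htt, hzt, hz', ht', hzt']
    · rintro x (hx | hx | hx | hx) <;> rw [hx] <;> simp [hzi, hti, hzt, mul_inv_rev]
  refine ⟨B, hB, ?_⟩
  have hset : (B : Set S) = {1, z, t, z * t} := by
    ext x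
    simp only [SetLike.mem_coe, hB, Set.mem_insert_iff, Set.mem_singleton_iff]
  have hcard : Nat.card B = (B : Set S).ncard := Nat.card_coe_set_eq (B : Set S)
  rw [hcard, hset]
  apply ncard_four
  · exact hz1.symm
  · exact ht1.symm
  · intro h
    apply hne
    have h' : z⁻¹ = t := inv_eq_of_mul_eq_one_right h.symm
    rw [← h', hzi]
  · exact hne.symm
  · intro h
    apply ht1
    have h' := mul_left_cancel (a := z) (b := 1) (c := t) (by rw [mul_one]; exact h)
    exact h'.symm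
  · intro h
    apply hz1
    have h' := mul_right_cancel (a := 1) (b := t) (c := z) (by rw [one_mul]; exact h)
    exact h'.symm

theorem klein_class {S : Type*} [Group S] [Finite S] (ι : DihedralGroup 4 →* S)
    (hι : Function.Injective ι) (B : Subgroup S) (hB : B ≤ ι.range) (hcard : Nat.card B = 4)
    (hexp : ∀ b ∈ B, b ^ 2 = 1) :
    ι (DihedralGroup.r 2) ∈ B ∧ (ι (DihedralGroup.sr 0) ∈ B ∨ ι (DihedralGroup.sr 1) ∈ B) := by
  obtain ⟨⟨x, hxB⟩, hx1, -⟩ := exists_ne_two (α := B) (by omega) 1 1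
  obtain ⟨⟨y, hyB⟩, hy1, hyx⟩ := exists_ne_two (α := B) (by omega) 1 ⟨x, hxB⟩
  obtain ⟨dx, hdx⟩ := MonoidHom.mem_range.1 (hB hxB)
  obtain ⟨dy, hdy⟩ := MonoidHom.mem_range.1 (hB hyB)
  have hxx : dx * dx = 1 := hι (by
    rw [map_mul, map_one, hdx, ← pow_two]; exact hexp _ hxB)
  have hyy : dy * dy = 1 := hι (by
    rw [map_mul, map_one, hdy, ← pow_two]; exact hexp _ hyB)
  have hxy : (dx * dy) * (dx * dy) = 1 := hι (by
    rw [map_mul, map_one, map_mul, hdx, hdy, ← pow_two]; exact hexp _ (B.mul_mem hxB hyB))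
  have hx1' : dx ≠ 1 := by
    intro h
    apply hx1
    apply Subtype.ext
    show x = 1
    rw [← hdx, h, map_one]
  have hy1' : dy ≠ 1 := by
    intro h
    apply hy1
    apply Subtype.ext
    show y = 1
    rw [← hdy, h, map_one]
  have hxy' : dx ≠ dy := by
    intro h
    apply hyx
    apply Subtype.ext
    show y = x
    rw [← hdx, ← hdy, h]
  obtain ⟨h1, h2⟩ := d4_class dx dy hxx hyy hxy hx1' hy1' hxy'
  have hxyB : ι (dx * dy) ∈ B := by rw [map_mul, hdx, hdy]; exact B.mul_mem hxB hyB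
  have hxB' : ι dx ∈ B := by rw [hdx]; exact hxB
  have hyB' : ι dy ∈ B := by rw [hdy]; exact hyB
  constructor
  · rcases h1 with h | h | h
    · rw [← h]; exact hxB'
    · rw [← h]; exact hyB'
    · rw [← h]; exact hxyB
  · rcases h2 with (h | h | h) | (h | h | h)
    · left; rw [← h]; exact hxB'
    · left; rw [← h]; exact hyB'
    · left; rw [← h]; exact hxyB
    · right; rw [← h]; exact hxB'
    · right; rw [← h]; exact hyB'
    · right; rw [← h]; exact hxyB

/-! ### involutions acting on an abelian group of odd order -/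

theorem conj_conj_of_sq {S : Type*} [Group S] {t : S} (ht : t * t = 1) (y : S) :
    t * (t * y * t⁻¹) * t⁻¹ = y := by
  have hti : t⁻¹ = t := inv_eq_of_mul_eq_one_right ht
  rw [hti]
  simp only [mul_assoc]
  rw [ht, mul_one, ← mul_assoc, ht, one_mul]

theorem exists_invSub {S : Type*} [Group S] (A : Subgroup S)
    (hcomm : ∀ x ∈ A, ∀ y ∈ A, x * y = y * x) (t : S) :
    ∃ I : Subgroup S, ∀ y, y ∈ I ↔ (y ∈ A ∧ t * y * t⁻¹ = y⁻¹) := by
  refine ⟨{ carrier := {y | y ∈ A ∧ t * y * t⁻¹ = y⁻¹}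
            one_mem' := ⟨A.one_mem, by simp⟩
            mul_mem' := ?_
            inv_mem' := ?_ }, fun y => Iff.rfl⟩
  · rintro x y ⟨hx, hx'⟩ ⟨hy, hy'⟩
    refine ⟨A.mul_mem hx hy, ?_⟩
    calc t * (x * y) * t⁻¹ = (t * x * t⁻¹) * (t * y * t⁻¹) := conj_mul.symm
      _ = x⁻¹ * y⁻¹ := by rw [hx', hy']
      _ = (y * x)⁻¹ := by rw [mul_inv_rev]
      _ = (x * y)⁻¹ := by rw [hcomm x hx y hy]
  · rintro x ⟨hx, hx'⟩
    refine ⟨A.inv_mem hx, ?_⟩
    rw [← conj_inv, hx']

theorem inverts_of_no_fixed {S : Type*} [Group S] (A : Subgroup S)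
    (hcomm : ∀ x ∈ A, ∀ y ∈ A, x * y = y * x) (t : S) (ht : t * t = 1)
    (hnorm : ∀ y ∈ A, t * y * t⁻¹ ∈ A)
    (h : ∀ y ∈ A, t * y * t⁻¹ = y → y = 1) : ∀ y ∈ A, t * y * t⁻¹ = y⁻¹ := by
  intro y hy
  have hy' := hnorm y hy
  have hN : t * (y * (t * y * t⁻¹)) * t⁻¹ = y * (t * y * t⁻¹) := by
    rw [← conj_mul, conj_conj_of_sq ht, hcomm _ hy' _ hy]
  have h1 := h _ (A.mul_mem hy hy') hN
  exact eq_inv_of_mul_eq_one_right h1

theorem centralizes_of_no_inverted {S : Type*} [Group S] (A : Subgroup S)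
    (t : S) (ht : t * t = 1) (hnorm : ∀ y ∈ A, t * y * t⁻¹ ∈ A)
    (h : ∀ y ∈ A, t * y * t⁻¹ = y⁻¹ → y = 1) : ∀ y ∈ A, t * y * t⁻¹ = y := by
  intro y hy
  have hy' := hnorm y hy
  have hu : t * (y⁻¹ * (t * y * t⁻¹)) * t⁻¹ = (y⁻¹ * (t * y * t⁻¹))⁻¹ := by
    rw [← conj_mul, conj_conj_of_sq ht, mul_inv_rev, inv_inv, ← conj_inv]
  have h1 := h _ (A.mul_mem (A.inv_mem hy) hy') hu
  exact (inv_mul_eq_one.1 h1).symm

theorem no_sqrt_neg_one {S : Type*} [Group S] (c r : S) (hc3 : c ^ 3 = 1) (hc1 : c ≠ 1) (n : ℕ)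
    (h1 : r * c * r⁻¹ = c ^ n) (h2 : r * (r * c * r⁻¹) * r⁻¹ = c⁻¹) : False := by
  have h3 : c ^ (n * n) = c⁻¹ := by
    rw [pow_mul, ← h1, conj_pow, ← h1]; exact h2
  have h4 : c ^ (n * n + 1) = 1 := by rw [pow_succ, h3, inv_mul_cancel]
  have hord : orderOf c = 3 := by
    have hd : orderOf c ∣ 3 := orderOf_dvd_of_pow_eq_one hc3
    rcases (Nat.dvd_prime Nat.prime_three).1 hd with h | h
    · exact absurd (orderOf_eq_one_iff.1 h) hc1
    · exact h
  have h5 : 3 ∣ n * n + 1 := by rw [← hord]; exact orderOf_dvd_of_pow_eq_one h4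
  have h6 := Nat.mul_mod n n 3
  have h7 : n % 3 = 0 ∨ n % 3 = 1 ∨ n % 3 = 2 := by omega
  rcases h7 with h | h | h <;> rw [h] at h6 <;> omega

/-! ### the generators -/

theorem exists_gens {S : Type*} [Group S] [Finite S] (A : Subgroup S) [hAn : A.Normal]
    (hcomm : ∀ x ∈ A, ∀ y ∈ A, x * y = y * x) (hexp : ∀ x ∈ A, x ^ 3 = 1)
    (hA9 : Nat.card A = 9) (hAC : Subgroup.centralizer (A : Set S) = A) (X : Subgroup S)
    (e : X ≃* DihedralGroup 4) (hAX : A ⊔ X = ⊤) :
    ∃ a b r s : S, Rel a b r s ∧ Subgroup.closure ({a, b, r, s} : Set S) = ⊤ ∧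
      Subgroup.closure ({a, b} : Set S) = A ∧ a ≠ 1 ∧ r ∈ X ∧ s ∈ X ∧
      r ^ 2 ≠ 1 ∧ s ≠ 1 ∧ s ≠ r ^ 2 ∧ s * r ≠ 1 ∧ s * r ≠ r ^ 2 ∧ s * r⁻¹ ≠ 1 ∧
      s * r⁻¹ ≠ r ^ 2 ∧
      (∀ B : Subgroup S, B ≤ X → Nat.card B = 4 → (∀ b ∈ B, b ^ 2 = 1) →
        r ^ 2 ∈ B ∧ (s ∈ B ∨ s * r ∈ B)) := by
  classical
  obtain ⟨ι, hι_def⟩ : ∃ ι : DihedralGroup 4 →* S, ∀ d, ι d = ((e.symm d : X) : S) :=
    ⟨X.subtype.comp e.symm.toMonoidHom, fun d => rfl⟩
  have hι : Function.Injective ι := by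
    intro d₁ d₂ h
    rw [hι_def, hι_def] at h
    exact e.symm.injective (Subtype.ext h)
  have hιX : ∀ d, ι d ∈ X := fun d => by rw [hι_def]; exact (e.symm d).2
  have hXι : ∀ x ∈ X, ∃ d, ι d = x := by
    intro x hx
    refine ⟨e ⟨x, hx⟩, ?_⟩
    rw [hι_def, e.symm_apply_apply]
  have hXr : X ≤ ι.range := fun x hx => MonoidHom.mem_range.2 (hXι x hx)
  have hι1 : ∀ d : DihedralGroup 4, d = 1 → ι d = 1 := fun d h => by rw [h, map_one]
  have hne1 : ∀ d : DihedralGroup 4, d ≠ 1 → ι d ≠ 1 := fun d hd h =>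
    hd (hι (h.trans (map_one ι).symm))
  have hne : ∀ d₁ d₂ : DihedralGroup 4, d₁ ≠ d₂ → ι d₁ ≠ ι d₂ := fun _ _ h h' => h (hι h')
  obtain ⟨r, hr⟩ : ∃ r : S, r = ι (DihedralGroup.r 1) := ⟨_, rfl⟩
  obtain ⟨s, hs⟩ : ∃ s : S, s = ι (DihedralGroup.sr 0) := ⟨_, rfl⟩
  obtain ⟨z, hz⟩ : ∃ z : S, z = ι (DihedralGroup.r 2) := ⟨_, rfl⟩
  have hr2 : r * r = z := by rw [hr, hz, ← map_mul ι]; exact congrArg ι (by decide)
  have hr2' : r ^ 2 = z := by rw [pow_two]; exact hr2
  have hzz : z * z = 1 := by rw [hz, ← map_mul ι]; exact hι1 _ (by decide)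
  have hss : s * s = 1 := by rw [hs, ← map_mul ι]; exact hι1 _ (by decide)
  have hr4 : r ^ 4 = 1 := by rw [hr, ← map_pow ι]; exact hι1 _ (by decide)
  have hs2 : s ^ 2 = 1 := by rw [pow_two]; exact hss
  have hsr : s * r * s⁻¹ = r⁻¹ := by
    rw [hs, hr, ← map_inv ι, ← map_inv ι, ← map_mul ι, ← map_mul ι]
    exact congrArg ι (by decide)
  have hzr : z * r = r * z := by
    rw [hz, hr, ← map_mul ι, ← map_mul ι]; exact congrArg ι (by decide)
  have hzr3 : z * r = r⁻¹ := by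
    rw [hz, hr, ← map_inv ι, ← map_mul ι]; exact congrArg ι (by decide)
  have hz1 : z ≠ 1 := by rw [hz]; exact hne1 _ (by decide)
  -- `A` and `X` meet trivially
  have hX8 : Nat.card X = 8 := by
    have h := DihedralGroup.nat_card (n := 4)
    rw [Nat.card_congr e.toEquiv]
    omega
  have hdisj : Disjoint A X :=
    Subgroup.disjoint_of_coprime_natCard (by rw [hA9, hX8]; decide)
  have hAX0 : ∀ x, x ∈ A → x ∈ X → x = 1 := fun x h1 h2 =>
    Subgroup.disjoint_def.1 hdisj h1 h2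
  -- `X` acts faithfully on `A`
  have hfaith : ∀ d : DihedralGroup 4, (∀ y ∈ A, ι d * y * (ι d)⁻¹ = y) → d = 1 := by
    intro d hd
    have hc : ι d ∈ Subgroup.centralizer (A : Set S) := by
      rw [Subgroup.mem_centralizer_iff]
      intro y hy
      have h := hd y hy
      rw [mul_inv_eq_iff_eq_mul] at h
      exact h.symm
    rw [hAC] at hc
    have h1 := hAX0 _ hc (hιX d)
    exact hι (h1.trans (map_one ι).symm)
  have hnorm : ∀ g : S, ∀ y ∈ A, g * y * g⁻¹ ∈ A := fun g y hy => hAn.conj_mem y hy g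
  -- the central involution inverts `A`
  have hzinv : ∀ y ∈ A, z * y * z⁻¹ = y⁻¹ := by
    obtain ⟨I, hI⟩ := exists_invSub A hcomm z
    have hIA : I ≤ A := fun y hy => ((hI y).1 hy).1
    have hdvd : Nat.card I ∣ 3 ^ 2 := by
      rw [show (3 : ℕ) ^ 2 = 9 from rfl, ← hA9]; exact Subgroup.card_dvd_of_le hIA
    obtain ⟨k, hk, hcard⟩ := (Nat.dvd_prime_pow Nat.prime_three).1 hdvd
    have hk' : k = 0 ∨ k = 1 ∨ k = 2 := by omega
    rcases hk' with rfl | rfl | rfl
    · exfalso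
      have hIbot : I = ⊥ := Subgroup.card_eq_one.1 (hcard.trans (pow_zero 3))
      have hcen : ∀ y ∈ A, z * y * z⁻¹ = y := by
        apply centralizes_of_no_inverted A z hzz (hnorm z)
        intro y hy hyinv
        have hyI : y ∈ I := (hI y).2 ⟨hy, hyinv⟩
        rw [hIbot] at hyI
        exact Subgroup.mem_bot.1 hyI
      have h21 := hfaith (DihedralGroup.r 2) (by rw [← hz]; exact hcen)
      exact absurd h21 (by decide)
    · exfalso
      have h3 : Nat.card I = 3 := hcard.trans (pow_one 3)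
      have : Fact (Nat.Prime 3) := ⟨Nat.prime_three⟩
      obtain ⟨⟨c, hcI⟩, hc1, -⟩ := exists_ne_two (α := I) (by omega) 1 1
      have hcA : c ∈ A := hIA hcI
      have hzc : z * c * z⁻¹ = c⁻¹ := ((hI c).1 hcI).2
      have hc1' : c ≠ 1 := fun h => hc1 (Subtype.ext h)
      have hrcI : r * c * r⁻¹ ∈ I := by
        rw [hI]
        refine ⟨hnorm r c hcA, ?_⟩
        calc z * (r * c * r⁻¹) * z⁻¹ = (z * r) * c * (z * r)⁻¹ := by group
          _ = (r * z) * c * (r * z)⁻¹ := by rw [hzr]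
          _ = r * (z * c * z⁻¹) * r⁻¹ := by group
          _ = r * c⁻¹ * r⁻¹ := by rw [hzc]
          _ = (r * c * r⁻¹)⁻¹ := conj_inv.symm
      have hpow := mem_powers_of_prime_card (G := I) h3 (g := ⟨c, hcI⟩)
        (g' := ⟨r * c * r⁻¹, hrcI⟩) hc1
      obtain ⟨n, hn⟩ := (Submonoid.mem_powers_iff _ _).1 hpow
      have hn' : c ^ n = r * c * r⁻¹ := by
        have h := congrArg Subtype.val hn
        simpa using h
      apply no_sqrt_neg_one c r (hexp c hcA) hc1' n hn'.symm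
      rw [← hzc, ← hr2]
      simp only [mul_assoc, mul_inv_rev]
    · have h9 : Nat.card I = 9 := hcard.trans (by norm_num)
      have hIA' : I = A := Subgroup.eq_of_le_of_card_ge hIA (le_of_eq (by rw [h9, hA9]))
      intro y hy
      rw [← hIA'] at hy
      exact ((hI y).1 hy).2
  -- an element centralized by `s`
  have hexa : ∃ a ∈ A, a ≠ 1 ∧ s * a * s⁻¹ = a := by
    by_contra hcon
    push Not at hcon
    have hsinv : ∀ y ∈ A, s * y * s⁻¹ = y⁻¹ := by
      apply inverts_of_no_fixed A hcomm s hss (hnorm s)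
      intro y hy hfix
      by_contra hy1
      exact hcon y hy hy1 hfix
    have h1 := hfaith (DihedralGroup.sr 0 * DihedralGroup.r 2) (by
      intro y hy
      rw [map_mul, ← hs, ← hz]
      calc s * z * y * (s * z)⁻¹ = s * (z * y * z⁻¹) * s⁻¹ := by group
        _ = s * y⁻¹ * s⁻¹ := by rw [hzinv y hy]
        _ = (s * y * s⁻¹)⁻¹ := conj_inv.symm
        _ = y := by rw [hsinv y hy, inv_inv])
    exact absurd h1 (by decide)
  obtain ⟨a, haA, ha1, hsa⟩ := hexa
  obtain ⟨b, hb⟩ : ∃ b : S, b = r * a * r⁻¹ := ⟨_, rfl⟩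
  have hbA : b ∈ A := by rw [hb]; exact hnorm r a haA
  have hrb : r * b * r⁻¹ = a⁻¹ := by
    rw [hb, ← hzinv a haA, ← hr2]
    simp only [mul_assoc, mul_inv_rev]
  have hsb : s * b * s⁻¹ = b⁻¹ := by
    have e1 : s * b * s⁻¹ = r⁻¹ * a * r := by
      rw [hb]
      calc s * (r * a * r⁻¹) * s⁻¹
          = (s * r * s⁻¹) * (s * a * s⁻¹) * (s * r * s⁻¹)⁻¹ := by group
        _ = r⁻¹ * a * r := by rw [hsr, hsa, inv_inv]
    have e2 : z * b * z⁻¹ = r⁻¹ * a * r := by
      rw [hb]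
      calc z * (r * a * r⁻¹) * z⁻¹ = (z * r) * a * (z * r)⁻¹ := by group
        _ = r⁻¹ * a * r := by rw [hzr3, inv_inv]
    rw [e1, ← e2]; exact hzinv b hbA
  have R : Rel a b r s :=
    ⟨hexp a haA, hexp b hbA, hcomm a haA b hbA, hr4, hs2, hsr, hsa, hsb, hb.symm, hrb⟩
  -- `a` and `b` generate `A`
  have hK : Subgroup.closure ({a, b} : Set S) = A := by
    have hKA : Subgroup.closure ({a, b} : Set S) ≤ A := by
      rw [Subgroup.closure_le]
      intro x hx
      simp only [Set.mem_insert_iff, Set.mem_singleton_iff] at hx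
      rcases hx with h | h
      · rw [h]; exact haA
      · rw [h]; exact hbA
    have haK : a ∈ Subgroup.closure ({a, b} : Set S) := Subgroup.subset_closure (by simp)
    have hbK : b ∈ Subgroup.closure ({a, b} : Set S) := Subgroup.subset_closure (by simp)
    have hzpK : Subgroup.zpowers a ≤ Subgroup.closure ({a, b} : Set S) := by
      rw [Subgroup.zpowers_le]; exact haK
    have horda : orderOf a = 3 := by
      have hd : orderOf a ∣ 3 := orderOf_dvd_of_pow_eq_one (hexp a haA)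
      rcases (Nat.dvd_prime Nat.prime_three).1 hd with h | h
      · exact absurd (orderOf_eq_one_iff.1 h) ha1
      · exact h
    have hzp3 : Nat.card (Subgroup.zpowers a) = 3 := by rw [Nat.card_zpowers, horda]
    have hdvd : Nat.card (Subgroup.closure ({a, b} : Set S)) ∣ 3 ^ 2 := by
      rw [show (3 : ℕ) ^ 2 = 9 from rfl, ← hA9]; exact Subgroup.card_dvd_of_le hKA
    have h3dvd : 3 ∣ Nat.card (Subgroup.closure ({a, b} : Set S)) := by
      rw [← hzp3]; exact Subgroup.card_dvd_of_le hzpK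
    obtain ⟨k, hk, hcard⟩ := (Nat.dvd_prime_pow Nat.prime_three).1 hdvd
    have hk' : k = 0 ∨ k = 1 ∨ k = 2 := by omega
    rcases hk' with rfl | rfl | rfl
    · exfalso
      rw [hcard, pow_zero] at h3dvd
      omega
    · exfalso
      have hcard3 : Nat.card (Subgroup.closure ({a, b} : Set S)) = 3 :=
        hcard.trans (pow_one 3)
      have heq : Subgroup.zpowers a = Subgroup.closure ({a, b} : Set S) :=
        Subgroup.eq_of_le_of_card_ge hzpK (le_of_eq (by rw [hcard3, hzp3]))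
      have hbz : b ∈ Subgroup.zpowers a := by rw [heq]; exact hbK
      rw [← mem_powers_iff_mem_zpowers] at hbz
      obtain ⟨n, hn⟩ := (Submonoid.mem_powers_iff _ _).1 hbz
      apply no_sqrt_neg_one a r (hexp a haA) ha1 n (by rw [← hb, hn])
      rw [← hb]; exact hrb
    · have h9 : Nat.card (Subgroup.closure ({a, b} : Set S)) = 9 :=
        hcard.trans (by norm_num)
      exact Subgroup.eq_of_le_of_card_ge hKA (le_of_eq (by rw [h9, hA9]))
  -- everything is generated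
  have hgen : Subgroup.closure ({a, b, r, s} : Set S) = ⊤ := by
    rw [eq_top_iff, ← hAX]
    apply sup_le
    · rw [← hK]
      apply Subgroup.closure_mono
      intro x hx
      simp only [Set.mem_insert_iff, Set.mem_singleton_iff] at hx ⊢
      rcases hx with h | h
      · exact Or.inl h
      · exact Or.inr (Or.inl h)
    · intro x hx
      obtain ⟨d, hd⟩ := hXι x hx
      obtain ⟨l, k, hlk⟩ := d4_gen d
      rw [← hd, hlk, map_mul, map_pow, map_pow, ← hs, ← hr]
      have hrH : r ∈ Subgroup.closure ({a, b, r, s} : Set S) :=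
        Subgroup.subset_closure (by simp)
      have hsH : s ∈ Subgroup.closure ({a, b, r, s} : Set S) :=
        Subgroup.subset_closure (by simp)
      exact Subgroup.mul_mem _ (Subgroup.pow_mem _ hsH _) (Subgroup.pow_mem _ hrH _)
  refine ⟨a, b, r, s, R, hgen, hK, ha1, ?_, ?_, ?_, ?_, ?_, ?_, ?_, ?_, ?_, ?_⟩
  · rw [hr]; exact hιX _
  · rw [hs]; exact hιX _
  · rw [hr2']; exact hz1
  · rw [hs]; exact hne1 _ (by decide)
  · rw [hr2', hs, hz]; exact hne _ _ (by decide)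
  · rw [hs, hr, ← map_mul ι]; exact hne1 _ (by decide)
  · rw [hr2', hz, hs, hr, ← map_mul ι]; exact hne _ _ (by decide)
  · rw [hs, hr, ← map_inv ι, ← map_mul ι]; exact hne1 _ (by decide)
  · rw [hr2', hz, hs, hr, ← map_inv ι, ← map_mul ι]; exact hne _ _ (by decide)
  · intro B hBX hB4 hBexp
    obtain ⟨h1, h2⟩ := klein_class ι hι B (hBX.trans hXr) hB4 hBexp
    refine ⟨?_, ?_⟩
    · rw [hr2', hz]; exact h1
    · rcases h2 with h | h
      · left; rw [hs]; exact h
      · right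
        rw [hs, hr, ← map_mul ι]
        have e1 : DihedralGroup.sr (0 : ZMod 4) * DihedralGroup.r 1 = DihedralGroup.sr 1 := by
          decide
        rw [e1]; exact h

end Cfsg.Agent.Lib.Helper13.T9D8
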