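import Mathlib
import Cfsg.Agent.Lib.Helper13.T9D8Mod
import Cfsg.Agent.Lib.Helper13.T9D8Grp

/-!
# Faithful irreducible modules over the field with two elements for `3^2 : D_8`: the theorem
-/

set_option autoImplicit false
set_option linter.unusedSimpArgs false

namespace Cfsg.Agent.Lib.Helper13.T9D8

variable {S : Type*} [Group S] {M : Type*} [AddCommGroup M] [Module (ZMod 2) M]

/-- a normal subgroup acting faithfully on an irreducible module fixes no nonzero vector -/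
theorem no_fixed_of_faithful [Finite S] (A : Subgroup S) [hAn : A.Normal] {a b : S}
    (hK : Subgroup.closure ({a, b} : Set S) = A) (ha1 : a ≠ 1)
    (ρ : Representation (ZMod 2) S M) (hfaith : Function.Injective ρ)
    (hirr : ∀ N : Submodule (ZMod 2) M, (∀ g : S, ∀ m ∈ N, ρ g m ∈ N) → N = ⊥ ∨ N = ⊤) :
    ∀ m, ρ a m = m → ρ b m = m → m = 0 := by
  obtain ⟨F, hF⟩ : ∃ F : Submodule (ZMod 2) M, ∀ m, m ∈ F ↔ ∀ y ∈ A, ρ y m = m := by
    refine ⟨{ carrier := {m | ∀ y ∈ A, ρ y m = m}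
              add_mem' := ?_
              zero_mem' := ?_
              smul_mem' := ?_ }, fun m => Iff.rfl⟩
    · intro x y hx hy
      show ∀ g ∈ A, ρ g (x + y) = x + y
      intro g hg
      rw [map_add, hx g hg, hy g hg]
    · show ∀ g ∈ A, ρ g (0 : M) = 0
      intro g _
      exact map_zero _
    · intro c x hx
      show ∀ g ∈ A, ρ g (c • x) = c • x
      intro g hg
      rw [map_smul, hx g hg]
  have hst : ∀ g : S, ∀ m ∈ F, ρ g m ∈ F := by
    intro g m hm
    rw [hF] at hm ⊢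
    intro y hy
    have hy' : g⁻¹ * y * g⁻¹⁻¹ ∈ A := hAn.conj_mem y hy g⁻¹
    have hcomm : y * g = g * (g⁻¹ * y * g⁻¹⁻¹) := by group
    rw [rho_comm ρ hcomm, hm _ hy']
  have haA : a ∈ A := by rw [← hK]; exact Subgroup.subset_closure (by simp)
  rcases hirr F hst with hbot | htop
  · intro m hma hmb
    have hmF : m ∈ F := by
      rw [hF]
      intro y hy
      rw [← hK] at hy
      refine Subgroup.closure_induction (p := fun y _ => ρ y m = m) ?_ ?_ ?_ ?_ hy
      · intro x hx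
        simp only [Set.mem_insert_iff, Set.mem_singleton_iff] at hx
        rcases hx with h | h
        · rw [h]; exact hma
        · rw [h]; exact hmb
      · exact rho_one_apply ρ m
      · intro x y _ _ hx hy
        rw [rho_mul_apply, hy, hx]
      · intro x _ hx
        have h := rho_mul_apply ρ x⁻¹ x m
        rw [inv_mul_cancel, rho_one_apply, hx] at h
        exact h.symm
    rw [hbot] at hmF
    exact (Submodule.mem_bot _).1 hmF
  · exfalso
    apply ha1
    apply hfaith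
    rw [map_one]
    ext m
    have hm : m ∈ F := by rw [htop]; trivial
    rw [hF] at hm
    rw [hm a haA]
    rfl

/-- the unique good four-group -/
theorem fin_lemma [Finite S] (ρ : Representation (ZMod 2) S M) (X : Subgroup S)
    (z t₁ t₂ : S) (hzX : z ∈ X) (ht₁X : t₁ ∈ X)
    (hzz : z * z = 1) (ht₁ : t₁ * t₁ = 1) (ht₂ : t₂ * t₂ = 1)
    (hc₁ : t₁ * z = z * t₁) (hc₂ : t₂ * z = z * t₂)
    (hz1 : z ≠ 1) (h11 : t₁ ≠ 1) (h21 : t₂ ≠ 1) (h1z : t₁ ≠ z) (h2z : t₂ ≠ z)
    (hclass : ∀ B : Subgroup S, B ≤ X → Nat.card B = 4 → (∀ b ∈ B, b ^ 2 = 1) →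
      z ∈ B ∧ (t₁ ∈ B ∨ t₂ ∈ B))
    (hgood : Nat.card {m : M // ρ z m = m ∧ ρ t₁ m = m} = 2)
    (hbad : Nat.card {m : M // ρ z m = m ∧ ρ t₂ m = m} = 4) :
    ∃! B : Subgroup S, B ≤ X ∧ Nat.card B = 4 ∧ (∀ b ∈ B, b ^ 2 = 1) ∧
      Nat.card {m : M // ∀ b ∈ B, ρ b m = m} = 2 := by
  obtain ⟨B₁, hB₁mem, hB₁card⟩ := klein z t₁ hzz ht₁ hc₁ hz1 h11 h1z
  obtain ⟨B₂, hB₂mem, hB₂card⟩ := klein z t₂ hzz ht₂ hc₂ hz1 h21 h2z
  have fixcard : ∀ (B : Subgroup S) (t : S),
      (∀ x, x ∈ B ↔ x = 1 ∨ x = z ∨ x = t ∨ x = z * t) →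
      Nat.card {m : M // ∀ b ∈ B, ρ b m = m}
        = Nat.card {m : M // ρ z m = m ∧ ρ t m = m} := by
    intro B t hmem
    apply Nat.card_congr
    apply Equiv.subtypeEquivRight
    intro m
    constructor
    · intro h
      exact ⟨h z ((hmem z).2 (Or.inr (Or.inl rfl))),
        h t ((hmem t).2 (Or.inr (Or.inr (Or.inl rfl))))⟩
    · rintro ⟨h1, h2⟩ x hx
      rcases (hmem x).1 hx with h | h | h | h
      · rw [h]; exact rho_one_apply ρ m
      · rw [h]; exact h1
      · rw [h]; exact h2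
      · rw [h, rho_mul_apply, h2, h1]
  have exp2 : ∀ (B : Subgroup S) (t : S), t * t = 1 → t * z = z * t →
      (∀ x, x ∈ B ↔ x = 1 ∨ x = z ∨ x = t ∨ x = z * t) → ∀ x ∈ B, x ^ 2 = 1 := by
    intro B t ht hc hmem x hx
    rcases (hmem x).1 hx with h | h | h | h
    · rw [h, one_pow]
    · rw [h, pow_two, hzz]
    · rw [h, pow_two, ht]
    · rw [h, pow_two]
      calc z * t * (z * t) = z * (t * z) * t := by simp only [mul_assoc]
        _ = z * (z * t) * t := by rw [hc]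
        _ = (z * z) * (t * t) := by simp only [mul_assoc]
        _ = 1 := by rw [hzz, ht, one_mul]
  have leX : ∀ (B : Subgroup S) (t : S), t ∈ X →
      (∀ x, x ∈ B ↔ x = 1 ∨ x = z ∨ x = t ∨ x = z * t) → B ≤ X := by
    intro B t htX hmem x hx
    rcases (hmem x).1 hx with h | h | h | h
    · rw [h]; exact X.one_mem
    · rw [h]; exact hzX
    · rw [h]; exact htX
    · rw [h]; exact X.mul_mem hzX htX
  have leB : ∀ (B' B : Subgroup S) (t : S),
      (∀ x, x ∈ B' ↔ x = 1 ∨ x = z ∨ x = t ∨ x = z * t) → z ∈ B → t ∈ B → B' ≤ B := by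
    intro B' B t hmem hz ht x hx
    rcases (hmem x).1 hx with h | h | h | h
    · rw [h]; exact B.one_mem
    · rw [h]; exact hz
    · rw [h]; exact ht
    · rw [h]; exact B.mul_mem hz ht
  refine ⟨B₁, ⟨leX B₁ t₁ ht₁X hB₁mem, hB₁card, exp2 B₁ t₁ ht₁ hc₁ hB₁mem, ?_⟩, ?_⟩
  · rw [fixcard B₁ t₁ hB₁mem]; exact hgood
  · rintro B ⟨hBX, hBcard, hBexp, hBfix⟩
    obtain ⟨hzB, h | h⟩ := hclass B hBX hBcard hBexp
    · have hle := leB B₁ B t₁ hB₁mem hzB h
      exact (Subgroup.eq_of_le_of_card_ge hle (le_of_eq (by rw [hBcard, hB₁card]))).symm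
    · exfalso
      have hle := leB B₂ B t₂ hB₂mem hzB h
      have heq : B₂ = B :=
        Subgroup.eq_of_le_of_card_ge hle (le_of_eq (by rw [hBcard, hB₂card]))
      rw [← heq, fixcard B₂ t₂ hB₂mem, hbad] at hBfix
      omega

/-- **The faithful irreducible module of `3^2 : D_8` over the field with two elements.** -/
theorem main_thm [Finite S] (A : Subgroup S) [hAn : A.Normal]
    (hcomm : ∀ x ∈ A, ∀ y ∈ A, x * y = y * x) (hexp : ∀ x ∈ A, x ^ 3 = 1)
    (hA9 : Nat.card A = 9) (hAC : Subgroup.centralizer (A : Set S) = A) (X : Subgroup S)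
    (e : X ≃* DihedralGroup 4) (hAX : A ⊔ X = ⊤) [Nontrivial M]
    (ρ : Representation (ZMod 2) S M) (hfaith : Function.Injective ρ)
    (hirr : ∀ N : Submodule (ZMod 2) M, (∀ g : S, ∀ m ∈ N, ρ g m ∈ N) → N = ⊥ ∨ N = ⊤) :
    Nat.card M = 16 ∧
      ∃! B : Subgroup S, B ≤ X ∧ Nat.card B = 4 ∧ (∀ b ∈ B, b ^ 2 = 1) ∧
        Nat.card {m : M // ∀ b ∈ B, ρ b m = m} = 2 := by
  obtain ⟨a, b, r, s, R, hgen, hK, ha1, hrX, hsX, hz1, hs1, hsz, hsr1, hsrz, hsri1, hsriz,
    hclass⟩ := exists_gens A hcomm hexp hA9 hAC X e hAX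
  have h0 := no_fixed_of_faithful A hK ha1 ρ hfaith hirr
  have hzX : r ^ 2 ∈ X := X.pow_mem hrX 2
  rcases dichotomy R hgen ρ hirr h0 with hV | hV
  · obtain ⟨h16, h4, h2⟩ := module_main R hgen ρ hirr hV h0
    refine ⟨h16, ?_⟩
    exact fin_lemma ρ X (r ^ 2) (s * r) s hzX (X.mul_mem hsX hrX) R.zz R.sr_sq R.ss
      R.sr_z R.i8 hz1 hsr1 hs1 hsrz hsz
      (fun B h1 h2 h3 => by
        obtain ⟨hz, h | h⟩ := hclass B h1 h2 h3
        · exact ⟨hz, Or.inr h⟩
        · exact ⟨hz, Or.inl h⟩) h2 h4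
  · have R' := R.twist
    have e1 : (a ^ 2 * b) * (a * b)⁻¹ = a := by
      rw [pow_two, mul_assoc a a b, mul_assoc a (a * b), mul_inv_cancel, mul_one]
    have h0' : ∀ m, ρ (a * b) m = m → ρ (a ^ 2 * b) m = m → m = 0 := by
      intro m h1 h2
      have h1i : ρ (a * b)⁻¹ m = m := by
        have h := rho_mul_apply ρ (a * b)⁻¹ (a * b) m
        rw [inv_mul_cancel, rho_one_apply, h1] at h
        exact h.symm
      have ha : ρ a m = m := by
        calc ρ a m = ρ ((a ^ 2 * b) * (a * b)⁻¹) m := by rw [e1]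
          _ = m := by rw [rho_mul_apply, h1i, h2]
      have hai : ρ a⁻¹ m = m := by
        have h := rho_mul_apply ρ a⁻¹ a m
        rw [inv_mul_cancel, rho_one_apply, ha] at h
        exact h.symm
      have hb : ρ b m = m := by
        calc ρ b m = ρ (a⁻¹ * (a * b)) m := by rw [inv_mul_cancel_left]
          _ = m := by rw [rho_mul_apply, h1, hai]
      exact h0 m ha hb
    have hgen' : Subgroup.closure ({a * b, a ^ 2 * b, r, s * r⁻¹} : Set S) = ⊤ := by
      have hab : a * b ∈ Subgroup.closure ({a * b, a ^ 2 * b, r, s * r⁻¹} : Set S) :=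
        Subgroup.subset_closure (by simp)
      have ha2b : a ^ 2 * b ∈ Subgroup.closure ({a * b, a ^ 2 * b, r, s * r⁻¹} : Set S) :=
        Subgroup.subset_closure (by simp)
      have hr : r ∈ Subgroup.closure ({a * b, a ^ 2 * b, r, s * r⁻¹} : Set S) :=
        Subgroup.subset_closure (by simp)
      have hsr : s * r⁻¹ ∈ Subgroup.closure ({a * b, a ^ 2 * b, r, s * r⁻¹} : Set S) :=
        Subgroup.subset_closure (by simp)
      have ha : a ∈ Subgroup.closure ({a * b, a ^ 2 * b, r, s * r⁻¹} : Set S) := by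
        have h := Subgroup.mul_mem _ ha2b (Subgroup.inv_mem _ hab)
        rwa [e1] at h
      have hb : b ∈ Subgroup.closure ({a * b, a ^ 2 * b, r, s * r⁻¹} : Set S) := by
        have h := Subgroup.mul_mem _ (Subgroup.inv_mem _ ha) hab
        rwa [inv_mul_cancel_left] at h
      have hs : s ∈ Subgroup.closure ({a * b, a ^ 2 * b, r, s * r⁻¹} : Set S) := by
        have h := Subgroup.mul_mem _ hsr hr
        rwa [inv_mul_cancel_right] at h
      rw [eq_top_iff, ← hgen, Subgroup.closure_le]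
      intro x hx
      simp only [Set.mem_insert_iff, Set.mem_singleton_iff] at hx
      rcases hx with h | h | h | h
      · rw [h]; exact ha
      · rw [h]; exact hb
      · rw [h]; exact hr
      · rw [h]; exact hs
    obtain ⟨h16, h4, h2⟩ := module_main R' hgen' ρ hirr hV h0'
    rw [inv_mul_cancel_right] at h2
    refine ⟨h16, ?_⟩
    exact fin_lemma ρ X (r ^ 2) s (s * r⁻¹) hzX hsX R.zz R.ss
      (by rw [← pow_two]; exact R'.hs2) R.i8 R'.i8 hz1 hs1 hsri1 hsz hsriz
      (fun B h1 h2 h3 => by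
        obtain ⟨hz, h | h⟩ := hclass B h1 h2 h3
        · exact ⟨hz, Or.inl h⟩
        · refine ⟨hz, Or.inr ?_⟩
          rw [R.srinv]; exact B.mul_mem hz h) h2 h4

end Cfsg.Agent.Lib.Helper13.T9D8
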