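import Mathlib
import Cfsg.Agent.Lib.Helper1.Critical

/-!
S3117 project (helper13), part A1: Thompson's critical subgroup for `p = 2` with the
element-wise properties exported (adapted from helper1's `exists_critical_subgroup`).
-/

set_option autoImplicit false

namespace Cfsg.Agent.Lib.Helper13.ThreeInv

open scoped commutatorElement
open Cfsg.Agent.Lib.Helper1

theorem exists_critical {P : Type*} [Group P] [Finite P] (h2 : IsPGroup 2 P) :
    ∃ C D : Subgroup P,
      (∀ φ : MulAut P, ∀ x ∈ C, φ x ∈ C) ∧ (∀ φ : MulAut P, ∀ x ∈ D, φ x ∈ D) ∧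
      D ≤ C ∧ (∀ x ∈ C, ∀ d ∈ D, x * d = d * x) ∧ (∀ x ∈ C, x ^ 2 ∈ D) ∧
      (∀ x ∈ C, ∀ y ∈ C, x * y * x⁻¹ * y⁻¹ ∈ D) ∧
      (∀ g : P, (∀ x ∈ C, g * x = x * g) → g ∈ D) := by
  classical
  haveI : Fact (Nat.Prime 2) := ⟨Nat.prime_two⟩
  obtain ⟨M, ⟨hMchar, hMcomm⟩, hmax⟩ :=
    (Set.toFinite {A : Subgroup P | A.Characteristic ∧ IsMulCommutative A}).exists_maximal
      ⟨⊥, Subgroup.botCharacteristic, inferInstance⟩
  have hMn : M.Normal := inferInstance
  set H := criticalAux 2 M with hH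
  have hHchar : H.Characteristic := inferInstance
  have hMC : M ≤ Subgroup.centralizer (M : Set P) := by
    intro x hx
    rw [Subgroup.mem_centralizer_iff]
    intro y hy
    exact congrArg Subtype.val (mul_comm' (⟨y, hy⟩ : M) ⟨x, hx⟩)
  have hMH : M ≤ H := by
    intro x hx
    refine ⟨hMC hx, ?_, pow_mem hx 2⟩
    rw [Subgroup.mem_upperCentralSeriesStep]
    intro y
    rw [commutatorElement_def]
    have : x * y * x⁻¹ * y⁻¹ = x * (y * x⁻¹ * y⁻¹) := by group
    rw [this]
    exact mul_mem hx (hMn.conj_mem _ (inv_mem hx) y)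
  have hHC : H ≤ Subgroup.centralizer (M : Set P) := fun x hx => hx.1
  have hMCH : M ≤ Subgroup.centralizer (H : Set P) := by
    intro m hm
    rw [Subgroup.mem_centralizer_iff]
    intro x hx
    exact ((Subgroup.mem_centralizer_iff.mp (hHC hx)) m hm).symm
  -- the centralizer of H
  have hDM : Subgroup.centralizer (H : Set P) ≤ M := by
    set D := Subgroup.centralizer (H : Set P) with hD
    have hDchar : D.Characteristic := inferInstance
    have hDn : D.Normal := inferInstance
    have hDC : D ≤ Subgroup.centralizer (M : Set P) := Subgroup.centralizer_le hMH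
    have hZ : H ⊓ D = M := by
      have hZchar : (H ⊓ D).Characteristic := inferInstance
      have hZcomm : IsMulCommutative (H ⊓ D : Subgroup P) := by
        refine ⟨⟨?_⟩⟩
        rintro ⟨x, hx⟩ ⟨y, hy⟩
        apply Subtype.ext
        exact ((Subgroup.mem_centralizer_iff.mp (Subgroup.mem_inf.mp hy).2) x
          (Subgroup.mem_inf.mp hx).1)
      have hle : M ≤ H ⊓ D := le_inf hMH hMCH
      exact le_antisymm (hmax ⟨hZchar, hZcomm⟩ hle) hle
    by_contra hDM
    have hQ : IsPGroup 2 (P ⧸ M) := h2.to_quotient M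
    have hQnil : Group.IsNilpotent (P ⧸ M) := hQ.isNilpotent
    set Dbar : Subgroup (P ⧸ M) := D.map (QuotientGroup.mk' M) with hDbar
    have hDbarn : Dbar.Normal := Subgroup.Normal.map hDn _ (QuotientGroup.mk'_surjective M)
    have hDbar_ne : Dbar ≠ ⊥ := by
      intro h
      apply hDM
      intro x hx
      have : (QuotientGroup.mk' M x) ∈ Dbar := Subgroup.mem_map_of_mem _ hx
      rw [h, Subgroup.mem_bot] at this
      exact (QuotientGroup.eq_one_iff x).mp this
    have hmeet := inf_center_ne_bot_of_normal Dbar hDbar_ne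
    obtain ⟨z, hz, hz1⟩ : ∃ z ∈ Dbar ⊓ Subgroup.center (P ⧸ M), z ≠ 1 := by
      by_contra hcon
      push Not at hcon
      exact hmeet ((Subgroup.eq_bot_iff_forall _).mpr hcon)
    obtain ⟨w, hw, hw1, hwp⟩ : ∃ w ∈ Dbar ⊓ Subgroup.center (P ⧸ M), w ≠ 1 ∧ w ^ 2 = 1 := by
      have hex : ∃ k, z ^ 2 ^ k = 1 := hQ z
      have hk := Nat.find_spec hex
      have hk0 : Nat.find hex ≠ 0 := by
        intro h0
        rw [h0, pow_zero, pow_one] at hk
        exact hz1 hk
      obtain ⟨j, hj⟩ := Nat.exists_eq_succ_of_ne_zero hk0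
      refine ⟨z ^ 2 ^ j, pow_mem hz _, ?_, ?_⟩
      · exact Nat.find_min hex (by omega)
      · rw [← pow_mul, ← pow_succ, ← Nat.succ_eq_add_one, ← hj]
        exact hk
    obtain ⟨x, hxD, hxw⟩ := Subgroup.mem_map.mp (Subgroup.mem_inf.mp hw).1
    have hxH : x ∈ H := by
      refine ⟨hDC hxD, ?_, ?_⟩
      · rw [Subgroup.upperCentralSeriesStep_eq_comap_center, Subgroup.mem_comap, hxw]
        exact (Subgroup.mem_inf.mp hw).2
      · rw [← QuotientGroup.eq_one_iff, QuotientGroup.mk_pow]
        have : (x : P ⧸ M) = w := hxw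
        rw [this, hwp]
    have hxM : x ∈ M := by
      rw [← hZ]
      exact Subgroup.mem_inf.mpr ⟨hxH, hxD⟩
    apply hw1
    rw [← hxw]
    exact (QuotientGroup.eq_one_iff x).mpr hxM
  refine ⟨H, M, ?_, ?_, hMH, ?_, ?_, ?_, ?_⟩
  · intro φ x hx
    exact (Subgroup.characteristic_iff_map_le.mp hHchar φ) ⟨x, hx, rfl⟩
  · intro φ x hx
    exact (Subgroup.characteristic_iff_map_le.mp hMchar φ) ⟨x, hx, rfl⟩
  · intro x hx d hd
    exact ((Subgroup.mem_centralizer_iff.mp (hHC hx)) d hd).symm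
  · intro x hx
    exact hx.2.2
  · intro x hx y _
    have := (Subgroup.mem_upperCentralSeriesStep M x).mp hx.2.1 y
    rwa [commutatorElement_def] at this
  · intro g hg
    apply hDM
    rw [Subgroup.mem_centralizer_iff]
    intro x hx
    exact (hg x hx).symm

end Cfsg.Agent.Lib.Helper13.ThreeInv
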