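import Mathlib
import Cfsg.Agent.Lib.Helper13.ThreeInvA

/-!
S3117 project (helper13), part A2: reduction to a "reduced" characteristic subgroup on which
automorphisms of odd order act faithfully.
-/

set_option autoImplicit false

namespace Cfsg.Agent.Lib.Helper13.ThreeInv

section calc1

variable {P : Type*} [Group P]

theorem comm_sq_eq_one (x y k : P) (hk : k = x * y * x⁻¹ * y⁻¹) (hkx : x * k = k * x)
    (hsq : x ^ 2 * y = y * x ^ 2) : k ^ 2 = 1 := by
  have h1 : x * y = k * y * x := by rw [hk]; group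
  have h2 : x ^ 2 * y = k ^ 2 * y * x ^ 2 := by
    calc x ^ 2 * y = x * (x * y) := by rw [pow_two, mul_assoc]
      _ = x * (k * y * x) := by rw [h1]
      _ = (x * k) * y * x := by simp only [mul_assoc]
      _ = k * x * y * x := by rw [hkx]
      _ = k * (x * y) * x := by simp only [mul_assoc]
      _ = k * (k * y * x) * x := by rw [h1]
      _ = k ^ 2 * y * x ^ 2 := by simp only [pow_two, mul_assoc]
  rw [hsq] at h2
  have h3 : k ^ 2 * (y * x ^ 2) = 1 * (y * x ^ 2) := by
    rw [one_mul, ← mul_assoc, ← h2]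
  exact mul_right_cancel h3

theorem mul_sq_eq (x y c : P) (hc : c = y * x * y⁻¹ * x⁻¹) (hcx : x * c = c * x) :
    (x * y) ^ 2 = c * x ^ 2 * y ^ 2 := by
  have h1 : y * x = c * x * y := by rw [hc]; group
  calc (x * y) ^ 2 = x * (y * x) * y := by rw [pow_two]; simp only [mul_assoc]
    _ = x * (c * x * y) * y := by rw [h1]
    _ = (x * c) * x * y * y := by simp only [mul_assoc]
    _ = c * x * x * y * y := by rw [hcx]
    _ = c * x ^ 2 * y ^ 2 := by simp only [pow_two, mul_assoc]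

theorem trick [Finite P] (h2 : IsPGroup 2 P) (φ : MulAut P) (hodd : Odd (orderOf φ)) (x : P)
    (hfix : φ (x⁻¹ * φ x) = x⁻¹ * φ x) : φ x = x := by
  set k := x⁻¹ * φ x with hk
  have hx : φ x = x * k := by rw [hk]; group
  have hpow : ∀ j : ℕ, (φ ^ j) x = x * k ^ j := by
    intro j
    induction j with
    | zero => simp
    | succ j ih =>
      rw [pow_succ', MulAut.mul_apply, ih, map_mul, map_pow, hfix, hx, pow_succ', mul_assoc]
  have h1 := hpow (orderOf φ)
  rw [pow_orderOf_eq_one, MulAut.one_apply] at h1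
  have hk1 : k ^ orderOf φ = 1 := by
    have : x * 1 = x * k ^ orderOf φ := by rw [mul_one]; exact h1
    exact (mul_left_cancel this).symm
  obtain ⟨n, hn⟩ := h2 k
  have hg : k ^ Nat.gcd (orderOf φ) (2 ^ n) = 1 := pow_gcd_eq_one.mpr ⟨hk1, hn⟩
  have hcop : Nat.gcd (orderOf φ) (2 ^ n) = 1 := by
    apply Nat.Coprime.pow_right
    exact Nat.coprime_two_right.mpr hodd
  rw [hcop, pow_one] at hg
  rw [hx, hg, mul_one]

theorem invol_comm [Finite P] (h2 : IsPGroup 2 P)
    (h3 : Nat.card {x : P // orderOf x = 2} ≤ 3) (a b : P) (ha : a ^ 2 = 1) (hb : b ^ 2 = 1) :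
    a * b = b * a := by
  classical
  by_contra hab
  have ha1 : a ≠ 1 := by rintro rfl; simp at hab
  have hb1 : b ≠ 1 := by rintro rfl; simp at hab
  haveI : Fact (Nat.Prime 2) := ⟨Nat.prime_two⟩
  have hoa : orderOf a = 2 := orderOf_eq_prime ha ha1
  have hob : orderOf b = 2 := orderOf_eq_prime hb hb1
  haveI : Nontrivial P := ⟨⟨a, 1, ha1⟩⟩
  obtain ⟨z, hzc, hz⟩ : ∃ z : P, z ∈ Subgroup.center P ∧ orderOf z = 2 := by
    haveI := h2.center_nontrivial
    have hcp : IsPGroup 2 (Subgroup.center P) := h2.to_subgroup _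
    have hdvd : 2 ∣ Nat.card (Subgroup.center P) := by
      rcases hcp.card_eq_or_dvd with h | h
      · exfalso
        have := Finite.one_lt_card (α := Subgroup.center P)
        omega
      · exact h
    obtain ⟨z, hz⟩ := exists_prime_orderOf_dvd_card' 2 hdvd
    exact ⟨z.1, z.2, by rw [← hz, Subgroup.orderOf_coe]⟩
  have hzcomm : ∀ g : P, g * z = z * g := fun g => (Subgroup.mem_center_iff.mp hzc g)
  have hz1 : z ≠ 1 := by
    rintro rfl; rw [orderOf_one] at hz; omega
  have hz2 : z ^ 2 = 1 := by rw [← hz]; exact pow_orderOf_eq_one z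
  have hza : z ≠ a := by
    rintro rfl; exact hab (hzcomm b).symm
  have hzb : z ≠ b := by
    rintro rfl; exact hab (hzcomm a)
  have hne : a ≠ b := by
    rintro rfl; exact hab rfl
  have haz2 : (a * z) ^ 2 = 1 := by
    have : Commute a z := hzcomm a
    rw [this.mul_pow, ha, hz2, one_mul]
  have haz1 : a * z ≠ 1 := by
    intro h
    have : a = z⁻¹ := eq_inv_of_mul_eq_one_left h
    have hzi : z⁻¹ = z := by
      rw [inv_eq_iff_mul_eq_one, ← pow_two, hz2]
    exact hza (by rw [this, hzi])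
  have hoaz : orderOf (a * z) = 2 := orderOf_eq_prime haz2 haz1
  have h_az_z : a * z ≠ z := by
    intro h; exact ha1 (by simpa using h)
  have h_az_a : a * z ≠ a := by
    intro h; exact hz1 (by simpa using h)
  have h_az_b : a * z ≠ b := by
    intro h
    apply hab
    rw [← h, ← mul_assoc, mul_assoc a z a, ← hzcomm a, ← mul_assoc]
  let S : Finset P := {z, a, b, a * z}
  have hS : S.card = 4 := by
    rw [Finset.card_insert_of_notMem, Finset.card_insert_of_notMem,
      Finset.card_insert_of_notMem, Finset.card_singleton]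
    · simp only [Finset.mem_singleton]; exact fun h => h_az_b h.symm
    · simp only [Finset.mem_insert, Finset.mem_singleton, not_or]
      exact ⟨hne, fun h => h_az_a h.symm⟩
    · simp only [Finset.mem_insert, Finset.mem_singleton, not_or]
      exact ⟨hza, hzb, fun h => h_az_z h.symm⟩
  have hSord : ∀ x ∈ S, orderOf x = 2 := by
    intro x hx
    simp only [S, Finset.mem_insert, Finset.mem_singleton] at hx
    rcases hx with rfl | rfl | rfl | rfl <;> assumption
  have hle : Nat.card S ≤ Nat.card {x : P // orderOf x = 2} := by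
    apply Nat.card_le_card_of_injective (fun x : S => (⟨x.1, hSord x.1 x.2⟩ : {x : P // orderOf x = 2}))
    intro x y hxy
    apply Subtype.ext
    exact congrArg (fun t : {x : P // orderOf x = 2} => t.1) hxy
  rw [Nat.card_eq_fintype_card, Fintype.card_coe, hS] at hle
  omega

end calc1

theorem exists_reduced_char {P : Type*} [Group P] [Finite P] (h2 : IsPGroup 2 P)
    (h3 : Nat.card {x : P // orderOf x = 2} ≤ 3) :
    ∃ F : Subgroup P,
      (∀ φ : MulAut P, ∀ x ∈ F, φ x ∈ F) ∧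
      (∀ φ : MulAut P, Odd (orderOf φ) → (∀ x ∈ F, φ x = x) → φ = 1) ∧
      (∀ x ∈ F, x ^ 4 = 1) ∧
      (∀ x ∈ F, ∀ y ∈ F, y ^ 2 = 1 → x * y = y * x) ∧
      (∀ x ∈ F, ∀ y ∈ F, (x * y * x⁻¹ * y⁻¹) ^ 2 = 1) := by
  classical
  obtain ⟨C, D, hCchar, hDchar, hDC, hCD, hsqD, hcommD, hcent⟩ := exists_critical h2
  have hDab : ∀ a ∈ D, ∀ b ∈ D, a * b = b * a := fun a ha b hb => hCD a (hDC ha) b hb
  have hk2 : ∀ x ∈ C, ∀ y ∈ C, (x * y * x⁻¹ * y⁻¹) ^ 2 = 1 := by
    intro x hx y hy
    apply comm_sq_eq_one x y _ rfl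
    · exact hCD x hx _ (hcommD x hx y hy)
    · exact (hCD y hy _ (hsqD x hx)).symm
  have hpow4 : ∀ x ∈ C, ∀ y ∈ C, (x * y) ^ 4 = x ^ 4 * y ^ 4 := by
    intro x hx y hy
    set c := y * x * y⁻¹ * x⁻¹ with hc
    have hcD : c ∈ D := hcommD y hy x hx
    have hc2 : c ^ 2 = 1 := hk2 y hy x hx
    have h1 : (x * y) ^ 2 = c * x ^ 2 * y ^ 2 := mul_sq_eq x y c hc (hCD x hx c hcD)
    have hx2 := hsqD x hx
    have hy2 := hsqD y hy
    have e1 : Commute c (x ^ 2) := hDab c hcD _ hx2
    have e2 : Commute c (y ^ 2) := hDab c hcD _ hy2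
    have e3 : Commute (x ^ 2) (y ^ 2) := hDab _ hx2 _ hy2
    calc (x * y) ^ 4 = ((x * y) ^ 2) ^ 2 := by rw [← pow_mul]
      _ = (c * x ^ 2 * y ^ 2) ^ 2 := by rw [h1]
      _ = (c * x ^ 2) ^ 2 * (y ^ 2) ^ 2 := (Commute.mul_pow (e2.mul_left e3) 2)
      _ = c ^ 2 * (x ^ 2) ^ 2 * (y ^ 2) ^ 2 := by rw [e1.mul_pow]
      _ = x ^ 4 * y ^ 4 := by rw [hc2, one_mul, ← pow_mul, ← pow_mul]
  let E : Subgroup P :=
    { carrier := {x | x ∈ C ∧ x ^ 4 = 1}
      one_mem' := ⟨one_mem _, one_pow _⟩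
      mul_mem' := by
        rintro x y ⟨hx, hx4⟩ ⟨hy, hy4⟩
        exact ⟨mul_mem hx hy, by rw [hpow4 x hx y hy, hx4, hy4, one_mul]⟩
      inv_mem' := by
        rintro x ⟨hx, hx4⟩
        exact ⟨inv_mem hx, by rw [inv_pow, hx4, inv_one]⟩ }
  have hinv := invol_comm h2 h3
  let F : Subgroup P :=
    { carrier := {x | x ∈ E ∧ ∀ y ∈ E, y ^ 2 = 1 → x * y = y * x}
      one_mem' := ⟨one_mem _, by intro y _ _; simp⟩
      mul_mem' := by
        rintro x x' ⟨hx, hxc⟩ ⟨hx', hxc'⟩
        refine ⟨mul_mem hx hx', ?_⟩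
        intro y hy hy2
        rw [mul_assoc, hxc' y hy hy2, ← mul_assoc, hxc y hy hy2, mul_assoc]
      inv_mem' := by
        rintro x ⟨hx, hxc⟩
        refine ⟨inv_mem hx, ?_⟩
        intro y hy hy2
        have := hxc y hy hy2
        calc x⁻¹ * y = x⁻¹ * (y * x) * x⁻¹ := by group
          _ = x⁻¹ * (x * y) * x⁻¹ := by rw [this]
          _ = y * x⁻¹ := by group }
  have hEchar : ∀ φ : MulAut P, ∀ x ∈ E, φ x ∈ E := fun φ x hx =>
    ⟨hCchar φ x hx.1, by rw [← map_pow, hx.2, map_one]⟩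
  have hFchar : ∀ φ : MulAut P, ∀ x ∈ F, φ x ∈ F := by
    intro φ x hx
    refine ⟨hEchar φ x hx.1, ?_⟩
    intro y hy hy2
    have hy' : φ⁻¹ y ∈ E := hEchar φ⁻¹ y hy
    have hy2' : (φ⁻¹ y) ^ 2 = 1 := by rw [← map_pow, hy2, map_one]
    have := hx.2 _ hy' hy2'
    have h := congrArg φ this
    rw [map_mul, map_mul, MulAut.apply_inv_self] at h
    exact h
  refine ⟨F, hFchar, ?_, ?_, ?_, ?_⟩
  · intro φ hodd hfix
    have hT := trick h2 φ hodd
    have hinvF : ∀ y ∈ E, y ^ 2 = 1 → y ∈ F := fun y hy hy2 =>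
      ⟨hy, fun y' _ hy2' => hinv y y' hy2 hy2'⟩
    have hS1 : ∀ x ∈ E, φ x = x := by
      intro x hx
      apply hT
      apply hfix
      refine ⟨mul_mem (inv_mem hx) (hEchar φ x hx), ?_⟩
      intro y hy hy2
      have hyF : y ∈ F := hinvF y hy hy2
      have hconjE : x * y * x⁻¹ ∈ E := mul_mem (mul_mem hx hy) (inv_mem hx)
      have hconj2 : (x * y * x⁻¹) ^ 2 = 1 := by
        rw [pow_two]
        calc x * y * x⁻¹ * (x * y * x⁻¹) = x * (y * y) * x⁻¹ := by group
          _ = 1 := by rw [← pow_two, hy2]; group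
      have h1 := hfix _ (hinvF _ hconjE hconj2)
      rw [map_mul, map_mul, map_inv, hfix y hyF] at h1
      calc x⁻¹ * φ x * y = x⁻¹ * (φ x * y * (φ x)⁻¹) * φ x := by group
        _ = x⁻¹ * (x * y * x⁻¹) * φ x := by rw [h1]
        _ = y * (x⁻¹ * φ x) := by group
    have hS2 : ∀ n : ℕ, ∀ d ∈ D, d ^ (2 ^ n) = 1 → φ d = d := by
      intro n
      induction n with
      | zero =>
        intro d _ hd
        rw [pow_zero, pow_one] at hd
        rw [hd, map_one]
      | succ n ih =>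
        intro d hd hdn
        have hd2 : φ (d ^ 2) = d ^ 2 := by
          apply ih _ (pow_mem hd 2)
          rw [← pow_mul, ← pow_succ']
          exact hdn
        apply hT
        apply hS1
        have hφd : φ d ∈ D := hDchar φ d hd
        have hkD : d⁻¹ * φ d ∈ D := mul_mem (inv_mem hd) hφd
        refine ⟨hDC hkD, ?_⟩
        have hcomm : Commute d⁻¹ (φ d) := hDab _ (inv_mem hd) _ hφd
        have : (d⁻¹ * φ d) ^ 2 = 1 := by
          rw [hcomm.mul_pow, inv_pow, ← map_pow, hd2, inv_mul_cancel]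
        rw [show 4 = 2 * 2 from rfl, pow_mul, this, one_pow]
    have hS2' : ∀ d ∈ D, φ d = d := by
      intro d hd
      obtain ⟨n, hn⟩ := h2 d
      exact hS2 n d hd hn
    have hS3 : ∀ x ∈ C, φ x = x := by
      intro x hx
      apply hT
      apply hS1
      have hφx : φ x ∈ C := hCchar φ x hx
      set k := x⁻¹ * φ x with hk
      have hkC : k ∈ C := mul_mem (inv_mem hx) hφx
      refine ⟨hkC, ?_⟩
      have hφxk : φ x = x * k := by rw [hk]; group
      have hsq : (x * k) ^ 2 = x ^ 2 := by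
        rw [← hφxk, ← map_pow, hS2' _ (hsqD x hx)]
      set c := k * x * k⁻¹ * x⁻¹ with hc
      have hcD : c ∈ D := hcommD k hkC x hx
      have hc2 : c ^ 2 = 1 := hk2 k hkC x hx
      have h1 : (x * k) ^ 2 = c * x ^ 2 * k ^ 2 := mul_sq_eq x k c hc (hCD x hx c hcD)
      rw [hsq] at h1
      have hcx2 : c * x ^ 2 = x ^ 2 * c := (hCD (x ^ 2) (pow_mem hx 2) c hcD).symm
      have hk2' : k ^ 2 = c⁻¹ := by
        have h3 : x ^ 2 * 1 = x ^ 2 * (c * k ^ 2) := by
          rw [mul_one, ← mul_assoc, ← hcx2]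
          exact h1
        have h4 := mul_left_cancel h3
        exact eq_inv_of_mul_eq_one_right h4.symm
      rw [show 4 = 2 * 2 from rfl, pow_mul, hk2', inv_pow, hc2, inv_one]
    have hS4 : ∀ g : P, φ g = g := by
      intro g
      apply hT
      apply hS2'
      apply hcent
      intro x hx
      have hconj : g * x * g⁻¹ ∈ C := by
        have := hCchar (MulAut.conj g) x hx
        rwa [MulAut.conj_apply] at this
      have h1 := hS3 _ hconj
      rw [map_mul, map_mul, map_inv, hS3 x hx] at h1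
      calc g⁻¹ * φ g * x = g⁻¹ * (φ g * x * (φ g)⁻¹) * φ g := by group
        _ = g⁻¹ * (g * x * g⁻¹) * φ g := by rw [h1]
        _ = x * (g⁻¹ * φ g) := by group
    apply MulEquiv.ext
    intro g
    rw [hS4 g]
    rfl
  · intro x hx
    exact hx.1.2
  · intro x hx y hy hy2
    exact hx.2 y hy.1 hy2
  · intro x hx y hy
    exact hk2 x hx.1.1 y hy.1.1

end Cfsg.Agent.Lib.Helper13.ThreeInv
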