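import Mathlib
import Cfsg.Agent.Lib.Helper13.ThreeInvB

/-!
S3117 project (helper13), part C: assembly.  `main_of_reduced` reduces the solvability of
`MulAut P` (`P` a finite 2-group with at most three involutions) to the "reduced" case.
-/

set_option autoImplicit false

namespace Cfsg.Agent.Lib.Helper13.ThreeInv

universe u

theorem main_of_reduced
    (hB : ∀ {G : Type u} [Group G] [Finite G], (Nat.card {x : G // orderOf x = 2} ≤ 3) →
      (∀ x : G, x ^ 4 = 1) → (∀ x y : G, y ^ 2 = 1 → x * y = y * x) →
      (∀ x y : G, (x * y * x⁻¹ * y⁻¹) ^ 2 = 1) → Group.IsSolvable (MulAut G))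
    {P : Type u} [Group P] [Finite P] (h2 : IsPGroup 2 P)
    (h3 : Nat.card {x : P // orderOf x = 2} ≤ 3) : Group.IsSolvable (MulAut P) := by
  classical
  obtain ⟨F, hFchar, hfaith, h4, hc, hk⟩ := exists_reduced_char h2 h3
  let ρ : MulAut P →* MulAut F :=
    { toFun := fun φ =>
        { toFun := fun x => ⟨φ x.1, hFchar φ x.1 x.2⟩
          invFun := fun x => ⟨φ⁻¹ x.1, hFchar φ⁻¹ x.1 x.2⟩
          left_inv := by intro x; apply Subtype.ext; simp
          right_inv := by intro x; apply Subtype.ext; simp
          map_mul' := by intro x y; apply Subtype.ext; simp }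
      map_one' := by
        apply MulEquiv.ext
        intro x
        apply Subtype.ext
        rfl
      map_mul' := by
        intro φ ψ
        apply MulEquiv.ext
        intro x
        apply Subtype.ext
        rfl }
  have hρ : ∀ (φ : MulAut P) (x : F), ((ρ φ) x : P) = φ x.1 := fun φ x => rfl
  haveI : Finite (MulAut P) := inferInstance
  have hker : IsPGroup 2 ρ.ker := by
    rintro ⟨φ, hφ⟩
    have hφx : ∀ x ∈ F, φ x = x := by
      intro x hx
      have h1 : ρ φ = 1 := MonoidHom.mem_ker.mp hφ
      have h2' := hρ φ ⟨x, hx⟩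
      rw [h1] at h2'
      exact h2'.symm
    have hpowx : ∀ j : ℕ, ∀ x ∈ F, (φ ^ j) x = x := by
      intro j
      induction j with
      | zero => intro x _; rfl
      | succ j ih =>
        intro x hx
        rw [pow_succ, MulAut.mul_apply, hφx x hx, ih x hx]
    have hpos : 0 < orderOf φ := orderOf_pos φ
    obtain ⟨n, m, hm, hnm⟩ := Nat.exists_eq_two_pow_mul_odd hpos.ne'
    refine ⟨n, ?_⟩
    apply Subtype.ext
    rw [Subgroup.coe_pow, Subgroup.coe_one]
    show φ ^ 2 ^ n = 1
    apply hfaith
    · have hdvd : orderOf (φ ^ 2 ^ n) ∣ m := by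
        apply orderOf_dvd_of_pow_eq_one
        rw [← pow_mul, ← hnm, pow_orderOf_eq_one]
      exact Odd.of_dvd_nat hm hdvd
    · exact hpowx _
  haveI : Finite ρ.ker := inferInstance
  haveI hkersolv : Group.IsSolvable ρ.ker := by
    haveI := hker.isNilpotent
    infer_instance
  haveI hFsolv : Group.IsSolvable (MulAut F) := by
    apply hB
    · have hinj : Function.Injective (fun x : {x : F // orderOf x = 2} =>
          (⟨x.1.1, by rw [Subgroup.orderOf_coe]; exact x.2⟩ : {x : P // orderOf x = 2})) := by
        intro x y hxy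
        apply Subtype.ext
        apply Subtype.ext
        exact congrArg (fun t : {x : P // orderOf x = 2} => t.1) hxy
      exact (Nat.card_le_card_of_injective _ hinj).trans h3
    · intro x
      apply Subtype.ext
      exact h4 x.1 x.2
    · intro x y hy
      apply Subtype.ext
      have hy' : (y : P) ^ 2 = 1 := by
        have := congrArg (fun t : F => (t : P)) hy
        simpa using this
      exact hc x.1 x.2 y.1 y.2 hy'
    · intro x y
      apply Subtype.ext
      exact hk x.1 x.2 y.1 y.2
  exact Group.isSolvable_of_ker_le_range ρ.ker.subtype ρ (by rw [Subgroup.range_subtype])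

end Cfsg.Agent.Lib.Helper13.ThreeInv
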